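import Mathlib

/-!
# An étale algebra realizing a finite separable residue field extension
-/

set_option autoImplicit false

namespace Groth.Agent.Lib.helper13.EL

open Polynomial IntermediateField

universe u

section Denominators

variable {A K : Type*} [CommRing A] [Field K] [Algebra A K]

/-- Common denominators for the coefficients of a polynomial. -/
lemma exists_common_denominator
    (hK : ∀ y : K, ∃ a b : A, algebraMap A K b ≠ 0 ∧ y * algebraMap A K b = algebraMap A K a)
    (q : K[X]) :
    ∃ d : A, algebraMap A K d ≠ 0 ∧ ∀ i, ∃ a : A, algebraMap A K d * q.coeff i = algebraMap A K a := by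
  induction q using Polynomial.induction_on' with
  | add q₁ q₂ h₁ h₂ =>
    obtain ⟨d₁, hd₁, H₁⟩ := h₁
    obtain ⟨d₂, hd₂, H₂⟩ := h₂
    refine ⟨d₁ * d₂, by rw [map_mul]; exact mul_ne_zero hd₁ hd₂, fun i ↦ ?_⟩
    obtain ⟨a₁, ha₁⟩ := H₁ i
    obtain ⟨a₂, ha₂⟩ := H₂ i
    refine ⟨d₂ * a₁ + d₁ * a₂, ?_⟩
    rw [coeff_add, map_add, map_mul, map_mul, map_mul, ← ha₁, ← ha₂]
    ring
  | monomial n c =>
    obtain ⟨a, b, hb, hab⟩ := hK c
    refine ⟨b, hb, fun i ↦ ?_⟩
    rw [coeff_monomial]
    split_ifs
    · exact ⟨a, by rw [mul_comm, hab]⟩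
    · exact ⟨0, by simp⟩

end Denominators

variable {A : Type u} {K k : Type*} [CommRing A] [Field K] [Field k] [Algebra A K] [Algebra K k]
  [Algebra A k] [IsScalarTower A K k]

theorem exists_etale_algebra_of_finite_separable
    (hK : ∀ y : K, ∃ a b : A, algebraMap A K b ≠ 0 ∧ y * algebraMap A K b = algebraMap A K a)
    [FiniteDimensional K k] [Algebra.IsSeparable K k] :
    ∃ (B : Type u) (_ : CommRing B) (_ : Algebra A B) (_ : Algebra.Etale A B) (ψ : B →ₐ[A] k)
      (b : B), K⟮ψ b⟯ = ⊤ := by
  obtain ⟨α, hα⟩ := Field.exists_primitive_element K k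
  have hαint : IsIntegral K α := Algebra.IsIntegral.isIntegral α
  obtain ⟨d, hd, Hd⟩ := exists_common_denominator hK (minpoly K α)
  set dK := algebraMap A K d with hdK
  set β : k := dK • α with hβ
  have hβint : IsIntegral K β := Algebra.IsIntegral.isIntegral β
  have hmin : minpoly K β = (minpoly K α).scaleRoots dK :=
    IsIntegrallyClosed.minpoly_smul hd hαint
  -- β is still primitive
  have hβtop : K⟮β⟯ = ⊤ := by
    rw [eq_top_iff, ← hα, adjoin_simple_le_iff]
    have : α = dK⁻¹ • β := by rw [hβ, smul_smul, inv_mul_cancel₀ hd, one_smul]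
    rw [this]
    exact (K⟮β⟯).smul_mem (mem_adjoin_simple_self K β)
  -- the minimal polynomial of β has coefficients in the image of A
  have hlift : minpoly K β ∈ lifts (algebraMap A K) := by
    rw [lifts_iff_coeff_lifts]
    intro i
    rw [hmin, coeff_scaleRoots]
    rcases lt_trichotomy i (minpoly K α).natDegree with hi | hi | hi
    · obtain ⟨a, ha⟩ := Hd i
      obtain ⟨j, hj⟩ : ∃ j, (minpoly K α).natDegree - i = j + 1 :=
        ⟨(minpoly K α).natDegree - i - 1, by omega⟩
      refine ⟨a * d ^ j, ?_⟩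
      rw [hj, pow_succ, map_mul, map_pow, ← ha]
      ring
    · refine ⟨1, ?_⟩
      rw [hi, Nat.sub_self, pow_zero, mul_one, map_one]
      exact ((minpoly.monic hαint).coeff_natDegree).symm
    · refine ⟨0, ?_⟩
      rw [coeff_eq_zero_of_natDegree_lt hi, zero_mul, map_zero]
  obtain ⟨m, hm, -, hmonic⟩ := lifts_and_degree_eq_and_monic hlift (minpoly.monic hβint)
  -- the standard étale algebra
  let P : StandardEtalePair A :=
    { f := m, monic_f := hmonic, g := derivative m, cond := ⟨1, 0, 1, by simp⟩ }
  have hsep : (minpoly K β).Separable := Algebra.IsSeparable.isSeparable K β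
  have haeval (q : A[X]) : aeval β q = aeval β (q.map (algebraMap A K)) := by
    rw [aeval_map_algebraMap]
  have hmap : P.HasMap β := by
    refine ⟨?_, ?_⟩
    · show aeval β m = 0
      rw [haeval, hm, minpoly.aeval]
    · show IsUnit (aeval β (derivative m))
      rw [haeval, ← derivative_map, hm, isUnit_iff_ne_zero]
      exact hsep.aeval_derivative_ne_zero (minpoly.aeval K β)
  refine ⟨P.Ring, inferInstance, inferInstance, inferInstance, P.lift β hmap, P.X, ?_⟩
  rw [StandardEtalePair.lift_X]
  exact hβtop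

end Groth.Agent.Lib.helper13.EL
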