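import Mathlib
import Groth.Agent.Lib.Helper13.EL4

/-!
# Étale neighbourhoods with prescribed finite separable residue field extension
-/

set_option autoImplicit false

namespace Groth.Agent.Lib.helper13.EL

open AlgebraicGeometry CategoryTheory Limits

universe u

/-- Every element of the residue field at `s` is a quotient of values of sections over an affine
open neighbourhood. -/
lemma exists_evaluation_div {S : Scheme.{u}} {W : S.Opens} (hW : IsAffineOpen W) (s : S)
    (hs : s ∈ W) (y : S.residueField s) :
    ∃ a b : Γ(S, W), S.evaluation W s hs b ≠ 0 ∧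
      y * S.evaluation W s hs b = S.evaluation W s hs a := by
  obtain ⟨z, rfl⟩ := S.residue_surjective s y
  letI := S.presheaf.algebra_section_stalk ⟨s, hs⟩
  have loc := hW.isLocalization_stalk ⟨s, hs⟩
  obtain ⟨⟨a, b⟩, hab⟩ := IsLocalization.surj (hW.primeIdealOf ⟨s, hs⟩).asIdeal.primeCompl z
  refine ⟨a, b.1, ?_, ?_⟩
  · have hu : IsUnit (algebraMap Γ(S, W) (S.presheaf.stalk s) b.1) :=
      IsLocalization.map_units _ b
    exact (hu.map (S.residue s).hom).ne_zero
  · have := congrArg (S.residue s).hom hab
    rw [map_mul] at this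
    exact this

theorem exists_etale_nbhd_residueField (S : Scheme.{u}) (s : S) (k : Type u) [Field k]
    [Algebra (S.residueField s) k] [FiniteDimensional (S.residueField s) k]
    [Algebra.IsSeparable (S.residueField s) k] :
    ∃ (U : Scheme.{u}) (g : U ⟶ S) (u : U) (hu : g u = s), Etale g ∧
      ∃ a : U.residueField u ⟶ .of k, Function.Bijective a ∧
        (S.residueFieldCongr hu).inv ≫ g.residueFieldMap u ≫ a =
          CommRingCat.ofHom (algebraMap (S.residueField s) k) := by
  obtain ⟨_, ⟨W, hW, rfl⟩, hs, -⟩ := S.isBasis_affineOpens.exists_subset_of_mem_open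
    (Set.mem_univ s) isOpen_univ
  letI : Algebra Γ(S, W) (S.residueField s) := (S.evaluation W s hs).hom.toAlgebra
  letI : Algebra Γ(S, W) k :=
    ((algebraMap (S.residueField s) k).comp (S.evaluation W s hs).hom).toAlgebra
  haveI : IsScalarTower Γ(S, W) (S.residueField s) k := IsScalarTower.of_algebraMap_eq' rfl
  obtain ⟨B, _, _, _, ψ, b, hb⟩ :=
    exists_etale_algebra_of_finite_separable (A := Γ(S, W)) (K := S.residueField s) (k := k)
      (exists_evaluation_div hW s hs)
  let φ : Γ(S, W) ⟶ .of B := CommRingCat.ofHom (algebraMap Γ(S, W) B)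
  have hφ : φ.hom.Etale := RingHom.etale_algebraMap.mpr ‹_›
  have : Etale (Spec.map φ) := HasRingHomProperty.Spec_iff.mpr hφ
  let g : Spec (.of B) ⟶ S := Spec.map φ ≫ hW.fromSpec
  let τ : Spec (.of k) ⟶ Spec (.of B) := Spec.map (CommRingCat.ofHom ψ.toRingHom)
  have hτg : τ ≫ g = Spec.map (CommRingCat.ofHom (algebraMap (S.residueField s) k)) ≫
      S.fromSpecResidueField s := by
    have h1 : φ ≫ CommRingCat.ofHom ψ.toRingHom =
        S.evaluation W s hs ≫ CommRingCat.ofHom (algebraMap (S.residueField s) k) := by
      ext a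
      exact ψ.commutes a
    have h2 : Spec.map (S.evaluation W s hs) ≫ hW.fromSpec = S.fromSpecResidueField s := by
      rw [← Scheme.germ_residue, Spec.map_comp, Category.assoc, ← IsAffineOpen.fromSpecStalk,
        hW.fromSpecStalk_eq_fromSpecStalk]
      rfl
    simp only [τ, g]
    rw [← Category.assoc, ← Spec.map_comp, h1, Spec.map_comp, Category.assoc, h2]
    rfl
  have key := congrArg (Scheme.SpecToEquivOfField k S) hτg
  have hR : Scheme.SpecToEquivOfField k S
      (Spec.map (CommRingCat.ofHom (algebraMap (S.residueField s) k)) ≫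
        S.fromSpecResidueField s) = ⟨s, CommRingCat.ofHom (algebraMap (S.residueField s) k)⟩ :=
    (Scheme.SpecToEquivOfField k S).apply_symm_apply ⟨s, _⟩
  rw [hR, Scheme.SpecToEquivOfField_eq_iff] at key
  obtain ⟨e, he⟩ := key
  have hu : g (τ (IsLocalRing.closedPoint k)) = s := e
  have he' : g.residueFieldMap (τ (IsLocalRing.closedPoint k)) ≫
      (Spec (.of B)).descResidueField (Scheme.stalkClosedPointTo τ) =
      (S.residueFieldCongr hu).hom ≫ CommRingCat.ofHom (algebraMap (S.residueField s) k) := by
    rw [← Scheme.descResidueField_stalkClosedPointTo_comp]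
    exact he
  have hmain : (S.residueFieldCongr hu).inv ≫ g.residueFieldMap (τ (IsLocalRing.closedPoint k)) ≫
      (Spec (.of B)).descResidueField (Scheme.stalkClosedPointTo τ) =
      CommRingCat.ofHom (algebraMap (S.residueField s) k) := by
    rw [he', Iso.inv_hom_id_assoc]
    rfl
  refine ⟨Spec (.of B), g, τ (IsLocalRing.closedPoint k), hu, inferInstance,
    (Spec (.of B)).descResidueField (Scheme.stalkClosedPointTo τ), ⟨RingHom.injective _, ?_⟩, hmain⟩
  -- surjectivity
  set a := (Spec (.of B)).descResidueField (Scheme.stalkClosedPointTo τ) with ha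
  have h3 : Spec.map a ≫ (Spec (.of B)).fromSpecResidueField (τ (IsLocalRing.closedPoint k)) = τ :=
    Scheme.descResidueField_stalkClosedPointTo_fromSpecResidueField k (Spec (.of B)) τ
  rw [← Scheme.Spec.map_residueFieldIso_inv_eq_fromSpecResidueField, ← Spec.map_comp,
    ← Spec.map_comp, Spec.map_inj] at h3
  let F : IntermediateField (S.residueField s) k :=
    Subfield.toIntermediateField a.hom.fieldRange (fun x ↦ by
      refine ⟨(g.residueFieldMap (τ (IsLocalRing.closedPoint k))) ((S.residueFieldCongr hu).inv x), ?_⟩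
      exact congrArg (fun f ↦ f.hom x) hmain)
  have hbF : ψ b ∈ F := by
    refine ⟨(Scheme.Spec.residueFieldIso (.of B) (τ (IsLocalRing.closedPoint k))).inv
      (algebraMap B _ b), ?_⟩
    exact congrArg (fun f ↦ f.hom b) h3
  have hF : F = ⊤ := by
    rw [eq_top_iff, ← hb, IntermediateField.adjoin_simple_le_iff]
    exact hbF
  intro y
  have : y ∈ F := hF ▸ IntermediateField.mem_top
  exact this

end Groth.Agent.Lib.helper13.EL
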