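import Mathlib

/-!
# A finite separable extension splitting the separable parts of finitely many finite extensions
-/

set_option autoImplicit false

namespace Groth.Agent.Lib.helper13.EL

open Polynomial IntermediateField

universe u

theorem exists_finite_separable_splitting {K : Type u} [Field K] {ι : Type} [Finite ι]
    (L : ι → Type u) [∀ i, Field (L i)] [∀ i, Algebra K (L i)]
    [∀ i, FiniteDimensional K (L i)] :
    ∃ (M : Type u) (_ : Field M) (_ : Algebra K M) (_ : FiniteDimensional K M)
      (_ : Algebra.IsSeparable K M),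
      ∀ (i : ι) (F : Type u) [Field F] (lam : L i →+* F) (mu : M →+* F),
        lam.comp (algebraMap K (L i)) = mu.comp (algebraMap K M) →
        ∀ y : L i, ∃ n : ℕ, (lam y) ^ (ringExpChar K) ^ n ∈ mu.range := by
  classical
  have hprim : ∀ i, ∃ α : separableClosure K (L i), K⟮α⟯ = ⊤ :=
    fun i ↦ Field.exists_primitive_element K _
  choose α hα using hprim
  let R : Set (AlgebraicClosure K) := ⋃ i, (minpoly K (α i)).rootSet (AlgebraicClosure K)
  have hRfin : R.Finite := Set.finite_iUnion (fun i ↦ rootSet_finite _ _)
  have : Finite R := hRfin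
  have hsepα : ∀ i, (minpoly K (α i)).Separable :=
    fun i ↦ Algebra.IsSeparable.isSeparable K (α i)
  have hRsep : ∀ x ∈ R, IsSeparable K x := by
    intro x hx
    obtain ⟨i, hi⟩ := Set.mem_iUnion.mp hx
    exact (hsepα i).of_dvd (minpoly.dvd K x (aeval_eq_zero_of_mem_rootSet hi))
  have hfd : FiniteDimensional K (adjoin K R) :=
    finiteDimensional_adjoin (fun x hx ↦ (hRsep x hx).isIntegral)
  have hsep : Algebra.IsSeparable K (adjoin K R) :=
    (isSeparable_adjoin_iff_isSeparable K _).mpr hRsep
  refine ⟨adjoin K R, inferInstance, inferInstance, hfd, hsep, ?_⟩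
  intro i F _ lam mu hcomp y
  -- the separable part
  have hq : ExpChar K (ringExpChar K) := ringExpChar.expChar K
  have hq' : ExpChar (separableClosure K (L i)) (ringExpChar K) :=
    expChar_of_injective_algebraMap (algebraMap K (separableClosure K (L i))).injective _
  obtain ⟨n, z, hz⟩ := IsPurelyInseparable.pow_mem (separableClosure K (L i)) (ringExpChar K) y
  refine ⟨n, ?_⟩
  rw [← map_pow, ← hz]
  -- now `z` is in the separable closure
  set lam' : separableClosure K (L i) →+* F :=
    lam.comp (algebraMap (separableClosure K (L i)) (L i)) with hlam'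
  have hcomp' : lam'.comp (algebraMap K (separableClosure K (L i))) =
      mu.comp (algebraMap K (adjoin K R)) := by
    rw [← hcomp, hlam', RingHom.comp_assoc, ← IsScalarTower.algebraMap_eq]
  show lam' z ∈ mu.range
  -- `lam' (α i)` is in the range of `mu`
  have hsplit : ((minpoly K (α i)).map (algebraMap K (adjoin K R))).Splits := by
    apply IntermediateField.splits_of_splits (IsAlgClosed.splits _)
    intro x hx
    exact subset_adjoin K R (Set.mem_iUnion.mpr ⟨i, hx⟩)
  have hroot : (((minpoly K (α i)).map (algebraMap K (adjoin K R))).map mu).IsRoot (lam' (α i)) := by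
    rw [Polynomial.map_map, ← hcomp', IsRoot.def, eval_map, ← hom_eval₂, ← aeval_def,
      minpoly.aeval, map_zero]
  obtain ⟨r, hr⟩ := hsplit.mem_range_of_isRoot
    (Polynomial.map_ne_zero (minpoly.ne_zero (Algebra.IsIntegral.isIntegral (α i)))) hroot
  -- `z` is a polynomial in `α i`
  have hz' : z ∈ Algebra.adjoin K {α i} := by
    rw [← adjoin_simple_toSubalgebra_of_isAlgebraic
      (Algebra.IsIntegral.isIntegral (R := K) (α i)).isAlgebraic, hα i]
    trivial
  rw [Algebra.adjoin_singleton_eq_range_aeval] at hz'
  obtain ⟨P, rfl⟩ := hz'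
  refine ⟨aeval r P, ?_⟩
  show mu (aeval r P) = lam' (aeval (α i) P)
  rw [aeval_def, aeval_def, hom_eval₂, hom_eval₂, hcomp', hr]

end Groth.Agent.Lib.helper13.EL
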