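import Mathlib

/-!
# Étale localization of quasi-finite morphisms: bridging lemmas on residue fields
-/

set_option autoImplicit false

namespace Groth.Agent.Lib.helper13.EL

open AlgebraicGeometry CategoryTheory Limits

universe u

section Bridge

variable {A B : CommRingCat.{u}} (φ : A ⟶ B) (y : Spec B)

/-- The residue field map of `Spec.map φ` in terms of `Ideal.ResidueField.map`. -/
lemma Spec_residueFieldMap_eq :
    (Spec.map φ).residueFieldMap y =
      (Scheme.Spec.residueFieldIso A (Spec.map φ y)).hom ≫
        CommRingCat.ofHom (Ideal.ResidueField.map (Spec.map φ y).asIdeal y.asIdeal φ.hom rfl) ≫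
          (Scheme.Spec.residueFieldIso B y).inv := by
  rw [← Iso.inv_comp_eq]
  ext1
  apply Ideal.ResidueField.ringHom_ext
  have hA : CommRingCat.ofHom (algebraMap A (Spec.map φ y).asIdeal.ResidueField) ≫
      (Scheme.Spec.residueFieldIso A (Spec.map φ y)).inv =
      (Scheme.ΓSpecIso A).inv ≫ (Spec A).Γevaluation (Spec.map φ y) :=
    Scheme.Spec.algebraMap_residueFieldIso_inv A (Spec.map φ y)
  have hB : CommRingCat.ofHom (algebraMap B y.asIdeal.ResidueField) ≫
      (Scheme.Spec.residueFieldIso B y).inv =
      (Scheme.ΓSpecIso B).inv ≫ (Spec B).Γevaluation y :=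
    Scheme.Spec.algebraMap_residueFieldIso_inv B y
  have h2 : CommRingCat.ofHom (algebraMap A (Spec.map φ y).asIdeal.ResidueField) ≫
      CommRingCat.ofHom (Ideal.ResidueField.map (Spec.map φ y).asIdeal y.asIdeal φ.hom rfl) =
      φ ≫ CommRingCat.ofHom (algebraMap B y.asIdeal.ResidueField) := by
    ext r
    exact Ideal.ResidueField.map_algebraMap _ _ _ _ r
  have h1 : CommRingCat.ofHom (algebraMap A (Spec.map φ y).asIdeal.ResidueField) ≫
      ((Scheme.Spec.residueFieldIso A (Spec.map φ y)).inv ≫ (Spec.map φ).residueFieldMap y) =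
      CommRingCat.ofHom (algebraMap A (Spec.map φ y).asIdeal.ResidueField) ≫
      (CommRingCat.ofHom (Ideal.ResidueField.map (Spec.map φ y).asIdeal y.asIdeal φ.hom rfl) ≫
          (Scheme.Spec.residueFieldIso B y).inv) := by
    calc CommRingCat.ofHom (algebraMap A (Spec.map φ y).asIdeal.ResidueField) ≫
        ((Scheme.Spec.residueFieldIso A (Spec.map φ y)).inv ≫ (Spec.map φ).residueFieldMap y)
        = ((Scheme.ΓSpecIso A).inv ≫ (Spec A).Γevaluation (Spec.map φ y)) ≫
            (Spec.map φ).residueFieldMap y := by rw [← Category.assoc, hA]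
      _ = (Scheme.ΓSpecIso A).inv ≫ (Spec.map φ).appTop ≫ (Spec B).Γevaluation y := by
          rw [Category.assoc, Scheme.Γevaluation_naturality]
      _ = φ ≫ (Scheme.ΓSpecIso B).inv ≫ (Spec B).Γevaluation y := by
          rw [← Category.assoc, ← Scheme.ΓSpecIso_inv_naturality, Category.assoc]
      _ = φ ≫ CommRingCat.ofHom (algebraMap B y.asIdeal.ResidueField) ≫
            (Scheme.Spec.residueFieldIso B y).inv := by rw [hB]
      _ = _ := by rw [← Category.assoc, ← h2, Category.assoc]
  exact congrArg CommRingCat.Hom.hom h1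

end Bridge

section PointsOfPullback

open Scheme.Pullback

variable {X Y S : Scheme.{u}} {f : X ⟶ S} {g : Y ⟶ S}

lemma bijective_residueFieldMap_of_eq {X Y : Scheme.{u}} (g : X ⟶ Y) {y y' : X} (e : y = y')
    (h : Function.Bijective (g.residueFieldMap y)) : Function.Bijective (g.residueFieldMap y') := by
  subst e; exact h

/-- If `κ(s) → κ(y)` is bijective then `κ(x) → κ(x) ⊗ κ(y)` is an isomorphism. -/
lemma isIso_tensorInl (T : Triplet f g) (h : Function.Bijective (g.residueFieldMap T.y)) :
    IsIso T.tensorInl := by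
  have : IsIso (g.residueFieldMap T.y) := (ConcreteCategory.isIso_iff_bijective _).mpr h
  have h2 : IsIso ((S.residueFieldCongr T.hy).inv ≫ g.residueFieldMap T.y) := inferInstance
  unfold Triplet.tensorInl
  exact pushout_inl_iso_of_right_iso _ _

lemma subsingleton_Spec_tensor (T : Triplet f g) (h : Function.Bijective (g.residueFieldMap T.y)) :
    Subsingleton (Spec T.tensor) := by
  have := isIso_tensorInl T h
  have e : Spec T.tensor ≅ Spec (X.residueField T.x) := Scheme.Spec.mapIso (asIso T.tensorInl).op
  exact e.hom.homeomorph.toEquiv.subsingleton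

/-- In a fibre product `X ×_S Y`, if `κ(g y) → κ(y)` is bijective, there is at most one point
over `(x, y)`. -/
lemma eq_of_fst_eq_of_snd_eq {w₁ w₂ : ↑(pullback f g)}
    (h : Function.Bijective (g.residueFieldMap (pullback.snd f g w₁)))
    (h₁ : pullback.fst f g w₁ = pullback.fst f g w₂)
    (h₂ : pullback.snd f g w₁ = pullback.snd f g w₂) : w₁ = w₂ := by
  apply carrierEquiv.injective
  have e : Triplet.ofPoint w₁ = Triplet.ofPoint w₂ := Triplet.ext h₁ h₂
  have hs : Subsingleton (Spec (Triplet.ofPoint w₂).tensor) := by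
    apply subsingleton_Spec_tensor
    exact bijective_residueFieldMap_of_eq g h₂ h
  exact carrierEquiv_eq_iff.mpr ⟨e, @Subsingleton.elim _ hs _ _⟩

lemma isField_tensor (T : Triplet f g) (h : Function.Bijective (g.residueFieldMap T.y)) :
    IsField T.tensor := by
  have := isIso_tensorInl T h
  exact MulEquiv.isField (Field.toIsField (X.residueField T.x))
    (asIso T.tensorInl).commRingCatIsoToRingEquiv.symm.toMulEquiv

lemma bijective_residueFieldMap_fst_SpecTensorTo (T : Triplet f g) (p : Spec T.tensor)
    (h : Function.Bijective (g.residueFieldMap T.y)) :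
    Function.Bijective ((pullback.fst f g).residueFieldMap (T.SpecTensorTo p)) := by
  have hT : Triplet.ofPoint (T.SpecTensorTo p) = T := T.ofPoint_SpecTensorTo p
  have h' : Function.Bijective (g.residueFieldMap (Triplet.ofPoint (T.SpecTensorTo p)).y) :=
    bijective_residueFieldMap_of_eq g (congrArg Triplet.y hT).symm h
  have i1 := isIso_tensorInl (Triplet.ofPoint (T.SpecTensorTo p)) h'
  have e1 : (Triplet.ofPoint (T.SpecTensorTo p)).tensorInl ≫ ofPointTensor (T.SpecTensorTo p) =
      (pullback.fst f g).residueFieldMap (T.SpecTensorTo p) := pushout.inl_desc _ _ _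
  have key := Triplet.Spec_ofPointTensor_SpecTensorTo T p
  rw [← Scheme.Spec.map_residueFieldIso_inv_eq_fromSpecResidueField, ← Spec.map_comp,
    ← Spec.map_comp, ← Spec.map_comp, Spec.map_inj] at key
  -- `T.tensor` is a field so `T.tensor → κ(p)` is bijective
  have hF := isField_tensor T h
  have hmax : p.asIdeal.IsMaximal := by
    letI := hF.toField
    have : p.asIdeal = ⊥ := Ideal.eq_bot_of_prime _
    rw [this]
    exact Ideal.bot_isMaximal
  have hsurj : Function.Surjective (algebraMap T.tensor p.asIdeal.ResidueField) :=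
    Ideal.algebraMap_residueField_surjective _
  have hs2 : Function.Surjective
      ((Triplet.tensorCongr (T.ofPoint_SpecTensorTo p).symm).hom ≫
        ofPointTensor (T.SpecTensorTo p) ≫ Scheme.Hom.residueFieldMap T.SpecTensorTo p) := by
    rw [Category.assoc] at key
    rw [key]
    exact ((ConcreteCategory.bijective_of_isIso
      (Scheme.Spec.residueFieldIso T.tensor p).inv).surjective).comp hsurj
  refine ⟨RingHom.injective _, fun y ↦ ?_⟩
  obtain ⟨z, hz⟩ := hs2 ((Scheme.Hom.residueFieldMap T.SpecTensorTo p) y)
  have hinj : Function.Injective (Scheme.Hom.residueFieldMap T.SpecTensorTo p) :=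
    RingHom.injective _
  have hz' : ofPointTensor (T.SpecTensorTo p)
      ((Triplet.tensorCongr (T.ofPoint_SpecTensorTo p).symm).hom z) = y := hinj hz
  obtain ⟨a, ha⟩ := (ConcreteCategory.bijective_of_isIso
    (Triplet.ofPoint (T.SpecTensorTo p)).tensorInl).surjective
      ((Triplet.tensorCongr (T.ofPoint_SpecTensorTo p).symm).hom z)
  refine ⟨a, ?_⟩
  rw [← e1, ← hz', ← ha]
  rfl

/-- If `κ(g y) → κ(y)` is bijective, then for any point `w` over `y`, `κ(fst w) → κ(w)` is
bijective. -/
lemma bijective_residueFieldMap_fst (w : ↑(pullback f g))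
    (h : Function.Bijective (g.residueFieldMap (pullback.snd f g w))) :
    Function.Bijective ((pullback.fst f g).residueFieldMap w) := by
  have := bijective_residueFieldMap_fst_SpecTensorTo (Triplet.ofPoint w) (SpecOfPoint w) h
  rwa [SpecTensorTo_SpecOfPoint] at this

end PointsOfPullback

end Groth.Agent.Lib.helper13.EL
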