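import Mathlib
import Groth.Agent.Lib.Helper13.EL1

/-!
# Étale localization of quasi-finite morphisms: the one-point step
-/

set_option autoImplicit false

namespace Groth.Agent.Lib.helper13.EL

open AlgebraicGeometry CategoryTheory Limits

universe u

lemma bijective_residueField_map_congr {R S : Type*} [CommRing R] [CommRing S] (I I' : Ideal R)
    [I.IsPrime] [I'.IsPrime] (J : Ideal S) [J.IsPrime] (f : R →+* S) (hf : I = J.comap f)
    (hf' : I' = J.comap f) (h : Function.Bijective (Ideal.ResidueField.map I J f hf)) :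
    Function.Bijective (Ideal.ResidueField.map I' J f hf') := by
  obtain rfl : I = I' := hf.trans hf'.symm
  exact h

variable {X S : Scheme.{u}} (f : X ⟶ S) [LocallyOfFiniteType f]

set_option backward.defeqAttrib.useBackward true in
set_option backward.isDefEq.respectTransparency false in
open TensorProduct in
theorem exists_etale_nbhd_of_quasiFiniteAt (x : X) (hx : f.QuasiFiniteAt x) :
    ∃ (U : Scheme.{u}) (g : U ⟶ S) (u : U), Etale g ∧ g u = f x ∧
      Function.Bijective (g.residueFieldMap u) ∧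
      ∃ (V : (pullback f g).Opens) (v : ↑(pullback f g)), v ∈ V ∧
        IsFinite (V.ι ≫ pullback.snd f g) ∧ pullback.snd f g v = u ∧ pullback.fst f g v = x ∧
        (∀ w ∈ V, pullback.snd f g w = u → w = v) ∧
        (IsSeparated f → IsClosed (V : Set ↑(pullback f g))) := by
  obtain ⟨_, ⟨U, hU, rfl⟩, hxU, -⟩ := S.isBasis_affineOpens.exists_subset_of_mem_open
    (Set.mem_univ (f x)) isOpen_univ
  obtain ⟨_, ⟨V, hV, rfl⟩, hxV, hUV : V ≤ f ⁻¹ᵁ U⟩ :=
    X.isBasis_affineOpens.exists_subset_of_mem_open hxU (f ⁻¹ᵁ U).2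
  have : (f.appLE U V hUV).hom.FiniteType := f.finiteType_appLE hU hV hUV
  algebraize [(f.appLE U V hUV).hom]
  have : (hV.primeIdealOf ⟨x, hxV⟩).asIdeal.LiesOver (hU.primeIdealOf ⟨f x, hxU⟩).asIdeal := by
    suffices hU.primeIdealOf ⟨f x, hxU⟩ = Spec.map (f.appLE U V hUV) (hV.primeIdealOf ⟨x, hxV⟩) from
      ⟨congr(($this).1)⟩
    apply hU.isoSpec.inv.homeomorph.injective
    apply Subtype.ext
    simp only [IsAffineOpen.primeIdealOf, Scheme.Hom.homeomorph_apply,
      ← Scheme.Hom.comp_apply, ← Scheme.Opens.ι_apply, IsAffineOpen.isoSpec_hom]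
    simp
  have : Algebra.QuasiFiniteAt Γ(S, U) (hV.primeIdealOf ⟨x, hxV⟩).asIdeal :=
    hx.quasiFiniteAt hV hU hUV hxV
  obtain ⟨R, _, _, _, P, _, _, e, _, P', _, _, hP', heP', hbij, _, huniq⟩ :=
    Algebra.exists_etale_isIdempotentElem_forall_liesOver_eq
    (hU.primeIdealOf ⟨f x, hxU⟩).asIdeal (hV.primeIdealOf ⟨x, hxV⟩).asIdeal
  have : (algebraMap R (Localization.Away e)).Finite := RingHom.finite_algebraMap.mpr ‹_›
  let φ : Γ(S, U) ⟶ .of R := CommRingCat.ofHom <| algebraMap Γ(S, U) R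
  have hφ : φ.hom.Etale := RingHom.etale_algebraMap.mpr ‹_›
  have : Etale (Spec.map φ) := HasRingHomProperty.Spec_iff.mpr hφ
  let e₁ : Spec (.of (R ⊗ Γ(X, V))) ≅ pullback (Spec.map (f.appLE U V hUV)) (Spec.map φ) :=
    (pullbackSpecIso _ _ _).symm ≪≫ pullbackSymmetry _ _
  have he₁ : e₁.hom ≫ pullback.fst _ _ =
      Spec.map (CommRingCat.ofHom Algebra.TensorProduct.includeRight.toRingHom) := by
    dsimp [e₁, RingHom.algebraMap_toAlgebra]
    rw [Category.assoc, pullbackSymmetry_hom_comp_fst]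
    exact pullbackSpecIso_inv_snd ..
  have he₁' : e₁.hom ≫ pullback.snd _ _ =
      Spec.map (CommRingCat.ofHom (algebraMap R (R ⊗[Γ(S, U)] Γ(X, V)))) := by
    dsimp [e₁, RingHom.algebraMap_toAlgebra]
    rw [Category.assoc, pullbackSymmetry_hom_comp_snd]
    exact pullbackSpecIso_inv_fst ..
  let g : Spec (.of (R ⊗[Γ(S, U)] Γ(X, V))) ⟶ pullback f (Spec.map φ ≫ hU.fromSpec) :=
    e₁.hom ≫ pullback.map _ _ _ _ hV.fromSpec (𝟙 _) hU.fromSpec
      (IsAffineOpen.SpecMap_appLE_fromSpec ..) (by simp)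
  let W₁ := g ''ᵁ PrimeSpectrum.basicOpen e
  have hfin : IsFinite (W₁.ι ≫ pullback.snd f _) := by
    let ι : Spec (.of (Localization.Away e)) ⟶ pullback f (Spec.map φ ≫ hU.fromSpec) :=
      Spec.map (CommRingCat.ofHom <| algebraMap _ _) ≫ g
    have : ι.opensRange = W₁ := by
      simp only [Scheme.Hom.opensRange_comp, ι, W₁]
      congr 1
      exact TopologicalSpace.Opens.ext <| PrimeSpectrum.localization_away_comap_range _ _
    rw [← this, ← MorphismProperty.cancel_left_of_respectsIso @IsFinite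
      (Scheme.Hom.isoOpensRange _).hom]
    have H : (pullbackSpecIso _ R _).inv ≫ pullback.fst _ (Spec.map (f.appLE U V hUV)) = _ :=
      pullbackSpecIso_inv_fst ..
    simpa [Scheme.Hom.isoOpensRange, ι, g, e₁, RingHom.algebraMap_toAlgebra, φ, H,
      ← Spec.map_comp, IsFinite.SpecMap_iff]
  have hgsnd : g ≫ pullback.snd f _ =
      Spec.map (CommRingCat.ofHom (algebraMap R (R ⊗[Γ(S, U)] Γ(X, V)))) := by
    simp only [g, Category.assoc, pullback.lift_snd, pullback.map]
    rw [Category.comp_id, he₁']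
  refine ⟨Spec (.of R), Spec.map φ ≫ hU.fromSpec, ⟨P, ‹_›⟩, inferInstance, ?_, ?_,
    W₁, g ⟨P', ‹_›⟩, ?_, hfin, ?_, ?_, ?_, ?_⟩
  · dsimp [Spec.map_apply]
    convert! hU.fromSpec_primeIdealOf ⟨f x, hxU⟩
    exact PrimeSpectrum.ext (Ideal.over_def _ _).symm
  · rw [Scheme.residueFieldMap_comp, Spec_residueFieldMap_eq]
    have h1 : Function.Bijective (Ideal.ResidueField.map
        (Spec.map φ (⟨P, ‹_›⟩ : PrimeSpectrum R)).asIdeal P φ.hom rfl) :=
      bijective_residueField_map_congr _ _ _ _ _ rfl hbij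
    have h2 : IsIso (CommRingCat.ofHom (Ideal.ResidueField.map
        (Spec.map φ (⟨P, ‹_›⟩ : PrimeSpectrum R)).asIdeal P φ.hom rfl)) :=
      (ConcreteCategory.isIso_iff_bijective _).mpr h1
    exact ConcreteCategory.bijective_of_isIso _
  · exact ⟨⟨P', ‹_›⟩, heP', rfl⟩
  · rw [← Scheme.Hom.comp_apply, hgsnd]
    exact PrimeSpectrum.ext (P'.over_def P).symm
  · trans hV.fromSpec ⟨P'.comap Algebra.TensorProduct.includeRight.toRingHom, inferInstance⟩
    · simp [← Scheme.Hom.comp_apply, -Scheme.Hom.comp_base, g, reassoc_of% he₁]; rfl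
    convert! hV.fromSpec_primeIdealOf ⟨x, hxV⟩
  · intro w hw hwu
    obtain ⟨p, hp, rfl⟩ : ∃ p ∈ PrimeSpectrum.basicOpen e, g p = w := hw
    have hwu' : (g ≫ pullback.snd f _) p = ⟨P, ‹_›⟩ := by
      rw [Scheme.Hom.comp_apply]; exact hwu
    rw [hgsnd] at hwu'
    have h1 : p.asIdeal.LiesOver P := ⟨(congrArg PrimeSpectrum.asIdeal hwu').symm⟩
    have h2 := huniq p.asIdeal p.isPrime h1 hp
    congr 1
    exact PrimeSpectrum.ext h2
  · intro hsep
    have : IsFinite W₁.ι := .of_comp _ (pullback.snd f _)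
    simpa using W₁.ι.isClosedMap.isClosed_range

end Groth.Agent.Lib.helper13.EL
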