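import Mathlib
import Groth.Agent.Lib.Helper13.EL2

/-!
# Étale localization of quasi-finite morphisms: refinement and the multi-point version
-/

set_option autoImplicit false

namespace Groth.Agent.Lib.helper13.EL

open AlgebraicGeometry CategoryTheory Limits

universe u

variable {X S : Scheme.{u}} (f : X ⟶ S)

/-- `V` is an open of `X ×_S U`, finite over `U`, whose only point over `u` is `v`, and `v` lies
over `x`. -/
structure IsGoodOpen {U : Scheme.{u}} (g : U ⟶ S) (u : U) (x : X) (V : (pullback f g).Opens)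
    (v : ↑(pullback f g)) : Prop where
  mem : v ∈ V
  finite : IsFinite (V.ι ≫ pullback.snd f g)
  snd_eq : pullback.snd f g v = u
  uniq : ∀ w ∈ V, pullback.snd f g w = u → w = v
  fst_eq : pullback.fst f g v = x
  closed : IsSeparated f → IsClosed (V : Set ↑(pullback f g))

section Refine

variable {U U' : Scheme.{u}} (g : U ⟶ S) (h : U' ⟶ U) (g' : U' ⟶ S) (hg' : h ≫ g = g')

/-- The canonical map `X ×_S U' ⟶ X ×_S U`. -/
noncomputable def refineMap : pullback f g' ⟶ pullback f g :=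
  pullback.map f g' f g (𝟙 X) h (𝟙 S) (by simp) (by simp [hg'])

@[reassoc (attr := simp)]
lemma refineMap_fst : refineMap f g h g' hg' ≫ pullback.fst f g = pullback.fst f g' := by
  unfold refineMap pullback.map
  rw [pullback.lift_fst, Category.comp_id]

@[reassoc (attr := simp)]
lemma refineMap_snd : refineMap f g h g' hg' ≫ pullback.snd f g = pullback.snd f g' ≫ h := by
  unfold refineMap pullback.map
  rw [pullback.lift_snd]

lemma refineMap_fst_apply (w : ↑(pullback f g')) :
    pullback.fst f g (refineMap f g h g' hg' w) = pullback.fst f g' w := by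
  rw [← Scheme.Hom.comp_apply, refineMap_fst]

lemma refineMap_snd_apply (w : ↑(pullback f g')) :
    pullback.snd f g (refineMap f g h g' hg' w) = h (pullback.snd f g' w) := by
  rw [← Scheme.Hom.comp_apply, refineMap_snd, Scheme.Hom.comp_apply]

lemma isPullback_refineMap :
    IsPullback (refineMap f g h g' hg') (pullback.snd f g') (pullback.snd f g) h := by
  subst hg'
  refine IsPullback.of_right (h₁₂ := pullback.fst f g) (h₂₂ := g) (v₁₃ := f) ?_
    (refineMap_snd ..) (IsPullback.of_hasPullback f g)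
  rw [refineMap_fst]
  exact IsPullback.of_hasPullback f (h ≫ g)

lemma isFinite_refine (V : (pullback f g).Opens) (hfin : IsFinite (V.ι ≫ pullback.snd f g)) :
    IsFinite (((refineMap f g h g' hg') ⁻¹ᵁ V).ι ≫ pullback.snd f g') := by
  have h1 := isPullback_morphismRestrict (refineMap f g h g' hg') V
  have h2 := isPullback_refineMap f g h g' hg'
  exact MorphismProperty.of_isPullback (h1.paste_vert h2) hfin

variable {f g}

lemma IsGoodOpen.refine {u : U} {x : X} {V : (pullback f g).Opens} {v : ↑(pullback f g)}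
    (hV : IsGoodOpen f g u x V v) (hbij : Function.Bijective (g.residueFieldMap u))
    (u' : U') (hu' : h u' = u) (hbij' : Function.Bijective (g'.residueFieldMap u')) :
    ∃ v', IsGoodOpen f g' u' x ((refineMap f g h g' hg') ⁻¹ᵁ V) v' := by
  have hx : f x = g' u' := by
    rw [← hV.fst_eq, ← Scheme.Hom.comp_apply, pullback.condition, Scheme.Hom.comp_apply,
      hV.snd_eq, ← hg', Scheme.Hom.comp_apply, hu']
  obtain ⟨v', hv'1, hv'2⟩ := Scheme.Pullback.exists_preimage_pullback x u' hx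
  have hsnd : pullback.snd f g (refineMap f g h g' hg' v') = u := by
    rw [refineMap_snd_apply, hv'2, hu']
  have hψv' : refineMap f g h g' hg' v' = v := by
    apply eq_of_fst_eq_of_snd_eq
    · rw [hsnd]; exact hbij
    · rw [refineMap_fst_apply, hv'1, hV.fst_eq]
    · rw [hsnd, hV.snd_eq]
  refine ⟨v', ⟨?_, isFinite_refine f g h g' hg' V hV.finite, hv'2, ?_, hv'1, ?_⟩⟩
  · show refineMap f g h g' hg' v' ∈ V
    rw [hψv']; exact hV.mem
  · intro w hw hwu
    have h1 : refineMap f g h g' hg' w = v :=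
      hV.uniq _ hw (by rw [refineMap_snd_apply, hwu, hu'])
    apply eq_of_fst_eq_of_snd_eq
    · rw [hwu]; exact hbij'
    · rw [← refineMap_fst_apply f g h g' hg', h1, hV.fst_eq, hv'1]
    · rw [hwu, hv'2]
  · intro hsep
    exact (hV.closed hsep).preimage (refineMap f g h g' hg').continuous

end Refine

section Common

/-- Two elementary étale neighbourhoods have a common refinement. -/
lemma exists_common_refinement {U₁ U₂ : Scheme.{u}} (g₁ : U₁ ⟶ S) (g₂ : U₂ ⟶ S) (u₁ : U₁) (u₂ : U₂)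
    (s : S) [Etale g₁] [Etale g₂] (h₁ : g₁ u₁ = s) (h₂ : g₂ u₂ = s)
    (hb₁ : Function.Bijective (g₁.residueFieldMap u₁))
    (hb₂ : Function.Bijective (g₂.residueFieldMap u₂)) :
    ∃ (U' : Scheme.{u}) (g' : U' ⟶ S) (u' : U') (p₁ : U' ⟶ U₁) (p₂ : U' ⟶ U₂),
      Etale g' ∧ g' u' = s ∧ Function.Bijective (g'.residueFieldMap u') ∧
      p₁ ≫ g₁ = g' ∧ p₂ ≫ g₂ = g' ∧ p₁ u' = u₁ ∧ p₂ u' = u₂ := by
  obtain ⟨u', hu'1, hu'2⟩ := Scheme.Pullback.exists_preimage_pullback u₁ u₂ (h₁.trans h₂.symm)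
  refine ⟨pullback g₁ g₂, pullback.fst g₁ g₂ ≫ g₁, u', pullback.fst g₁ g₂, pullback.snd g₁ g₂,
    inferInstance, ?_, ?_, rfl, pullback.condition.symm, hu'1, hu'2⟩
  · rw [Scheme.Hom.comp_apply, hu'1, h₁]
  · rw [Scheme.residueFieldMap_comp]
    have h3 : Function.Bijective ((pullback.fst g₁ g₂).residueFieldMap u') := by
      apply bijective_residueFieldMap_fst
      rw [hu'2]; exact hb₂
    have h4 : Function.Bijective (g₁.residueFieldMap (pullback.fst g₁ g₂ u')) := by
      rw [hu'1]; exact hb₁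
    exact h3.comp h4

end Common

section Multi

variable [LocallyOfFiniteType f]

/-- Étale localization of quasi-finite morphisms, several points. -/
theorem exists_etale_nbhd_of_quasiFiniteAt_finite (s : S) {ι : Type} [Finite ι]
    (x : ι → ↑X) (hs : ∀ i, f (x i) = s) (hx : ∀ i, f.QuasiFiniteAt (x i)) :
    ∃ (U : Scheme.{u}) (g : U ⟶ S) (u : U), Etale g ∧ g u = s ∧
      Function.Bijective (g.residueFieldMap u) ∧
      ∃ (V : ι → (pullback f g).Opens) (v : ι → ↑(pullback f g)),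
        ∀ i, IsGoodOpen f g u (x i) (V i) (v i) := by
  induction ι using Finite.induction_empty_option with
  | of_equiv e ih =>
    obtain ⟨U, g, u, h1, h2, h3, V, v, hV⟩ := ih (x ∘ e) (fun i ↦ hs _) (fun i ↦ hx _)
    refine ⟨U, g, u, h1, h2, h3, V ∘ e.symm, v ∘ e.symm, fun i ↦ ?_⟩
    simpa using hV (e.symm i)
  | h_empty =>
    refine ⟨S, 𝟙 S, s, inferInstance, rfl, ?_, nofun, nofun, nofun⟩
    rw [Scheme.residueFieldMap_id]
    exact Function.bijective_id
  | h_option ih =>
    obtain ⟨U₁, g₁, u₁, _, h2, h3, V, v, hV⟩ :=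
      ih (fun i ↦ x (some i)) (fun i ↦ hs _) (fun i ↦ hx _)
    obtain ⟨U₂, g₂, u₂, _, hg₂, hb₂, V₂, v₂, hv₂V, hfin, hsnd, hfst, huniq, hcl⟩ :=
      exists_etale_nbhd_of_quasiFiniteAt f (x none) (hx none)
    obtain ⟨U', g', u', p₁, p₂, hg', hgu', hb', hp₁, hp₂, hpu₁, hpu₂⟩ :=
      exists_common_refinement g₁ g₂ u₁ u₂ s h2 (hg₂.trans (hs none)) h3 hb₂
    have hgood : IsGoodOpen f g₂ u₂ (x none) V₂ v₂ := ⟨hv₂V, hfin, hsnd, huniq, hfst, hcl⟩
    obtain ⟨v₀, hv₀⟩ := hgood.refine p₂ g' hp₂ hb₂ u' hpu₂ hb'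
    choose v' hv' using fun i ↦ (hV i).refine p₁ g' hp₁ h3 u' hpu₁ hb'
    refine ⟨U', g', u', hg', hgu', hb',
      fun i ↦ i.elim ((refineMap f g₂ p₂ g' hp₂) ⁻¹ᵁ V₂) (fun j ↦ (refineMap f g₁ p₁ g' hp₁) ⁻¹ᵁ V j),
      fun i ↦ i.elim v₀ v', fun i ↦ ?_⟩
    cases i with
    | none => exact hv₀
    | some j => exact hv' j

end Multi

end Groth.Agent.Lib.helper13.EL
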