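import Mathlib
import Groth.Agent.Lib.Helper13.EL3

/-!
# Étale localization: residue fields of points of fibre products
-/

set_option autoImplicit false

namespace Groth.Agent.Lib.helper13.EL

open AlgebraicGeometry CategoryTheory Limits

universe u

section Algebra

/-- A quasi-finite local homomorphism of local rings induces a finite extension of residue
fields. -/
lemma finite_residueField_map_of_quasiFinite {R S : Type*} [CommRing R] [CommRing S]
    [IsLocalRing R] [IsLocalRing S] (φ : R →+* S) [IsLocalHom φ] (h : φ.QuasiFinite) :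
    (IsLocalRing.ResidueField.map φ).Finite := by
  have h1 : ((IsLocalRing.residue S).comp φ).QuasiFinite :=
    RingHom.QuasiFinite.comp
      (RingHom.QuasiFinite.of_finite (RingHom.Finite.of_surjective _ Ideal.Quotient.mk_surjective)) h
  have h2 : ((IsLocalRing.ResidueField.map φ).comp (IsLocalRing.residue R)).QuasiFinite := by
    convert h1 using 1
    ext x
    rfl
  have h3 : (IsLocalRing.ResidueField.map φ).QuasiFinite := RingHom.QuasiFinite.of_comp h2
  algebraize [IsLocalRing.ResidueField.map φ]
  exact Module.Finite.of_quasiFinite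

/-- The images of the two legs generate a pushout of commutative rings. -/
lemma closure_range_inl_inr_eq_top {R A B : CommRingCat.{u}} (f : R ⟶ A) (g : R ⟶ B) :
    Subring.closure (Set.range (pushout.inl f g).hom ∪ Set.range (pushout.inr f g).hom) = ⊤ := by
  set C := Subring.closure (Set.range (pushout.inl f g).hom ∪ Set.range (pushout.inr f g).hom)
    with hC
  let inl' : A ⟶ CommRingCat.of C := CommRingCat.ofHom
    ((pushout.inl f g).hom.codRestrict C (fun a ↦ Subring.subset_closure (Or.inl ⟨a, rfl⟩)))
  let inr' : B ⟶ CommRingCat.of C := CommRingCat.ofHom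
    ((pushout.inr f g).hom.codRestrict C (fun b ↦ Subring.subset_closure (Or.inr ⟨b, rfl⟩)))
  let ι : CommRingCat.of C ⟶ pushout f g := CommRingCat.ofHom C.subtype
  have h1 : inl' ≫ ι = pushout.inl f g := by ext; rfl
  have h2 : inr' ≫ ι = pushout.inr f g := by ext; rfl
  have hcond : f ≫ inl' = g ≫ inr' := by
    ext r
    exact congrArg (fun k ↦ k.hom r) (pushout.condition (f := f) (g := g))
  let d : pushout f g ⟶ CommRingCat.of C := pushout.desc inl' inr' hcond
  have hd : d ≫ ι = 𝟙 _ := by
    apply pushout.hom_ext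
    · rw [← Category.assoc, pushout.inl_desc, h1, Category.comp_id]
    · rw [← Category.assoc, pushout.inr_desc, h2, Category.comp_id]
  rw [eq_top_iff]
  intro z _
  have : ι (d z) = z := congrArg (fun k ↦ k.hom z) hd
  rw [← this]
  exact (d z).2

lemma finite_pushout_inr {R A B : CommRingCat.{u}} (a : R ⟶ A) (b : R ⟶ B) (h : a.hom.Finite) :
    (pushout.inr a b).hom.Finite := by
  have h2 := RingHom.IsStableUnderBaseChange.pushout_inl RingHom.finite_isStableUnderBaseChange
    RingHom.finite_respectsIso b a h
  have e : pushout.inr a b = pushout.inl b a ≫ (pushoutSymmetry b a).hom :=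
    (inl_comp_pushoutSymmetry_hom b a).symm
  rw [e, CommRingCat.hom_comp]
  exact (RingHom.Finite.of_surjective _
    (ConcreteCategory.bijective_of_isIso (pushoutSymmetry b a).hom).surjective).comp h2

end Algebra

section Scheme

open Scheme.Pullback

variable {X Y S : Scheme.{u}} {f : X ⟶ S} {g : Y ⟶ S}

lemma finite_residueFieldMap_of_quasiFiniteAt {x : X} (hx : f.QuasiFiniteAt x) :
    (f.residueFieldMap x).hom.Finite :=
  finite_residueField_map_of_quasiFinite (f.stalkMap x).hom hx

/-- Quasi-finiteness at a point is stable under base change. -/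
lemma quasiFiniteAt_snd [LocallyOfFiniteType f] (w : ↑(pullback f g))
    (h : f.QuasiFiniteAt (pullback.fst f g w)) : (pullback.snd f g).QuasiFiniteAt w := by
  set Q := f.quasiFiniteLocus with hQ
  have h1 : LocallyQuasiFinite (Q.ι ≫ f) := by
    rw [← Scheme.Hom.quasiFiniteLocus_eq_top_iff, Scheme.Hom.quasiFiniteLocus_comp]
    ext z
    simp
  have hpb : IsPullback ((pullback.fst f g) ∣_ Q) (((pullback.fst f g) ⁻¹ᵁ Q).ι ≫ pullback.snd f g)
      (Q.ι ≫ f) g :=
    (isPullback_morphismRestrict (pullback.fst f g) Q).paste_vert (IsPullback.of_hasPullback f g)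
  have h2 : LocallyQuasiFinite (((pullback.fst f g) ⁻¹ᵁ Q).ι ≫ pullback.snd f g) :=
    MorphismProperty.of_isPullback hpb h1
  have hw : w ∈ (pullback.fst f g) ⁻¹ᵁ Q := h
  have h3 := (((pullback.fst f g) ⁻¹ᵁ Q).ι ≫ pullback.snd f g).quasiFiniteAt ⟨w, hw⟩
  rwa [Scheme.Hom.quasiFiniteAt_comp_iff_of_isOpenImmersion] at h3

lemma finite_tensorInr (T : Triplet f g) (h : (f.residueFieldMap T.x).hom.Finite) :
    T.tensorInr.hom.Finite := by
  have h1 : ((S.residueFieldCongr T.hx).inv ≫ f.residueFieldMap T.x).hom.Finite := by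
    rw [CommRingCat.hom_comp]
    exact h.comp (RingHom.Finite.of_surjective _
      (ConcreteCategory.bijective_of_isIso (S.residueFieldCongr T.hx).inv).surjective)
  exact finite_pushout_inr _ _ h1

lemma isArtinianRing_tensor (T : Triplet f g) (h : (f.residueFieldMap T.x).hom.Finite) :
    IsArtinianRing T.tensor := by
  have := finite_tensorInr T h
  algebraize [T.tensorInr.hom]
  exact IsArtinianRing.of_finite (Y.residueField T.y) T.tensor

end Scheme

section PI

open Scheme.Pullback

variable {X Y S : Scheme.{u}} {f : X ⟶ S} {g : Y ⟶ S}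

lemma isPurelyInseparable_of_comp {F E K : Type*} [Field F] [Field E] [Field K]
    (φ : F →+* E) (ψ : E →+* K) (h : (ψ.comp φ).IsPurelyInseparable) : ψ.IsPurelyInseparable := by
  algebraize [φ, ψ, ψ.comp φ]
  exact IsPurelyInseparable.tower_top F E K

lemma tensorInr_tensorCongr {T T' : Triplet f g} (e : T = T') :
    T.tensorInr ≫ (Triplet.tensorCongr e).hom =
      (Y.residueFieldCongr (congrArg Triplet.y e)).hom ≫ T'.tensorInr := by
  subst e; simp

lemma tensorInl_tensorCongr {T T' : Triplet f g} (e : T = T') :
    T.tensorInl ≫ (Triplet.tensorCongr e).hom =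
      (X.residueFieldCongr (congrArg Triplet.x e)).hom ≫ T'.tensorInl := by
  subst e; simp

lemma surjective_ofPointTensor_SpecTensorTo (T : Triplet f g) (p : Spec T.tensor)
    (hmax : p.asIdeal.IsMaximal) :
    Function.Surjective (ofPointTensor (T.SpecTensorTo p)) := by
  have key := Triplet.Spec_ofPointTensor_SpecTensorTo T p
  rw [← Scheme.Spec.map_residueFieldIso_inv_eq_fromSpecResidueField, ← Spec.map_comp,
    ← Spec.map_comp, ← Spec.map_comp, Spec.map_inj] at key
  have hsurj : Function.Surjective (algebraMap T.tensor p.asIdeal.ResidueField) :=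
    Ideal.algebraMap_residueField_surjective _
  have hs2 : Function.Surjective
      ((Triplet.tensorCongr (T.ofPoint_SpecTensorTo p).symm).hom ≫
        ofPointTensor (T.SpecTensorTo p) ≫ Scheme.Hom.residueFieldMap T.SpecTensorTo p) := by
    rw [Category.assoc] at key
    rw [key]
    exact ((ConcreteCategory.bijective_of_isIso
      (Scheme.Spec.residueFieldIso T.tensor p).inv).surjective).comp hsurj
  intro y
  obtain ⟨z, hz⟩ := hs2 ((Scheme.Hom.residueFieldMap T.SpecTensorTo p) y)
  have hinj : Function.Injective (Scheme.Hom.residueFieldMap T.SpecTensorTo p) :=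
    RingHom.injective _
  exact ⟨(Triplet.tensorCongr (T.ofPoint_SpecTensorTo p).symm).hom z, hinj hz⟩

lemma isPurelyInseparable_snd_SpecTensorTo (T : Triplet f g) (p : Spec T.tensor)
    (hmax : p.asIdeal.IsMaximal) (q : ℕ) [ExpChar (Y.residueField T.y) q]
    (H : ∀ (F : Type u) [Field F] (lam : X.residueField T.x →+* F)
      (mu : Y.residueField T.y →+* F),
      lam.comp ((S.residueFieldCongr T.hx).inv ≫ f.residueFieldMap T.x).hom =
        mu.comp ((S.residueFieldCongr T.hy).inv ≫ g.residueFieldMap T.y).hom →
      ∀ y, ∃ n : ℕ, lam y ^ q ^ n ∈ mu.range) :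
    ((pullback.snd f g).residueFieldMap (T.SpecTensorTo p)).hom.IsPurelyInseparable := by
  have e : T = Triplet.ofPoint (T.SpecTensorTo p) := (T.ofPoint_SpecTensorTo p).symm
  set c : T.tensor ⟶ (pullback f g).residueField (T.SpecTensorTo p) :=
    (Triplet.tensorCongr e).hom ≫ ofPointTensor (T.SpecTensorTo p) with hc
  have hcs : Function.Surjective c :=
    (surjective_ofPointTensor_SpecTensorTo T p hmax).comp
      (ConcreteCategory.bijective_of_isIso (Triplet.tensorCongr e).hom).surjective
  set lam := (T.tensorInl ≫ c).hom with hlam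
  set mu := (T.tensorInr ≫ c).hom with hmu
  have hcompat : lam.comp ((S.residueFieldCongr T.hx).inv ≫ f.residueFieldMap T.x).hom =
      mu.comp ((S.residueFieldCongr T.hy).inv ≫ g.residueFieldMap T.y).hom := by
    have hcond : ((S.residueFieldCongr T.hx).inv ≫ f.residueFieldMap T.x) ≫ T.tensorInl =
        ((S.residueFieldCongr T.hy).inv ≫ g.residueFieldMap T.y) ≫ T.tensorInr :=
      pushout.condition
    rw [hlam, hmu, ← CommRingCat.hom_comp, ← CommRingCat.hom_comp, ← Category.assoc,
      ← Category.assoc, hcond]
    simp only [hc, Category.assoc]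
  have hH := H _ lam mu hcompat
  -- `mu` is purely inseparable
  have hmuPI : mu.IsPurelyInseparable := by
    algebraize [mu]
    rw [RingHom.IsPurelyInseparable, isPurelyInseparable_iff_pow_mem _ q]
    intro z
    obtain ⟨t, rfl⟩ := hcs z
    have ht : t ∈ Subring.closure (Set.range T.tensorInl.hom ∪ Set.range T.tensorInr.hom) := by
      have := closure_range_inl_inr_eq_top ((S.residueFieldCongr T.hx).inv ≫ f.residueFieldMap T.x)
        ((S.residueFieldCongr T.hy).inv ≫ g.residueFieldMap T.y)
      exact this ▸ Subring.mem_top t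
    have hle : (Subring.closure (Set.range T.tensorInl.hom ∪ Set.range T.tensorInr.hom)).map c.hom ≤
        (perfectClosure (Y.residueField T.y)
          ((pullback f g).residueField (T.SpecTensorTo p))).toSubring := by
      rw [RingHom.map_closure, Subring.closure_le]
      rintro _ ⟨_, (⟨a, rfl⟩ | ⟨b, rfl⟩), rfl⟩
      · exact (mem_perfectClosure_iff_pow_mem q).mpr (hH a)
      · exact (mem_perfectClosure_iff_pow_mem q).mpr ⟨0, b, by simp; rfl⟩
    exact (mem_perfectClosure_iff_pow_mem q).mp (hle ⟨t, ht, rfl⟩)
  -- transfer to `snd`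
  have hmu' : T.tensorInr ≫ c = (Y.residueFieldCongr (congrArg Triplet.y e)).hom ≫
      (pullback.snd f g).residueFieldMap (T.SpecTensorTo p) := by
    rw [hc, ← Category.assoc, tensorInr_tensorCongr, Category.assoc]
    congr 1
    exact pushout.inr_desc _ _ _
  rw [hmu, hmu', CommRingCat.hom_comp] at hmuPI
  exact isPurelyInseparable_of_comp _ _ hmuPI

end PI

end Groth.Agent.Lib.helper13.EL
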