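import Mathlib
import Groth.Agent.Lib.Helper13.EL5
import Groth.Agent.Lib.Helper13.EL6
import Groth.Agent.Lib.Helper13.EL7

/-!
# Étale localization of quasi-finite morphisms: purely inseparable residue fields
-/

set_option autoImplicit false

namespace Groth.Agent.Lib.helper13.EL

open AlgebraicGeometry CategoryTheory Limits Scheme.Pullback

universe u

variable {X S : Scheme.{u}} {f : X ⟶ S}

/-- Compatibility of residue field identifications under composition with an elementary étale
neighbourhood. -/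
lemma residueIso_comp {S' U : Scheme.{u}} (g' : S' ⟶ S) (g : U ⟶ S') (u : U) (s' : S') (s : S)
    (hgu : g u = s') (hs' : g' s' = s) (hb : Function.Bijective (g.residueFieldMap u))
    {M : CommRingCat.{u}} (a : S'.residueField s' ⟶ M) (ha : Function.Bijective a)
    (b : S.residueField s ⟶ M)
    (hcomm : (S.residueFieldCongr hs').inv ≫ g'.residueFieldMap s' ≫ a = b) :
    ∃ (hu : (g ≫ g') u = s) (a' : U.residueField u ⟶ M), Function.Bijective a' ∧
      (S.residueFieldCongr hu).inv ≫ (g ≫ g').residueFieldMap u ≫ a' = b := by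
  subst hgu
  have : IsIso (g.residueFieldMap u) := (ConcreteCategory.isIso_iff_bijective _).mpr hb
  refine ⟨hs', inv (g.residueFieldMap u) ≫ a, ?_, ?_⟩
  · exact ha.comp (ConcreteCategory.bijective_of_isIso (inv (g.residueFieldMap u)))
  · rw [Scheme.residueFieldMap_comp, ← hcomm]
    simp

/-- Every point over `(T.x, T.y)` comes from a prime of `T.tensor`. -/
lemma exists_eq_SpecTensorTo {Y : Scheme.{u}} {g : Y ⟶ S} (T : Triplet f g) (w : ↑(pullback f g))
    (h1 : pullback.fst f g w = T.x) (h2 : pullback.snd f g w = T.y) :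
    ∃ p, T.SpecTensorTo p = w := by
  have e : T = Triplet.ofPoint w := (Triplet.ext h1 h2).symm
  refine ⟨Spec.map (Triplet.tensorCongr e).hom (SpecOfPoint w), ?_⟩
  rw [← Scheme.Hom.comp_apply, tensorCongr_SpecTensorTo, SpecTensorTo_SpecOfPoint]

lemma IsGoodOpen.transport {S' U : Scheme.{u}} (g' : S' ⟶ S) (g : U ⟶ S') (u : U)
    (x' : ↑(pullback f g')) (V'' : (pullback (pullback.snd f g') g).Opens)
    (v'' : ↑(pullback (pullback.snd f g') g))
    (h : IsGoodOpen (pullback.snd f g') g u x' V'' v'') :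
    IsGoodOpen f (g ≫ g') u (pullback.fst f g' x')
      ((pullbackLeftPullbackSndIso f g' g).hom ''ᵁ V'')
      ((pullbackLeftPullbackSndIso f g' g).hom v'') := by
  set θ := pullbackLeftPullbackSndIso f g' g with hθ
  have hsnd : ∀ z, pullback.snd f (g ≫ g') (θ.hom z) = pullback.snd (pullback.snd f g') g z := by
    intro z
    rw [← Scheme.Hom.comp_apply, hθ, pullbackLeftPullbackSndIso_hom_snd]
  have hfst : ∀ z, pullback.fst f (g ≫ g') (θ.hom z) =
      pullback.fst f g' (pullback.fst (pullback.snd f g') g z) := by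
    intro z
    rw [← Scheme.Hom.comp_apply, hθ, pullbackLeftPullbackSndIso_hom_fst, Scheme.Hom.comp_apply]
  refine ⟨⟨v'', h.mem, rfl⟩, ?_, ?_, ?_, ?_, ?_⟩
  · have e1 : (θ.hom ''ᵁ V'').ι ≫ pullback.snd f (g ≫ g') =
        (θ.hom.isoImage V'').inv ≫ (V''.ι ≫ pullback.snd (pullback.snd f g') g) := by
      rw [← Scheme.Hom.isoImage_inv_ι, Category.assoc, Category.assoc, hθ,
        pullbackLeftPullbackSndIso_hom_snd]
    rw [e1, MorphismProperty.cancel_left_of_respectsIso @IsFinite]
    exact h.finite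
  · rw [hsnd]; exact h.snd_eq
  · intro w hw1 hw
    obtain ⟨z, hz, rfl⟩ : ∃ z ∈ V'', θ.hom z = w := hw1
    rw [hsnd] at hw
    rw [h.uniq z hz hw]
  · rw [hfst, h.fst_eq]
  · intro hsep
    have hcl := h.closed inferInstance
    exact (θ.hom.homeomorph.isClosed_image).mpr hcl

theorem exists_etale_nbhd_purelyInseparable [LocallyOfFiniteType f] (s : S)
    {ι : Type} [Finite ι] (x : ι → ↑X) (hs : ∀ i, f (x i) = s)
    (hx : ∀ i, f.QuasiFiniteAt (x i)) :
    ∃ (U : Scheme.{u}) (g : U ⟶ S) (u : U), Etale g ∧ g u = s ∧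
      ∃ (J : ι → Type) (_ : ∀ i, Finite (J i)) (V : ∀ i, J i → (pullback f g).Opens)
        (v : ∀ i, J i → ↑(pullback f g)),
        (∀ i j, IsGoodOpen f g u (x i) (V i j) (v i j)) ∧
        (∀ i j, ((pullback.snd f g).residueFieldMap (v i j)).hom.IsPurelyInseparable) ∧
        (∀ i, Function.Injective (v i)) ∧
        (∀ (w : ↑(pullback f g)) (i : ι), pullback.snd f g w = u → pullback.fst f g w = x i →
          ∃ j, w = v i j) := by
  classical
  -- 1. the fields
  letI algL : ∀ i, Algebra (S.residueField s) (X.residueField (x i)) := fun i ↦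
    ((S.residueFieldCongr (hs i)).inv ≫ f.residueFieldMap (x i)).hom.toAlgebra
  have hfinres : ∀ i, (f.residueFieldMap (x i)).hom.Finite :=
    fun i ↦ finite_residueFieldMap_of_quasiFiniteAt (hx i)
  have finL : ∀ i, FiniteDimensional (S.residueField s) (X.residueField (x i)) := fun i ↦ by
    have : ((S.residueFieldCongr (hs i)).inv ≫ f.residueFieldMap (x i)).hom.Finite := by
      rw [CommRingCat.hom_comp]
      exact (hfinres i).comp (RingHom.Finite.of_surjective _
        (ConcreteCategory.bijective_of_isIso (S.residueFieldCongr (hs i)).inv).surjective)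
    exact this
  obtain ⟨M, _, _, _, _, hM⟩ := exists_finite_separable_splitting (K := S.residueField s)
    (fun i ↦ X.residueField (x i))
  -- 2. enlarge the residue field
  obtain ⟨S', g', s', hs', hg', a, ha, hcomm⟩ := exists_etale_nbhd_residueField S s M
  -- 3. the points over `(x i, s')`
  let T : ι → Triplet f g' := fun i ↦ ⟨x i, s', s, hs i, hs'⟩
  have hArtT : ∀ i, IsArtinianRing (T i).tensor := fun i ↦ isArtinianRing_tensor (T i) (hfinres i)
  have hfinT : ∀ i, Finite (Spec (T i).tensor) := fun i ↦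
    inferInstanceAs (Finite (PrimeSpectrum (T i).tensor))
  let n : ι → ℕ := fun i ↦ Nat.card (Spec (T i).tensor)
  let e : ∀ i, Fin (n i) ≃ Spec (T i).tensor := fun i ↦ (Finite.equivFin _).symm
  let x' : (Σ i, Fin (n i)) → ↑(pullback f g') := fun ij ↦ (T ij.1).SpecTensorTo (e ij.1 ij.2)
  have hx'fst : ∀ ij, pullback.fst f g' (x' ij) = x ij.1 :=
    fun ij ↦ Triplet.fst_SpecTensorTo_apply _ _
  have hx'snd : ∀ ij, pullback.snd f g' (x' ij) = s' :=
    fun ij ↦ Triplet.snd_SpecTensorTo_apply _ _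
  -- 4. the multi-point lemma for the base change
  obtain ⟨U, g, u, hg, hgu, hb, V'', v'', hV''⟩ :=
    exists_etale_nbhd_of_quasiFiniteAt_finite (pullback.snd f g') s' x' hx'snd
      (fun ij ↦ quasiFiniteAt_snd _ (by rw [hx'fst]; exact hx ij.1))
  obtain ⟨hu, a', ha', hcomm'⟩ := residueIso_comp g' g u s' s hgu hs' hb a ha _ hcomm
  set θ := pullbackLeftPullbackSndIso f g' g with hθ
  have hgood : ∀ i (j : Fin (n i)), IsGoodOpen f (g ≫ g') u (x i) (θ.hom ''ᵁ V'' ⟨i, j⟩)
      (θ.hom (v'' ⟨i, j⟩)) := fun i j ↦ by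
    have := (hV'' ⟨i, j⟩).transport g' g u
    rwa [hx'fst] at this
  refine ⟨U, g ≫ g', u, inferInstance, hu, fun i ↦ Fin (n i), fun i ↦ inferInstance,
    fun i j ↦ θ.hom ''ᵁ V'' ⟨i, j⟩, fun i j ↦ θ.hom (v'' ⟨i, j⟩), hgood, ?_, ?_, ?_⟩
  · -- pure inseparability
    intro i j
    let T' : Triplet f (g ≫ g') := ⟨x i, u, s, hs i, hu⟩
    obtain ⟨p, hp⟩ := exists_eq_SpecTensorTo T' (θ.hom (v'' ⟨i, j⟩)) (hgood i j).fst_eq
      (hgood i j).snd_eq
    show ((pullback.snd f (g ≫ g')).residueFieldMap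
      (θ.hom (v'' ⟨i, j⟩))).hom.IsPurelyInseparable
    rw [← hp]
    have hArt : IsArtinianRing T'.tensor := isArtinianRing_tensor T' (hfinres i)
    have hmax : p.asIdeal.IsMaximal := inferInstance
    have hq : ExpChar (S.residueField s) (ringExpChar (S.residueField s)) := ringExpChar.expChar _
    have hq' : ExpChar (U.residueField T'.y) (ringExpChar (S.residueField s)) :=
      expChar_of_injective_ringHom (RingHom.injective
        ((S.residueFieldCongr hu).inv ≫ (g ≫ g').residueFieldMap u).hom) _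
    refine isPurelyInseparable_snd_SpecTensorTo T' p hmax (ringExpChar (S.residueField s)) ?_
    intro F _ lam mu hcompat y
    have hiso : IsIso a' := (ConcreteCategory.isIso_iff_bijective _).mpr ha'
    have h5 : algebraMap (S.residueField s) M =
        ((S.residueFieldCongr hu).inv ≫ (g ≫ g').residueFieldMap u ≫ a').hom := by
      rw [hcomm']; rfl
    have h6 : lam.comp (algebraMap (S.residueField s) (X.residueField (x i))) =
        (mu.comp (inv a').hom).comp (algebraMap (S.residueField s) M) := by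
      rw [h5]
      refine Eq.trans hcompat ?_
      ext z
      simp
      rfl
    obtain ⟨n, m, hm⟩ := hM i F lam (mu.comp (inv a').hom) h6 y
    exact ⟨n, (inv a').hom m, hm⟩
  · -- injectivity
    intro i j j' hjj'
    have h1 : v'' ⟨i, j⟩ = v'' ⟨i, j'⟩ := θ.hom.homeomorph.injective hjj'
    have h2 : x' ⟨i, j⟩ = x' ⟨i, j'⟩ := by
      rw [← (hV'' ⟨i, j⟩).fst_eq, ← (hV'' ⟨i, j'⟩).fst_eq, h1]
    have h3 : (⟨T i, e i j⟩ : Σ T : Triplet f g', Spec T.tensor) = ⟨T i, e i j'⟩ :=
      carrierEquiv.symm.injective h2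
    have h4 : e i j = e i j' := eq_of_heq (Sigma.mk.inj h3).2
    exact (e i).injective h4
  · -- exhaustion
    intro w i hwu hwx
    have hθw : θ.hom (θ.inv w) = w := by
      rw [← Scheme.Hom.comp_apply, Iso.inv_hom_id]; rfl
    have hsnd'' : pullback.snd (pullback.snd f g') g (θ.inv w) = u := by
      rw [← hwu, ← Scheme.Hom.comp_apply, hθ, pullbackLeftPullbackSndIso_inv_snd_snd]
    have h1 : pullback.fst f g' (pullback.fst (pullback.snd f g') g (θ.inv w)) = x i := by
      rw [← hwx, ← Scheme.Hom.comp_apply, ← Scheme.Hom.comp_apply, hθ,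
        pullbackLeftPullbackSndIso_inv_fst]
    have h2 : pullback.snd f g' (pullback.fst (pullback.snd f g') g (θ.inv w)) = s' := by
      rw [← Scheme.Hom.comp_apply, pullback.condition, Scheme.Hom.comp_apply, hsnd'', hgu]
    obtain ⟨p, hp⟩ := exists_eq_SpecTensorTo (T i) _ h1 h2
    refine ⟨(e i).symm p, ?_⟩
    have hx'eq : x' ⟨i, (e i).symm p⟩ = pullback.fst (pullback.snd f g') g (θ.inv w) := by
      simp only [x']
      rw [Equiv.apply_symm_apply]
      exact hp
    have h3 : θ.inv w = v'' ⟨i, (e i).symm p⟩ := by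
      apply eq_of_fst_eq_of_snd_eq
      · rw [hsnd'']; exact hb
      · rw [(hV'' _).fst_eq, hx'eq]
      · rw [hsnd'', (hV'' _).snd_eq]
    show w = θ.hom (v'' ⟨i, (e i).symm p⟩)
    rw [← h3, hθw]

lemma IsGoodOpen.finite_residueFieldMap {U : Scheme.{u}} {g : U ⟶ S} {u : U} {x : X}
    {V : (pullback f g).Opens} {v : ↑(pullback f g)} (h : IsGoodOpen f g u x V v) :
    ((pullback.snd f g).residueFieldMap v).hom.Finite := by
  have h1 : IsFinite (V.ι ≫ pullback.snd f g) := h.finite
  have h2 : (V.ι ≫ pullback.snd f g).QuasiFiniteAt ⟨v, h.mem⟩ := Scheme.Hom.quasiFiniteAt _ _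
  rw [Scheme.Hom.quasiFiniteAt_comp_iff_of_isOpenImmersion] at h2
  exact finite_residueFieldMap_of_quasiFiniteAt h2

end Groth.Agent.Lib.helper13.EL
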