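import Mathlib

/-!
# Fibre integrals via geometric points

`∑_{u ↦ v} w(u) [κ(u):κ(v)]_s` equals the sum of `w` over the lifts of a geometric point.
-/

set_option autoImplicit false

namespace Groth.Agent.Lib.helper13.WT

open AlgebraicGeometry CategoryTheory Limits

universe u

variable {U V : Scheme.{u}} (π : U ⟶ V) (Ω : Type u) [Field Ω]

/-- The condition on a pair `(u, κ(u) → Ω)` to define a lift of `xb`. -/
def LiftCond (xb : Spec (.of Ω) ⟶ V) (p : Σ u : U, U.residueField u ⟶ .of Ω) : Prop :=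
  ∃ e : π p.1 = xb (IsLocalRing.closedPoint Ω),
    π.residueFieldMap p.1 ≫ p.2 =
      (V.residueFieldCongr e).hom ≫ V.descResidueField (Scheme.stalkClosedPointTo xb)

lemma liftCond_of_comp_eq (ℓ : Spec (.of Ω) ⟶ U) (xb : Spec (.of Ω) ⟶ V) (h : ℓ ≫ π = xb) :
    LiftCond π Ω xb (Scheme.SpecToEquivOfField Ω U ℓ) := by
  subst h
  refine ⟨rfl, ?_⟩
  have key := (Scheme.descResidueField_stalkClosedPointTo_comp (f := π) ℓ).symm
  have h2 : (V.residueFieldCongr (rfl : (ℓ ≫ π) (IsLocalRing.closedPoint Ω) = _)).hom ≫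
      V.descResidueField (Scheme.stalkClosedPointTo (ℓ ≫ π)) =
      V.descResidueField (Scheme.stalkClosedPointTo (ℓ ≫ π)) := by
    rw [Scheme.residueFieldCongr_refl, Iso.refl_hom, Category.id_comp]
  exact key.trans h2.symm

lemma comp_eq_of_liftCond (xb : Spec (.of Ω) ⟶ V) (p : Σ u : U, U.residueField u ⟶ .of Ω)
    (h : LiftCond π Ω xb p) : (Scheme.SpecToEquivOfField Ω U).symm p ≫ π = xb := by
  obtain ⟨e, he⟩ := h
  show (Spec.map p.2 ≫ U.fromSpecResidueField p.1) ≫ π = xb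
  rw [Category.assoc, ← Scheme.Hom.SpecMap_residueFieldMap_fromSpecResidueField, ← Category.assoc,
    ← Spec.map_comp, he, Spec.map_comp, Category.assoc,
    Scheme.residueFieldCongr_fromSpecResidueField]
  exact Scheme.descResidueField_stalkClosedPointTo_fromSpecResidueField Ω V xb

/-- Lifts of a geometric point correspond to pairs satisfying `LiftCond`. -/
noncomputable def liftsEquiv (xb : Spec (.of Ω) ⟶ V) :
    {ℓ : Spec (.of Ω) ⟶ U // ℓ ≫ π = xb} ≃
      {p : Σ u : U, U.residueField u ⟶ .of Ω // LiftCond π Ω xb p} :=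
  (Scheme.SpecToEquivOfField Ω U).subtypeEquiv (fun ℓ ↦
    ⟨liftCond_of_comp_eq π Ω ℓ xb, fun h ↦ by
      have := comp_eq_of_liftCond π Ω xb _ h
      rwa [Equiv.symm_apply_apply] at this⟩)

/-- Embeddings of `κ(u)` into `Ω` compatible with the geometric point `xb`. -/
def Emb (xb : Spec (.of Ω) ⟶ V) (u : {u : U // π u = xb (IsLocalRing.closedPoint Ω)}) : Type u :=
  {b : U.residueField u.1 ⟶ .of Ω // π.residueFieldMap u.1 ≫ b =
    (V.residueFieldCongr u.2).hom ≫ V.descResidueField (Scheme.stalkClosedPointTo xb)}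

/-- Regrouping pairs satisfying `LiftCond` by the point. -/
noncomputable def sigmaEquiv (xb : Spec (.of Ω) ⟶ V) :
    {p : Σ u : U, U.residueField u ⟶ .of Ω // LiftCond π Ω xb p} ≃
      Σ u : {u : U // π u = xb (IsLocalRing.closedPoint Ω)}, Emb π Ω xb u where
  toFun p := ⟨⟨p.1.1, p.2.choose⟩, ⟨p.1.2, p.2.choose_spec⟩⟩
  invFun q := ⟨⟨q.1.1, q.2.1⟩, ⟨q.1.2, q.2.2⟩⟩
  left_inv p := rfl
  right_inv q := rfl

/-- The total equivalence. -/
noncomputable def liftsSigmaEquiv (xb : Spec (.of Ω) ⟶ V) :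
    {ℓ : Spec (.of Ω) ⟶ U // ℓ ≫ π = xb} ≃
      Σ u : {u : U // π u = xb (IsLocalRing.closedPoint Ω)}, Emb π Ω xb u :=
  (liftsEquiv π Ω xb).trans (sigmaEquiv π Ω xb)

lemma liftsSigmaEquiv_fst (xb : Spec (.of Ω) ⟶ V) (ℓ : {ℓ : Spec (.of Ω) ⟶ U // ℓ ≫ π = xb}) :
    ((liftsSigmaEquiv π Ω xb ℓ).1 : U) = ℓ.1 (IsLocalRing.closedPoint Ω) := rfl

variable [IsAlgClosed Ω]

lemma card_emb (xb : Spec (.of Ω) ⟶ V) (u : {u : U // π u = xb (IsLocalRing.closedPoint Ω)})
    (hfin : (π.residueFieldMap u.1).hom.Finite) :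
    letI := (π.residueFieldMap u.1).hom.toAlgebra
    Nat.card (Emb π Ω xb u) = Field.finSepDegree (V.residueField (π u.1)) (U.residueField u.1) := by
  letI := (π.residueFieldMap u.1).hom.toAlgebra
  letI : Algebra (V.residueField (π u.1)) Ω :=
    ((V.residueFieldCongr u.2).hom ≫ V.descResidueField (Scheme.stalkClosedPointTo xb)).hom.toAlgebra
  have : Module.Finite (V.residueField (π u.1)) (U.residueField u.1) := hfin
  rw [Field.finSepDegree_eq_of_isAlgClosed (V.residueField (π u.1)) (U.residueField u.1) Ω]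
  refine Nat.card_congr
    { toFun := fun b ↦ { b.1.hom with commutes' := fun r ↦ congrArg (fun k ↦ k.hom r) b.2 }
      invFun := fun φ ↦ ⟨CommRingCat.ofHom φ.toRingHom, by ext r; exact φ.commutes r⟩
      left_inv := fun b ↦ rfl
      right_inv := fun φ ↦ rfl }

/-- **Fibre integrals via geometric points.** -/
theorem fibreIntegral_eq_finsum_lifts_aux (w : U → ℤ) (xb : Spec (.of Ω) ⟶ V)
    (hfib : (π ⁻¹' {xb (IsLocalRing.closedPoint Ω)}).Finite)
    (hres : ∀ u, π u = xb (IsLocalRing.closedPoint Ω) → (π.residueFieldMap u).hom.Finite) :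
    (∑ᶠ u : {u : U // π u = xb (IsLocalRing.closedPoint Ω)}, w u.1 *
      (letI := (π.residueFieldMap u.1).hom.toAlgebra;
        (Field.finSepDegree (V.residueField (π u.1)) (U.residueField u.1) : ℤ))) =
    ∑ᶠ ℓ : {ℓ : Spec (.of Ω) ⟶ U // ℓ ≫ π = xb}, w (ℓ.1 (IsLocalRing.closedPoint Ω)) := by
  classical
  have hF : Finite {u : U // π u = xb (IsLocalRing.closedPoint Ω)} := hfib.to_subtype
  have hcard : ∀ u : {u : U // π u = xb (IsLocalRing.closedPoint Ω)},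
      Nat.card (Emb π Ω xb u) ≠ 0 := by
    intro u
    rw [card_emb π Ω xb u (hres u.1 u.2)]
    letI := (π.residueFieldMap u.1).hom.toAlgebra
    have : Module.Finite (V.residueField (π u.1)) (U.residueField u.1) := hres u.1 u.2
    exact NeZero.ne _
  have hE : ∀ u, Finite (Emb π Ω xb u) := fun u ↦ Nat.finite_of_card_ne_zero (hcard u)
  have := Fintype.ofFinite {u : U // π u = xb (IsLocalRing.closedPoint Ω)}
  have := fun u ↦ Fintype.ofFinite (Emb π Ω xb u)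
  have h1 : ∑ᶠ ℓ : {ℓ : Spec (.of Ω) ⟶ U // ℓ ≫ π = xb}, w (ℓ.1 (IsLocalRing.closedPoint Ω)) =
      ∑ᶠ q : (Σ u : {u : U // π u = xb (IsLocalRing.closedPoint Ω)}, Emb π Ω xb u), w q.1.1 :=
    finsum_comp_equiv (liftsSigmaEquiv π Ω xb) (f := fun q ↦ w q.1.1)
  rw [h1, finsum_eq_sum_of_fintype, finsum_eq_sum_of_fintype, Fintype.sum_sigma]
  refine Finset.sum_congr rfl fun u _ ↦ ?_
  have h2 : ∑ _y : Emb π Ω xb u, w u.1 = (Nat.card (Emb π Ω xb u) : ℤ) * w u.1 := by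
    rw [Finset.sum_const, Finset.card_univ, ← Nat.card_eq_fintype_card, nsmul_eq_mul]
  show _ = ∑ _y : Emb π Ω xb u, w u.1
  rw [h2, card_emb π Ω xb u (hres u.1 u.2), mul_comm]

/-- **Fibre integrals via geometric points**, with a free base point. -/
theorem fibreIntegral_eq_finsum_lifts (w : U → ℤ) (xb : Spec (.of Ω) ⟶ V) (v : V)
    (hv : xb (IsLocalRing.closedPoint Ω) = v)
    (hfib : (π ⁻¹' {v}).Finite)
    (hres : ∀ u, π u = v → (π.residueFieldMap u).hom.Finite) :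
    (∑ᶠ u : {u : U // π u = v}, w u.1 *
      (letI := (π.residueFieldMap u.1).hom.toAlgebra;
        (Field.finSepDegree (V.residueField (π u.1)) (U.residueField u.1) : ℤ))) =
    ∑ᶠ ℓ : {ℓ : Spec (.of Ω) ⟶ U // ℓ ≫ π = xb}, w (ℓ.1 (IsLocalRing.closedPoint Ω)) := by
  subst hv
  exact fibreIntegral_eq_finsum_lifts_aux π Ω w xb hfib hres

omit [IsAlgClosed Ω] in
/-- Lifts of a geometric point along a pullback square. -/
noncomputable def liftsEquivOfIsPullback {U₁ V₁ U₂ V₂ : Scheme.{u}} {a : U₁ ⟶ U₂} {π₁ : U₁ ⟶ V₁}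
    {π₂ : U₂ ⟶ V₂} {b : V₁ ⟶ V₂} (sq : IsPullback a π₁ π₂ b) (xb : Spec (.of Ω) ⟶ V₁) :
    {ℓ : Spec (.of Ω) ⟶ U₁ // ℓ ≫ π₁ = xb} ≃ {ℓ : Spec (.of Ω) ⟶ U₂ // ℓ ≫ π₂ = xb ≫ b} where
  toFun ℓ := ⟨ℓ.1 ≫ a, by rw [Category.assoc, sq.w, ← Category.assoc, ℓ.2]⟩
  invFun ℓ := ⟨sq.lift ℓ.1 xb ℓ.2, sq.lift_snd _ _ _⟩
  left_inv ℓ := by
    apply Subtype.ext
    apply sq.hom_ext
    · simp
    · simp [ℓ.2]
  right_inv ℓ := by
    apply Subtype.ext
    simp

end Groth.Agent.Lib.helper13.WT
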