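import Mathlib
import Groth.Agent.Lib.Helper13.WT1
import Groth.Agent.Lib.Helper13.EL8

/-!
# Geometric fibre integrals over opens, and a decomposition lemma
-/

set_option autoImplicit false

namespace Groth.Agent.Lib.helper13.WT

open AlgebraicGeometry CategoryTheory Limits

universe u

section Geom

variable {P V : Scheme.{u}} (π : P ⟶ V) (Ω : Type u) [Field Ω]

/-- Finiteness of the set of lifts of a geometric point. -/
lemma finite_lifts [IsAlgClosed Ω] (xb : Spec (.of Ω) ⟶ V)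
    (hfib : (π ⁻¹' {xb (IsLocalRing.closedPoint Ω)}).Finite)
    (hres : ∀ u, π u = xb (IsLocalRing.closedPoint Ω) → (π.residueFieldMap u).hom.Finite) :
    Finite {ℓ : Spec (.of Ω) ⟶ P // ℓ ≫ π = xb} := by
  have hF : Finite {u : P // π u = xb (IsLocalRing.closedPoint Ω)} := hfib.to_subtype
  have hE : ∀ u, Finite (Emb π Ω xb u) := fun u ↦ by
    apply Nat.finite_of_card_ne_zero
    rw [card_emb π Ω xb u (hres u.1 u.2)]
    letI := (π.residueFieldMap u.1).hom.toAlgebra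
    have : Module.Finite (V.residueField (π u.1)) (P.residueField u.1) := hres u.1 u.2
    exact NeZero.ne _
  exact Finite.of_equiv _ (liftsSigmaEquiv π Ω xb).symm

/-- The geometric fibre integral over an open: the sum of `w` over the lifts of the geometric
point `xb` landing in `A`. -/
noncomputable def geomIntegral (A : P.Opens) (w : P → ℤ) (xb : Spec (.of Ω) ⟶ V) : ℤ :=
  ∑ᶠ ℓ : {ℓ : Spec (.of Ω) ⟶ P // ℓ ≫ π = xb ∧ ℓ (IsLocalRing.closedPoint Ω) ∈ A},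
    w (ℓ.1 (IsLocalRing.closedPoint Ω))

lemma eq_closedPoint (z : Spec (.of Ω)) : z = IsLocalRing.closedPoint Ω :=
  Subsingleton.elim (α := PrimeSpectrum Ω) _ _

/-- Lifts to an open subscheme. -/
noncomputable def liftsOpenEquiv (A : P.Opens) (xb : Spec (.of Ω) ⟶ V) :
    {ℓ : Spec (.of Ω) ⟶ A.toScheme // ℓ ≫ (A.ι ≫ π) = xb} ≃
    {ℓ : Spec (.of Ω) ⟶ P // ℓ ≫ π = xb ∧ ℓ (IsLocalRing.closedPoint Ω) ∈ A} where
  toFun ℓ := ⟨ℓ.1 ≫ A.ι, by rw [Category.assoc]; exact ℓ.2,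
    (ℓ.1 (IsLocalRing.closedPoint Ω)).2⟩
  invFun ℓ := ⟨IsOpenImmersion.lift A.ι ℓ.1 (by
      rintro _ ⟨z, rfl⟩
      rw [eq_closedPoint Ω z, Scheme.Opens.range_ι]
      exact ℓ.2.2), by
      rw [← Category.assoc, IsOpenImmersion.lift_fac]; exact ℓ.2.1⟩
  left_inv ℓ := by
    apply Subtype.ext
    rw [← cancel_mono A.ι]
    simp [IsOpenImmersion.lift_fac]
  right_inv ℓ := by
    apply Subtype.ext
    simp [IsOpenImmersion.lift_fac]

/-- The fibre integral along a finite `A → V` as a geometric integral. -/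
theorem fibreIntegral_eq_geomIntegral [IsAlgClosed Ω] (A : P.Opens) (w : P → ℤ)
    (xb : Spec (.of Ω) ⟶ V) (v : V) (hv : xb (IsLocalRing.closedPoint Ω) = v)
    [IsFinite (A.ι ≫ π)] :
    (∑ᶠ t : {t : A.toScheme // (A.ι ≫ π) t = v}, w (A.ι t.1) *
      (letI := ((A.ι ≫ π).residueFieldMap t.1).hom.toAlgebra;
        (Field.finSepDegree (V.residueField ((A.ι ≫ π) t.1)) (A.toScheme.residueField t.1) : ℤ))) =
    geomIntegral π Ω A w xb := by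
  rw [fibreIntegral_eq_finsum_lifts (A.ι ≫ π) Ω (fun t ↦ w (A.ι t)) xb v hv
    (Scheme.Hom.finite_preimage_singleton _ _)
    (fun t _ ↦ EL.finite_residueFieldMap_of_quasiFiniteAt ((A.ι ≫ π).quasiFiniteAt t))]
  exact finsum_comp_equiv (liftsOpenEquiv π Ω A xb)
    (f := fun ℓ ↦ w (ℓ.1 (IsLocalRing.closedPoint Ω)))

/-- Finiteness of the lifts into an open finite over the base. -/
lemma finite_lifts_open [IsAlgClosed Ω] (A : P.Opens) (xb : Spec (.of Ω) ⟶ V)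
    [IsFinite (A.ι ≫ π)] :
    Finite {ℓ : Spec (.of Ω) ⟶ P // ℓ ≫ π = xb ∧ ℓ (IsLocalRing.closedPoint Ω) ∈ A} := by
  have := finite_lifts (A.ι ≫ π) Ω xb (Scheme.Hom.finite_preimage_singleton _ _)
    (fun t _ ↦ EL.finite_residueFieldMap_of_quasiFiniteAt ((A.ι ≫ π).quasiFiniteAt t))
  exact Finite.of_equiv _ (liftsOpenEquiv π Ω A xb)

omit [Field Ω] in
/-- Invariance of geometric integrals under pullback squares. -/
theorem geomIntegral_of_isPullback [Field Ω] {U₁ V₁ U₂ V₂ : Scheme.{u}} {a : U₁ ⟶ U₂}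
    {π₁ : U₁ ⟶ V₁} {π₂ : U₂ ⟶ V₂} {b : V₁ ⟶ V₂} (sq : IsPullback a π₁ π₂ b) (A : U₂.Opens)
    (w : U₂ → ℤ) (xb : Spec (.of Ω) ⟶ V₁) :
    geomIntegral π₁ Ω (a ⁻¹ᵁ A) (fun p ↦ w (a p)) xb = geomIntegral π₂ Ω A w (xb ≫ b) := by
  unfold geomIntegral
  let e : {ℓ : Spec (.of Ω) ⟶ U₁ // ℓ ≫ π₁ = xb ∧ ℓ (IsLocalRing.closedPoint Ω) ∈ a ⁻¹ᵁ A} ≃
      {ℓ : Spec (.of Ω) ⟶ U₂ // ℓ ≫ π₂ = xb ≫ b ∧ ℓ (IsLocalRing.closedPoint Ω) ∈ A} :=
    { toFun := fun ℓ ↦ ⟨ℓ.1 ≫ a, by rw [Category.assoc, sq.w, ← Category.assoc, ℓ.2.1], ℓ.2.2⟩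
      invFun := fun ℓ ↦ ⟨sq.lift ℓ.1 xb ℓ.2.1, sq.lift_snd _ _ _, by
        show a (sq.lift ℓ.1 xb ℓ.2.1 (IsLocalRing.closedPoint Ω)) ∈ A
        have h := sq.lift_fst ℓ.1 xb ℓ.2.1
        have h2 : a (sq.lift ℓ.1 xb ℓ.2.1 (IsLocalRing.closedPoint Ω)) =
          ℓ.1 (IsLocalRing.closedPoint Ω) := by
          rw [← Scheme.Hom.comp_apply, h]
        rw [h2]
        exact ℓ.2.2⟩
      left_inv := fun ℓ ↦ by
        apply Subtype.ext
        apply sq.hom_ext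
        · simp
        · simp [ℓ.2.1]
      right_inv := fun ℓ ↦ by
        apply Subtype.ext
        simp }
  exact finsum_comp_equiv e (f := fun ℓ ↦ w (ℓ.1 (IsLocalRing.closedPoint Ω)))

/-- Decomposition of a geometric integral. -/
theorem geomIntegral_eq_sum {σ : Type*} [Fintype σ] (A : P.Opens) (B : σ → P.Opens) (w : P → ℤ)
    (xb : Spec (.of Ω) ⟶ V)
    (hfin : ∀ s, Finite {ℓ : Spec (.of Ω) ⟶ P //
      ℓ ≫ π = xb ∧ ℓ (IsLocalRing.closedPoint Ω) ∈ B s})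
    (hcov : ∀ p, π p = xb (IsLocalRing.closedPoint Ω) → (p ∈ A ↔ ∃ s, p ∈ B s))
    (hdisj : ∀ p, π p = xb (IsLocalRing.closedPoint Ω) → ∀ s s', p ∈ B s → p ∈ B s' → s = s') :
    geomIntegral π Ω A w xb = ∑ s, geomIntegral π Ω (B s) w xb := by
  unfold geomIntegral
  have key : ∀ C : P.Opens,
      (∑ᶠ ℓ : {ℓ : Spec (.of Ω) ⟶ P // ℓ ≫ π = xb ∧ ℓ (IsLocalRing.closedPoint Ω) ∈ C},
        w (ℓ.1 (IsLocalRing.closedPoint Ω))) =
      ∑ᶠ ℓ ∈ {ℓ : Spec (.of Ω) ⟶ P | ℓ ≫ π = xb ∧ ℓ (IsLocalRing.closedPoint Ω) ∈ C},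
        w (ℓ (IsLocalRing.closedPoint Ω)) := fun C ↦
    finsum_set_coe_eq_finsum_mem
      (s := {ℓ : Spec (.of Ω) ⟶ P | ℓ ≫ π = xb ∧ ℓ (IsLocalRing.closedPoint Ω) ∈ C})
      (f := fun ℓ ↦ w (ℓ (IsLocalRing.closedPoint Ω)))
  have hpt : ∀ ℓ : Spec (.of Ω) ⟶ P, ℓ ≫ π = xb →
      π (ℓ (IsLocalRing.closedPoint Ω)) = xb (IsLocalRing.closedPoint Ω) := by
    intro ℓ h
    rw [← Scheme.Hom.comp_apply, h]
  have hU : {ℓ : Spec (.of Ω) ⟶ P | ℓ ≫ π = xb ∧ ℓ (IsLocalRing.closedPoint Ω) ∈ A} =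
      ⋃ s, {ℓ : Spec (.of Ω) ⟶ P | ℓ ≫ π = xb ∧ ℓ (IsLocalRing.closedPoint Ω) ∈ B s} := by
    ext ℓ
    simp only [Set.mem_setOf_eq, Set.mem_iUnion]
    constructor
    · rintro ⟨h1, h2⟩
      obtain ⟨s, hs⟩ := (hcov _ (hpt ℓ h1)).mp h2
      exact ⟨s, h1, hs⟩
    · rintro ⟨s, h1, hs⟩
      exact ⟨h1, (hcov _ (hpt ℓ h1)).mpr ⟨s, hs⟩⟩
  rw [key A, hU, finsum_mem_iUnion, finsum_eq_sum_of_fintype]
  · exact Finset.sum_congr rfl fun s _ ↦ (key (B s)).symm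
  · intro s s' hss'
    rw [Function.onFun, Set.disjoint_left]
    rintro ℓ ⟨h1, h2⟩ ⟨_, h3⟩
    exact hss' (hdisj _ (hpt ℓ h1) s s' h2 h3)
  · intro s
    exact Set.finite_coe_iff.mp (hfin s)
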