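import Mathlib
import Groth.Agent.Lib.Helper13.WT2

/-!
# Geometric fibre integrals: the whole space, inequalities
-/

set_option autoImplicit false

namespace Groth.Agent.Lib.helper13.WT

open AlgebraicGeometry CategoryTheory Limits

universe u

section

variable (Ω : Type u) [Field Ω]

/-- Lifts landing in an open, along a pullback square. -/
noncomputable def liftsMemEquiv {U₁ V₁ U₂ V₂ : Scheme.{u}} {a : U₁ ⟶ U₂}
    {π₁ : U₁ ⟶ V₁} {π₂ : U₂ ⟶ V₂} {b : V₁ ⟶ V₂} (sq : IsPullback a π₁ π₂ b) (A : U₂.Opens)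
    (xb : Spec (.of Ω) ⟶ V₁) :
    {ℓ : Spec (.of Ω) ⟶ U₁ // ℓ ≫ π₁ = xb ∧ ℓ (IsLocalRing.closedPoint Ω) ∈ a ⁻¹ᵁ A} ≃
      {ℓ : Spec (.of Ω) ⟶ U₂ // ℓ ≫ π₂ = xb ≫ b ∧ ℓ (IsLocalRing.closedPoint Ω) ∈ A} :=
  { toFun := fun ℓ ↦ ⟨ℓ.1 ≫ a, by rw [Category.assoc, sq.w, ← Category.assoc, ℓ.2.1], ℓ.2.2⟩
    invFun := fun ℓ ↦ ⟨sq.lift ℓ.1 xb ℓ.2.1, sq.lift_snd _ _ _, by
      show a (sq.lift ℓ.1 xb ℓ.2.1 (IsLocalRing.closedPoint Ω)) ∈ A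
      have h := sq.lift_fst ℓ.1 xb ℓ.2.1
      have h2 : a (sq.lift ℓ.1 xb ℓ.2.1 (IsLocalRing.closedPoint Ω)) =
        ℓ.1 (IsLocalRing.closedPoint Ω) := by
        rw [← Scheme.Hom.comp_apply, h]
      rw [h2]
      exact ℓ.2.2⟩
    left_inv := fun ℓ ↦ by
      apply Subtype.ext
      apply sq.hom_ext
      · simp
      · simp [ℓ.2.1]
    right_inv := fun ℓ ↦ by
      apply Subtype.ext
      simp }

variable {P V : Scheme.{u}} (π : P ⟶ V)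

/-- Lifts landing in `⊤`. -/
def liftsTopEquiv (xb : Spec (.of Ω) ⟶ V) :
    {ℓ : Spec (.of Ω) ⟶ P // ℓ ≫ π = xb} ≃
      {ℓ : Spec (.of Ω) ⟶ P // ℓ ≫ π = xb ∧ ℓ (IsLocalRing.closedPoint Ω) ∈ (⊤ : P.Opens)} where
  toFun ℓ := ⟨ℓ.1, ℓ.2, trivial⟩
  invFun ℓ := ⟨ℓ.1, ℓ.2.1⟩
  left_inv _ := rfl
  right_inv _ := rfl

/-- The fibre integral along a morphism with a finite fibre as a geometric integral. -/
theorem fibreIntegral_eq_geomIntegral_top [IsAlgClosed Ω] (w : P → ℤ)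
    (xb : Spec (.of Ω) ⟶ V) (v : V) (hv : xb (IsLocalRing.closedPoint Ω) = v)
    (hfib : (π ⁻¹' {v}).Finite) (hres : ∀ p, π p = v → (π.residueFieldMap p).hom.Finite) :
    (∑ᶠ t : {t : P // π t = v}, w t.1 *
      (letI := (π.residueFieldMap t.1).hom.toAlgebra;
        (Field.finSepDegree (V.residueField (π t.1)) (P.residueField t.1) : ℤ))) =
    geomIntegral π Ω ⊤ w xb := by
  rw [fibreIntegral_eq_finsum_lifts π Ω w xb v hv hfib hres]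
  exact finsum_comp_equiv (liftsTopEquiv Ω π xb)
    (f := fun ℓ ↦ w (ℓ.1 (IsLocalRing.closedPoint Ω)))

lemma finite_lifts_top [IsAlgClosed Ω] (xb : Spec (.of Ω) ⟶ V)
    (hfib : (π ⁻¹' {xb (IsLocalRing.closedPoint Ω)}).Finite)
    (hres : ∀ p, π p = xb (IsLocalRing.closedPoint Ω) → (π.residueFieldMap p).hom.Finite) :
    Finite {ℓ : Spec (.of Ω) ⟶ P //
      ℓ ≫ π = xb ∧ ℓ (IsLocalRing.closedPoint Ω) ∈ (⊤ : P.Opens)} := by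
  have := finite_lifts π Ω xb hfib hres
  exact Finite.of_equiv _ (liftsTopEquiv Ω π xb)

/-- Sub-additivity of geometric integrals of nonnegative functions. -/
theorem sum_geomIntegral_le {σ : Type*} [Fintype σ] (A : P.Opens) (B : σ → P.Opens) (w : P → ℤ)
    (xb : Spec (.of Ω) ⟶ V)
    (hfinA : Finite {ℓ : Spec (.of Ω) ⟶ P //
      ℓ ≫ π = xb ∧ ℓ (IsLocalRing.closedPoint Ω) ∈ A})
    (hsub : ∀ p, π p = xb (IsLocalRing.closedPoint Ω) → ∀ s, p ∈ B s → p ∈ A)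
    (hdisj : ∀ p, π p = xb (IsLocalRing.closedPoint Ω) → ∀ s s', p ∈ B s → p ∈ B s' → s = s')
    (hpos : ∀ p, 0 ≤ w p) :
    ∑ s, geomIntegral π Ω (B s) w xb ≤ geomIntegral π Ω A w xb := by
  unfold geomIntegral
  have key : ∀ C : P.Opens,
      (∑ᶠ ℓ : {ℓ : Spec (.of Ω) ⟶ P // ℓ ≫ π = xb ∧ ℓ (IsLocalRing.closedPoint Ω) ∈ C},
        w (ℓ.1 (IsLocalRing.closedPoint Ω))) =
      ∑ᶠ ℓ ∈ {ℓ : Spec (.of Ω) ⟶ P | ℓ ≫ π = xb ∧ ℓ (IsLocalRing.closedPoint Ω) ∈ C},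
        w (ℓ (IsLocalRing.closedPoint Ω)) := fun C ↦
    finsum_set_coe_eq_finsum_mem
      (s := {ℓ : Spec (.of Ω) ⟶ P | ℓ ≫ π = xb ∧ ℓ (IsLocalRing.closedPoint Ω) ∈ C})
      (f := fun ℓ ↦ w (ℓ (IsLocalRing.closedPoint Ω)))
  have hpt : ∀ ℓ : Spec (.of Ω) ⟶ P, ℓ ≫ π = xb →
      π (ℓ (IsLocalRing.closedPoint Ω)) = xb (IsLocalRing.closedPoint Ω) := by
    intro ℓ h
    rw [← Scheme.Hom.comp_apply, h]
  set SA := {ℓ : Spec (.of Ω) ⟶ P | ℓ ≫ π = xb ∧ ℓ (IsLocalRing.closedPoint Ω) ∈ A} with hSA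
  set SB : σ → Set (Spec (.of Ω) ⟶ P) := fun s ↦
    {ℓ : Spec (.of Ω) ⟶ P | ℓ ≫ π = xb ∧ ℓ (IsLocalRing.closedPoint Ω) ∈ B s} with hSB
  have hSAfin : SA.Finite := Set.finite_coe_iff.mp hfinA
  have hsubset : ∀ s, SB s ⊆ SA := fun s ℓ hℓ ↦ ⟨hℓ.1, hsub _ (hpt ℓ hℓ.1) s hℓ.2⟩
  have hSBfin : ∀ s, (SB s).Finite := fun s ↦ hSAfin.subset (hsubset s)
  have hU : ∑ᶠ ℓ ∈ ⋃ s, SB s, w (ℓ (IsLocalRing.closedPoint Ω)) =
      ∑ s, ∑ᶠ ℓ ∈ SB s, w (ℓ (IsLocalRing.closedPoint Ω)) := by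
    rw [finsum_mem_iUnion, finsum_eq_sum_of_fintype]
    · intro s s' hss'
      rw [Function.onFun, Set.disjoint_left]
      rintro ℓ ⟨h1, h2⟩ ⟨_, h3⟩
      exact hss' (hdisj _ (hpt ℓ h1) s s' h2 h3)
    · exact hSBfin
  have hUsub : (⋃ s, SB s) ⊆ SA := Set.iUnion_subset hsubset
  have hsplit := finsum_mem_inter_add_sdiff (f := fun ℓ : Spec (.of Ω) ⟶ P ↦
    w (ℓ (IsLocalRing.closedPoint Ω))) (⋃ s, SB s) hSAfin
  rw [Set.inter_eq_right.mpr hUsub] at hsplit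
  have hnonneg : 0 ≤ ∑ᶠ ℓ ∈ SA \ ⋃ s, SB s, w (ℓ (IsLocalRing.closedPoint Ω)) :=
    finsum_nonneg fun ℓ ↦ finsum_nonneg fun _ ↦ hpos _
  calc ∑ s, ∑ᶠ ℓ : {ℓ : Spec (.of Ω) ⟶ P // ℓ ≫ π = xb ∧ ℓ (IsLocalRing.closedPoint Ω) ∈ B s},
        w (ℓ.1 (IsLocalRing.closedPoint Ω))
      = ∑ s, ∑ᶠ ℓ ∈ SB s, w (ℓ (IsLocalRing.closedPoint Ω)) :=
        Finset.sum_congr rfl fun s _ ↦ key (B s)
    _ = ∑ᶠ ℓ ∈ ⋃ s, SB s, w (ℓ (IsLocalRing.closedPoint Ω)) := hU.symm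
    _ ≤ ∑ᶠ ℓ ∈ SA, w (ℓ (IsLocalRing.closedPoint Ω)) := by
        rw [← hsplit]; exact le_add_of_nonneg_right hnonneg
    _ = _ := (key A).symm

end

end Groth.Agent.Lib.helper13.WT

namespace Groth.Agent.Lib.helper13.WT

open AlgebraicGeometry CategoryTheory Limits

universe u

/-- Every point is the image of a geometric point. -/
lemma exists_geometric_point {V : Scheme.{u}} (v : V) :
    ∃ (Ω : Type u) (_ : Field Ω) (_ : IsAlgClosed Ω) (xb : Spec (.of Ω) ⟶ V),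
      xb (IsLocalRing.closedPoint Ω) = v := by
  refine ⟨AlgebraicClosure (V.residueField v), inferInstance, inferInstance,
    Spec.map (CommRingCat.ofHom (algebraMap (V.residueField v)
      (AlgebraicClosure (V.residueField v)))) ≫ V.fromSpecResidueField v, ?_⟩
  rw [Scheme.Hom.comp_apply]
  exact Scheme.fromSpecResidueField_apply _ _

end Groth.Agent.Lib.helper13.WT
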