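import Mathlib
import Groth.Prelude.Def_MoreMor
import Groth.Agent.Lib.Helper13.WT2
import Groth.Agent.Lib.Helper13.WT5
import Groth.Agent.Lib.Helper13.EL8

/-!
# Composition of weightings: the core computation
-/

set_option autoImplicit false

namespace Groth.Agent.Lib.helper13.WT

open AlgebraicGeometry CategoryTheory Limits

universe u

/-- Existence of points in pullback squares. -/
lemma exists_preimage_of_isPullback {U₁ V₁ U₂ V₂ : Scheme.{u}} {a : U₁ ⟶ U₂}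
    {π₁ : U₁ ⟶ V₁} {π₂ : U₂ ⟶ V₂} {b : V₁ ⟶ V₂} (sq : IsPullback a π₁ π₂ b) (u₂ : U₂) (v₁ : V₁)
    (h : π₂ u₂ = b v₁) : ∃ u₁ : U₁, a u₁ = u₂ ∧ π₁ u₁ = v₁ := by
  obtain ⟨z, hz1, hz2⟩ := Scheme.Pullback.exists_preimage_pullback u₂ v₁ h
  refine ⟨sq.isoPullback.inv z, ?_, ?_⟩
  · rw [← Scheme.Hom.comp_apply, sq.isoPullback_inv_fst, hz1]
  · rw [← Scheme.Hom.comp_apply, sq.isoPullback_inv_snd, hz2]

section MapComp

variable {X Y Z W : Scheme.{u}} (f : X ⟶ Y) (g : Y ⟶ Z) (gW : W ⟶ Z)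

/-- The map `X ×_Z W ⟶ Y ×_Z W` induced by `f`. -/
noncomputable def mapComp : pullback (f ≫ g) gW ⟶ pullback g gW :=
  pullback.map (f ≫ g) gW g gW f (𝟙 W) (𝟙 Z) (by simp) (by simp)

@[reassoc]
lemma mapComp_fst : mapComp f g gW ≫ pullback.fst g gW = pullback.fst (f ≫ g) gW ≫ f := by
  unfold mapComp pullback.map
  rw [pullback.lift_fst]

@[reassoc]
lemma mapComp_snd : mapComp f g gW ≫ pullback.snd g gW = pullback.snd (f ≫ g) gW := by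
  unfold mapComp pullback.map
  rw [pullback.lift_snd, Category.comp_id]

lemma mapComp_fst_apply (p : ↑(pullback (f ≫ g) gW)) :
    pullback.fst g gW (mapComp f g gW p) = f (pullback.fst (f ≫ g) gW p) := by
  rw [← Scheme.Hom.comp_apply, mapComp_fst, Scheme.Hom.comp_apply]

lemma mapComp_snd_apply (p : ↑(pullback (f ≫ g) gW)) :
    pullback.snd g gW (mapComp f g gW p) = pullback.snd (f ≫ g) gW p := by
  rw [← Scheme.Hom.comp_apply, mapComp_snd]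

lemma isPullback_mapComp :
    IsPullback (pullback.fst (f ≫ g) gW) (mapComp f g gW) f (pullback.fst g gW) := by
  have right : IsPullback (pullback.snd g gW) (pullback.fst g gW) gW g :=
    (IsPullback.of_hasPullback g gW).flip
  refine (IsPullback.of_right (h₁₁ := mapComp f g gW) (h₁₂ := pullback.snd g gW)
    (v₁₁ := pullback.fst (f ≫ g) gW) (v₁₂ := pullback.fst g gW) (v₁₃ := gW)
    (h₂₁ := f) (h₂₂ := g) ?_ (mapComp_fst f g gW) right).flip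
  rw [mapComp_snd]
  exact (IsPullback.of_hasPullback (f ≫ g) gW).flip

/-- Naturality of `mapComp` with respect to refinement of the base. -/
lemma refineMap_mapComp {W' : Scheme.{u}} (c : W' ⟶ W) (gW' : W' ⟶ Z) (hgW' : c ≫ gW = gW') :
    EL.refineMap (f ≫ g) gW c gW' hgW' ≫ mapComp f g gW =
      mapComp f g gW' ≫ EL.refineMap g gW c gW' hgW' := by
  apply pullback.hom_ext
  · rw [Category.assoc, mapComp_fst, EL.refineMap_fst_assoc, Category.assoc, EL.refineMap_fst,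
      mapComp_fst]
  · rw [Category.assoc, mapComp_snd, EL.refineMap_snd, Category.assoc, EL.refineMap_snd,
      mapComp_snd_assoc]

end MapComp

section Fubini

variable {P Q W : Scheme.{u}} (φ : P ⟶ Q) (πQ : Q ⟶ W) (Ω : Type u) [Field Ω]

/-- **Fubini** for geometric integrals. -/
theorem geomIntegral_comp (B : P.Opens) (C : Q.Opens) (hBC : ∀ p ∈ B, φ p ∈ C)
    (wP : P → ℤ) (wQ : Q → ℤ) (xb : Spec (.of Ω) ⟶ W)
    (hfinB : Finite {ℓ : Spec (.of Ω) ⟶ P //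
      ℓ ≫ (φ ≫ πQ) = xb ∧ ℓ (IsLocalRing.closedPoint Ω) ∈ B})
    (hfinC : Finite {m : Spec (.of Ω) ⟶ Q // m ≫ πQ = xb ∧ m (IsLocalRing.closedPoint Ω) ∈ C}) :
    geomIntegral (φ ≫ πQ) Ω B (fun p ↦ wP p * wQ (φ p)) xb =
      ∑ᶠ m : {m : Spec (.of Ω) ⟶ Q // m ≫ πQ = xb ∧ m (IsLocalRing.closedPoint Ω) ∈ C},
        wQ (m.1 (IsLocalRing.closedPoint Ω)) * geomIntegral φ Ω B wP m.1 := by
  classical
  let e : {ℓ : Spec (.of Ω) ⟶ P // ℓ ≫ (φ ≫ πQ) = xb ∧ ℓ (IsLocalRing.closedPoint Ω) ∈ B} ≃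
      Σ m : {m : Spec (.of Ω) ⟶ Q // m ≫ πQ = xb ∧ m (IsLocalRing.closedPoint Ω) ∈ C},
        {ℓ : Spec (.of Ω) ⟶ P // ℓ ≫ φ = m.1 ∧ ℓ (IsLocalRing.closedPoint Ω) ∈ B} :=
    { toFun := fun ℓ ↦ ⟨⟨ℓ.1 ≫ φ, by rw [Category.assoc]; exact ℓ.2.1, hBC _ ℓ.2.2⟩,
        ⟨ℓ.1, rfl, ℓ.2.2⟩⟩
      invFun := fun q ↦ ⟨q.2.1, by rw [← Category.assoc, q.2.2.1]; exact q.1.2.1, q.2.2.2⟩
      left_inv := fun ℓ ↦ rfl
      right_inv := fun q ↦ by
        obtain ⟨⟨m, hm⟩, ⟨ℓ, hℓ⟩⟩ := q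
        obtain ⟨hℓ1, hℓ2⟩ := hℓ
        change ℓ ≫ φ = m at hℓ1
        subst hℓ1
        rfl }
  have hfib : ∀ m : {m : Spec (.of Ω) ⟶ Q // m ≫ πQ = xb ∧ m (IsLocalRing.closedPoint Ω) ∈ C},
      Finite {ℓ : Spec (.of Ω) ⟶ P // ℓ ≫ φ = m.1 ∧ ℓ (IsLocalRing.closedPoint Ω) ∈ B} := by
    intro m
    refine Finite.of_injective (β := {ℓ : Spec (.of Ω) ⟶ P //
      ℓ ≫ (φ ≫ πQ) = xb ∧ ℓ (IsLocalRing.closedPoint Ω) ∈ B})
      (fun ℓ ↦ ⟨ℓ.1, by rw [← Category.assoc, ℓ.2.1]; exact m.2.1, ℓ.2.2⟩) ?_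
    intro ℓ ℓ' h
    exact Subtype.ext (congrArg (fun z ↦ z.1) h)
  have := Fintype.ofFinite {m : Spec (.of Ω) ⟶ Q //
    m ≫ πQ = xb ∧ m (IsLocalRing.closedPoint Ω) ∈ C}
  have := fun m : {m : Spec (.of Ω) ⟶ Q // m ≫ πQ = xb ∧ m (IsLocalRing.closedPoint Ω) ∈ C} ↦
    @Fintype.ofFinite _ (hfib m)
  unfold geomIntegral
  rw [← finsum_comp_equiv e.symm, finsum_eq_sum_of_fintype, finsum_eq_sum_of_fintype,
    Fintype.sum_sigma]
  refine Finset.sum_congr rfl fun m _ ↦ ?_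
  rw [finsum_eq_sum_of_fintype, Finset.mul_sum]
  refine Finset.sum_congr rfl fun ℓ _ ↦ ?_
  show wP (ℓ.1 (IsLocalRing.closedPoint Ω)) * wQ (φ (ℓ.1 (IsLocalRing.closedPoint Ω))) = _
  have : φ (ℓ.1 (IsLocalRing.closedPoint Ω)) = m.1 (IsLocalRing.closedPoint Ω) := by
    rw [← Scheme.Hom.comp_apply, ℓ.2.1]
  rw [this, mul_comm]

end Fubini

end Groth.Agent.Lib.helper13.WT
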