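import Mathlib
import Groth.Agent.Lib.Helper13.EL8

/-!
# Finite unramified morphisms are closed immersions near a point with trivial residue field
-/

set_option autoImplicit false

namespace Groth.Agent.Lib.helper13.UR

open AlgebraicGeometry CategoryTheory Limits

universe u

/-- Residue field extensions of formally unramified morphisms are separable (when finite). -/
lemma isSeparable_residueFieldMap {X Y : Scheme.{u}} (f : X ⟶ Y) [FormallyUnramified f] (x : X)
    (hfin : (f.residueFieldMap x).hom.Finite) :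
    letI := (f.residueFieldMap x).hom.toAlgebra
    Algebra.IsSeparable (Y.residueField (f x)) (X.residueField x) := by
  have h := FormallyUnramified.stalkMap f x
  algebraize [(f.stalkMap x).hom]
  have hloc : IsLocalHom (algebraMap (Y.presheaf.stalk (f x)) (X.presheaf.stalk x)) :=
    inferInstanceAs (IsLocalHom (f.stalkMap x).hom)
  have h1 : Algebra.FormallyUnramified (IsLocalRing.ResidueField (Y.presheaf.stalk (f x)))
      (IsLocalRing.ResidueField (X.presheaf.stalk x)) := inferInstance
  have heq : (IsLocalRing.ResidueField.instAlgebra :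
      Algebra (IsLocalRing.ResidueField (Y.presheaf.stalk (f x)))
        (IsLocalRing.ResidueField (X.presheaf.stalk x))) = (f.residueFieldMap x).hom.toAlgebra := by
    refine Algebra.algebra_ext _ _ fun r ↦ ?_
    obtain ⟨r, rfl⟩ := IsLocalRing.residue_surjective r
    rfl
  have h2 : @Algebra.FormallyUnramified (Y.residueField (f x)) (X.residueField x) _ _
      (f.residueFieldMap x).hom.toAlgebra := by
    rw [← heq]; exact h1
  letI := (f.residueFieldMap x).hom.toAlgebra
  have h3 : Module.Finite (Y.residueField (f x)) (X.residueField x) := hfin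
  exact Algebra.FormallyUnramified.isSeparable _ _

/-- A purely inseparable residue field extension of a formally unramified morphism is trivial. -/
lemma bijective_residueFieldMap_of_isPurelyInseparable {X Y : Scheme.{u}} (f : X ⟶ Y)
    [FormallyUnramified f] (x : X) (hfin : (f.residueFieldMap x).hom.Finite)
    (hPI : (f.residueFieldMap x).hom.IsPurelyInseparable) :
    Function.Bijective (f.residueFieldMap x) := by
  have hsep := isSeparable_residueFieldMap f x hfin
  letI := (f.residueFieldMap x).hom.toAlgebra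
  have hPI' : IsPurelyInseparable (Y.residueField (f x)) (X.residueField x) := hPI
  exact IsPurelyInseparable.bijective_algebraMap_of_isSeparable _ _

/-- **Local closed immersion.**  A finite formally unramified morphism with a unique point `v` over
`u` and trivial residue field extension at `v` is a closed immersion over a neighbourhood of
`u`. -/
theorem exists_isClosedImmersion_morphismRestrict {V U : Scheme.{u}} (π : V ⟶ U) [IsFinite π]
    [FormallyUnramified π] (u : U) (v : V) (hv : π v = u) (huniq : ∀ v', π v' = u → v' = v)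
    (hbij : Function.Bijective (π.residueFieldMap v)) :
    ∃ U₀ : U.Opens, u ∈ U₀ ∧ ∀ U₁ : U.Opens, U₁ ≤ U₀ → IsClosedImmersion (π ∣_ U₁) := by
  have hΔo : IsOpenImmersion (pullback.diagonal π) := inferInstance
  obtain ⟨ρ, hρ⟩ : ∃ ρ : pullback π π ⟶ U, ρ = pullback.fst π π ≫ π := ⟨_, rfl⟩
  haveI : IsFinite ρ := hρ ▸ inferInstance
  have hCcl : IsClosed (Set.range (pullback.diagonal π))ᶜ :=
    (pullback.diagonal π).isOpenEmbedding.isOpen_range.isClosed_compl
  have hcl : IsClosed (ρ '' (Set.range (pullback.diagonal π))ᶜ) := ρ.isClosedMap _ hCcl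
  have hu : u ∉ ρ '' (Set.range (pullback.diagonal π))ᶜ := by
    rintro ⟨z, hz, hzu⟩
    apply hz
    have h1 : pullback.fst π π z = v := by
      apply huniq
      show (pullback.fst π π ≫ π) z = u
      rw [← hρ]
      exact hzu
    have h2 : pullback.snd π π z = v := by
      apply huniq
      show (pullback.snd π π ≫ π) z = u
      rw [← pullback.condition, ← hρ]
      exact hzu
    have h3 : pullback.fst π π (pullback.diagonal π v) = v := by
      rw [← Scheme.Hom.comp_apply, pullback.diagonal_fst]; rfl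
    have h4 : pullback.snd π π (pullback.diagonal π v) = v := by
      rw [← Scheme.Hom.comp_apply, pullback.diagonal_snd]; rfl
    refine ⟨v, (EL.eq_of_fst_eq_of_snd_eq ?_ (h1.trans h3.symm) (h2.trans h4.symm)).symm⟩
    rw [h2]
    exact hbij
  refine ⟨⟨(ρ '' (Set.range (pullback.diagonal π))ᶜ)ᶜ, hcl.isOpen_compl⟩, hu, ?_⟩
  intro U₁ hU₁
  haveI : FormallyUnramified (π ∣_ U₁) := MorphismProperty.of_isPullback
    (P := @FormallyUnramified) (isPullback_morphismRestrict π U₁).flip inferInstance
  rw [IsClosedImmersion.iff_isFinite_and_mono]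
  refine ⟨inferInstance, ?_⟩
  rw [← pullback.isIso_diagonal_iff, isIso_iff_isOpenImmersion_and_surjective]
  refine ⟨inferInstance, ⟨fun z ↦ ?_⟩⟩
  -- the comparison map
  have hm : IsOpenImmersion (pullback.map (π ∣_ U₁) (π ∣_ U₁) π π (π ⁻¹ᵁ U₁).ι (π ⁻¹ᵁ U₁).ι U₁.ι
      (morphismRestrict_ι π U₁) (morphismRestrict_ι π U₁)) := inferInstance
  set m := pullback.map (π ∣_ U₁) (π ∣_ U₁) π π (π ⁻¹ᵁ U₁).ι (π ⁻¹ᵁ U₁).ι U₁.ι
      (morphismRestrict_ι π U₁) (morphismRestrict_ι π U₁) with hmdef
  have hmfst : m ≫ pullback.fst π π = pullback.fst (π ∣_ U₁) (π ∣_ U₁) ≫ (π ⁻¹ᵁ U₁).ι := by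
    rw [hmdef]; unfold pullback.map; rw [pullback.lift_fst]
  have hmsnd : m ≫ pullback.snd π π = pullback.snd (π ∣_ U₁) (π ∣_ U₁) ≫ (π ⁻¹ᵁ U₁).ι := by
    rw [hmdef]; unfold pullback.map; rw [pullback.lift_snd]
  have hρz : ρ (m z) ∈ U₁ := by
    have e : m ≫ ρ = pullback.fst (π ∣_ U₁) (π ∣_ U₁) ≫ (π ∣_ U₁) ≫ U₁.ι := by
      rw [hρ, ← Category.assoc, hmfst, Category.assoc, morphismRestrict_ι]
    have : ρ (m z) = U₁.ι ((π ∣_ U₁) (pullback.fst (π ∣_ U₁) (π ∣_ U₁) z)) := by
      show (m ≫ ρ) z = _
      rw [e]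
      rfl
    rw [this]
    exact ((π ∣_ U₁) (pullback.fst (π ∣_ U₁) (π ∣_ U₁) z)).2
  have hmz : m z ∈ Set.range (pullback.diagonal π) := by
    by_contra hno
    exact hU₁ hρz ⟨m z, hno, rfl⟩
  obtain ⟨v', hv'⟩ := hmz
  have ha : (π ⁻¹ᵁ U₁).ι (pullback.fst (π ∣_ U₁) (π ∣_ U₁) z) = v' := by
    show (pullback.fst (π ∣_ U₁) (π ∣_ U₁) ≫ (π ⁻¹ᵁ U₁).ι) z = v'
    rw [← hmfst]
    show pullback.fst π π (m z) = v'
    rw [← hv']
    show (pullback.diagonal π ≫ pullback.fst π π) v' = v'
    rw [pullback.diagonal_fst]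
    rfl
  have hΔ : pullback.diagonal (π ∣_ U₁) ≫ m = (π ⁻¹ᵁ U₁).ι ≫ pullback.diagonal π := by
    apply pullback.hom_ext
    · rw [Category.assoc, hmfst, pullback.diagonal_fst_assoc, Category.assoc,
        pullback.diagonal_fst, Category.comp_id]
    · rw [Category.assoc, hmsnd, pullback.diagonal_snd_assoc, Category.assoc,
        pullback.diagonal_snd, Category.comp_id]
  refine ⟨pullback.fst (π ∣_ U₁) (π ∣_ U₁) z, ?_⟩
  apply m.isOpenEmbedding.injective
  show (pullback.diagonal (π ∣_ U₁) ≫ m) (pullback.fst (π ∣_ U₁) (π ∣_ U₁) z) = m z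
  rw [hΔ, ← hv', ← ha]
  rfl

end Groth.Agent.Lib.helper13.UR
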