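import Mathlib
import Groth.Agent.Lib.Helper13.UR1
import Groth.Agent.Lib.Helper13.WT6

/-!
# Étale-local data at finitely many points: bookkeeping

`IsLocalData f x g u lab V v`: the opens `V k` of `X ×_S U` have exactly one point `v k` over `u`,
lying over `x (lab k)`, the `v k` are pairwise distinct and exhaust the points over `u` and some
`x i`.  We show that such data restricts to open neighbourhoods of `u` and transfers from an open
subscheme of `X` to `X`.
-/

set_option autoImplicit false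

namespace Groth.Agent.Lib.helper13.UR

open AlgebraicGeometry CategoryTheory Limits

universe u

variable {X S : Scheme.{u}} (f : X ⟶ S)

/-- Bookkeeping structure for the étale-local structure theorems. -/
structure IsLocalData {ι : Type} (x : ι → ↑X) {U : Scheme.{u}} (g : U ⟶ S) (u : U) {K : Type}
    (lab : K → ι) (V : K → (pullback f g).Opens) (v : K → ↑(pullback f g)) : Prop where
  mem : ∀ k, v k ∈ V k
  snd_eq : ∀ k, pullback.snd f g (v k) = u
  fst_eq : ∀ k, pullback.fst f g (v k) = x (lab k)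
  uniq : ∀ k w, w ∈ V k → pullback.snd f g w = u → w = v k
  inj : Function.Injective v
  exh : ∀ w i, pullback.snd f g w = u → pullback.fst f g w = x i → ∃ k, lab k = i ∧ w = v k

section Restrict

variable {f} {ι : Type} {x : ι → ↑X} {U : Scheme.{u}} {g : U ⟶ S} {u : U} {K : Type}
  {lab : K → ι} {V : K → (pullback f g).Opens} {v : K → ↑(pullback f g)}

/-- The restriction map `X ×_S U' ⟶ X ×_S U` for an open `U' ⊆ U`. -/
noncomputable abbrev resMap (f : X ⟶ S) (g : U ⟶ S) (U' : U.Opens) :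
    pullback f (U'.ι ≫ g) ⟶ pullback f g :=
  EL.refineMap f g U'.ι (U'.ι ≫ g) rfl

instance (U' : U.Opens) : IsOpenImmersion (resMap f g U') :=
  MorphismProperty.of_isPullback (P := @IsOpenImmersion)
    (EL.isPullback_refineMap f g U'.ι (U'.ι ≫ g) rfl).flip inferInstance

lemma isPullback_resMap_restrict (f : X ⟶ S) (g : U ⟶ S) (U' : U.Opens)
    (V : (pullback f g).Opens) :
    IsPullback (resMap f g U' ∣_ V) (((resMap f g U') ⁻¹ᵁ V).ι ≫ pullback.snd f (U'.ι ≫ g))
      (V.ι ≫ pullback.snd f g) U'.ι :=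
  (isPullback_morphismRestrict (resMap f g U') V).paste_vert
    (EL.isPullback_refineMap f g U'.ι (U'.ι ≫ g) rfl)

/-- Properties stable under base change pass to the restriction. -/
lemma resMap_of_isStableUnderBaseChange (P : MorphismProperty Scheme.{u})
    [P.IsStableUnderBaseChange] (U' : U.Opens) (V : (pullback f g).Opens)
    (h : P (V.ι ≫ pullback.snd f g)) :
    P (((resMap f g U') ⁻¹ᵁ V).ι ≫ pullback.snd f (U'.ι ≫ g)) :=
  MorphismProperty.of_isPullback (isPullback_resMap_restrict f g U' V) h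

/-- A property holding for the restriction `π ∣_ U'` holds for the base change to `U'`. -/
lemma resMap_of_morphismRestrict (P : MorphismProperty Scheme.{u}) [P.RespectsIso]
    (U' : U.Opens) (V : (pullback f g).Opens)
    (h : P ((V.ι ≫ pullback.snd f g) ∣_ U')) :
    P (((resMap f g U') ⁻¹ᵁ V).ι ≫ pullback.snd f (U'.ι ≫ g)) := by
  have A := isPullback_resMap_restrict f g U' V
  have B := (isPullback_morphismRestrict (V.ι ≫ pullback.snd f g) U').flip
  have e : (A.isoIsPullback _ _ B).hom ≫ ((V.ι ≫ pullback.snd f g) ∣_ U') =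
      ((resMap f g U') ⁻¹ᵁ V).ι ≫ pullback.snd f (U'.ι ≫ g) :=
    A.isoIsPullback_hom_snd _ _ B
  rw [← e]
  exact (MorphismProperty.cancel_left_of_respectsIso P _ _).mpr h

lemma IsLocalData.restrict (h : IsLocalData f x g u lab V v) (U' : U.Opens) (hu : u ∈ U') :
    ∃ v' : K → ↑(pullback f (U'.ι ≫ g)), (∀ k, resMap f g U' (v' k) = v k) ∧
      IsLocalData f x (U'.ι ≫ g) (⟨u, hu⟩ : U'.toScheme) lab
        (fun k ↦ (resMap f g U') ⁻¹ᵁ V k) v' := by
  have hr := EL.isPullback_refineMap f g U'.ι (U'.ι ≫ g) rfl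
  have hex : ∀ k, ∃ w : ↑(pullback f (U'.ι ≫ g)), resMap f g U' w = v k ∧
      pullback.snd f (U'.ι ≫ g) w = (⟨u, hu⟩ : U'.toScheme) := fun k ↦
    WT.exists_preimage_of_isPullback hr (v k) ⟨u, hu⟩ (h.snd_eq k)
  choose v' hv'1 hv'2 using hex
  have hinj : Function.Injective (resMap f g U') := (resMap f g U').isOpenEmbedding.injective
  have hsnd : ∀ w : ↑(pullback f (U'.ι ≫ g)),
      pullback.snd f (U'.ι ≫ g) w = (⟨u, hu⟩ : U'.toScheme) →
      pullback.snd f g (resMap f g U' w) = u := fun w hw ↦ by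
    rw [EL.refineMap_snd_apply, hw]; rfl
  refine ⟨v', hv'1, ⟨?_, hv'2, ?_, ?_, ?_, ?_⟩⟩
  · intro k
    show resMap f g U' (v' k) ∈ V k
    rw [hv'1]; exact h.mem k
  · intro k
    rw [← EL.refineMap_fst_apply f g U'.ι (U'.ι ≫ g) rfl, hv'1, h.fst_eq]
  · intro k w hw hwu
    apply hinj
    rw [hv'1]
    exact h.uniq k _ hw (hsnd w hwu)
  · intro k k' hkk'
    apply h.inj
    rw [← hv'1, ← hv'1, hkk']
  · intro w i hwu hwx
    obtain ⟨k, hk, hwk⟩ := h.exh (resMap f g U' w) i (hsnd w hwu)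
      (by rw [EL.refineMap_fst_apply, hwx])
    refine ⟨k, hk, hinj ?_⟩
    rw [hwk, hv'1]

lemma resMap_snd_mem (U' : U.Opens) (w : ↑(pullback f (U'.ι ≫ g))) :
    pullback.snd f g (resMap f g U' w) ∈ U' := by
  rw [EL.refineMap_snd_apply]
  exact (pullback.snd f (U'.ι ≫ g) w).2

end Restrict

section OpenTransfer

variable {U : Scheme.{u}} (g : U ⟶ S) (X₀ : X.Opens)

/-- The open immersion `X₀ ×_S U ⟶ X ×_S U`. -/
noncomputable abbrev openMap : pullback (X₀.ι ≫ f) g ⟶ pullback f g :=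
  pullback.map (X₀.ι ≫ f) g f g X₀.ι (𝟙 U) (𝟙 S) (by simp) (by simp)

@[reassoc]
lemma openMap_fst : openMap f g X₀ ≫ pullback.fst f g = pullback.fst (X₀.ι ≫ f) g ≫ X₀.ι := by
  unfold openMap pullback.map; rw [pullback.lift_fst]

@[reassoc]
lemma openMap_snd : openMap f g X₀ ≫ pullback.snd f g = pullback.snd (X₀.ι ≫ f) g := by
  unfold openMap pullback.map; rw [pullback.lift_snd, Category.comp_id]

lemma openMap_fst_apply (w : ↑(pullback (X₀.ι ≫ f) g)) :
    pullback.fst f g (openMap f g X₀ w) = X₀.ι (pullback.fst (X₀.ι ≫ f) g w) := by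
  show (openMap f g X₀ ≫ pullback.fst f g) w = _
  rw [openMap_fst]; rfl

lemma openMap_snd_apply (w : ↑(pullback (X₀.ι ≫ f) g)) :
    pullback.snd f g (openMap f g X₀ w) = pullback.snd (X₀.ι ≫ f) g w := by
  show (openMap f g X₀ ≫ pullback.snd f g) w = _
  rw [openMap_snd]

lemma isPullback_openMap :
    IsPullback (openMap f g X₀) (pullback.fst (X₀.ι ≫ f) g) (pullback.fst f g) X₀.ι := by
  refine IsPullback.of_right (h₁₂ := pullback.snd f g) (h₂₂ := f) (v₁₃ := g) ?_
    (openMap_fst f g X₀) (IsPullback.of_hasPullback f g).flip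
  rw [openMap_snd]
  exact (IsPullback.of_hasPullback (X₀.ι ≫ f) g).flip

lemma openMap_image_ι_snd (V₀ : (pullback (X₀.ι ≫ f) g).Opens) :
    ((openMap f g X₀) ''ᵁ V₀).ι ≫ pullback.snd f g =
      ((openMap f g X₀).isoImage V₀).inv ≫ (V₀.ι ≫ pullback.snd (X₀.ι ≫ f) g) := by
  rw [← openMap_snd f g X₀, ← Scheme.Hom.isoImage_inv_ι (openMap f g X₀) V₀, Category.assoc,
    Category.assoc]

lemma openMap_image_le (V₀ : (pullback (X₀.ι ≫ f) g).Opens) :
    (openMap f g X₀) ''ᵁ V₀ ≤ (pullback.fst f g) ⁻¹ᵁ X₀ := by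
  rintro _ ⟨w, -, rfl⟩
  show pullback.fst f g (openMap f g X₀ w) ∈ X₀
  rw [openMap_fst_apply]
  exact (pullback.fst (X₀.ι ≫ f) g w).2

variable {f g X₀}

lemma IsLocalData.of_open {ι : Type} {x₀ : ι → ↑X₀.toScheme} {u : U} {K : Type} {lab : K → ι}
    {V₀ : K → (pullback (X₀.ι ≫ f) g).Opens} {v₀ : K → ↑(pullback (X₀.ι ≫ f) g)}
    (h : IsLocalData (X₀.ι ≫ f) x₀ g u lab V₀ v₀) :
    IsLocalData f (fun i ↦ X₀.ι (x₀ i)) g u lab (fun k ↦ (openMap f g X₀) ''ᵁ V₀ k)
      (fun k ↦ openMap f g X₀ (v₀ k)) := by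
  have hinj : Function.Injective (openMap f g X₀) := (openMap f g X₀).isOpenEmbedding.injective
  refine ⟨fun k ↦ ⟨v₀ k, h.mem k, rfl⟩, fun k ↦ ?_, fun k ↦ ?_, ?_, ?_, ?_⟩
  · rw [openMap_snd_apply, h.snd_eq]
  · rw [openMap_fst_apply, h.fst_eq]
  · rintro k _ ⟨w, hw, rfl⟩ hwu
    have hwu' : pullback.snd f g (openMap f g X₀ w) = u := hwu
    rw [openMap_snd_apply] at hwu'
    show openMap f g X₀ w = openMap f g X₀ (v₀ k)
    rw [h.uniq k w hw hwu']
  · intro k k' hkk'
    exact h.inj (hinj hkk')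
  · intro w i hwu hwx
    obtain ⟨w₀, hw₀1, hw₀2⟩ :=
      WT.exists_preimage_of_isPullback (isPullback_openMap f g X₀) w (x₀ i) hwx
    have hw₀u : pullback.snd (X₀.ι ≫ f) g w₀ = u := by
      rw [← openMap_snd_apply, hw₀1, hwu]
    obtain ⟨k, hk, hwk⟩ := h.exh w₀ i hw₀u hw₀2
    exact ⟨k, hk, by rw [← hw₀1, hwk]⟩

end OpenTransfer

section Glue

/-- A property local at the source holds on a union of opens if it holds on each. -/
lemma of_iSup_opens (P : MorphismProperty Scheme.{u}) [IsZariskiLocalAtSource P]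
    {ι : Type*} (W : ι → X.Opens) (h : ∀ i, P ((W i).ι ≫ f)) :
    P ((⨆ i, W i).ι ≫ f) := by
  set X₀ : X.Opens := ⨆ i, W i with hX₀
  have hle : ∀ i, W i ≤ X₀ := fun i ↦ le_iSup W i
  rw [IsZariskiLocalAtSource.iff_of_iSup_eq_top (P := P) (U := fun i ↦ X₀.ι ⁻¹ᵁ W i)]
  · intro i
    have hrange : Set.range ((X₀.ι ⁻¹ᵁ W i).ι ≫ X₀.ι) = Set.range (W i).ι := by
      rw [Scheme.Opens.range_ι]
      ext p
      constructor
      · rintro ⟨a, rfl⟩
        exact a.2
      · intro hp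
        exact ⟨⟨⟨p, hle i hp⟩, hp⟩, rfl⟩
    have e := IsOpenImmersion.isoOfRangeEq_hom_fac ((X₀.ι ⁻¹ᵁ W i).ι ≫ X₀.ι) (W i).ι hrange
    rw [← Category.assoc, ← e, Category.assoc]
    exact (MorphismProperty.cancel_left_of_respectsIso P _ _).mpr (h i)
  · rw [eq_top_iff]
    rintro ⟨p, hp⟩ -
    have hp' : p ∈ ⨆ i, W i := hp
    rw [TopologicalSpace.Opens.mem_iSup] at hp' ⊢
    obtain ⟨i, hi⟩ := hp'
    exact ⟨i, hi⟩

end Glue

section LQF

/-- Unramified morphisms are locally quasi-finite. -/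
lemma locallyQuasiFinite_of_formallyUnramified [LocallyOfFiniteType f] [FormallyUnramified f] :
    LocallyQuasiFinite f := by
  refine ⟨fun {U} hU {V} hV e ↦ ?_⟩
  have h1 : (f.appLE U V e).hom.FiniteType := f.finiteType_appLE hU hV e
  have h2 : (f.appLE U V e).hom.FormallyUnramified :=
    HasRingHomProperty.appLE @FormallyUnramified f inferInstance ⟨U, hU⟩ ⟨V, hV⟩ e
  algebraize [(f.appLE U V e).hom]
  show Algebra.QuasiFinite _ _
  infer_instance

end LQF

end Groth.Agent.Lib.helper13.UR
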