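import Mathlib

/-!
# The Taylor shift `f(X) ↦ f(X + T)` on Laurent series (helper13)

The family of Hasse derivatives of Laurent series satisfies the Leibniz rule, hence assembles to a
ring homomorphism `F⸨X⸩ →+* PowerSeries F⸨X⸩`.
-/

set_option autoImplicit false

namespace Groth.Agent.Lib.helper13.LaurentTaylor

open HahnSeries LaurentSeries

variable {F : Type*} [CommRing F]

theorem support_subset (f g : F⸨X⸩) (a : ℤ) :
    (Function.support fun p : ℤ => f.coeff p * g.coeff (a - p)) ⊆
      ↑((Finset.antidiagonal f.isPWO_support g.isPWO_support a).image Prod.fst) := by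
  intro p hp
  simp only [Function.mem_support] at hp
  simp only [Finset.coe_image, Set.mem_image, Finset.mem_coe]
  refine ⟨(p, a - p), ?_, rfl⟩
  rw [Finset.mem_antidiagonal]
  refine ⟨?_, ?_, by simp⟩
  · exact left_ne_zero_of_mul hp
  · exact right_ne_zero_of_mul hp

theorem support_finite (f g : F⸨X⸩) (a : ℤ) :
    (Function.support fun p : ℤ => f.coeff p * g.coeff (a - p)).Finite :=
  (Finset.finite_toSet _).subset (support_subset f g a)

theorem coeff_mul_finsum (f g : F⸨X⸩) (a : ℤ) :
    (f * g).coeff a = ∑ᶠ p : ℤ, f.coeff p * g.coeff (a - p) := by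
  rw [HahnSeries.coeff_mul, finsum_eq_sum_of_support_subset _ (support_subset f g a),
    Finset.sum_image]
  · apply Finset.sum_congr rfl
    intro ij hij
    rw [Finset.mem_antidiagonal] at hij
    have : ij.2 = a - ij.1 := by have := hij.2.2; omega
    rw [this]
  · intro x hx y hy hxy
    rw [Finset.mem_coe, Finset.mem_antidiagonal] at hx hy
    have h1 := hx.2.2
    have h2 := hy.2.2
    ext
    · exact hxy
    · omega


/-- The Leibniz rule for Hasse derivatives of Laurent series. -/
theorem hasseDeriv_mul (n : ℕ) (f g : F⸨X⸩) :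
    hasseDeriv F n (f * g) =
      ∑ ij ∈ Finset.HasAntidiagonal.antidiagonal n, hasseDeriv F ij.1 f * hasseDeriv F ij.2 g := by
  ext d
  rw [hasseDeriv_coeff, coeff_mul_finsum, HahnSeries.coeff_sum]
  have hfin := support_finite f g (d + n)
  have key : ∀ ij ∈ Finset.HasAntidiagonal.antidiagonal n,
      (hasseDeriv F ij.1 f * hasseDeriv F ij.2 g).coeff d =
        ∑ᶠ p : ℤ, (Ring.choose p ij.1 * Ring.choose (d + n - p) ij.2 : ℤ) •
          (f.coeff p * g.coeff (d + n - p)) := by
    intro ij hij
    rw [Finset.HasAntidiagonal.mem_antidiagonal] at hij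
    rw [coeff_mul_finsum]
    conv_rhs => rw [← finsum_comp_equiv (Equiv.addRight (ij.1 : ℤ))]
    apply finsum_congr
    intro p
    simp only [Equiv.coe_addRight, hasseDeriv_coeff]
    rw [smul_mul_smul_comm]
    have e1 : d + (n : ℤ) - (p + ij.1) = d - p + ij.2 := by
      have : (n : ℤ) = ij.1 + ij.2 := by exact_mod_cast hij.symm
      omega
    rw [e1]
  rw [Finset.sum_congr rfl key, ← finsum_sum_comm]
  · rw [smul_finsum' _ hfin]
    apply finsum_congr
    intro p
    rw [← Finset.sum_smul]
    congr 1
    have := Ring.add_choose_eq (R := ℤ) (r := p) (s := d + n - p) n (Commute.all _ _)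
    rw [← this]
    congr 1
    ring
  · intro ij _
    apply hfin.subset
    intro p hp
    simp only [Function.mem_support] at hp ⊢
    intro h0
    exact hp (by rw [h0, smul_zero])


theorem hasseDeriv_C (n : ℕ) (a : F) :
    hasseDeriv F n (HahnSeries.C a) = if n = 0 then HahnSeries.C a else 0 := by
  rw [HahnSeries.C_apply, hasseDeriv_single, Ring.choose_zero_ite]
  split_ifs with h
  · subst h; simp
  · simp

/-- The Taylor shift `f(X) ↦ f(X + T)`, with coefficients the Hasse derivatives. -/
noncomputable def taylor : F⸨X⸩ →+* PowerSeries F⸨X⸩ where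
  toFun f := PowerSeries.mk fun n => hasseDeriv F n f
  map_one' := by
    ext n
    rw [PowerSeries.coeff_mk, PowerSeries.coeff_one, ← HahnSeries.C_one, hasseDeriv_C]
  map_mul' f g := by
    ext n
    rw [PowerSeries.coeff_mk, PowerSeries.coeff_mul, hasseDeriv_mul]
    simp only [PowerSeries.coeff_mk]
  map_zero' := by
    ext n
    simp
  map_add' f g := by
    ext n
    simp

@[simp] theorem coeff_taylor (n : ℕ) (f : F⸨X⸩) :
    PowerSeries.coeff n (taylor f) = hasseDeriv F n f := by
  simp [taylor]

theorem taylor_C (a : F) : taylor (HahnSeries.C a) = PowerSeries.C (HahnSeries.C a) := by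
  ext n
  rw [coeff_taylor, hasseDeriv_C, PowerSeries.coeff_C]

theorem taylor_X : taylor (single 1 (1 : F)) = PowerSeries.C (single 1 (1 : F)) + PowerSeries.X := by
  ext n
  rw [coeff_taylor, hasseDeriv_single, map_add, PowerSeries.coeff_C, PowerSeries.coeff_X]
  have h1 : Ring.choose (1 : ℤ) n = Nat.choose 1 n := by
    have := Ring.choose_natCast (R := ℤ) 1 n
    simpa using this
  rw [h1]
  rcases n with _ | _ | n
  · simp
  · simp
  · simp [Nat.choose_eq_zero_of_lt]

end Groth.Agent.Lib.helper13.LaurentTaylor
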