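import Mathlib

/-!
# Krull–Akizuki: the length lemma

For a Noetherian domain `R` of Krull dimension `≤ 1` with fraction field `K`, a finite dimensional
`K`-vector space `V`, an `R`-submodule `M` of `V` and `0 ≠ x ∈ R`:
`length (M / xM) ≤ dim V * length (R / xR) < ∞`.
-/

set_option autoImplicit false

namespace Groth.Agent.Lib.helper13.KA

open TensorProduct

section general

variable {R : Type*} [CommRing R]

/-- For an exact sequence `A → B → C → 0`: `ℓ(B) ≤ ℓ(A) + ℓ(C)`. -/
lemma length_le_add_of_exact {A B C : Type*} [AddCommGroup A] [AddCommGroup B] [AddCommGroup C]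
    [Module R A] [Module R B] [Module R C] (f : A →ₗ[R] B) (g : B →ₗ[R] C)
    (hg : Function.Surjective g) (h : Function.Exact f g) :
    Module.length R B ≤ Module.length R A + Module.length R C := by
  have h1 := Module.length_eq_add_of_exact (LinearMap.ker g).subtype g
    (Submodule.injective_subtype _) hg (LinearMap.exact_subtype_ker_map g)
  rw [h1]
  gcongr
  rw [LinearMap.exact_iff.mp h]
  exact Module.length_le_of_surjective f.rangeRestrict f.surjective_rangeRestrict

/-- The length of `M ⧸ xM`. -/
noncomputable def qlen (x : R) (M : Type*) [AddCommGroup M] [Module R M] : ℕ∞ :=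
  Module.length R (M ⧸ (Ideal.span ({x} : Set R) • (⊤ : Submodule R M)))

lemma qlen_eq_tensor (x : R) (M : Type*) [AddCommGroup M] [Module R M] :
    qlen x M = Module.length R ((R ⧸ Ideal.span ({x} : Set R)) ⊗[R] M) :=
  (TensorProduct.quotTensorEquivQuotSMul M (Ideal.span {x})).length_eq.symm

lemma qlen_congr {M N : Type*} [AddCommGroup M] [Module R M] [AddCommGroup N] [Module R N]
    (e : M ≃ₗ[R] N) (x : R) : qlen x M = qlen x N := by
  rw [qlen_eq_tensor, qlen_eq_tensor]
  exact (LinearEquiv.lTensor _ e).length_eq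

lemma qlen_le_add {M' M M'' : Type*} [AddCommGroup M'] [Module R M'] [AddCommGroup M] [Module R M]
    [AddCommGroup M''] [Module R M''] (f : M' →ₗ[R] M) (g : M →ₗ[R] M'')
    (hg : Function.Surjective g) (h : Function.Exact f g) (x : R) :
    qlen x M ≤ qlen x M' + qlen x M'' := by
  simp only [qlen_eq_tensor]
  exact length_le_add_of_exact (f.lTensor _) (g.lTensor _) (LinearMap.lTensor_surjective _ hg)
    (lTensor_exact _ h hg)

lemma qlen_le_of_surjective {M M'' : Type*} [AddCommGroup M] [Module R M]
    [AddCommGroup M''] [Module R M''] (g : M →ₗ[R] M'')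
    (hg : Function.Surjective g) (x : R) :
    qlen x M'' ≤ qlen x M := by
  simp only [qlen_eq_tensor]
  exact Module.length_le_of_surjective (g.lTensor _) (LinearMap.lTensor_surjective _ hg)

lemma qlen_of_subsingleton (x : R) (M : Type*) [AddCommGroup M] [Module R M] [Subsingleton M] :
    qlen x M = 0 := by
  unfold qlen
  exact Module.length_eq_zero

/-- `ℓ(M/S) = ℓ(T/S) + ℓ(M/T)` for `S ≤ T ≤ M`. -/
lemma length_quotient_eq_add {M : Type*} [AddCommGroup M] [Module R M] {S T : Submodule R M}
    (h : S ≤ T) :
    Module.length R (M ⧸ S) =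
      Module.length R (T ⧸ S.comap T.subtype) + Module.length R (M ⧸ T) := by
  refine Module.length_eq_add_of_exact (Submodule.mapQ _ _ T.subtype le_rfl) (Submodule.factor h)
    ?_ (Submodule.factor_surjective h) ?_
  · rw [← LinearMap.ker_eq_bot, Submodule.ker_mapQ]
    simp
  · rw [LinearMap.exact_iff, Submodule.range_mapQ]
    ext y
    obtain ⟨y, rfl⟩ := Submodule.mkQ_surjective _ y
    have hfac : Submodule.factor h (S.mkQ y) = T.mkQ y := Submodule.factor_mk h y
    rw [LinearMap.mem_ker, hfac, Submodule.mkQ_apply, Submodule.Quotient.mk_eq_zero,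
      Submodule.range_subtype]
    constructor
    · intro hy
      exact ⟨y, hy, rfl⟩
    · rintro ⟨z, hz, hzy⟩
      have : z - y ∈ S := by
        rw [← Submodule.Quotient.mk_eq_zero, Submodule.Quotient.mk_sub]
        simpa [sub_eq_zero] using hzy
      have h2 : y = z - (z - y) := by abel
      rw [h2]
      exact T.sub_mem hz (h this)

/-- If all finitely generated submodules have length at most `c`, so does the module. -/
lemma length_le_of_forall_fg {Q : Type*} [AddCommGroup Q] [Module R Q] (c : ℕ∞)
    (h : ∀ P : Submodule R Q, P.FG → Module.length R P ≤ c) : Module.length R Q ≤ c := by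
  induction c using ENat.recTopCoe with
  | top => exact le_top
  | coe n =>
    let S : Set ℕ := {k | ∃ P : Submodule R Q, P.FG ∧ Module.length R P = k}
    have hS0 : (0 : ℕ) ∈ S := ⟨⊥, Submodule.fg_bot, by simp⟩
    have hSb : ∀ k ∈ S, k ≤ n := by
      rintro k ⟨P, hP, hk⟩
      have := h P hP
      rw [hk] at this
      exact_mod_cast this
    have hfin : S.Finite := (Set.finite_Iic n).subset hSb
    obtain ⟨k₀, hk₀⟩ := hfin.exists_maximal ⟨0, hS0⟩
    obtain ⟨P₀, hP₀, hℓ⟩ := hk₀.1
    have htop : P₀ = ⊤ := by
      rw [eq_top_iff]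
      intro q _
      let P₁ := P₀ ⊔ Submodule.span R {q}
      have hP₁ : P₁.FG := hP₀.sup (Submodule.fg_span_singleton q)
      have hle : P₀ ≤ P₁ := le_sup_left
      have hq : q ∈ P₁ := (le_sup_right : Submodule.span R {q} ≤ P₁) (Submodule.mem_span_singleton_self q)
      let N : Submodule R P₁ := P₀.comap P₁.subtype
      have h1 := Module.length_eq_add_of_exact N.subtype N.mkQ (Submodule.injective_subtype _)
        (Submodule.mkQ_surjective _) (LinearMap.exact_subtype_mkQ N)
      have h2 : Module.length R N = k₀ := by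
        rw [← hℓ]
        exact (Submodule.comapSubtypeEquivOfLe hle).length_eq
      obtain ⟨k₁, hk₁⟩ : ∃ k₁ : ℕ, Module.length R P₁ = k₁ := by
        have := h P₁ hP₁
        exact ⟨(Module.length R P₁).toNat, (ENat.natCast_toNat (ne_top_of_le_ne_top (ENat.natCast_ne_top n) this)).symm⟩
      have hk₁S : k₁ ∈ S := ⟨P₁, hP₁, hk₁⟩
      have hk₁le : k₁ ≤ k₀ := by
        by_contra hlt
        push Not at hlt
        exact absurd (hk₀.2 hk₁S hlt.le) (not_le.mpr hlt)
      have h3 : Module.length R (P₁ ⧸ N) = 0 := by
        rw [hk₁, h2] at h1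
        by_contra hne
        have hpos : 1 ≤ Module.length R (P₁ ⧸ N) := Order.one_le_iff_ne_zero.mpr hne
        have : ((k₀ + 1 : ℕ) : ℕ∞) ≤ (k₁ : ℕ∞) := by
          rw [h1]
          push_cast
          gcongr
        have : k₀ + 1 ≤ k₁ := by exact_mod_cast this
        omega
      rw [Module.length_eq_zero_iff, Submodule.Quotient.subsingleton_iff] at h3
      have : (⟨q, hq⟩ : P₁) ∈ N := by rw [h3]; trivial
      exact this
    have h4 : Module.length R Q = Module.length R (⊤ : Submodule R Q) := Module.length_top.symm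
    rw [h4, ← htop]
    exact h P₀ hP₀

lemma qlen_le_of_forall_fg {M : Type*} [AddCommGroup M] [Module R M] (x : R) (c : ℕ∞)
    (h : ∀ N : Submodule R M, N.FG → qlen x N ≤ c) : qlen x M ≤ c := by
  unfold qlen
  apply length_le_of_forall_fg
  intro P hP
  obtain ⟨t, ht⟩ := hP
  classical
  let N : Submodule R M := Submodule.span R ((t.image (Function.surjInv
    (Ideal.span ({x} : Set R) • (⊤ : Submodule R M)).mkQ_surjective) : Finset M) : Set M)
  have hN : N.FG := ⟨_, rfl⟩
  have hNP : N.map (Ideal.span ({x} : Set R) • (⊤ : Submodule R M)).mkQ = P := by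
    rw [← ht, Submodule.map_span, Finset.coe_image, Set.image_image]
    congr 1
    ext y
    simp [Function.surjInv_eq]
  -- the map N/xN → M/xM with range P
  let φ : (N ⧸ (Ideal.span ({x} : Set R) • (⊤ : Submodule R N))) →ₗ[R]
      M ⧸ (Ideal.span ({x} : Set R) • (⊤ : Submodule R M)) :=
    Submodule.mapQ _ _ N.subtype (by
      rw [← Submodule.map_le_iff_le_comap, Submodule.map_smul'', Submodule.map_top]
      exact Submodule.smul_mono le_rfl le_top)
  have hφ : LinearMap.range φ = P := by
    rw [Submodule.range_mapQ, Submodule.range_subtype, hNP]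
  have := Module.length_le_of_surjective φ.rangeRestrict φ.surjective_rangeRestrict
  rw [hφ] at this
  exact this.trans (h N hN)

end general

section dimOne

open scoped Pointwise

variable {R : Type*} [CommRing R] [IsDomain R] [IsNoetherianRing R] [Ring.KrullDimLE 1 R]

lemma length_quotient_span_singleton_ne_top {x : R} (hx : x ≠ 0) :
    Module.length R (R ⧸ Ideal.span ({x} : Set R)) ≠ ⊤ :=
  Ring.ord_ne_top (mem_nonZeroDivisors_of_ne_zero hx)

lemma length_quotient_ne_top_of_ne_bot {I : Ideal R} (hI : I ≠ ⊥) :
    Module.length R (R ⧸ I) ≠ ⊤ := by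
  obtain ⟨y, hyI, hy0⟩ := Submodule.exists_mem_ne_zero_of_ne_bot hI
  have hle : Ideal.span ({y} : Set R) ≤ I := (Ideal.span_singleton_le_iff_mem I).mpr hyI
  have := Module.length_le_of_surjective (Submodule.factor hle) (Submodule.factor_surjective hle)
  exact ne_top_of_le_ne_top (length_quotient_span_singleton_ne_top hy0) this

/-- `ℓ(I/xI) = ℓ(R/xR)` for a nonzero ideal `I`. -/
lemma qlen_ideal {I : Ideal R} (hI : I ≠ ⊥) {x : R} (hx : x ≠ 0) :
    qlen x I = Module.length R (R ⧸ Ideal.span ({x} : Set R)) := by
  have hxn : x ∈ nonZeroDivisors R := mem_nonZeroDivisors_of_ne_zero hx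
  have h1 := Module.length_eq_add_of_exact (Ideal.mulQuot x I) (Ideal.quotOfMul x I)
    (Ideal.mulQuot_injective I hxn) (Ideal.quotOfMul_surjective I) (Ideal.exact_mulQuot_quotOfMul I)
  have hle : x • I ≤ I := by
    intro y hy
    obtain ⟨z, hz, rfl⟩ := (Submodule.mem_smul_pointwise_iff_exists _ _ _).mp hy
    exact I.smul_mem x hz
  have h2 := length_quotient_eq_add (R := R) hle
  have h3 : Submodule.comap I.subtype (x • I) = Ideal.span ({x} : Set R) • (⊤ : Submodule R I) := by
    rw [Submodule.ideal_span_singleton_smul]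
    ext ⟨y, hy⟩
    simp only [Submodule.mem_comap, Submodule.subtype_apply,
      Submodule.mem_smul_pointwise_iff_exists, Submodule.mem_top, true_and]
    constructor
    · rintro ⟨z, hz, hzy⟩
      exact ⟨⟨z, hz⟩, Subtype.ext hzy⟩
    · rintro ⟨⟨z, hz⟩, hzy⟩
      exact ⟨z, hz, congrArg Subtype.val hzy⟩
  rw [h3] at h2
  change _ = qlen x I + _ at h2
  rw [h1, add_comm] at h2
  exact (WithTop.add_right_cancel (length_quotient_ne_top_of_ne_bot hI) h2).symm

end dimOne

section rankOne

variable {R : Type*} [CommRing R] [IsDomain R] [IsNoetherianRing R] [Ring.KrullDimLE 1 R]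
variable {K : Type*} [Field K] [Algebra R K] [IsFractionRing R K]

omit [IsNoetherianRing R] [Ring.KrullDimLE 1 R] in
/-- A finitely generated `R`-submodule of `K` is isomorphic to an ideal of `R`. -/
lemma exists_ideal_equiv_of_fg (M : Submodule R K) (hM : M.FG) :
    ∃ I : Ideal R, Nonempty (M ≃ₗ[R] I) := by
  obtain ⟨a, ha, hint⟩ := FractionalIdeal.isFractional_of_fg (S := nonZeroDivisors R) hM
  let ψ : K →ₗ[R] K := LinearMap.lsmul R K a
  have hψ : Function.Injective ψ := by
    intro u v huv
    have : algebraMap R K a * u = algebraMap R K a * v := by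
      simpa [ψ, Algebra.smul_def] using huv
    have ha0 : algebraMap R K a ≠ 0 :=
      IsFractionRing.to_map_ne_zero_of_mem_nonZeroDivisors ha
    exact mul_left_cancel₀ ha0 this
  have hrange : M.map ψ ≤ LinearMap.range (Algebra.linearMap R K) := by
    rintro _ ⟨b, hb, rfl⟩
    obtain ⟨r, hr⟩ := hint b hb
    exact ⟨r, hr⟩
  exact ⟨Submodule.comap (Algebra.linearMap R K) (M.map ψ),
    ⟨(Submodule.equivMapOfInjective ψ hψ M).trans
      (Submodule.comap_equiv_self_of_inj_of_le (IsFractionRing.injective R K) hrange).symm⟩⟩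

lemma qlen_le_of_fg_submodule_fractionRing (M : Submodule R K) (hM : M.FG) {x : R} (hx : x ≠ 0) :
    qlen x M ≤ Module.length R (R ⧸ Ideal.span ({x} : Set R)) := by
  obtain ⟨I, ⟨e⟩⟩ := exists_ideal_equiv_of_fg M hM
  rw [qlen_congr e]
  by_cases hI : I = ⊥
  · subst hI
    rw [qlen_of_subsingleton]
    exact zero_le
  · exact (qlen_ideal hI hx).le

lemma qlen_le_of_submodule_fractionRing (M : Submodule R K) {x : R} (hx : x ≠ 0) :
    qlen x M ≤ Module.length R (R ⧸ Ideal.span ({x} : Set R)) := by
  apply qlen_le_of_forall_fg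
  intro N hN
  rw [qlen_congr (Submodule.equivMapOfInjective M.subtype (Submodule.injective_subtype M) N)]
  exact qlen_le_of_fg_submodule_fractionRing _ (hN.map _) hx

end rankOne

section main

universe v

variable {R : Type*} [CommRing R] [IsDomain R] [IsNoetherianRing R] [Ring.KrullDimLE 1 R]
variable {K : Type*} [Field K] [Algebra R K] [IsFractionRing R K]

theorem qlen_le_finrank_mul_aux {x : R} (hx : x ≠ 0) :
    ∀ (d : ℕ) (V : Type v) [AddCommGroup V] [Module K V] [Module R V] [IsScalarTower R K V]
      [FiniteDimensional K V], Module.finrank K V = d → ∀ M : Submodule R V,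
      qlen x M ≤ d * Module.length R (R ⧸ Ideal.span ({x} : Set R)) := by
  intro d
  induction d with
  | zero =>
    intro V _ _ _ _ _ hd M
    have : Subsingleton V := Module.finrank_zero_iff.mp hd
    rw [qlen_of_subsingleton]
    exact zero_le
  | succ d ih =>
    intro V _ _ _ _ _ hd M
    have hnt : Nontrivial V := Module.nontrivial_of_finrank_pos (R := K) (by omega)
    obtain ⟨v, hv⟩ := exists_ne (0 : V)
    obtain ⟨φ, hφ⟩ : ∃ φ : Module.Dual K V, φ v ≠ 0 := by
      by_contra hcon
      push Not at hcon
      exact hv ((Module.forall_dual_apply_eq_zero_iff K v).mp hcon)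
    have hφs : Function.Surjective φ := by
      intro c
      exact ⟨(c / φ v) • v, by simp [hφ]⟩
    let W : Submodule K V := LinearMap.ker φ
    have hW : Module.finrank K (LinearMap.ker φ) = d := by
      have := LinearMap.finrank_range_add_finrank_ker φ
      rw [LinearMap.range_eq_top.mpr hφs, finrank_top, Module.finrank_self] at this
      omega
    let φR : V →ₗ[R] K := φ.restrictScalars R
    let g : M →ₗ[R] (M.map φR) := φR.submoduleMap M
    have hg : Function.Surjective g := φR.submoduleMap_surjective M
    let ι : W →ₗ[R] V := W.subtype.restrictScalars R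
    let M' : Submodule R W := M.comap ι
    let f : M' →ₗ[R] M := (ι.domRestrict M').codRestrict M (fun w => w.2)
    have hfg : Function.Exact f g := by
      intro m
      constructor
      · intro hm
        have h0 : φ (m : V) = 0 := congrArg Subtype.val hm
        exact ⟨⟨⟨m, h0⟩, m.2⟩, Subtype.ext rfl⟩
      · rintro ⟨⟨⟨w, hw⟩, hwM⟩, rfl⟩
        exact Subtype.ext hw
    have h1 := qlen_le_add f g hg hfg x
    have h2 := ih W hW M'
    have h3 := qlen_le_of_submodule_fractionRing (M.map φR) hx
    calc qlen x M ≤ qlen x M' + qlen x (M.map φR) := h1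
      _ ≤ d * Module.length R (R ⧸ Ideal.span ({x} : Set R)) +
          Module.length R (R ⧸ Ideal.span ({x} : Set R)) := add_le_add h2 h3
      _ = ((d + 1 : ℕ) : ℕ∞) * Module.length R (R ⧸ Ideal.span ({x} : Set R)) := by
        push_cast
        ring

/-- **Krull–Akizuki length lemma.** -/
theorem length_quotient_le (V : Type v) [AddCommGroup V] [Module K V] [Module R V]
    [IsScalarTower R K V] [FiniteDimensional K V] (M : Submodule R V) {x : R} (hx : x ≠ 0) :
    Module.length R (M ⧸ (Ideal.span ({x} : Set R) • (⊤ : Submodule R M))) ≤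
      Module.finrank K V * Module.length R (R ⧸ Ideal.span ({x} : Set R)) :=
  qlen_le_finrank_mul_aux hx _ V rfl M

theorem length_quotient_ne_top (V : Type v) [AddCommGroup V] [Module K V] [Module R V]
    [IsScalarTower R K V] [FiniteDimensional K V] (M : Submodule R V) {x : R} (hx : x ≠ 0) :
    Module.length R (M ⧸ (Ideal.span ({x} : Set R) • (⊤ : Submodule R M))) ≠ ⊤ :=
  ne_top_of_le_ne_top (WithTop.mul_ne_top (ENat.natCast_ne_top _)
    (length_quotient_span_singleton_ne_top hx)) (length_quotient_le (K := K) V M hx)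

end main

end Groth.Agent.Lib.helper13.KA
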