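import Mathlib
import Groth.Agent.Lib.Helper13.KA1

/-!
# Krull–Akizuki theorem
-/

set_option autoImplicit false

namespace Groth.Agent.Lib.helper13.KA

section

variable (R : Type*) [CommRing R] [IsDomain R] [IsNoetherianRing R] [Ring.KrullDimLE 1 R]
  (K : Type*) (L : Type*) [Field K] [Field L] [Algebra R K] [IsFractionRing R K] [Algebra K L]
  [FiniteDimensional K L] [Algebra R L] [IsScalarTower R K L]
  (A : Type*) [CommRing A] [Algebra R A] [Algebra A L] [IsScalarTower R A L]

include R K L in
theorem length_quotient_smul_top_ne_top (hA : Function.Injective (algebraMap A L)) {a : R}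
    (ha : a ≠ 0) :
    Module.length R (A ⧸ (Ideal.span ({a} : Set R) • (⊤ : Submodule R A))) ≠ ⊤ := by
  let ι : A →ₗ[R] L := (IsScalarTower.toAlgHom R A L).toLinearMap
  have hι : Function.Injective ι := hA
  have h1 : qlen a A = qlen a (LinearMap.range ι) := qlen_congr (LinearEquiv.ofInjective ι hι) a
  have h2 := length_quotient_ne_top (K := K) L (LinearMap.range ι) ha
  change qlen a A ≠ ⊤
  rw [h1]
  exact h2

include R K L in
/-- For an ideal `J` of `A` containing a nonzero element of `R`, `A ⧸ J` has finite length over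
`R`. -/
theorem length_quotient_ideal_ne_top (hA : Function.Injective (algebraMap A L)) {a : R}
    (ha : a ≠ 0) (J : Ideal A) (haJ : algebraMap R A a ∈ J) :
    Module.length R (A ⧸ J) ≠ ⊤ := by
  have h1 := length_quotient_smul_top_ne_top R K L A hA ha
  let π : A →ₗ[R] A ⧸ J := (Ideal.Quotient.mkₐ R J).toLinearMap
  have hπ : Function.Surjective π := Ideal.Quotient.mk_surjective
  have hle : (Ideal.span ({a} : Set R) • (⊤ : Submodule R A)) ≤ LinearMap.ker π := by
    rw [Submodule.ideal_span_singleton_smul]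
    rintro y hy
    obtain ⟨z, -, rfl⟩ := (Submodule.mem_smul_pointwise_iff_exists _ _ _).mp hy
    rw [LinearMap.mem_ker]
    change Ideal.Quotient.mk J (a • z) = 0
    rw [Ideal.Quotient.eq_zero_iff_mem, Algebra.smul_def]
    exact J.mul_mem_right _ haJ
  have hs : Function.Surjective (Submodule.liftQ _ π hle) := by
    intro y
    obtain ⟨z, rfl⟩ := hπ y
    exact ⟨Submodule.Quotient.mk z, rfl⟩
  exact ne_top_of_le_ne_top h1 (Module.length_le_of_surjective _ hs)

omit [IsNoetherianRing R] [Ring.KrullDimLE 1 R] in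
include R K L in
/-- Nonzero ideals of `A` contain nonzero elements of `R`. -/
theorem exists_ne_zero_mem_of_ne_bot (hA : Function.Injective (algebraMap A L)) (J : Ideal A)
    (hJ : J ≠ ⊥) : ∃ a : R, a ≠ 0 ∧ algebraMap R A a ∈ J := by
  obtain ⟨b, hbJ, hb0⟩ := Submodule.exists_mem_ne_zero_of_ne_bot hJ
  have : IsDomain A := hA.isDomain (algebraMap A L)
  have h2 : Algebra.IsAlgebraic R L :=
    (IsFractionRing.comap_isAlgebraic_iff (A := R) (K := K) (C := L)).mpr inferInstance
  have hb : IsAlgebraic R b :=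
    (isAlgebraic_algebraMap_iff hA).mp (Algebra.IsAlgebraic.isAlgebraic (algebraMap A L b))
  obtain ⟨r, hr, c, hc⟩ := hb.exists_nonzero_dvd (mem_nonZeroDivisors_of_ne_zero hb0)
  exact ⟨r, hr, hc ▸ J.mul_mem_right c hbJ⟩

include R K L in
/-- **Krull–Akizuki.** -/
theorem isNoetherianRing_of_between (hA : Function.Injective (algebraMap A L)) :
    IsNoetherianRing A := by
  rw [isNoetherianRing_iff_ideal_fg]
  intro J
  by_cases hJ : J = ⊥
  · rw [hJ]; exact Submodule.fg_bot
  obtain ⟨a, ha, haJ⟩ := exists_ne_zero_mem_of_ne_bot R K L A hA J hJ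
  set a' := algebraMap R A a with ha'
  have hlen := length_quotient_ideal_ne_top R K L A hA ha (Ideal.span {a'})
    (Ideal.subset_span rfl)
  rw [Module.length_ne_top_iff, isFiniteLength_iff_isNoetherian_isArtinian] at hlen
  have hN : IsNoetherian A (A ⧸ Ideal.span {a'}) := by
    have := hlen.1
    exact isNoetherian_of_tower R this
  refine Submodule.fg_of_fg_map_of_fg_inf_ker (Ideal.span {a'}).mkQ (hN.noetherian _) ?_
  rw [Submodule.ker_mkQ, inf_eq_right.mpr ((Ideal.span_singleton_le_iff_mem J).mpr haJ)]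
  exact ⟨{a'}, by simp⟩

end

end Groth.Agent.Lib.helper13.KA
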