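import Mathlib
import Groth.Agent.Lib.Helper13.KA2

/-!
# Consequences of Krull–Akizuki for quotients
-/

set_option autoImplicit false

namespace Groth.Agent.Lib.helper13.KA

section

variable (R : Type*) [CommRing R] [IsDomain R] [IsNoetherianRing R] [Ring.KrullDimLE 1 R]
  (K : Type*) (L : Type*) [Field K] [Field L] [Algebra R K] [IsFractionRing R K] [Algebra K L]
  [FiniteDimensional K L] [Algebra R L] [IsScalarTower R K L]
  (A : Type*) [CommRing A] [Algebra R A] [Algebra A L] [IsScalarTower R A L]

include R K L in
theorem isFiniteLength_quotient (hA : Function.Injective (algebraMap A L)) {a : R}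
    (ha : a ≠ 0) (J : Ideal A) (haJ : algebraMap R A a ∈ J) :
    IsFiniteLength R (A ⧸ J) :=
  Module.length_ne_top_iff.mp (length_quotient_ideal_ne_top R K L A hA ha J haJ)

include R K L in
theorem finite_quotient (hA : Function.Injective (algebraMap A L)) {a : R}
    (ha : a ≠ 0) (J : Ideal A) (haJ : algebraMap R A a ∈ J) :
    Module.Finite R (A ⧸ J) := by
  have := (isFiniteLength_iff_isNoetherian_isArtinian.mp
    (isFiniteLength_quotient R K L A hA ha J haJ)).1
  infer_instance

include R K L in
theorem isArtinianRing_quotient (hA : Function.Injective (algebraMap A L)) {a : R}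
    (ha : a ≠ 0) (J : Ideal A) (haJ : algebraMap R A a ∈ J) :
    IsArtinianRing (A ⧸ J) := by
  have := (isFiniteLength_iff_isNoetherian_isArtinian.mp
    (isFiniteLength_quotient R K L A hA ha J haJ)).2
  exact isArtinian_of_tower R this

include R K L in
theorem isMaximal_of_isPrime_of_mem (hA : Function.Injective (algebraMap A L)) {a : R}
    (ha : a ≠ 0) (J : Ideal A) [J.IsPrime] (haJ : algebraMap R A a ∈ J) :
    J.IsMaximal := by
  have := isArtinianRing_quotient R K L A hA ha J haJ
  exact Ideal.Quotient.maximal_of_isField _ (IsArtinianRing.isField_of_isDomain _)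

include R K L in
theorem finite_setOf_isPrime_mem (hA : Function.Injective (algebraMap A L)) {a : R}
    (ha : a ≠ 0) : {J : Ideal A | J.IsPrime ∧ algebraMap R A a ∈ J}.Finite := by
  set a' := algebraMap R A a with ha'
  have := isArtinianRing_quotient R K L A hA ha (Ideal.span {a'}) (Ideal.subset_span rfl)
  refine (Set.finite_range (fun p : PrimeSpectrum (A ⧸ Ideal.span {a'}) =>
    p.asIdeal.comap (Ideal.Quotient.mk (Ideal.span {a'})))).subset ?_
  rintro J ⟨hJ, haJ⟩
  have hle : RingHom.ker (Ideal.Quotient.mk (Ideal.span {a'})) ≤ J := by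
    rw [Ideal.mk_ker]
    exact (Ideal.span_singleton_le_iff_mem J).mpr haJ
  refine ⟨⟨J.map (Ideal.Quotient.mk _), Ideal.map_isPrime_of_surjective
    Ideal.Quotient.mk_surjective hle⟩, ?_⟩
  change (J.map (Ideal.Quotient.mk _)).comap (Ideal.Quotient.mk _) = J
  rw [Ideal.comap_map_of_surjective _ Ideal.Quotient.mk_surjective]
  exact sup_eq_left.mpr (by rwa [← RingHom.ker_eq_comap_bot])

end

end Groth.Agent.Lib.helper13.KA
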