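import Mathlib
import Groth.Agent.Lib.Helper13.KA3

/-!
# Krull–Akizuki: existence of discrete valuation rings
-/

set_option autoImplicit false

namespace Groth.Agent.Lib.helper13.KA

section

variable (R : Type*) [CommRing R] [IsDomain R] [IsNoetherianRing R] [Ring.KrullDimLE 1 R]
  (K : Type*) (L : Type*) [Field K] [Field L] [Algebra R K] [IsFractionRing R K] [Algebra K L]
  [FiniteDimensional K L] [Algebra R L] [IsScalarTower R K L]
  (A : Type*) [CommRing A] [Algebra R A] [Algebra A L] [IsScalarTower R A L]

include R K L in
theorem dimensionLEOne_of_between (hA : Function.Injective (algebraMap A L)) :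
    Ring.DimensionLEOne A where
  maximalOfPrime := fun {p} hp hp' => by
    obtain ⟨a, ha, hap⟩ := exists_ne_zero_mem_of_ne_bot R K L A hA p hp
    exact isMaximal_of_isPrime_of_mem R K L A hA ha p hap

end

section dvr

variable {K : Type*} [Field K] (A : Subring K) [IsFractionRing A K] [IsNoetherianRing A]
  [Ring.KrullDimLE 1 A]

/-- A Dedekind domain `D ⊆ K` with fraction field `K` which is not a field is contained in a
discrete valuation ring of `K`. -/
theorem exists_dvr_of_isDedekindDomain {T : Type*} [CommRing T] [Algebra T K] (D : Subalgebra T K)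
    [IsDedekindDomain D] [IsFractionRing D K] (hnf : ¬ IsField D) :
    ∃ O : ValuationSubring K, IsDiscreteValuationRing O ∧ ∀ x ∈ D, x ∈ O := by
  obtain ⟨n, hn⟩ := Ideal.exists_maximal D
  have hn0 : n ≠ ⊥ := Ring.ne_bot_of_isMaximal_of_not_isField hn hnf
  obtain ⟨v, hv⟩ : ∃ v : IsDedekindDomain.HeightOneSpectrum D, v.asIdeal = n :=
    ⟨⟨n, hn.isPrime, hn0⟩, rfl⟩
  refine ⟨v.valuationSubringAtPrime K, ?_, ?_⟩
  · have hloc : IsLocalization.AtPrime (v.valuationSubringAtPrime K) v.asIdeal := inferInstance
    exact IsLocalization.AtPrime.isDiscreteValuationRing_of_dedekind_domain D (P := v.asIdeal)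
      v.ne_bot (v.valuationSubringAtPrime K)
  · intro x hxD
    have h1 : algebraMap D K ⟨x, hxD⟩ =
        algebraMap (v.valuationSubringAtPrime K) K
          (algebraMap D (v.valuationSubringAtPrime K) ⟨x, hxD⟩) :=
      IsScalarTower.algebraMap_apply D (v.valuationSubringAtPrime K) K _
    have h2 : x = ((algebraMap D (v.valuationSubringAtPrime K) ⟨x, hxD⟩ :
        v.valuationSubringAtPrime K) : K) := h1
    rw [h2]
    exact Subtype.property _

/-- A proper subring of `K` containing a one-dimensional Noetherian domain `A` with fraction field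
`K` is contained in a discrete valuation ring of `K`. -/
theorem exists_dvr_of_ne_top (T : Subalgebra A K) (hT : T ≠ ⊤) :
    ∃ O : ValuationSubring K, IsDiscreteValuationRing O ∧ ∀ x ∈ T, x ∈ O := by
  let D := integralClosure T K
  have hDK : Function.Injective (algebraMap D K) := Subtype.val_injective
  have hN : IsNoetherianRing D := isNoetherianRing_of_between A K K D hDK
  have hD1 : Ring.DimensionLEOne D := dimensionLEOne_of_between A K K D hDK
  have hIC : IsIntegrallyClosed D := integralClosure.isIntegrallyClosedOfFiniteExtension (K := K)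
  have hfr : IsFractionRing D K := integralClosure.isFractionRing_of_finite_extension K K
  have hDed : IsDedekindDomain D := { hN, hD1, hIC with }
  have hnf : ¬ IsField D := by
    intro hf
    have hinj : Function.Injective (algebraMap T D) := by
      intro x y hxy
      exact Subtype.ext (congrArg (fun z : D => (z : K)) hxy)
    have hTf : IsField T := isField_of_isIntegral_of_isField (R := T) (S := D) hinj (by exact hf)
    apply hT
    rw [eq_top_iff]
    intro x _
    obtain ⟨a, b, hb, rfl⟩ := IsFractionRing.div_surjective (A := A) x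
    have hb0 : algebraMap A T b ≠ 0 := by
      intro h0
      have : (b : K) = 0 := congrArg (fun z : T => (z : K)) h0
      exact nonZeroDivisors.ne_zero hb (Subtype.ext this)
    obtain ⟨c, hc⟩ := hTf.mul_inv_cancel hb0
    have hc' : (b : K) * (c : K) = 1 := congrArg (fun z : T => (z : K)) hc
    have hbK : (b : K) ≠ 0 := fun h => nonZeroDivisors.ne_zero hb (Subtype.ext h)
    have : algebraMap A K a / algebraMap A K b = (a : K) * (c : K) := by
      change (a : K) / (b : K) = _
      rw [div_eq_iff hbK, mul_assoc, mul_comm (c : K), hc', mul_one]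
    rw [this]
    exact T.mul_mem (T.algebraMap_mem a) c.2
  obtain ⟨O, hO, hDO⟩ := exists_dvr_of_isDedekindDomain (K := K) D hnf
  exact ⟨O, hO, fun x hx => hDO x ((integralClosure T K).algebraMap_mem ⟨x, hx⟩)⟩

end dvr

end Groth.Agent.Lib.helper13.KA
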