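import Mathlib
import Groth.Agent.Lib.Helper13.KA4

/-!
# Discrete valuation rings dominating Noetherian local domains
-/

set_option autoImplicit false

namespace Groth.Agent.Lib.helper13.KA

open IsLocalRing

section localSubring

variable {L : Type*} [Field L]

/-- If `A` and `B` are dominated by `C` and `A ⊆ B` then `B` dominates `A`. -/
lemma le_of_le_of_le {A B C : LocalSubring L} (hA : A ≤ C) (hB : B ≤ C)
    (h : A.toSubring ≤ B.toSubring) : A ≤ B := by
  refine ⟨h, ⟨fun a ha => ?_⟩⟩
  have h1 : IsUnit (Subring.inclusion hB.1 (Subring.inclusion h a)) := ha.map _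
  have h2 : Subring.inclusion hB.1 (Subring.inclusion h a) = Subring.inclusion hA.1 a := rfl
  rw [h2] at h1
  exact hA.2.map_nonunit a h1

lemma mem_maximalIdeal_iff_of_le {A B : LocalSubring L} (h : A ≤ B) (a : A.toSubring) :
    a ∈ maximalIdeal A.toSubring ↔ Subring.inclusion h.1 a ∈ maximalIdeal B.toSubring := by
  have := h.2
  rw [mem_maximalIdeal, mem_maximalIdeal, mem_nonunits_iff, mem_nonunits_iff,
    isUnit_map_iff (Subring.inclusion h.1)]

/-- The localisation of `S ⊆ C` at the contraction of the maximal ideal of the local subring `C`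
is dominated by `C`. -/
lemma ofPrime_comap_le (S : Subring L) (C : LocalSubring L) (hSC : S ≤ C.toSubring) :
    LocalSubring.ofPrime S ((maximalIdeal C.toSubring).comap (Subring.inclusion hSC)) ≤ C := by
  set P := (maximalIdeal C.toSubring).comap (Subring.inclusion hSC) with hP
  have hsub : (LocalSubring.ofPrime S P).toSubring ≤ C.toSubring := by
    intro z hz
    obtain ⟨⟨a, s⟩, has⟩ := IsLocalization.surj P.primeCompl
      (⟨z, hz⟩ : (LocalSubring.ofPrime S P).toSubring)
    have has' : z * (s : L) = (a : L) := congrArg Subtype.val has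
    have hs : (Subring.inclusion hSC s.1) ∉ maximalIdeal C.toSubring := s.2
    have hsu : IsUnit (Subring.inclusion hSC s.1 : C.toSubring) := by
      by_contra hnu
      exact hs ((mem_maximalIdeal _).mpr hnu)
    obtain ⟨u, hu⟩ := hsu
    have hu' : ((u : C.toSubring) : L) = (s : L) := congrArg Subtype.val hu
    have hinv : ((u⁻¹ : (C.toSubring)ˣ) : C.toSubring) * (u : C.toSubring) = 1 := by simp
    have hinv' : (((u⁻¹ : (C.toSubring)ˣ) : C.toSubring) : L) * (s : L) = 1 := by
      rw [← hu']
      exact congrArg Subtype.val hinv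
    have hz' : z = (a : L) * (((u⁻¹ : (C.toSubring)ˣ) : C.toSubring) : L) := by
      rw [← has', mul_assoc, mul_comm (s : L), hinv', mul_one]
    rw [hz']
    exact C.toSubring.mul_mem (hSC a.2) (Subtype.property _)
  refine ⟨hsub, ((local_hom_TFAE _).out 2 0).mp ?_⟩
  rw [← IsLocalization.AtPrime.map_eq_maximalIdeal P (LocalSubring.ofPrime S P).toSubring,
    Ideal.map_map, Ideal.map_le_iff_le_comap]
  intro x hx
  exact hx

/-- A Noetherian local subring of a field which is not a field is dominated by a Noetherian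
local subring of Krull dimension at most one which is not a field. -/
theorem exists_ge_krullDimLE_one (R₁ : LocalSubring L) [IsNoetherianRing R₁.toSubring]
    (hnf : ¬ IsField R₁.toSubring) :
    ∃ R₂ : LocalSubring L, R₁ ≤ R₂ ∧ IsNoetherianRing R₂.toSubring ∧
      Ring.KrullDimLE 1 R₂.toSubring ∧ ¬ IsField R₂.toSubring := by
  classical
  obtain ⟨V, hV⟩ := R₁.exists_le_valuationSubring
  obtain ⟨T, hT⟩ : (maximalIdeal R₁.toSubring).FG := IsNoetherian.noetherian _
  have hT0 : ∃ x ∈ T, x ≠ 0 := by
    by_contra hcon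
    push Not at hcon
    have h0 : maximalIdeal R₁.toSubring = ⊥ := by
      rw [← hT]
      exact Ideal.span_eq_bot.mpr (fun x hx => hcon x hx)
    exact hnf (IsLocalRing.isField_iff_maximalIdeal_eq.mpr h0)
  obtain ⟨x₀, hx₀T, hx₀0⟩ := hT0
  obtain ⟨xj, hxjT, hmax⟩ := T.exists_max_image (fun x => V.valuation (x : L)) ⟨x₀, hx₀T⟩
  have hxj0 : (xj : L) ≠ 0 := by
    intro h0
    have h1 := hmax x₀ hx₀T
    simp only [h0, map_zero, le_zero_iff, map_eq_zero] at h1
    exact hx₀0 (Subtype.ext h1)
  have hvpos : 0 < V.valuation (xj : L) := by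
    rw [zero_lt_iff]
    exact (map_ne_zero _).mpr hxj0
  have hdiv : ∀ x ∈ T, (x : L) / (xj : L) ∈ V := by
    intro x hx
    rw [← V.valuation_le_one_iff, map_div₀]
    exact (div_le_one₀ hvpos).mpr (hmax x hx)
  let φ : MvPolynomial T R₁.toSubring →ₐ[R₁.toSubring] L :=
    MvPolynomial.aeval (fun x : T => ((x.1 : R₁.toSubring) : L) / (xj : L))
  let S : Subring L := φ.range.toSubring
  have hR₁S : R₁.toSubring ≤ S := fun r hr => φ.range.algebraMap_mem ⟨r, hr⟩
  have hSV : S ≤ V.toSubring := by
    let V' : Subalgebra R₁.toSubring L :=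
      { toSubsemiring := V.toSubring.toSubsemiring
        algebraMap_mem' := fun r => hV.1 r.2 }
    have : φ.range ≤ V' := by
      rw [← Algebra.adjoin_range_eq_range_aeval]
      refine Algebra.adjoin_le ?_
      rintro _ ⟨x, rfl⟩
      exact hdiv x.1 x.2
    exact fun z hz => this hz
  have hNS : IsNoetherianRing S :=
    isNoetherianRing_of_surjective (MvPolynomial T R₁.toSubring) S φ.rangeRestrict.toRingHom
      φ.rangeRestrict_surjective
  let xj' : S := ⟨(xj : L), hR₁S xj.2⟩
  have hxjm : xj ∈ maximalIdeal R₁.toSubring := by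
    rw [← hT]
    exact Ideal.subset_span hxjT
  have hJ : Ideal.span ({xj'} : Set S) ≠ ⊤ := by
    intro htop
    rw [Ideal.span_singleton_eq_top] at htop
    have h1 : IsUnit (Subring.inclusion hSV xj') := htop.map (Subring.inclusion hSV)
    have h2 := (mem_maximalIdeal_iff_of_le hV xj).mp hxjm
    exact h2 h1
  obtain ⟨⟨q, hq⟩⟩ := Ideal.nonempty_minimalPrimes hJ
  have hqp : q.IsPrime := hq.1.1
  have hxjq : xj' ∈ q := hq.1.2 (Ideal.subset_span rfl)
  have hht : q.height ≤ 1 :=
    Ideal.height_le_one_of_isPrincipal_of_mem_minimalPrimes (Ideal.span ({xj'} : Set S)) q hq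
  have hTq : ∀ x ∈ T, (⟨(x : L), hR₁S x.2⟩ : S) ∈ q := by
    intro x hx
    have hxS : ((x : L) / (xj : L)) ∈ S := ⟨MvPolynomial.X ⟨x, hx⟩, by simp [φ]⟩
    have : (⟨(x : L), hR₁S x.2⟩ : S) = ⟨(x : L) / (xj : L), hxS⟩ * xj' := by
      apply Subtype.ext
      change (x : L) = (x : L) / (xj : L) * (xj : L)
      rw [div_mul_cancel₀ _ hxj0]
    rw [this]
    exact q.mul_mem_left _ hxjq
  refine ⟨LocalSubring.ofPrime S q, ?_, ?_, ?_, ?_⟩
  · refine ⟨hR₁S.trans (LocalSubring.le_ofPrime S q), ((local_hom_TFAE _).out 2 0).mp ?_⟩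
    rw [← hT, Ideal.map_span, Ideal.span_le]
    rintro _ ⟨x, hx, rfl⟩
    have h1 := Ideal.mem_map_of_mem (algebraMap S (LocalSubring.ofPrime S q).toSubring) (hTq x hx)
    rw [IsLocalization.AtPrime.map_eq_maximalIdeal q (LocalSubring.ofPrime S q).toSubring] at h1
    exact h1
  · exact IsLocalization.isNoetherianRing q.primeCompl (LocalSubring.ofPrime S q).toSubring hNS
  · rw [Ring.krullDimLE_iff,
      IsLocalization.AtPrime.ringKrullDim_eq_height q (LocalSubring.ofPrime S q).toSubring]
    exact_mod_cast hht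
  · intro hf
    have h0 := IsLocalRing.isField_iff_maximalIdeal_eq.mp hf
    have h1 := Ideal.mem_map_of_mem (algebraMap S (LocalSubring.ofPrime S q).toSubring) hxjq
    rw [IsLocalization.AtPrime.map_eq_maximalIdeal q (LocalSubring.ofPrime S q).toSubring, h0,
      Ideal.mem_bot] at h1
    exact hxj0 (congrArg Subtype.val h1)

end localSubring

section dvr

variable {L : Type*} [Field L]

theorem exists_dvr_of_isDedekindDomain' {T : Type*} [CommRing T] [Algebra T L]
    (D : Subalgebra T L) [IsDedekindDomain D] [IsFractionRing D L] (n : Ideal D) [hn : n.IsMaximal]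
    (hn0 : n ≠ ⊥) :
    ∃ O : ValuationSubring L, IsDiscreteValuationRing O ∧ ∃ h : ∀ x ∈ D, x ∈ O,
      ∀ (x : L) (hx : x ∈ D), (⟨x, hx⟩ : D) ∈ n → (⟨x, h x hx⟩ : O) ∈ maximalIdeal O := by
  obtain ⟨v, hv⟩ : ∃ v : IsDedekindDomain.HeightOneSpectrum D, v.asIdeal = n :=
    ⟨⟨n, hn.isPrime, hn0⟩, rfl⟩
  have hloc : IsLocalization.AtPrime (v.valuationSubringAtPrime L) v.asIdeal := inferInstance
  have hval : ∀ (x : L) (hxD : x ∈ D),
      x = ((algebraMap D (v.valuationSubringAtPrime L) ⟨x, hxD⟩ :
        v.valuationSubringAtPrime L) : L) := by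
    intro x hxD
    exact IsScalarTower.algebraMap_apply D (v.valuationSubringAtPrime L) L ⟨x, hxD⟩
  have hmem : ∀ x ∈ D, x ∈ v.valuationSubringAtPrime L := by
    intro x hxD
    rw [hval x hxD]
    exact Subtype.property _
  refine ⟨v.valuationSubringAtPrime L, ?_, hmem, ?_⟩
  · exact IsLocalization.AtPrime.isDiscreteValuationRing_of_dedekind_domain D (P := v.asIdeal)
      v.ne_bot (v.valuationSubringAtPrime L)
  · intro x hxD hxn
    have h1 := Ideal.mem_map_of_mem (algebraMap D (v.valuationSubringAtPrime L)) (hv ▸ hxn)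
    rw [IsLocalization.AtPrime.map_eq_maximalIdeal v.asIdeal (v.valuationSubringAtPrime L)] at h1
    have h2 : (⟨x, hmem x hxD⟩ : v.valuationSubringAtPrime L) =
        algebraMap D (v.valuationSubringAtPrime L) ⟨x, hxD⟩ := Subtype.ext (hval x hxD)
    rw [h2]
    exact h1

/-- A one-dimensional Noetherian local subring with fraction field `L`, not a field, is dominated
by a discrete valuation ring of `L`. -/
theorem exists_dvr_ge_of_krullDimLE_one (R₂ : LocalSubring L) [IsNoetherianRing R₂.toSubring]
    [Ring.KrullDimLE 1 R₂.toSubring] [IsFractionRing R₂.toSubring L]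
    (hnf : ¬ IsField R₂.toSubring) :
    ∃ O : ValuationSubring L, IsDiscreteValuationRing O ∧ R₂ ≤ O.toLocalSubring := by
  let D := integralClosure R₂.toSubring L
  have hDL : Function.Injective (algebraMap D L) := Subtype.val_injective
  have hN : IsNoetherianRing D := isNoetherianRing_of_between R₂.toSubring L L D hDL
  have hD1 : Ring.DimensionLEOne D := dimensionLEOne_of_between R₂.toSubring L L D hDL
  have hIC : IsIntegrallyClosed D := integralClosure.isIntegrallyClosedOfFiniteExtension (K := L)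
  have hfr : IsFractionRing D L := integralClosure.isFractionRing_of_finite_extension L L
  have hDed : IsDedekindDomain D := { hN, hD1, hIC with }
  have hinj : Function.Injective (algebraMap R₂.toSubring D) := by
    intro x y hxy
    exact Subtype.ext (congrArg (fun z : D => (z : L)) hxy)
  have hDnf : ¬ IsField D := fun hf =>
    hnf (isField_of_isIntegral_of_isField (R := R₂.toSubring) (S := D) hinj (by exact hf))
  obtain ⟨n, hn⟩ := Ideal.exists_maximal D
  have hn0 : n ≠ ⊥ := Ring.ne_bot_of_isMaximal_of_not_isField hn hDnf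
  obtain ⟨O, hO, hDO, hnO⟩ := exists_dvr_of_isDedekindDomain' (L := L) D n hn0
  have hcomap : n.comap (algebraMap R₂.toSubring D) = maximalIdeal R₂.toSubring :=
    IsLocalRing.eq_maximalIdeal (Ideal.isMaximal_comap_of_isIntegral_of_isMaximal n)
  have hsub : R₂.toSubring ≤ O.toLocalSubring.toSubring := fun x hx =>
    hDO x ((integralClosure R₂.toSubring L).algebraMap_mem ⟨x, hx⟩)
  refine ⟨O, hO, hsub, ((local_hom_TFAE _).out 3 0).mp ?_⟩
  intro a ha
  have h1 : algebraMap R₂.toSubring D a ∈ n := by
    rw [← hcomap] at ha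
    exact ha
  exact hnO (a : L) ((integralClosure R₂.toSubring L).algebraMap_mem a) h1

end dvr

section main

variable {L : Type*} [Field L]

lemma isFractionRing_of_le {S T : Subring L} (h : S ≤ T) [IsFractionRing S L] :
    IsFractionRing T L := by
  refine IsFractionRing.of_field T L fun z => ?_
  obtain ⟨x, y, -, rfl⟩ := IsFractionRing.div_surjective (A := S) z
  exact ⟨Subring.inclusion h x, Subring.inclusion h y, rfl⟩

/-- **Existence of dominating discrete valuation rings** (fraction field case): a Noetherian local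
subring `R₁` of a field `L`, with fraction field `L`, which is not a field, is dominated by a
discrete valuation ring of `L`. -/
theorem exists_dvr_ge (R₁ : LocalSubring L) [IsNoetherianRing R₁.toSubring]
    [IsFractionRing R₁.toSubring L] (hnf : ¬ IsField R₁.toSubring) :
    ∃ O : ValuationSubring L, IsDiscreteValuationRing O ∧ R₁ ≤ O.toLocalSubring := by
  obtain ⟨R₂, h12, hN, hD, hnf₂⟩ := exists_ge_krullDimLE_one R₁ hnf
  have hfr : IsFractionRing R₂.toSubring L := isFractionRing_of_le h12.1
  obtain ⟨O, hO, h2O⟩ := exists_dvr_ge_of_krullDimLE_one R₂ hnf₂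
  exact ⟨O, hO, h12.trans h2O⟩

/-- A nonzero prime `P` of a Noetherian subring `S₀` of `L` with fraction field `L` is the centre
of a discrete valuation ring of `L` containing `S₀`. -/
theorem exists_dvr_of_prime (S₀ : Subring L) [IsNoetherianRing S₀] [IsFractionRing S₀ L]
    (P : Ideal S₀) [P.IsPrime] (hP : P ≠ ⊥) :
    ∃ O : ValuationSubring L, IsDiscreteValuationRing O ∧ ∃ h : S₀ ≤ O.toSubring,
      ∀ s : S₀, (⟨(s : L), h s.2⟩ : O) ∈ maximalIdeal O ↔ s ∈ P := by
  let R₁ := LocalSubring.ofPrime S₀ P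
  have hN : IsNoetherianRing R₁.toSubring :=
    IsLocalization.isNoetherianRing P.primeCompl R₁.toSubring inferInstance
  have hfr : IsFractionRing R₁.toSubring L := isFractionRing_of_le (LocalSubring.le_ofPrime S₀ P)
  have hmem : ∀ s : S₀, algebraMap S₀ R₁.toSubring s ∈ maximalIdeal R₁.toSubring ↔ s ∈ P :=
    fun s => IsLocalization.AtPrime.to_map_mem_maximal_iff R₁.toSubring P s
  have hnf : ¬ IsField R₁.toSubring := by
    intro hf
    have h0 := IsLocalRing.isField_iff_maximalIdeal_eq.mp hf
    obtain ⟨s, hsP, hs0⟩ := Submodule.exists_mem_ne_zero_of_ne_bot hP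
    have h1 := (hmem s).mpr hsP
    rw [h0, Ideal.mem_bot] at h1
    exact hs0 (Subtype.ext (congrArg (fun z : R₁.toSubring => (z : L)) h1))
  obtain ⟨O, hO, h1O⟩ := exists_dvr_ge R₁ hnf
  refine ⟨O, hO, (LocalSubring.le_ofPrime S₀ P).trans h1O.1, fun s => ?_⟩
  rw [← hmem s, mem_maximalIdeal_iff_of_le h1O]
  rfl

end main

end Groth.Agent.Lib.helper13.KA
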