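import Mathlib
import Groth.Agent.Lib.Helper13.KA5

/-!
# Discrete valuation rings centred at a prime, essentially finite type case
-/

set_option autoImplicit false

namespace Groth.Agent.Lib.helper13.KA

open IsLocalRing

/-- Let `R₀` be a Noetherian ring, `L` a field which is an `R₀`-algebra essentially of finite type,
and `P` a prime of `R₀` strictly containing the kernel of `R₀ → L`. Then there is a discrete
valuation ring of `L` containing the image of `R₀` whose maximal ideal contracts to `P`. -/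
theorem exists_dvr_of_essFiniteType (R₀ : Type*) [CommRing R₀] [IsNoetherianRing R₀]
    (L : Type*) [Field L] [Algebra R₀ L] [Algebra.EssFiniteType R₀ L] (P : Ideal R₀) [P.IsPrime]
    (hker : RingHom.ker (algebraMap R₀ L) ≤ P) (hP : ∃ r ∈ P, algebraMap R₀ L r ≠ 0) :
    ∃ O : ValuationSubring L, IsDiscreteValuationRing O ∧ ∃ h : ∀ r, algebraMap R₀ L r ∈ O,
      ∀ r, ((⟨algebraMap R₀ L r, h r⟩ : O) ∈ maximalIdeal O ↔ r ∈ P) := by
  classical
  let ψ : R₀ →+* L := algebraMap R₀ L
  let B₀ : Subring L := ψ.range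
  let ψ' : R₀ →+* B₀ := ψ.rangeRestrict
  have hψ's : Function.Surjective ψ' := ψ.rangeRestrict_surjective
  have hkerψ' : RingHom.ker ψ' = RingHom.ker ψ := ψ.ker_rangeRestrict
  let Pb : Ideal B₀ := P.map ψ'
  have hPbprime : Pb.IsPrime :=
    Ideal.map_isPrime_of_surjective hψ's (by rw [hkerψ']; exact hker)
  have hcomap : Pb.comap ψ' = P := by
    rw [Ideal.comap_map_of_surjective _ hψ's, ← RingHom.ker_eq_comap_bot, hkerψ']
    exact sup_eq_left.mpr hker
  let R := LocalSubring.ofPrime B₀ Pb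
  obtain ⟨V, hV⟩ := R.exists_le_valuationSubring
  have hB₀V : B₀ ≤ V.toLocalSubring.toSubring := (LocalSubring.le_ofPrime B₀ Pb).trans hV.1
  have hVB : ∀ b : B₀, Subring.inclusion hB₀V b ∈ maximalIdeal V.toLocalSubring.toSubring ↔
      b ∈ Pb := by
    intro b
    rw [← IsLocalization.AtPrime.to_map_mem_maximal_iff R.toSubring Pb b,
      mem_maximalIdeal_iff_of_le hV]
    rfl
  obtain ⟨σ, hσ⟩ := (Algebra.essFiniteType_iff R₀ L).mp (inferInstance : Algebra.EssFiniteType R₀ L)
  let τ : L → L := fun t => if t ∈ V then t else t⁻¹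
  have hτV : ∀ t, τ t ∈ V := by
    intro t
    by_cases ht : t ∈ V
    · simp only [τ, if_pos ht]; exact ht
    · simp only [τ, if_neg ht]; exact (V.mem_or_inv_mem t).resolve_left ht
  let φ : MvPolynomial σ R₀ →ₐ[R₀] L := MvPolynomial.aeval (fun i : σ => τ i.1)
  let S₀ : Subring L := φ.range.toSubring
  have hRS : ∀ r : R₀, ψ r ∈ S₀ := fun r => φ.range.algebraMap_mem r
  have hτS : ∀ t ∈ σ, τ t ∈ S₀ := fun t ht => ⟨MvPolynomial.X ⟨t, ht⟩, by simp [φ]⟩
  have hS₀V : S₀ ≤ V.toLocalSubring.toSubring := by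
    let V' : Subalgebra R₀ L :=
      { toSubsemiring := V.toSubring.toSubsemiring
        algebraMap_mem' := fun r => hB₀V ⟨r, rfl⟩ }
    have : φ.range ≤ V' := by
      rw [← Algebra.adjoin_range_eq_range_aeval]
      refine Algebra.adjoin_le ?_
      rintro _ ⟨x, rfl⟩
      exact hτV x.1
    exact fun z hz => this hz
  have hNS : IsNoetherianRing S₀ :=
    isNoetherianRing_of_surjective (MvPolynomial σ R₀) S₀ φ.rangeRestrict.toRingHom
      φ.rangeRestrict_surjective
  have hfr : IsFractionRing S₀ L := by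
    refine IsFractionRing.of_field S₀ L fun z => ?_
    let F : Subfield L := Subfield.closure (S₀ : Set L)
    have hS₀F : ∀ x ∈ S₀, x ∈ F := fun x hx => Subfield.subset_closure hx
    let F' : Subalgebra R₀ L :=
      { toSubsemiring := F.toSubring.toSubsemiring
        algebraMap_mem' := fun r => hS₀F _ (hRS r) }
    have hσF : Algebra.adjoin R₀ (σ : Set L) ≤ F' := by
      refine Algebra.adjoin_le ?_
      intro t ht
      have h1 : τ t ∈ F := hS₀F _ (hτS t ht)
      by_cases htV : t ∈ V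
      · simp only [τ, if_pos htV] at h1; exact h1
      · simp only [τ, if_neg htV] at h1
        have := F.inv_mem h1
        rwa [inv_inv] at this
    obtain ⟨t, ht, htu, hzt⟩ := hσ z
    have ht0 : t ≠ 0 := htu.ne_zero
    have hzF : z ∈ F := by
      have h1 : z * t ∈ F := hσF hzt
      have h2 : t ∈ F := hσF ht
      have : z = z * t * t⁻¹ := by rw [mul_assoc, mul_inv_cancel₀ ht0, mul_one]
      rw [this]
      exact F.mul_mem h1 (F.inv_mem h2)
    obtain ⟨y, hy, w, hw, hyw⟩ := Subfield.mem_closure_iff.mp hzF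
    rw [Subring.closure_eq] at hy hw
    exact ⟨⟨y, hy⟩, ⟨w, hw⟩, hyw.symm⟩
  let P₁ : Ideal S₀ := (maximalIdeal V.toLocalSubring.toSubring).comap (Subring.inclusion hS₀V)
  have hP₁prime : P₁.IsPrime := Ideal.comap_isPrime _ _
  have hP₁mem : ∀ r : R₀, (⟨ψ r, hRS r⟩ : S₀) ∈ P₁ ↔ r ∈ P := by
    intro r
    rw [← hcomap]
    exact hVB (ψ' r)
  have hP₁0 : P₁ ≠ ⊥ := by
    obtain ⟨r, hrP, hr0⟩ := hP
    intro h0
    have h1 := (hP₁mem r).mpr hrP
    rw [h0, Ideal.mem_bot] at h1
    exact hr0 (congrArg Subtype.val h1)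
  obtain ⟨O, hO, hSO, hmO⟩ := exists_dvr_of_prime S₀ P₁ hP₁0
  refine ⟨O, hO, fun r => hSO (hRS r), fun r => ?_⟩
  rw [← hP₁mem r]
  exact hmO ⟨ψ r, hRS r⟩

end Groth.Agent.Lib.helper13.KA
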