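import Mathlib
import Groth.Prelude.Def_ega3
import Groth.Agent.Lib.Helper2.FlatCone
import Groth.Agent.Lib.Helper23.PCohInf
import Groth.Agent.Lib.Helper23.DRingPC8

/-!
# helper13: algebra half of the Grothendieck complex (Mumford's lemma, EGA III 6.10.5 / 7.7.12)

`K` a complex of flat modules over a Noetherian ring `A` with finitely generated cohomology, which is
universally exact in degrees `≥ N` (after every base change `A → B`; only the quotients `A → A/I` and `A → A`
are used).  Then there is a complex `L` of finite free modules, zero in degrees `≥ N`, and a morphism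
`w : L ⟶ K` which is a quasi-isomorphism after `- ⊗_A M` for every `A`-module `M` and after every base
change `A → B`.

* `exists_finite_free_complex_map`: the strong form (with the map `w`);
* `exists_finite_free_complex`: the interface asked for by helper21 (tools/GC_ALG_interface.lean.txt);
* `exists_finite_free_complex_module`: the module version `H^i(K ⊗ M) ≅ H^i(L ⊗ M)` (`CohIII.T`).
-/

set_option autoImplicit false
universe u
open CategoryTheory CategoryTheory.Limits MonoidalCategory TensorProduct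

attribute [local instance] HasDerivedCategory.standard

namespace Groth.Agent.Lib.helper13.GCAlg

open Groth.Agent.Lib.helper2.FlatCyc

section LinAlg
variable {A : Type u} [CommRing A]

/-- Quotient of a flat module `F` by `N` is flat provided `Q ⊗ N → Q ⊗ F` is injective for a cyclic
module `Q = A/I` for every ideal `I` (left-handed formulation, `Q` any model of `A/I`). -/
lemma flat_of_quot_injective {N F P : Type u} [AddCommGroup N] [AddCommGroup F] [AddCommGroup P]
    [Module A N] [Module A F] [Module A P] (f : N →ₗ[A] F) (g : F →ₗ[A] P)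
    (hg : Function.Surjective g) (H : Function.Exact f g) [Module.Flat A F]
    (h : ∀ I : Ideal A, ∃ (Q : Type u) (_ : AddCommGroup Q) (_ : Module A Q) (π : A →ₗ[A] Q),
      Function.Surjective π ∧ LinearMap.ker π = I ∧ Function.Injective (LinearMap.lTensor Q f)) :
    Module.Flat A P := by
  rw [Module.Flat.iff_rTensor_injective']
  intro I
  obtain ⟨Q, _, _, π, hπ, hker, hinj⟩ := h I
  rw [injective_iff_map_eq_zero]
  intro x hx
  let ι : I →ₗ[A] A := I.subtype
  have hιπ : Function.Exact ι π := by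
    intro a
    rw [← LinearMap.mem_ker, hker]
    simp [ι]
  have hπι : π ∘ₗ ι = 0 := by
    ext a
    exact (hιπ _).2 ⟨a, rfl⟩
  -- step 1
  obtain ⟨y, rfl⟩ := LinearMap.lTensor_surjective I hg x
  -- step 2
  have h2 : LinearMap.lTensor A g (LinearMap.rTensor F ι y) = 0 := by
    rw [← LinearMap.comp_apply, LinearMap.lTensor_comp_rTensor, ← LinearMap.rTensor_comp_lTensor,
      LinearMap.comp_apply]
    exact hx
  -- step 3
  obtain ⟨z, hz⟩ := (lTensor_exact A H hg _).1 h2
  -- step 4
  have h4 : LinearMap.lTensor Q f (LinearMap.rTensor N π z) = 0 := by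
    rw [← LinearMap.comp_apply, LinearMap.lTensor_comp_rTensor, ← LinearMap.rTensor_comp_lTensor,
      LinearMap.comp_apply, hz, ← LinearMap.comp_apply, ← LinearMap.rTensor_comp, hπι,
      LinearMap.rTensor_zero, LinearMap.zero_apply]
  have h4' : LinearMap.rTensor N π z = 0 := hinj (by rw [h4, map_zero])
  -- step 5
  obtain ⟨z', hz'⟩ := (rTensor_exact N hιπ hπ _).1 h4'
  -- step 6
  have h6 : LinearMap.rTensor F ι (LinearMap.lTensor I f z') = LinearMap.rTensor F ι y := by
    rw [← LinearMap.comp_apply, LinearMap.rTensor_comp_lTensor, ← LinearMap.lTensor_comp_rTensor,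
      LinearMap.comp_apply, hz', hz]
  have h6' : LinearMap.lTensor I f z' = y :=
    Module.Flat.rTensor_preserves_injective_linearMap ι Subtype.val_injective h6
  -- step 7
  rw [← h6', ← LinearMap.comp_apply, ← LinearMap.lTensor_comp]
  have : g ∘ₗ f = 0 := by
    ext n
    exact (H _).2 ⟨n, rfl⟩
  rw [this, LinearMap.lTensor_zero, LinearMap.zero_apply]

/-- If `M₀ → M₁ → M₂` has `M₀ ⊗`-tensored exactness with `Q` and `M₁ → ker(d₂)` is surjective, then
`Q ⊗ ker d₂ → Q ⊗ M₂` is injective. -/
lemma lTensor_ker_injective {M₀ M₁ M₂ M₃ Q : Type u} [AddCommGroup M₀] [AddCommGroup M₁]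
    [AddCommGroup M₂] [AddCommGroup M₃] [AddCommGroup Q] [Module A M₀] [Module A M₁] [Module A M₂]
    [Module A M₃] [Module A Q] (d₀ : M₀ →ₗ[A] M₁) (d₁ : M₁ →ₗ[A] M₂) (d₂ : M₂ →ₗ[A] M₃)
    (h01 : d₁ ∘ₗ d₀ = 0) (h12 : Function.Exact d₁ d₂)
    (hQ : Function.Exact (LinearMap.lTensor Q d₀) (LinearMap.lTensor Q d₁)) :
    Function.Injective (LinearMap.lTensor Q (LinearMap.ker d₂).subtype) := by
  let t : M₁ →ₗ[A] LinearMap.ker d₂ := LinearMap.codRestrict _ d₁ (fun x => by
    rw [LinearMap.mem_ker]; exact (h12 _).2 ⟨x, rfl⟩)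
  have ht : Function.Surjective t := by
    rintro ⟨z, hz⟩
    obtain ⟨x, hx⟩ := (h12 z).1 hz
    exact ⟨x, Subtype.ext hx⟩
  have hst : (LinearMap.ker d₂).subtype ∘ₗ t = d₁ := rfl
  have ht0 : t ∘ₗ d₀ = 0 := by
    ext x
    exact congrArg (fun l => l x) h01
  rw [injective_iff_map_eq_zero]
  intro u hu
  obtain ⟨v, rfl⟩ := LinearMap.lTensor_surjective Q ht u
  rw [← LinearMap.comp_apply, ← LinearMap.lTensor_comp, hst] at hu
  obtain ⟨w, rfl⟩ := (hQ v).1 hu
  rw [← LinearMap.comp_apply, ← LinearMap.lTensor_comp, ht0, LinearMap.lTensor_zero,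
    LinearMap.zero_apply]

end LinAlg

section Cx
variable {A : Type u} [CommRing A] (F : CochainComplex (ModuleCat.{u} A) ℤ)

/-- all cycle modules flat, from flatness in high degrees, for an acyclic complex of flats -/
lemma flat_Z_all (hF : ∀ i, Module.Flat A (F.X i)) (hac : ∀ p, IsZero (F.homology p))
    (n₀ : ℤ) (h₀ : ∀ i, n₀ ≤ i → Module.Flat A (Z F i (i + 1))) (i : ℤ) :
    Module.Flat A (Z F i (i + 1)) := by
  have key : ∀ n : ℕ, ∀ i : ℤ, n₀ ≤ i + n → Module.Flat A (Z F i (i + 1)) := by
    intro n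
    induction n with
    | zero => intro i hi; exact h₀ i (by simpa using hi)
    | succ n ih =>
      intro i hi
      have h1 : Module.Flat A (Z F (i + 1) (i + 1 + 1)) := ih (i + 1) (by push_cast at hi; omega)
      exact flat_Z_step F hF i (i + 1) (i + 1 + 1) rfl rfl (hac _) h1
  exact key (n₀ - i).toNat i (by omega)

lemma d_comp_d_hom (i j k : ℤ) : (F.d j k).hom ∘ₗ (F.d i j).hom = 0 := by
  have := F.d_comp_d i j k
  exact congrArg ModuleCat.Hom.hom this

/-- exactness after `T ⊗ -` -/
lemma exact_lTensor (hZ : ∀ i, Module.Flat A (Z F i (i + 1))) (hac : ∀ p, IsZero (F.homology p))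
    (T : Type u) [AddCommGroup T] [Module A T] (j : ℤ) :
    Function.Exact (LinearMap.lTensor T (F.d (j - 1) j).hom)
      (LinearMap.lTensor T (F.d j (j + 1)).hom) := by
  intro x
  constructor
  · intro hx
    haveI : Module.Flat A (Z F (j + 1 + 1) (j + 1 + 1 + 1)) := hZ _
    have hinj : Function.Injective (LinearMap.lTensor T (Z F (j + 1) (j + 1 + 1)).subtype) :=
      LinearMap.lTensor_injective_of_exact_of_flat (toZ F (j + 1) (j + 1 + 1) (j + 1 + 1 + 1))
        (toZ_surjective F (j + 1) (j + 1 + 1) (j + 1 + 1 + 1) rfl rfl (hac _))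
        (Z F (j + 1) (j + 1 + 1)).subtype Subtype.val_injective (toZ_exact F _ _ _) T
    have h1 : LinearMap.lTensor T (toZ F j (j + 1) (j + 1 + 1)) x = 0 := by
      apply hinj
      rw [map_zero, ← LinearMap.comp_apply, ← LinearMap.lTensor_comp, subtype_comp_toZ]
      exact hx
    have hex := lTensor_exact T (toZ_exact F j (j + 1) (j + 1 + 1))
      (toZ_surjective F j (j + 1) (j + 1 + 1) rfl rfl (hac _))
    obtain ⟨z, rfl⟩ := (hex x).mp h1
    have hsurj : Function.Surjective (LinearMap.lTensor T (toZ F (j - 1) j (j + 1))) :=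
      LinearMap.lTensor_surjective T
        (toZ_surjective F (j - 1) j (j + 1) (by ring) rfl (hac _))
    obtain ⟨w, rfl⟩ := hsurj z
    refine ⟨w, ?_⟩
    rw [← LinearMap.comp_apply, ← LinearMap.lTensor_comp, subtype_comp_toZ]
  · rintro ⟨w, rfl⟩
    rw [← LinearMap.comp_apply, ← LinearMap.lTensor_comp, d_comp_d_hom, LinearMap.lTensor_zero,
      LinearMap.zero_apply]

/-- exactness after `- ⊗ T` -/
lemma exact_rTensor (hZ : ∀ i, Module.Flat A (Z F i (i + 1))) (hac : ∀ p, IsZero (F.homology p))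
    (T : Type u) [AddCommGroup T] [Module A T] (j : ℤ) :
    Function.Exact (LinearMap.rTensor T (F.d (j - 1) j).hom)
      (LinearMap.rTensor T (F.d j (j + 1)).hom) := by
  have h := exact_lTensor F hZ hac T j
  refine Function.Exact.of_ladder_linearEquiv_of_exact
    (e₁ := TensorProduct.comm A T (F.X (j - 1))) (e₂ := TensorProduct.comm A T (F.X j))
    (e₃ := TensorProduct.comm A T (F.X (j + 1))) ?_ ?_ h
  · ext a b
    simp
  · ext a b
    simp


/-- the `A`-module `B` (through `φ`) on which `extendScalars` is built -/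
noncomputable abbrev Bmod {B : Type u} [CommRing B] (φ : A →+* B) : ModuleCat.{u} A :=
  (ModuleCat.restrictScalars φ).obj (ModuleCat.of B B)

lemma exactAt_iff_exact (i j k : ℤ) (hij : i + 1 = j) (hjk : j + 1 = k) :
    F.ExactAt j ↔ Function.Exact (F.d i j).hom (F.d j k).hom := by
  rw [HomologicalComplex.exactAt_iff' F i j k (by simp [← hij]) (by simp [← hjk]),
    ShortComplex.ShortExact.moduleCat_exact_iff_function_exact]
  exact Iff.rfl

lemma exactAt_bcCx_iff {B : Type u} [CommRing B] (φ : A →+* B) (i j k : ℤ) (hij : i + 1 = j)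
    (hjk : j + 1 = k) :
    (CohIII.bcCx φ F).ExactAt j ↔
      Function.Exact (LinearMap.lTensor (Bmod φ) (F.d i j).hom)
        (LinearMap.lTensor (Bmod φ) (F.d j k).hom) := by
  rw [HomologicalComplex.exactAt_iff' _ i j k (by simp [← hij]) (by simp [← hjk]),
    ShortComplex.ShortExact.moduleCat_exact_iff_function_exact]
  exact Iff.rfl

lemma exactAt_tensorObj_iff (M : ModuleCat.{u} A) (i j k : ℤ) (hij : i + 1 = j)
    (hjk : j + 1 = k) :
    (CohIII.tensorObj F M).ExactAt j ↔
      Function.Exact (LinearMap.rTensor M (F.d i j).hom) (LinearMap.rTensor M (F.d j k).hom) := by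
  rw [HomologicalComplex.exactAt_iff' _ i j k (by simp [← hij]) (by simp [← hjk]),
    ShortComplex.ShortExact.moduleCat_exact_iff_function_exact]
  exact Iff.rfl


/-- flatness of the cycles `Z^{i₃}` from exactness modulo every ideal one step below -/
lemma flat_Z_of_quot (hF : ∀ i, Module.Flat A (F.X i)) (hac : ∀ p, IsZero (F.homology p))
    (i₀ i₁ i₂ i₃ i₄ : ℤ) (_h01 : i₀ + 1 = i₁) (h12 : i₁ + 1 = i₂) (h23 : i₂ + 1 = i₃)
    (h34 : i₃ + 1 = i₄)
    (h : ∀ I : Ideal A, ∃ (Q : Type u) (_ : AddCommGroup Q) (_ : Module A Q) (π : A →ₗ[A] Q),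
      Function.Surjective π ∧ LinearMap.ker π = I ∧
      Function.Exact (LinearMap.lTensor Q (F.d i₀ i₁).hom) (LinearMap.lTensor Q (F.d i₁ i₂).hom)) :
    Module.Flat A (Z F i₃ i₄) := by
  haveI := hF i₂
  refine flat_of_quot_injective (Z F i₂ i₃).subtype (toZ F i₂ i₃ i₄)
    (toZ_surjective F i₂ i₃ i₄ h23 h34 (hac _)) (toZ_exact F i₂ i₃ i₄) (fun I => ?_)
  obtain ⟨Q, _, _, π, hπ, hker, hQ⟩ := h I
  refine ⟨Q, _, _, π, hπ, hker, ?_⟩
  exact lTensor_ker_injective (F.d i₀ i₁).hom (F.d i₁ i₂).hom (F.d i₂ i₃).hom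
    (d_comp_d_hom F _ _ _)
    ((exactAt_iff_exact F i₁ i₂ i₃ h12 h23).1
      ((HomologicalComplex.exactAt_iff_isZero_homology _ _).2 (hac _))) hQ

end Cx

section Iso

variable {C : Type*} [Category C] [Abelian C]

lemma isIso_inr_f {L K : CochainComplex C ℤ} (w : L ⟶ K) (j : ℤ) (hz : IsZero (L.X (j + 1))) :
    IsIso ((CochainComplex.mappingCone.inr w).f j) := by
  refine ⟨(CochainComplex.mappingCone.snd w).v j j (add_zero j),
    CochainComplex.mappingCone.inr_f_snd_v w j, ?_⟩
  have h := CochainComplex.mappingCone.id_X w j (j + 1) rfl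
  rw [hz.eq_of_tgt ((CochainComplex.mappingCone.fst w).1.v j (j + 1) rfl) 0, zero_comp,
    zero_add] at h
  exact h

lemma quasiIsoAt_of_isIso_f {K L : CochainComplex C ℤ} (ψ : K ⟶ L) (j : ℤ)
    (h0 : IsIso (ψ.f (j - 1))) (h1 : IsIso (ψ.f j)) (h2 : IsIso (ψ.f (j + 1))) :
    QuasiIsoAt ψ j := by
  rw [quasiIsoAt_iff' _ (j - 1) j (j + 1) (by simp) (by simp)]
  let φ := (HomologicalComplex.shortComplexFunctor' C (ComplexShape.up ℤ) (j - 1) j (j + 1)).map ψ
  have : IsIso φ.τ₁ := h0
  have : IsIso φ.τ₂ := h1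
  have : IsIso φ.τ₃ := h2
  apply ShortComplex.quasiIso_of_epi_of_isIso_of_mono

end Iso

section Main

variable {A : Type u} [CommRing A]

instance extendScalars_additive {B : Type u} [CommRing B] (φ : A →+* B) :
    (ModuleCat.extendScalars.{u, u, u} φ).Additive :=
  (ModuleCat.extendRestrictScalarsAdj.{u, u, u} φ).left_adjoint_additive

/-- `A/I` as a model `Q` with `π : A → Q` -/
lemma exists_model (I : Ideal A) :
    ∃ (π : A →ₗ[A] Bmod (algebraMap A (A ⧸ I))), Function.Surjective π ∧ LinearMap.ker π = I := by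
  refine ⟨{ toFun := fun a => (algebraMap A (A ⧸ I) a : A ⧸ I)
            map_add' := fun a b => map_add _ a b
            map_smul' := fun a b => ?_ }, ?_, ?_⟩
  · show algebraMap A (A ⧸ I) (a * b) = algebraMap A (A ⧸ I) a * algebraMap A (A ⧸ I) b
    exact map_mul _ a b
  · exact Ideal.Quotient.mk_surjective
  · ext a
    rw [LinearMap.mem_ker]
    exact Ideal.Quotient.eq_zero_iff_mem

/-- exactness after tensoring with a module isomorphic to `A` -/
lemma exact_of_lTensor_equiv {Q M₁ M₂ M₃ : Type u} [AddCommGroup Q] [Module A Q]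
    [AddCommGroup M₁] [Module A M₁] [AddCommGroup M₂] [Module A M₂] [AddCommGroup M₃] [Module A M₃]
    (e : Q ≃ₗ[A] A) (f : M₁ →ₗ[A] M₂) (g : M₂ →ₗ[A] M₃)
    (h : Function.Exact (LinearMap.lTensor Q f) (LinearMap.lTensor Q g)) : Function.Exact f g := by
  refine Function.Exact.of_ladder_linearEquiv_of_exact
    (e₁ := (TensorProduct.congr e (LinearEquiv.refl A M₁)).trans (TensorProduct.lid A M₁))
    (e₂ := (TensorProduct.congr e (LinearEquiv.refl A M₂)).trans (TensorProduct.lid A M₂))
    (e₃ := (TensorProduct.congr e (LinearEquiv.refl A M₃)).trans (TensorProduct.lid A M₃)) ?_ ?_ h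
  · ext q x
    simp
  · ext q x
    simp

lemma exactAt_of_bcCx_self (K : CochainComplex (ModuleCat.{u} A) ℤ) (j : ℤ)
    (h : (CohIII.bcCx (algebraMap A A) K).ExactAt j) : K.ExactAt j := by
  rw [exactAt_bcCx_iff K _ (j - 1) j (j + 1) (by ring) rfl] at h
  rw [exactAt_iff_exact K (j - 1) j (j + 1) (by ring) rfl]
  refine exact_of_lTensor_equiv ?_ _ _ h
  exact { toFun := fun b => (b : A)
          invFun := fun a => (a : A)
          map_add' := fun _ _ => rfl
          map_smul' := fun _ _ => rfl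
          left_inv := fun _ => rfl
          right_inv := fun _ => rfl }

open Groth.Agent.Lib.helper23.PCohCore Groth.Agent.Lib.helper23.DRingPC in
/-- **Mumford's lemma, strong form.** -/
theorem exists_finite_free_complex_map (A : Type u) [CommRing A] [IsNoetherianRing A]
    (K : CochainComplex (ModuleCat.{u} A) ℤ)
    (hflat : ∀ i, Module.Flat A (K.X i))
    (hfin : ∀ i, Module.Finite A (K.homology i))
    (N : ℤ)
    (hN : ∀ (B : Type u) [CommRing B] [Algebra A B] (i : ℤ), N ≤ i →
      IsZero ((CohIII.bcCx (algebraMap A B) K).homology i)) :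
    ∃ (L : CochainComplex (ModuleCat.{u} A) ℤ) (w : L ⟶ K),
      (∀ i, Module.Finite A (L.X i) ∧ Module.Free A (L.X i)) ∧
      (∀ i : ℤ, N ≤ i → IsZero (L.X i)) ∧ QuasiIso w ∧
      (∀ (B : Type u) [CommRing B] (φ : A →+* B),
        QuasiIso (((ModuleCat.extendScalars.{u, u, u} φ).mapHomologicalComplex
          (ComplexShape.up ℤ)).map w)) ∧
      (∀ M : ModuleCat.{u} A,
        QuasiIso (((tensorRight M).mapHomologicalComplex (ComplexShape.up ℤ)).map w)) := by
  -- vanishing of the cohomology of `K` in degrees `≥ N`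
  have hKz : ∀ i : ℤ, N ≤ i → IsZero (K.homology i) := fun i hi =>
    (HomologicalComplex.exactAt_iff_isZero_homology _ _).1 (exactAt_of_bcCx_self K i
      ((HomologicalComplex.exactAt_iff_isZero_homology _ _).2 (hN A i hi)))
  -- pseudo-coherence
  have hE : ∀ m : ℤ, NPC (FF A) m (DerivedCategory.Q.obj K) := by
    intro m
    have eH : ∀ i : ℤ, (Dual.HD A (DerivedCategory.Q.obj K) i) ≃ₗ[A] K.homology i := fun i =>
      ((DerivedCategory.homologyFunctorFactors (ModuleCat.{u} A) i).app K).toLinearEquiv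
    refine (npc_iff_of_noetherian A m _).2 ⟨⟨N - 1, fun i hi => ?_⟩, fun i _ => ?_⟩
    · haveI := ModuleCat.subsingleton_of_isZero (hKz i (by omega))
      exact (eH i).toEquiv.subsingleton
    · haveI := hfin i
      exact Module.Finite.equiv (eH i).symm
  obtain ⟨L, w, hP, hz, hqi⟩ := exists_strictPCAll_quasiIso (FF_sum A) (FF_hqs A) (FF_hql A) hE
    (b := N - 1) (fun i hi => hKz i (by omega))
  have hLz : ∀ i : ℤ, N ≤ i → IsZero (L.X i) := fun i hi => hz i (by omega)
  -- the cone
  let E := CochainComplex.mappingCone w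
  have hEflat : ∀ n, Module.Flat A (E.X n) := fun n => by
    haveI : Module.Free A (L.X (n + 1)) := (hP (n + 1)).2
    exact flat_of_iso_biprod _ _ _ (HomologicalComplex.homotopyCofiber.XIsoBiprod w n (n + 1) rfl)
      inferInstance (hflat _)
  have hEac : ∀ p, IsZero (E.homology p) := fun p =>
    (HomologicalComplex.exactAt_iff_isZero_homology _ _).mp
      ((quasiIso_iff_mappingCone_exactAt w).mp hqi p)
  have hinr : ∀ j : ℤ, N - 1 ≤ j → IsIso ((CochainComplex.mappingCone.inr w).f j) := fun j hj =>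
    isIso_inr_f w j (hLz _ (by omega))
  -- universal exactness of the cone in degrees `≥ N`
  have hEN : ∀ (B : Type u) [CommRing B] [Algebra A B] (i : ℤ), N ≤ i →
      (CohIII.bcCx (algebraMap A B) E).ExactAt i := by
    intro B _ _ i hi
    let ψ := ((ModuleCat.extendScalars.{u, u, u} (algebraMap A B)).mapHomologicalComplex
      (ComplexShape.up ℤ)).map (CochainComplex.mappingCone.inr w)
    have hψ : ∀ j : ℤ, N - 1 ≤ j → IsIso (ψ.f j) := fun j hj => by
      haveI := hinr j hj
      show IsIso ((ModuleCat.extendScalars.{u, u, u} (algebraMap A B)).map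
        ((CochainComplex.mappingCone.inr w).f j))
      infer_instance
    haveI : QuasiIsoAt ψ i := quasiIsoAt_of_isIso_f ψ i (hψ _ (by omega)) (hψ _ (by omega))
      (hψ _ (by omega))
    exact (exactAt_iff_of_quasiIsoAt ψ i).1
      ((HomologicalComplex.exactAt_iff_isZero_homology _ _).2 (hN B i hi))
  -- flat cycles
  have hZhigh : ∀ i : ℤ, N + 2 ≤ i → Module.Flat A (Z E i (i + 1)) := by
    intro i hi
    refine flat_Z_of_quot E hEflat hEac (i - 3) (i - 2) (i - 1) i (i + 1) (by ring) (by ring)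
      (by ring) rfl (fun I => ?_)
    obtain ⟨π, hπ, hker⟩ := exists_model I
    refine ⟨Bmod (algebraMap A (A ⧸ I)), inferInstance, inferInstance, π, hπ, hker, ?_⟩
    exact (exactAt_bcCx_iff E (algebraMap A (A ⧸ I)) (i - 3) (i - 2) (i - 1) (by ring)
      (by ring)).1 (hEN (A ⧸ I) (i - 2) (by omega))
  have hZ : ∀ i, Module.Flat A (Z E i (i + 1)) := flat_Z_all E hEflat hEac (N + 2) hZhigh
  refine ⟨L, w, hP, hLz, hqi, ?_, ?_⟩
  · intro B _ φ
    rw [quasiIso_iff_mappingCone_exactAt]
    intro n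
    refine HomologicalComplex.ExactAt.of_iso ?_
      (CochainComplex.mappingCone.mapHomologicalComplexIso w (ModuleCat.extendScalars.{u, u, u} φ))
    exact (exactAt_bcCx_iff E φ (n - 1) n (n + 1) (by ring) rfl).2
      (exact_lTensor E hZ hEac _ n)
  · intro M
    rw [quasiIso_iff_mappingCone_exactAt]
    intro n
    refine HomologicalComplex.ExactAt.of_iso ?_
      (CochainComplex.mappingCone.mapHomologicalComplexIso w (tensorRight M))
    exact (exactAt_tensorObj_iff E M (n - 1) n (n + 1) (by ring) rfl).2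
      (exact_rTensor E hZ hEac _ n)

/-- **ALG-GC** in the form of `tools/GC_ALG_interface.lean.txt` (helper21). -/
theorem exists_finite_free_complex (A : Type u) [CommRing A] [IsNoetherianRing A]
    (K : CochainComplex (ModuleCat.{u} A) ℤ)
    (hflat : ∀ i, Module.Flat A (K.X i))
    (_hneg : ∀ i : ℤ, i < 0 → IsZero (K.X i))
    (hfin : ∀ i, Module.Finite A (K.homology i))
    (N : ℤ)
    (hN : ∀ (B : Type u) [CommRing B] [Algebra A B] (i : ℤ), N ≤ i →
      IsZero ((CohIII.bcCx (algebraMap A B) K).homology i)) :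
    ∃ L : CochainComplex (ModuleCat.{u} A) ℤ,
      (∀ i, Module.Finite A (L.X i) ∧ Module.Free A (L.X i)) ∧
      (∀ i : ℤ, N ≤ i → IsZero (L.X i)) ∧
      ∀ (B : Type u) [CommRing B] [Algebra A B] (i : ℤ),
        Nonempty ((CohIII.bcCx (algebraMap A B) K).homology i ≅
          (CohIII.bcCx (algebraMap A B) L).homology i) := by
  obtain ⟨L, w, hP, hz, -, hB, -⟩ := exists_finite_free_complex_map A K hflat hfin N hN
  refine ⟨L, hP, hz, fun B _ _ i => ?_⟩
  haveI := hB B (algebraMap A B)
  exact ⟨(asIso (HomologicalComplex.homologyMap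
    (((ModuleCat.extendScalars.{u, u, u} (algebraMap A B)).mapHomologicalComplex
      (ComplexShape.up ℤ)).map w) i)).symm⟩

/-- The module version: `H^i(K ⊗_A M) ≅ H^i(L ⊗_A M)` for all `A`-modules `M` (with the same `L` also
computing all base changes). -/
theorem exists_finite_free_complex_module (A : Type u) [CommRing A] [IsNoetherianRing A]
    (K : CochainComplex (ModuleCat.{u} A) ℤ)
    (hflat : ∀ i, Module.Flat A (K.X i))
    (hfin : ∀ i, Module.Finite A (K.homology i))
    (N : ℤ)
    (hN : ∀ (B : Type u) [CommRing B] [Algebra A B] (i : ℤ), N ≤ i →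
      IsZero ((CohIII.bcCx (algebraMap A B) K).homology i)) :
    ∃ L : CochainComplex (ModuleCat.{u} A) ℤ,
      (∀ i, Module.Finite A (L.X i) ∧ Module.Free A (L.X i)) ∧
      (∀ i : ℤ, N ≤ i → IsZero (L.X i)) ∧
      (∀ (B : Type u) [CommRing B] [Algebra A B] (i : ℤ),
        Nonempty ((CohIII.bcCx (algebraMap A B) K).homology i ≅
          (CohIII.bcCx (algebraMap A B) L).homology i)) ∧
      ∀ (M : ModuleCat.{u} A) (i : ℤ), Nonempty (CohIII.T K i M ≅ CohIII.T L i M) := by
  obtain ⟨L, w, hP, hz, -, hB, hM⟩ := exists_finite_free_complex_map A K hflat hfin N hN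
  refine ⟨L, hP, hz, fun B _ _ i => ?_, fun M i => ?_⟩
  · haveI := hB B (algebraMap A B)
    exact ⟨(asIso (HomologicalComplex.homologyMap
      (((ModuleCat.extendScalars.{u, u, u} (algebraMap A B)).mapHomologicalComplex
        (ComplexShape.up ℤ)).map w) i)).symm⟩
  · have hq : QuasiIsoAt (((tensorRight M).mapHomologicalComplex (ComplexShape.up ℤ)).map w) i :=
      (hM M).quasiIsoAt i
    have hiso : IsIso (HomologicalComplex.homologyMap
        (((tensorRight M).mapHomologicalComplex (ComplexShape.up ℤ)).map w) i) :=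
      (quasiIsoAt_iff_isIso_homologyMap _ i).1 hq
    exact ⟨(@asIso _ _ _ _ _ hiso).symm⟩

end Main


end Groth.Agent.Lib.helper13.GCAlg
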