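import Mathlib
import Groth.Prelude.Def_ega3
import Groth.Agent.Lib.Helper13.GCAlg

/-!
# helper13: projectivity of cokernels from fibrewise exactness (towards amplitude truncation of the
Grothendieck complex; S14611)
-/

set_option autoImplicit false
universe u
open TensorProduct

namespace Groth.Agent.Lib.helper13.GCTrunc

section TL1
variable {A : Type u} [CommRing A]

/-- local form: over a local ring, a presentation `B ↪ F ↠ F/B` with `F` finite projective, `B` finite and
`k ⊗ B → k ⊗ F` injective has free cokernel -/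
lemma injective_lTensor_residueField_baseChange {F : Type u} [AddCommGroup F] [Module A F]
    (B : Submodule A F) (m : Ideal A) [m.IsMaximal]
    (h : Function.Injective (LinearMap.lTensor (A ⧸ m) B.subtype)) :
    Function.Injective (LinearMap.lTensor (IsLocalRing.ResidueField (Localization.AtPrime m))
      (B.subtype.baseChange (Localization.AtPrime m))) := by
  let R := Localization.AtPrime m
  let k := IsLocalRing.ResidueField R
  -- `k ≅ A/m` as `A`-modules
  let e : (A ⧸ m) ≃ₗ[A] k :=
    LinearEquiv.ofBijective ((Algebra.linearMap (A ⧸ m) m.ResidueField).restrictScalars A)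
      m.bijective_algebraMap_quotient_residueField
  have h1 : Function.Injective (LinearMap.lTensor k B.subtype) := by
    have hc : LinearMap.lTensor k B.subtype ∘ₗ LinearMap.rTensor B e.toLinearMap =
        LinearMap.rTensor F e.toLinearMap ∘ₗ LinearMap.lTensor (A ⧸ m) B.subtype := by
      rw [LinearMap.lTensor_comp_rTensor, LinearMap.rTensor_comp_lTensor]
    have hinj : Function.Injective (LinearMap.rTensor F e.toLinearMap ∘ₗ
        LinearMap.lTensor (A ⧸ m) B.subtype) := by
      rw [LinearMap.coe_comp]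
      exact (TensorProduct.congr e (LinearEquiv.refl A F)).injective.comp h
    rw [← hc, LinearMap.coe_comp] at hinj
    have hsurj : Function.Surjective (LinearMap.rTensor B e.toLinearMap) :=
      (TensorProduct.congr e (LinearEquiv.refl A B)).surjective
    intro x y hxy
    obtain ⟨x', rfl⟩ := hsurj x
    obtain ⟨y', rfl⟩ := hsurj y
    exact congrArg _ (hinj hxy)
  -- cancel the base change
  have hc2 := TensorProduct.AlgebraTensorModule.lTensor_comp_cancelBaseChange
    (R := A) (A := R) (B := R) (M := k) B.subtype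
  intro x y hxy
  apply (TensorProduct.AlgebraTensorModule.cancelBaseChange A R R k B).injective
  apply h1
  have := congrArg (TensorProduct.AlgebraTensorModule.cancelBaseChange A R R k F) hxy
  have e1 := LinearMap.congr_fun hc2 x
  have e2 := LinearMap.congr_fun hc2 y
  simp only [LinearMap.comp_apply, LinearEquiv.coe_coe] at e1 e2
  exact e1.trans (this.trans e2.symm)


/-- **global form**: `F` finite projective over a Noetherian ring, `B ≤ F` with `A/m ⊗ B → A/m ⊗ F` injective
for every maximal ideal `m`; then `F ⧸ B` is projective. -/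
theorem projective_quot_of_residue_injective [IsNoetherianRing A] {F : Type u} [AddCommGroup F]
    [Module A F] [Module.Finite A F] [Module.Projective A F] (B : Submodule A F)
    (h : ∀ (m : Ideal A) [m.IsMaximal], Function.Injective (LinearMap.lTensor (A ⧸ m) B.subtype)) :
    Module.Projective A (F ⧸ B) := by
  haveI : Module.FinitePresentation A (F ⧸ B) := Module.finitePresentation_of_finite A (F ⧸ B)
  refine Module.projective_of_localization_maximal' (fun P _ => Localization.AtPrime P)
    (fun P _ => Localization.AtPrime P ⊗[A] (F ⧸ B))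
    (fun P _ => TensorProduct.mk A (Localization.AtPrime P) (F ⧸ B) 1) (fun m hm => ?_)
  haveI := hm
  let R := Localization.AtPrime m
  haveI : Module.Free R (R ⊗[A] F) := Module.free_of_flat_of_isLocalRing
  haveI : Module.Free R (R ⊗[A] (F ⧸ B)) := by
    refine Module.free_of_lTensor_residueField_injective (f := B.subtype.baseChange R)
      (g := B.mkQ.baseChange R) ?_ ?_ (injective_lTensor_residueField_baseChange B m (h m))
    · exact LinearMap.lTensor_surjective R B.mkQ_surjective
    · exact lTensor_exact R (LinearMap.exact_subtype_mkQ B) B.mkQ_surjective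
  infer_instance

end TL1


section Range
variable {A : Type u} [CommRing A]

/-- if `M₀ → M₁ → M₂` is a zero sequence which becomes exact after `- ⊗ T`, then
`range d₁ ⊗ T → M₂ ⊗ T` is injective. -/
lemma rTensor_range_injective {M₀ M₁ M₂ T : Type u} [AddCommGroup M₀] [AddCommGroup M₁]
    [AddCommGroup M₂] [AddCommGroup T] [Module A M₀] [Module A M₁] [Module A M₂] [Module A T]
    (d₀ : M₀ →ₗ[A] M₁) (d₁ : M₁ →ₗ[A] M₂) (h01 : d₁ ∘ₗ d₀ = 0)
    (hT : Function.Exact (LinearMap.rTensor T d₀) (LinearMap.rTensor T d₁)) :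
    Function.Injective (LinearMap.rTensor T (LinearMap.range d₁).subtype) := by
  have hst : (LinearMap.range d₁).subtype ∘ₗ d₁.rangeRestrict = d₁ := rfl
  have ht0 : d₁.rangeRestrict ∘ₗ d₀ = 0 := by
    ext x
    exact congrArg (fun l => l x) h01
  rw [injective_iff_map_eq_zero]
  intro u hu
  obtain ⟨v, rfl⟩ := LinearMap.rTensor_surjective T d₁.surjective_rangeRestrict u
  rw [← LinearMap.comp_apply, ← LinearMap.rTensor_comp, hst] at hu
  obtain ⟨w, rfl⟩ := (hT v).1 hu
  rw [← LinearMap.comp_apply, ← LinearMap.rTensor_comp, ht0, LinearMap.rTensor_zero,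
    LinearMap.zero_apply]

end Range

section Nak
variable {A : Type u} [CommRing A]

/-- a finite module all of whose fibres at maximal ideals vanish is zero -/
lemma subsingleton_of_forall_maximal_tensor (H : Type u) [AddCommGroup H] [Module A H]
    [Module.Finite A H]
    (h : ∀ (m : Ideal A) [m.IsMaximal], Subsingleton ((A ⧸ m) ⊗[A] H)) : Subsingleton H := by
  by_contra hne
  rw [not_subsingleton_iff_nontrivial] at hne
  -- annihilator is proper
  have hann : Module.annihilator A H ≠ ⊤ := by
    intro htop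
    have : (1 : A) ∈ Module.annihilator A H := by rw [htop]; trivial
    rw [Module.mem_annihilator] at this
    obtain ⟨x, hx⟩ := exists_ne (0 : H)
    exact hx (by simpa using this x)
  obtain ⟨m, hm, hle⟩ := Ideal.exists_le_maximal _ hann
  haveI := hm
  haveI := h m
  have hsub : Subsingleton (H ⧸ (m • (⊤ : Submodule A H))) :=
    (TensorProduct.quotTensorEquivQuotSMul H m).symm.toEquiv.subsingleton
  have htop : m • (⊤ : Submodule A H) = ⊤ := by
    rwa [Submodule.Quotient.subsingleton_iff] at hsub
  obtain ⟨r, hr1, hr2⟩ := Submodule.exists_sub_one_mem_and_smul_eq_zero_of_fg_of_le_smul m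
    (⊤ : Submodule A H) Module.Finite.fg_top (by rw [htop])
  have hrann : r ∈ Module.annihilator A H := by
    rw [Module.mem_annihilator]
    intro x
    exact hr2 x trivial
  have hrm : r ∈ m := hle hrann
  have : (1 : A) ∈ m := by
    have := m.sub_mem hrm hr1
    simpa using this
  exact hm.ne_top ((Ideal.eq_top_iff_one m).2 this)

/-- exactness from fibrewise exactness: `M₀ → M₁ → M₂` a zero sequence of modules over a Noetherian ring with
`M₁` finite, `range d₁` flat, which is exact after `A/m ⊗ -` for all maximal `m`, is exact. -/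
lemma exact_of_forall_maximal [IsNoetherianRing A] {M₀ M₁ M₂ : Type u} [AddCommGroup M₀]
    [AddCommGroup M₁] [AddCommGroup M₂] [Module A M₀] [Module A M₁] [Module A M₂]
    [Module.Finite A M₁]
    (d₀ : M₀ →ₗ[A] M₁) (d₁ : M₁ →ₗ[A] M₂) (h01 : d₁ ∘ₗ d₀ = 0)
    (hB : Module.Flat A (LinearMap.range d₁))
    (h : ∀ (m : Ideal A) [m.IsMaximal],
      Function.Exact (LinearMap.lTensor (A ⧸ m) d₀) (LinearMap.lTensor (A ⧸ m) d₁)) :
    Function.Exact d₀ d₁ := by
  -- `W₁ = M₁ / range d₀`, `φ : W₁ → range d₁`
  let W₁ := M₁ ⧸ LinearMap.range d₀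
  let φ : W₁ →ₗ[A] LinearMap.range d₁ :=
    (LinearMap.range d₀).liftQ d₁.rangeRestrict (by
      rintro _ ⟨x, rfl⟩
      rw [LinearMap.mem_ker]
      exact Subtype.ext (congrArg (fun l => l x) h01))
  have hφ : Function.Surjective φ := by
    rintro ⟨_, x, rfl⟩
    exact ⟨(LinearMap.range d₀).mkQ x, rfl⟩
  let Hm := LinearMap.ker φ
  -- `Hm = 0`
  haveI : Module.Finite A W₁ := Module.Finite.quotient A _
  haveI : IsNoetherian A W₁ := isNoetherian_of_isNoetherianRing_of_finite A W₁
  haveI : Module.Finite A Hm := Module.Finite.of_injective Hm.subtype Subtype.val_injective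
  have hH : Subsingleton Hm := by
    refine subsingleton_of_forall_maximal_tensor (A := A) Hm (fun m hm => ?_)
    -- `A/m ⊗ Hm → A/m ⊗ W₁` injective since `range d₁` flat
    have hinj : Function.Injective (LinearMap.lTensor (A ⧸ m) Hm.subtype) :=
      LinearMap.lTensor_injective_of_exact_of_flat φ hφ Hm.subtype Subtype.val_injective
        (LinearMap.exact_subtype_ker_map φ) (A ⧸ m)
    -- `A/m ⊗ φ` injective
    have hφinj : Function.Injective (LinearMap.lTensor (A ⧸ m) φ) := by
      rw [injective_iff_map_eq_zero]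
      intro x hx
      obtain ⟨y, rfl⟩ := LinearMap.lTensor_surjective (A ⧸ m) (LinearMap.range d₀).mkQ_surjective x
      have h1 : LinearMap.lTensor (A ⧸ m) d₁ y = 0 := by
        have hc : d₁ = (LinearMap.range d₁).subtype ∘ₗ φ ∘ₗ (LinearMap.range d₀).mkQ := rfl
        rw [hc, LinearMap.lTensor_comp, LinearMap.lTensor_comp, LinearMap.comp_apply,
          LinearMap.comp_apply, hx, map_zero]
      obtain ⟨z, rfl⟩ := (h m y).1 h1
      rw [← LinearMap.comp_apply, ← LinearMap.lTensor_comp]
      have : (LinearMap.range d₀).mkQ ∘ₗ d₀ = 0 := by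
        ext x
        simp
      rw [this, LinearMap.lTensor_zero, LinearMap.zero_apply]
    refine ⟨fun a b => hinj (hφinj ?_)⟩
    rw [← LinearMap.comp_apply, ← LinearMap.comp_apply, ← LinearMap.lTensor_comp]
    have : φ ∘ₗ Hm.subtype = 0 := by
      apply LinearMap.ext
      intro x
      exact LinearMap.mem_ker.1 x.2
    rw [this, LinearMap.lTensor_zero, LinearMap.zero_apply, LinearMap.zero_apply]
  -- conclude
  intro y
  constructor
  · intro hy
    have hmem : (LinearMap.range d₀).mkQ y ∈ Hm := by
      rw [LinearMap.mem_ker]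
      exact Subtype.ext hy
    have h0 : (⟨(LinearMap.range d₀).mkQ y, hmem⟩ : Hm) = 0 := Subsingleton.elim _ _
    have h0' : (LinearMap.range d₀).mkQ y = 0 := congrArg Subtype.val h0
    rwa [Submodule.mkQ_apply, Submodule.Quotient.mk_eq_zero] at h0'
  · rintro ⟨x, rfl⟩
    exact congrArg (fun l => l x) h01

end Nak

section Cx
open CategoryTheory CategoryTheory.Limits Groth.Agent.Lib.helper13.GCAlg
variable {A : Type u} [CommRing A] [IsNoetherianRing A]

/-- **S14611 (strong form)**: `Q` a complex with `Q^d` finite projective; if `Q ⊗ A/m` is exact in degree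
`i = d - 1` for every maximal ideal `m`, then `coker(Q^i → Q^d)` is projective. -/
theorem projective_opcycles (Q : CochainComplex (ModuleCat.{u} A) ℤ) (i d : ℤ) (hid : i + 1 = d)
    (hfin : Module.Finite A (Q.X d)) (hproj : Module.Projective A (Q.X d))
    (h2 : ∀ (m : Ideal A) [m.IsMaximal],
      (CohIII.tensorObj Q (ModuleCat.of A (A ⧸ m))).ExactAt i) :
    Module.Projective A (Q.opcycles d) := by
  have hprev : (ComplexShape.up ℤ).prev d = i := by simp [← hid]
  have key : Module.Projective A (Q.X d ⧸ LinearMap.range (Q.d i d).hom) := by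
    refine projective_quot_of_residue_injective _ (fun m hm => ?_)
    rw [LinearMap.lTensor_inj_iff_rTensor_inj]
    refine rTensor_range_injective (Q.d (i - 1) i).hom (Q.d i d).hom (d_comp_d_hom Q _ _ _) ?_
    exact (exactAt_tensorObj_iff Q (ModuleCat.of A (A ⧸ m)) (i - 1) i d (by ring) hid).1 (h2 m)
  subst hprev
  haveI : Module.Projective A ((Q.sc d).X₂ ⧸ LinearMap.range (Q.sc d).f.hom) := key
  exact Module.Projective.of_equiv ((Q.sc d).moduleCatOpcyclesIso).toLinearEquiv.symm

end Cx


section Cx2
open CategoryTheory CategoryTheory.Limits Groth.Agent.Lib.helper13.GCAlg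
  Groth.Agent.Lib.helper2.FlatCyc
variable {A : Type u} [CommRing A]

/-- fibrewise exactness of `L` in degree `p` at all maximal ideals, in linear-map form. -/
def FibExact (L : CochainComplex (ModuleCat.{u} A) ℤ) (p : ℤ) : Prop :=
  ∀ (m : Ideal A) [m.IsMaximal],
    Function.Exact (LinearMap.lTensor (A ⧸ m) (L.d (p - 1) p).hom)
      (LinearMap.lTensor (A ⧸ m) (L.d p (p + 1)).hom)

lemma fibExact_of_tensorObj (L : CochainComplex (ModuleCat.{u} A) ℤ) (p : ℤ)
    (h : ∀ (m : Ideal A) [m.IsMaximal],
      (CohIII.tensorObj L (ModuleCat.of A (A ⧸ m))).ExactAt p) : FibExact L p := by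
  intro m hm
  have h1 := (exactAt_tensorObj_iff L (ModuleCat.of A (A ⧸ m)) (p - 1) p (p + 1) (by ring) rfl).1
    (h m)
  refine Function.Exact.of_ladder_linearEquiv_of_exact
    (e₁ := TensorProduct.comm A (L.X (p - 1)) (A ⧸ m)) (e₂ := TensorProduct.comm A (L.X p) (A ⧸ m))
    (e₃ := TensorProduct.comm A (L.X (p + 1)) (A ⧸ m)) ?_ ?_ h1
  · apply TensorProduct.ext'
    intro a b
    simp
  · apply TensorProduct.ext'
    intro a b
    simp

lemma fibExact_of_bcCx (L : CochainComplex (ModuleCat.{u} A) ℤ) (p : ℤ)
    (h : ∀ (m : Ideal A) [m.IsMaximal], (CohIII.bcCx (algebraMap A (A ⧸ m)) L).ExactAt p) :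
    FibExact L p := by
  intro m hm
  have h1 := (exactAt_bcCx_iff L (algebraMap A (A ⧸ m)) (p - 1) p (p + 1) (by ring) rfl).1 (h m)
  let e : Bmod (algebraMap A (A ⧸ m)) ≃ₗ[A] (A ⧸ m) :=
    { toFun := fun b => (b : A ⧸ m)
      invFun := fun a => (a : A ⧸ m)
      map_add' := fun _ _ => rfl
      map_smul' := fun a b => (Algebra.smul_def a (show A ⧸ m from b)).symm
      left_inv := fun _ => rfl
      right_inv := fun _ => rfl }
  refine Function.Exact.of_ladder_linearEquiv_of_exact
    (e₁ := TensorProduct.congr e (LinearEquiv.refl A (L.X (p - 1))))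
    (e₂ := TensorProduct.congr e (LinearEquiv.refl A (L.X p)))
    (e₃ := TensorProduct.congr e (LinearEquiv.refl A (L.X (p + 1)))) ?_ ?_ h1
  · apply TensorProduct.ext'
    intro a b
    simp
  · apply TensorProduct.ext'
    intro a b
    simp

/-- `lTensor` version of `rTensor_range_injective`. -/
lemma lTensor_range_injective {M₀ M₁ M₂ T : Type u} [AddCommGroup M₀] [AddCommGroup M₁]
    [AddCommGroup M₂] [AddCommGroup T] [Module A M₀] [Module A M₁] [Module A M₂] [Module A T]
    (d₀ : M₀ →ₗ[A] M₁) (d₁ : M₁ →ₗ[A] M₂) (h01 : d₁ ∘ₗ d₀ = 0)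
    (hT : Function.Exact (LinearMap.lTensor T d₀) (LinearMap.lTensor T d₁)) :
    Function.Injective (LinearMap.lTensor T (LinearMap.range d₁).subtype) := by
  have hst : (LinearMap.range d₁).subtype ∘ₗ d₁.rangeRestrict = d₁ := rfl
  have ht0 : d₁.rangeRestrict ∘ₗ d₀ = 0 := by
    ext x
    exact congrArg (fun l => l x) h01
  rw [injective_iff_map_eq_zero]
  intro u hu
  obtain ⟨v, rfl⟩ := LinearMap.lTensor_surjective T d₁.surjective_rangeRestrict u
  rw [← LinearMap.comp_apply, ← LinearMap.lTensor_comp, hst] at hu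
  obtain ⟨w, rfl⟩ := (hT v).1 hu
  rw [← LinearMap.comp_apply, ← LinearMap.lTensor_comp, ht0, LinearMap.lTensor_zero,
    LinearMap.zero_apply]

variable [IsNoetherianRing A]

theorem projective_coker_of_fibExact (L : CochainComplex (ModuleCat.{u} A) ℤ) (p q : ℤ)
    (hpq : p + 1 = q)
    (hfin : Module.Finite A (L.X q)) (hproj : Module.Projective A (L.X q))
    (h : FibExact L p) :
    Module.Projective A (L.X q ⧸ LinearMap.range (L.d p q).hom) := by
  subst hpq
  refine projective_quot_of_residue_injective _ (fun m hm => ?_)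
  exact lTensor_range_injective (L.d (p - 1) p).hom (L.d p (p + 1)).hom (d_comp_d_hom L _ _ _) (h m)

theorem projective_opcycles_of_fibExact (L : CochainComplex (ModuleCat.{u} A) ℤ) (p q : ℤ)
    (hpq : p + 1 = q)
    (hfin : Module.Finite A (L.X q)) (hproj : Module.Projective A (L.X q))
    (h : FibExact L p) : Module.Projective A (L.opcycles q) := by
  have key := projective_coker_of_fibExact L p q hpq hfin hproj h
  have hprev : (ComplexShape.up ℤ).prev q = p := by simp [← hpq]
  subst hprev
  haveI : Module.Projective A ((L.sc q).X₂ ⧸ LinearMap.range (L.sc q).f.hom) := key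
  exact Module.Projective.of_equiv ((L.sc q).moduleCatOpcyclesIso).toLinearEquiv.symm

theorem exactAt_of_fibExact (L : CochainComplex (ModuleCat.{u} A) ℤ) (p : ℤ)
    (hfin0 : Module.Finite A (L.X p))
    (hfin : Module.Finite A (L.X (p + 1))) (hproj : Module.Projective A (L.X (p + 1)))
    (h : FibExact L p) : L.ExactAt p := by
  rw [exactAt_iff_exact L (p - 1) p (p + 1) (by ring) rfl]
  haveI := projective_coker_of_fibExact L p (p + 1) rfl hfin hproj h
  have hB : Module.Flat A (LinearMap.range (L.d p (p + 1)).hom) :=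
    Groth.Agent.Lib.helper2.FlatSeq.flat_of_exact_left
      (LinearMap.range (L.d p (p + 1)).hom).subtype (LinearMap.range (L.d p (p + 1)).hom).mkQ
      Subtype.val_injective (Submodule.mkQ_surjective _) (LinearMap.exact_subtype_mkQ _)
  exact exact_of_forall_maximal _ _ (d_comp_d_hom L _ _ _) hB (fun m hm => h m)

end Cx2


section Main
open CategoryTheory CategoryTheory.Limits Groth.Agent.Lib.helper13.GCAlg
  Groth.Agent.Lib.helper2.FlatCyc
variable {A : Type u} [CommRing A]

/-- a quasi-isomorphism between bounded above complexes of flat modules stays one after any base change -/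
lemma quasiIso_extendScalars (C D : CochainComplex (ModuleCat.{u} A) ℤ)
    (hC : ∀ i, Module.Flat A (C.X i)) (hD : ∀ i, Module.Flat A (D.X i))
    (bC : ∃ b : ℤ, ∀ i, b < i → IsZero (C.X i)) (bD : ∃ b : ℤ, ∀ i, b < i → IsZero (D.X i))
    (φ : C ⟶ D) [QuasiIso φ] {B : Type u} [CommRing B] (ψ : A →+* B) :
    QuasiIso (((ModuleCat.extendScalars.{u, u, u} ψ).mapHomologicalComplex
      (ComplexShape.up ℤ)).map φ) := by
  obtain ⟨b₁, hb₁⟩ := bC
  obtain ⟨b₂, hb₂⟩ := bD
  have hflat : ∀ n, Module.Flat A ((CochainComplex.mappingCone φ).X n) := fun n =>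
    flat_of_iso_biprod _ _ _ (HomologicalComplex.homotopyCofiber.XIsoBiprod φ n (n + 1) rfl)
      (hC _) (hD _)
  have hbd : ∃ b : ℤ, ∀ i, b < i → IsZero ((CochainComplex.mappingCone φ).X i) :=
    ⟨max b₁ b₂, fun i hi => isZero_of_iso_biprod _ _ _
      (HomologicalComplex.homotopyCofiber.XIsoBiprod φ i (i + 1) rfl)
      (hb₁ _ (by omega)) (hb₂ _ (by omega))⟩
  have hac : ∀ p, IsZero ((CochainComplex.mappingCone φ).homology p) := fun p =>
    (HomologicalComplex.exactAt_iff_isZero_homology _ _).mp
      ((quasiIso_iff_mappingCone_exactAt φ).mp inferInstance p)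
  have hZ : ∀ i, Module.Flat A (Z (CochainComplex.mappingCone φ) i (i + 1)) := fun i =>
    flat_Z _ hflat hbd i (fun p _ => hac p)
  rw [quasiIso_iff_mappingCone_exactAt]
  intro n
  refine HomologicalComplex.ExactAt.of_iso ?_
    (CochainComplex.mappingCone.mapHomologicalComplexIso φ (ModuleCat.extendScalars.{u, u, u} ψ))
  exact (exactAt_bcCx_iff _ ψ (n - 1) n (n + 1) (by ring) rfl).2
    (exact_lTensor _ hZ hac _ n)

lemma finite_projective_of_isZero (M : ModuleCat.{u} A) (h : IsZero M) :
    Module.Finite A M ∧ Module.Projective A M := by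
  haveI := ModuleCat.subsingleton_of_isZero h
  exact ⟨inferInstance, inferInstance⟩

lemma finite_projective_of_iso {M N : ModuleCat.{u} A} (e : M ≅ N)
    (h : Module.Finite A N ∧ Module.Projective A N) :
    Module.Finite A M ∧ Module.Projective A M := by
  obtain ⟨h1, h2⟩ := h
  exact ⟨Module.Finite.equiv e.toLinearEquiv.symm, Module.Projective.of_equiv e.toLinearEquiv.symm⟩

variable [IsNoetherianRing A]

/-- **Amplitude truncation.** A bounded above complex `L` of finite projective modules over a Noetherian ring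
which is fibrewise exact (at all maximal ideals) below `d'` and exact above `d` can be replaced, universally, by a
complex of finite projective modules concentrated in `[d', d]`. -/
theorem exists_amplitude_truncation (L : CochainComplex (ModuleCat.{u} A) ℤ)
    (hL : ∀ i, Module.Finite A (L.X i) ∧ Module.Projective A (L.X i))
    (hb : ∃ b : ℤ, ∀ i, b < i → IsZero (L.X i)) (d' d : ℤ)
    (hlow : ∀ p, p < d' → FibExact L p) (hhigh : ∀ p, d < p → IsZero (L.homology p)) :
    ∃ P : CochainComplex (ModuleCat.{u} A) ℤ,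
      (∀ i, Module.Finite A (P.X i) ∧ Module.Projective A (P.X i)) ∧
      (∀ i : ℤ, i < d' ∨ d < i → IsZero (P.X i)) ∧
      (∀ (B : Type u) [CommRing B] (ψ : A →+* B) (i : ℤ),
        Nonempty ((CohIII.bcCx ψ L).homology i ≅ (CohIII.bcCx ψ P).homology i)) ∧
      ∀ (M : ModuleCat.{u} A) (i : ℤ), Nonempty (CohIII.T L i M ≅ CohIII.T P i M) := by
  obtain ⟨b, hb⟩ := hb
  have hLflat : ∀ i, Module.Flat A (L.X i) := fun i => by
    haveI := (hL i).2
    infer_instance
  -- lower truncation
  haveI hGE : L.IsGE d' := (CochainComplex.isGE_iff L d').2 (fun i hi =>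
    exactAt_of_fibExact L i (hL i).1 (hL (i + 1)).1 (hL (i + 1)).2 (hlow i hi))
  let L₁ := L.truncGE d'
  let π : L ⟶ L₁ := L.πTruncGE d'
  haveI hπ : QuasiIso π := by
    dsimp only [π]
    infer_instance
  have hL₁ : ∀ i, Module.Finite A (L₁.X i) ∧ Module.Projective A (L₁.X i) := by
    intro i
    rcases lt_trichotomy i d' with hi | hi | hi
    · exact finite_projective_of_isZero _ (CochainComplex.isZero_of_isStrictlyGE L₁ d' i hi)
    · subst hi
      refine finite_projective_of_iso (L.truncGEXIsoOpcycles i) ⟨?_, ?_⟩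
      · haveI := (hL i).1
        exact Module.Finite.of_surjective (L.pOpcycles i).hom
          ((ModuleCat.epi_iff_surjective _).1 inferInstance)
      · exact projective_opcycles_of_fibExact L (i - 1) i (by ring) (hL i).1 (hL i).2
          (hlow (i - 1) (by omega))
    · exact finite_projective_of_iso (L.truncGEXIso d' i hi) (hL i)
  have hL₁flat : ∀ i, Module.Flat A (L₁.X i) := fun i => by
    haveI := (hL₁ i).2
    infer_instance
  have hb₁ : ∀ i, max b d' < i → IsZero (L₁.X i) := fun i hi =>
    (hb i (by omega)).of_iso (L.truncGEXIso d' i (by omega))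
  have hac₁ : ∀ p, d < p → IsZero (L₁.homology p) := fun p hp => by
    haveI : IsIso (HomologicalComplex.homologyMap π p) :=
      (quasiIsoAt_iff_isIso_homologyMap π p).1 (hπ.quasiIsoAt p)
    exact (hhigh p hp).of_iso (asIso (HomologicalComplex.homologyMap π p)).symm
  -- upper truncation
  haveI hLE : L₁.IsLE d := (CochainComplex.isLE_iff L₁ d).2 (fun i hi =>
    (HomologicalComplex.exactAt_iff_isZero_homology _ _).2 (hac₁ i hi))
  let P := L₁.truncLE d
  let ι : P ⟶ L₁ := L₁.ιTruncLE d
  haveI hι : QuasiIso ι := by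
    dsimp only [ι]
    infer_instance
  have hcyc : Module.Finite A (L₁.cycles d) ∧ Module.Projective A (L₁.cycles d) := by
    haveI := (hL₁ d).1
    haveI : IsNoetherian A (L₁.X d) := isNoetherian_of_isNoetherianRing_of_finite A _
    haveI hfin : Module.Finite A (L₁.cycles d) := Module.Finite.of_injective (L₁.iCycles d).hom
      ((ModuleCat.mono_iff_injective _).1 inferInstance)
    haveI : Module.Flat A (L₁.cycles d) := flat_cycles L₁ hL₁flat ⟨max b d', hb₁⟩ d hac₁
    haveI : Module.FinitePresentation A (L₁.cycles d) := Module.finitePresentation_of_finite A _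
    exact ⟨hfin, Module.Flat.projective_of_finitePresentation⟩
  have hP : ∀ i, Module.Finite A (P.X i) ∧ Module.Projective A (P.X i) := by
    intro i
    rcases lt_trichotomy i d with hi | hi | hi
    · exact finite_projective_of_iso (L₁.truncLEXIso d i hi) (hL₁ i)
    · subst hi
      exact finite_projective_of_iso (L₁.truncLEXIsoCycles i) hcyc
    · exact finite_projective_of_isZero _ (CochainComplex.isZero_of_isStrictlyLE P d i hi)
  have hPflat : ∀ i, Module.Flat A (P.X i) := fun i => by
    haveI := (hP i).2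
    infer_instance
  have hPz : ∀ i : ℤ, i < d' ∨ d < i → IsZero (P.X i) := by
    intro i hi
    rcases lt_trichotomy i d with hid | hid | hid
    · rcases hi with hi | hi
      · exact (CochainComplex.isZero_of_isStrictlyGE L₁ d' i hi).of_iso (L₁.truncLEXIso d i hid)
      · omega
    · subst hid
      rcases hi with hi | hi
      · have h0 : IsZero (L₁.X i) := CochainComplex.isZero_of_isStrictlyGE L₁ d' i hi
        have h1 : IsZero (L₁.cycles i) := IsZero.of_mono (L₁.iCycles i) h0
        exact h1.of_iso (L₁.truncLEXIsoCycles i)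
      · omega
    · exact CochainComplex.isZero_of_isStrictlyLE P d i hid
  have hbP : ∀ i, max b d' < i → IsZero (P.X i) := fun i hi => by
    rcases lt_trichotomy i d with hid | hid | hid
    · exact (hb₁ i hi).of_iso (L₁.truncLEXIso d i hid)
    · subst hid
      exact (IsZero.of_mono (L₁.iCycles i) (hb₁ i hi)).of_iso (L₁.truncLEXIsoCycles i)
    · exact CochainComplex.isZero_of_isStrictlyLE P d i hid
  refine ⟨P, hP, hPz, fun B _ ψ i => ?_, fun M i => ?_⟩
  · haveI h1 := quasiIso_extendScalars L L₁ hLflat hL₁flat ⟨b, hb⟩ ⟨max b d', hb₁⟩ π ψ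
    haveI h2 := quasiIso_extendScalars P L₁ hPflat hL₁flat ⟨max b d', hbP⟩ ⟨max b d', hb₁⟩ ι ψ
    have i1 : IsIso (HomologicalComplex.homologyMap
        (((ModuleCat.extendScalars.{u, u, u} ψ).mapHomologicalComplex (ComplexShape.up ℤ)).map π) i) :=
      (quasiIsoAt_iff_isIso_homologyMap _ i).1 (h1.quasiIsoAt i)
    have i2 : IsIso (HomologicalComplex.homologyMap
        (((ModuleCat.extendScalars.{u, u, u} ψ).mapHomologicalComplex (ComplexShape.up ℤ)).map ι) i) :=
      (quasiIsoAt_iff_isIso_homologyMap _ i).1 (h2.quasiIsoAt i)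
    exact ⟨(@asIso _ _ _ _ _ i1) ≪≫ (@asIso _ _ _ _ _ i2).symm⟩
  · haveI h1 := quasiIso_tensor L L₁ hLflat hL₁flat ⟨b, hb⟩ ⟨max b d', hb₁⟩ π M
    haveI h2 := quasiIso_tensor P L₁ hPflat hL₁flat ⟨max b d', hbP⟩ ⟨max b d', hb₁⟩ ι M
    have i1 : IsIso (HomologicalComplex.homologyMap
        (((MonoidalCategory.tensorRight M).mapHomologicalComplex (ComplexShape.up ℤ)).map π) i) :=
      (quasiIsoAt_iff_isIso_homologyMap _ i).1 (h1.quasiIsoAt i)
    have i2 : IsIso (HomologicalComplex.homologyMap
        (((MonoidalCategory.tensorRight M).mapHomologicalComplex (ComplexShape.up ℤ)).map ι) i) :=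
      (quasiIsoAt_iff_isIso_homologyMap _ i).1 (h2.quasiIsoAt i)
    exact ⟨(@asIso _ _ _ _ _ i1) ≪≫ (@asIso _ _ _ _ _ i2).symm⟩

end Main

end Groth.Agent.Lib.helper13.GCTrunc
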