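import Mathlib

/-! Hopf's lemma on 1-generic bilinear maps over an algebraically closed field (helper13):
`m ≤ a + b - 2` bilinear forms on `k^a × k^b` have a common zero `(p, q)` with `p ≠ 0`, `q ≠ 0`.
Proof through the Segre ring `k[x_i y_j]`. -/

set_option autoImplicit false
universe u

namespace Groth.Agent.Lib.helper13.Hopf

open MvPolynomial

section setup
variable (k : Type u) [Field k] (a b : ℕ)

/-- the generators `x_i y_j` -/
noncomputable def g (ij : Fin a × Fin b) : MvPolynomial (Fin a ⊕ Fin b) k :=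
  X (Sum.inl ij.1) * X (Sum.inr ij.2)

/-- the Segre ring `k[x_i y_j]` -/
noncomputable def R : Subalgebra k (MvPolynomial (Fin a ⊕ Fin b) k) :=
  Algebra.adjoin k (Set.range (g k a b))

noncomputable def G (ij : Fin a × Fin b) : R k a b :=
  ⟨g k a b ij, Algebra.subset_adjoin ⟨ij, rfl⟩⟩

open Classical in
/-- substitution killing the variables outside `K` -/
noncomputable def sub (K : Set (Fin a ⊕ Fin b)) :
    MvPolynomial (Fin a ⊕ Fin b) k →ₐ[k] MvPolynomial (Fin a ⊕ Fin b) k :=
  aeval (fun v => if v ∈ K then X v else 0)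

open Classical in
theorem sub_X (K : Set (Fin a ⊕ Fin b)) (v : Fin a ⊕ Fin b) :
    sub k a b K (X v) = if v ∈ K then X v else 0 := by
  simp [sub]

theorem sub_comp (K K' : Set (Fin a ⊕ Fin b)) (h : K' ⊆ K) :
    (sub k a b K').comp (sub k a b K) = sub k a b K' := by
  classical
  apply MvPolynomial.algHom_ext
  intro v
  rw [AlgHom.comp_apply, sub_X, sub_X]
  by_cases hv : v ∈ K
  · rw [if_pos hv, sub_X]
  · rw [if_neg hv, map_zero, if_neg (fun h' => hv (h h'))]

/-- the prime of `R` cut out by killing the variables outside `K` -/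
noncomputable def q (K : Set (Fin a ⊕ Fin b)) : Ideal (R k a b) :=
  (RingHom.ker (sub k a b K).toRingHom).comap (R k a b).val.toRingHom

instance (K : Set (Fin a ⊕ Fin b)) : (q k a b K).IsPrime := by
  unfold q
  haveI : (RingHom.ker (sub k a b K).toRingHom).IsPrime := RingHom.ker_isPrime _
  exact Ideal.comap_isPrime _ _

theorem mem_q (K : Set (Fin a ⊕ Fin b)) (r : R k a b) :
    r ∈ q k a b K ↔ sub k a b K (r : MvPolynomial (Fin a ⊕ Fin b) k) = 0 := by
  unfold q
  rw [Ideal.mem_comap, RingHom.mem_ker]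
  rfl

theorem q_mono (K K' : Set (Fin a ⊕ Fin b)) (h : K' ⊆ K) : q k a b K ≤ q k a b K' := by
  intro r hr
  rw [mem_q] at hr ⊢
  rw [← sub_comp k a b K K' h, AlgHom.comp_apply, hr, map_zero]

theorem G_mem_q (K : Set (Fin a ⊕ Fin b)) (ij : Fin a × Fin b) :
    G k a b ij ∈ q k a b K ↔ ¬ (Sum.inl ij.1 ∈ K ∧ Sum.inr ij.2 ∈ K) := by
  classical
  rw [mem_q]
  show sub k a b K (g k a b ij) = 0 ↔ _
  unfold g
  rw [map_mul, sub_X, sub_X]
  by_cases h1 : Sum.inl ij.1 ∈ K
  · by_cases h2 : Sum.inr ij.2 ∈ K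
    · simp [h1, h2, X_ne_zero]
    · simp [h1, h2]
  · simp [h1]

/-- the chain of subsets of kept variables -/
def keep (t : ℕ) : Set (Fin a ⊕ Fin b) :=
  {v | Sum.elim (fun i : Fin a => min t (a - 1) ≤ i.val ∧ t < a + b - 1)
    (fun j : Fin b => t - (a - 1) ≤ j.val) v}

theorem keep_anti (t : ℕ) : keep a b (t + 1) ⊆ keep a b t := by
  intro v hv
  cases v with
  | inl i =>
    simp only [keep, Set.mem_setOf_eq, Sum.elim_inl] at hv ⊢
    omega
  | inr j =>
    simp only [keep, Set.mem_setOf_eq, Sum.elim_inr] at hv ⊢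
    omega

theorem q_lt (ha : 0 < a) (hb : 0 < b) (t : ℕ) (ht : t + 1 ≤ a + b - 1) :
    q k a b (keep a b t) < q k a b (keep a b (t + 1)) := by
  refine lt_of_le_of_ne (q_mono k a b _ _ (keep_anti a b t)) ?_
  intro heq
  have hi : min t (a - 1) < a := by omega
  have hj : t - (a - 1) < b := by omega
  have h1 : G k a b (⟨min t (a - 1), hi⟩, ⟨t - (a - 1), hj⟩) ∈ q k a b (keep a b (t + 1)) := by
    rw [G_mem_q]
    simp only [keep, Set.mem_setOf_eq, Sum.elim_inl, Sum.elim_inr]
    omega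
  have h2 : G k a b (⟨min t (a - 1), hi⟩, ⟨t - (a - 1), hj⟩) ∉ q k a b (keep a b t) := by
    rw [G_mem_q, not_not]
    simp only [keep, Set.mem_setOf_eq, Sum.elim_inl, Sum.elim_inr]
    omega
  exact h2 (heq ▸ h1)

theorem height_ge (ha : 0 < a) (hb : 0 < b) (t : ℕ) (ht : t ≤ a + b - 1) :
    (t : ℕ∞) ≤ (q k a b (keep a b t)).height := by
  induction t with
  | zero => simp
  | succ t ih =>
    have h1 := ih (by omega)
    have h2 := Ideal.height_add_one_le_of_lt_of_isPrime (q_lt k a b ha hb t ht)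
    push_cast
    exact (add_le_add_left h1 1).trans h2

end setup

section main
variable (k : Type u) [Field k] (a b : ℕ)

/-- evaluation at the origin, restricted to `R` -/
noncomputable def ev0 : R k a b →ₐ[k] k :=
  (MvPolynomial.aeval (0 : Fin a ⊕ Fin b → k)).comp (R k a b).val

theorem ev0_G (ij : Fin a × Fin b) : ev0 k a b (G k a b ij) = 0 := by
  show MvPolynomial.aeval (0 : Fin a ⊕ Fin b → k) (g k a b ij) = 0
  simp [g]

theorem aeval0_sub (K : Set (Fin a ⊕ Fin b)) (f : MvPolynomial (Fin a ⊕ Fin b) k) :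
    MvPolynomial.aeval (0 : Fin a ⊕ Fin b → k) (sub k a b K f) =
      MvPolynomial.aeval (0 : Fin a ⊕ Fin b → k) f := by
  classical
  have : (MvPolynomial.aeval (0 : Fin a ⊕ Fin b → k)).comp (sub k a b K) =
      MvPolynomial.aeval (0 : Fin a ⊕ Fin b → k) := by
    apply MvPolynomial.algHom_ext
    intro v
    rw [AlgHom.comp_apply, sub_X]
    split_ifs <;> simp
  conv_rhs => rw [← this]
  rfl

theorem G_mul_G (i i' : Fin a) (j j' : Fin b) :
    G k a b (i, j) * G k a b (i', j') = G k a b (i, j') * G k a b (i', j) := by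
  apply Subtype.ext
  show g k a b (i, j) * g k a b (i', j') = g k a b (i, j') * g k a b (i', j)
  simp only [g]; ring

/-- two algebra maps out of `R` agreeing on the generators are equal -/
theorem algHom_ext_R (φ ψ : R k a b →ₐ[k] k) (h : ∀ ij, φ (G k a b ij) = ψ (G k a b ij)) :
    φ = ψ := by
  apply AlgHom.ext_of_adjoin_eq_top (s := ((↑) : R k a b → MvPolynomial (Fin a ⊕ Fin b) k) ⁻¹'
    Set.range (g k a b))
  · exact Algebra.adjoin_adjoin_coe_preimage
  · rintro ⟨x, hx⟩ ⟨ij, hij⟩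
    have : (⟨x, hx⟩ : R k a b) = G k a b ij := Subtype.ext hij.symm
    rw [this]
    exact h ij

variable [IsAlgClosed k]

theorem core (m : ℕ) (ha : 0 < a) (hb : 0 < b) (hm : m + 2 ≤ a + b)
    (c : Fin a → Fin b → Fin m → k) :
    ∃ (p : Fin a → k) (q : Fin b → k), p ≠ 0 ∧ q ≠ 0 ∧
      ∀ l, ∑ i, ∑ j, c i j l * p i * q j = 0 := by
  classical
  haveI : Algebra.FiniteType k (R k a b) := by
    rw [← Subalgebra.fg_iff_finiteType]
    have := Subalgebra.fg_adjoin_finset (R := k) (Finset.univ.image (g k a b))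
    simpa [R] using this
  haveI : IsNoetherianRing (R k a b) := Algebra.FiniteType.isNoetherianRing k _
  haveI : IsJacobsonRing (R k a b) := isJacobsonRing_of_finiteType (A := k)
  -- the maximal ideal at the origin
  set mR : Ideal (R k a b) := RingHom.ker (ev0 k a b).toRingHom with hmRdef
  have hmR : mR.IsMaximal := by
    apply RingHom.ker_isMaximal_of_surjective
    intro x
    exact ⟨algebraMap k _ x, by simp⟩
  have hq_le : q k a b (keep a b (a + b - 1)) ≤ mR := by
    intro r hr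
    rw [mem_q] at hr
    rw [hmRdef, RingHom.mem_ker]
    show MvPolynomial.aeval (0 : Fin a ⊕ Fin b → k) (r : MvPolynomial (Fin a ⊕ Fin b) k) = 0
    rw [← aeval0_sub k a b (keep a b (a + b - 1)), hr, map_zero]
  have hht : ((a + b - 1 : ℕ) : ℕ∞) ≤ mR.height :=
    (height_ge k a b ha hb _ le_rfl).trans (Ideal.height_mono hq_le)
  -- the forms
  let F : Fin m → R k a b := fun l => ∑ i, ∑ j, c i j l • G k a b (i, j)
  have hF0 : ∀ l, F l ∈ mR := by
    intro l
    rw [hmRdef, RingHom.mem_ker]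
    show ev0 k a b (F l) = 0
    simp only [F, map_sum, map_smul, ev0_G, smul_zero, Finset.sum_const_zero]
  have hJ : Ideal.span (Set.range F) ≤ mR :=
    Ideal.span_le.mpr (by rintro _ ⟨l, rfl⟩; exact hF0 l)
  obtain ⟨𝔭, h𝔭min, h𝔭le⟩ := Ideal.exists_minimalPrimes_le hJ
  have h𝔭prime : 𝔭.IsPrime := h𝔭min.1.1
  have hcard : (Set.range F).ncard ≤ m := by
    have := Set.ncard_image_le (f := F) (s := Set.univ) Set.finite_univ
    rw [Set.image_univ] at this
    simpa using this
  have hht𝔭 : 𝔭.height ≤ (m : ℕ∞) :=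
    (Ideal.height_le_card_of_mem_minimalPrimes_span (Set.finite_range F) h𝔭min).trans
      (by exact_mod_cast hcard)
  have hne : 𝔭 ≠ mR := by
    intro h
    rw [h] at hht𝔭
    have := ENat.natCast_le_natCast.mp (hht.trans hht𝔭)
    omega
  have hjac : 𝔭.jacobson = 𝔭 := IsJacobsonRing.out inferInstance h𝔭prime.isRadical
  obtain ⟨𝔫, h𝔫max, h𝔫le, h𝔫ne⟩ :
      ∃ 𝔫 : Ideal (R k a b), 𝔫.IsMaximal ∧ 𝔭 ≤ 𝔫 ∧ 𝔫 ≠ mR := by
    by_contra hcon
    push Not at hcon
    apply hne
    apply le_antisymm h𝔭le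
    rw [← hjac]
    apply le_sInf
    rintro J ⟨hJ1, hJ2⟩
    rw [hcon J hJ2 hJ1]
  -- the residue field is `k`
  haveI := h𝔫max
  letI : Field (R k a b ⧸ 𝔫) := Ideal.Quotient.field 𝔫
  haveI : Algebra.FiniteType k (R k a b ⧸ 𝔫) :=
    Algebra.FiniteType.of_surjective (Ideal.Quotient.mkₐ k 𝔫) (Ideal.Quotient.mkₐ_surjective k 𝔫)
  haveI : Module.Finite k (R k a b ⧸ 𝔫) := finite_of_finite_type_of_isJacobsonRing k _
  have hbij : Function.Bijective (algebraMap k (R k a b ⧸ 𝔫)) :=
    IsAlgClosed.algebraMap_bijective_of_isIntegral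
  let e : k ≃ₐ[k] (R k a b ⧸ 𝔫) := AlgEquiv.ofBijective (Algebra.ofId k _) hbij
  let χ : R k a b →ₐ[k] k := (e.symm : (R k a b ⧸ 𝔫) →ₐ[k] k).comp (Ideal.Quotient.mkₐ k 𝔫)
  have hχker : ∀ r, χ r = 0 ↔ r ∈ 𝔫 := by
    intro r
    show e.symm (Ideal.Quotient.mk 𝔫 r) = 0 ↔ _
    rw [map_eq_zero_iff _ e.symm.injective, Ideal.Quotient.eq_zero_iff_mem]
  -- not all generators are killed
  obtain ⟨⟨i0, j0⟩, h0⟩ : ∃ ij, χ (G k a b ij) ≠ 0 := by
    by_contra hcon
    push Not at hcon
    apply h𝔫ne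
    have hχ : χ = ev0 k a b := algHom_ext_R k a b _ _ (fun ij => by rw [hcon ij, ev0_G])
    ext r
    rw [← hχker, hχ, hmRdef, RingHom.mem_ker]
    rfl
  refine ⟨fun i => χ (G k a b (i, j0)), fun j => χ (G k a b (i0, j)) / χ (G k a b (i0, j0)),
    fun h => h0 (congrFun h i0), fun h => ?_, fun l => ?_⟩
  · have := congrFun h j0
    simp only [Pi.zero_apply] at this
    rw [div_self h0] at this
    exact one_ne_zero this
  · have hpq : ∀ i j, χ (G k a b (i, j0)) * (χ (G k a b (i0, j)) / χ (G k a b (i0, j0))) =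
        χ (G k a b (i, j)) := by
      intro i j
      rw [mul_div_assoc', ← map_mul, G_mul_G k a b i i0 j0 j, map_mul, mul_div_assoc,
        div_self h0, mul_one]
    have hFl : χ (F l) = 0 := (hχker _).mpr (h𝔫le (h𝔭min.1.2 (Ideal.subset_span ⟨l, rfl⟩)))
    simp only [F, map_sum, map_smul, smul_eq_mul] at hFl
    rw [← hFl]
    apply Finset.sum_congr rfl
    intro i _
    apply Finset.sum_congr rfl
    intro j _
    rw [mul_assoc, hpq]

end main

section hopf

universe v₁ v₂ v₃

/-- **Hopf's lemma**: a 1-generic bilinear map `U × V → W` over an algebraically closed field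
has `dim U + dim V ≤ dim W + 1`. -/
theorem hopf {k : Type u} [Field k] [IsAlgClosed k] {U : Type v₁} {V : Type v₂} {W : Type v₃}
    [AddCommGroup U] [Module k U] [AddCommGroup V] [Module k V] [AddCommGroup W] [Module k W]
    [Module.Finite k U] [Module.Finite k V] [Module.Finite k W] [Nontrivial U] [Nontrivial V]
    (φ : U →ₗ[k] V →ₗ[k] W) (hφ : ∀ (x : U) (y : V), x ≠ 0 → y ≠ 0 → φ x y ≠ 0) :
    Module.finrank k U + Module.finrank k V ≤ Module.finrank k W + 1 := by
  by_contra hcon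
  push Not at hcon
  let bU := Module.finBasis k U
  let bV := Module.finBasis k V
  let bW := Module.finBasis k W
  have ha : 0 < Module.finrank k U := Module.finrank_pos
  have hb : 0 < Module.finrank k V := Module.finrank_pos
  obtain ⟨p, q, hp, hq, h⟩ := core k (Module.finrank k U) (Module.finrank k V)
    (Module.finrank k W) ha hb (by omega) (fun i j l => bW.repr (φ (bU i) (bV j)) l)
  have hu : (∑ i, p i • bU i) ≠ 0 := by
    intro h0
    apply hp
    funext i
    exact Fintype.linearIndependent_iff.mp bU.linearIndependent p h0 i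
  have hv : (∑ j, q j • bV j) ≠ 0 := by
    intro h0
    apply hq
    funext j
    exact Fintype.linearIndependent_iff.mp bV.linearIndependent q h0 j
  apply hφ _ _ hu hv
  apply bW.repr.injective
  ext l
  simp only [map_sum, map_smul, LinearMap.sum_apply, LinearMap.smul_apply, Finsupp.coe_finset_sum,
    Finsupp.coe_smul, Finset.sum_apply, Pi.smul_apply, smul_eq_mul]
  rw [map_zero, Finsupp.coe_zero, Pi.zero_apply, ← h l, Finset.sum_comm]
  apply Finset.sum_congr rfl
  intro j _
  rw [Finset.mul_sum]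
  apply Finset.sum_congr rfl
  intro i _
  ring

end hopf

end Groth.Agent.Lib.helper13.Hopf
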