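import Mathlib
import Groth.Prelude.Def_DCoh4
import Groth.Prelude.Def_TotMap
import Groth.Agent.Lib.Lead.ModTensor
import Groth.Agent.Lib.Helper12.PullTensor
import Groth.Agent.Lib.Helper12.TensorRestrict

/-!
# Restriction to an open subscheme commutes with the tensor product of complexes (helper13)

* `tensorBi_map_app`, `tensorBi_obj_map`: `DCoh.tensorBi` in terms of `Lead.ModTensor.tensorMap`.
* `resTensorBiIso g M N : g^*(M ⊗ N) ≅ g^*M ⊗ g^*N` with naturality in both variables.
* `resTensorCxIso g K L : g^*(K ⊗ L) ≅ g^*K ⊗ g^*L` for complexes (`DCoh.tensorCx`).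
-/

set_option autoImplicit false
set_option backward.isDefEq.respectTransparency false
universe u
open CategoryTheory CategoryTheory.Limits AlgebraicGeometry MonoidalCategory
open Scheme.Modules

namespace Groth.Agent.Lib.helper13.RestrKFlat

open Groth.Agent.Lib.Lead.ModTensor Groth.Agent.Lib.helper12.TensorRestrict
  Groth.Agent.Lib.helper12.PullTensor

variable {X Y Z : Scheme.{u}}

lemma tensorBi_obj_obj (M N : X.Modules) :
    ((DCoh.tensorBi (X := X)).obj M).obj N = CohB1.tensorMod M N := rfl

lemma tensorBi_map_app {M M' : X.Modules} (f : M ⟶ M') (N : X.Modules) :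
    ((DCoh.tensorBi (X := X)).map f).app N = tensorMap f (𝟙 N) := by
  have h : ((V X).map f ⊗ₘ (V X).map (𝟙 N)) = (V X).map f ▷ (V X).obj N := by
    rw [(V X).map_id]; exact MonoidalCategory.tensorHom_id _ _
  exact (congrArg (L X).map h).symm

lemma tensorBi_obj_map (M : X.Modules) {N N' : X.Modules} (g : N ⟶ N') :
    ((DCoh.tensorBi (X := X)).obj M).map g = tensorMap (𝟙 M) g := by
  have h : ((V X).map (𝟙 M) ⊗ₘ (V X).map g) = (V X).obj M ◁ (V X).map g := by
    rw [(V X).map_id]; exact MonoidalCategory.id_tensorHom _ _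
  exact (congrArg (L X).map h).symm

variable (g : Z ⟶ Y) [IsOpenImmersion g]

/-- `g^*(M ⊗ N) ≅ g^*M ⊗ g^*N` -/
noncomputable def resTensorBiIso (M N : Y.Modules) :
    (restrictFunctor g).obj (((DCoh.tensorBi (X := Y)).obj M).obj N) ≅
      ((DCoh.tensorBi (X := Z)).obj ((restrictFunctor g).obj M)).obj ((restrictFunctor g).obj N) :=
  restrictTensorIso g M N

lemma resTensorBiIso_hom_naturality_left {M M' : Y.Modules} (a : M ⟶ M') (N : Y.Modules) :
    (restrictFunctor g).map (((DCoh.tensorBi (X := Y)).map a).app N) ≫ (resTensorBiIso g M' N).hom =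
      (resTensorBiIso g M N).hom ≫
        ((DCoh.tensorBi (X := Z)).map ((restrictFunctor g).map a)).app ((restrictFunctor g).obj N) := by
  rw [← cancel_epi (resTensorBiIso g M N).inv, Iso.inv_hom_id_assoc,
    ← cancel_mono (resTensorBiIso g M' N).inv, Category.assoc, Category.assoc, Iso.hom_inv_id,
    Category.comp_id, tensorBi_map_app, tensorBi_map_app]
  have := restrictTensorIso_inv_naturality g a (𝟙 N)
  rw [CategoryTheory.Functor.map_id] at this
  exact this.symm

lemma resTensorBiIso_hom_naturality_right (M : Y.Modules) {N N' : Y.Modules} (b : N ⟶ N') :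
    (restrictFunctor g).map (((DCoh.tensorBi (X := Y)).obj M).map b) ≫ (resTensorBiIso g M N').hom =
      (resTensorBiIso g M N).hom ≫
        ((DCoh.tensorBi (X := Z)).obj ((restrictFunctor g).obj M)).map ((restrictFunctor g).map b) := by
  rw [← cancel_epi (resTensorBiIso g M N).inv, Iso.inv_hom_id_assoc,
    ← cancel_mono (resTensorBiIso g M N').inv, Category.assoc, Category.assoc, Iso.hom_inv_id,
    Category.comp_id, tensorBi_obj_map, tensorBi_obj_map]
  have := restrictTensorIso_inv_naturality g (𝟙 M) b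
  rw [CategoryTheory.Functor.map_id] at this
  exact this.symm

/-- termwise restriction of complexes along an open immersion -/
noncomputable abbrev resCx : CochainComplex Y.Modules ℤ ⥤ CochainComplex Z.Modules ℤ :=
  (restrictFunctor g).mapHomologicalComplex (ComplexShape.up ℤ)

/-- the bicomplex `K^p ⊗ L^q` -/
noncomputable abbrev tenBicx (K L : CochainComplex Y.Modules ℤ) :
    HomologicalComplex₂ Y.Modules (ComplexShape.up ℤ) (ComplexShape.up ℤ) :=
  (((DCoh.tensorBi (X := Y)).mapBifunctorHomologicalComplex (ComplexShape.up ℤ)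
    (ComplexShape.up ℤ)).obj K).obj L

variable (K L : CochainComplex Y.Modules ℤ)

/-- The isomorphism of bicomplexes `g^*(K^p ⊗ L^q) ≅ g^*K^p ⊗ g^*L^q`. -/
noncomputable def bicxIso :
    (TotMap.map₂ (restrictFunctor g) (ComplexShape.up ℤ) (ComplexShape.up ℤ)).obj (tenBicx K L) ≅
      tenBicx ((resCx g).obj K) ((resCx g).obj L) :=
  HomologicalComplex.Hom.isoOfComponents
    (fun p => HomologicalComplex.Hom.isoOfComponents (fun q => resTensorBiIso g (K.X p) (L.X q))
      (fun q q' _ => (resTensorBiIso_hom_naturality_right g (K.X p) (L.d q q')).symm))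
    (fun p p' _ => HomologicalComplex.hom_ext _ _ (fun q =>
      (resTensorBiIso_hom_naturality_left g (K.d p p') (L.X q)).symm))

instance preservesTotal_restrictFunctor
    (B : HomologicalComplex₂ Y.Modules (ComplexShape.up ℤ) (ComplexShape.up ℤ)) :
    TotMap.PreservesTotal (restrictFunctor g) B (ComplexShape.up ℤ) := fun _ => inferInstance

/-- `g^*(K ⊗ L) ≅ g^*K ⊗ g^*L` for complexes. -/
noncomputable def resTensorCxIso :
    (resCx g).obj (((DCoh.tensorCx (X := Y)).obj K).obj L) ≅
      ((DCoh.tensorCx (X := Z)).obj ((resCx g).obj K)).obj ((resCx g).obj L) :=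
  haveI := TotMap.hasTotal_map₂ (restrictFunctor g) (tenBicx K L) (ComplexShape.up ℤ)
  TotMap.mapTotalIso (restrictFunctor g) (tenBicx K L) (ComplexShape.up ℤ) ≪≫
    HomologicalComplex₂.total.mapIso (bicxIso g K L) (ComplexShape.up ℤ)

end Groth.Agent.Lib.helper13.RestrKFlat
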