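import Mathlib
import Groth.Prelude.Def_DCoh4
import Groth.Agent.Lib.Helper2.TildeTensor
import Groth.Agent.Lib.Helper11.TensorASec1
import Groth.Agent.Lib.Lead.ModTensor
import Groth.Agent.Lib.Helper13.RestrKFlat1
import Groth.Prelude.Def_TotMap

set_option autoImplicit false
universe u
open CategoryTheory CategoryTheory.Limits AlgebraicGeometry Opposite TopologicalSpace TensorProduct MonoidalCategory

namespace Groth.Agent.Lib.helper13.TildeTensorNat
open Groth.Agent.Lib.helper2.TildeTensor Groth.Agent.Lib.helper11.TensorASec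
  Groth.Agent.Lib.helper12.TensorRestrict Groth.Agent.Lib.Lead.ModTensor

section Bil
variable {R : Type u} [CommRing R] (y : PrimeSpectrum.Top R) {M M' N N' : Type u}
  [AddCommGroup M] [Module R M] [AddCommGroup M'] [Module R M']
  [AddCommGroup N] [Module R N] [AddCommGroup N'] [Module R N']

open AlgebraicGeometry.StructureSheaf in
lemma bil_comapFun (f : M →ₗ[R] M') (g : N →ₗ[R] N')
    (a : LocalizedModule y.asIdeal.primeCompl M) (b : LocalizedModule y.asIdeal.primeCompl N) :
    bil y.asIdeal.primeCompl M' N' (Localizations.comapFun (σ := RingHom.id R) f y a)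
        (Localizations.comapFun (σ := RingHom.id R) g y b) =
      Localizations.comapFun (σ := RingHom.id R) (TensorProduct.map f g) y
        (bil y.asIdeal.primeCompl M N a b) := by
  induction a using LocalizedModule.induction_on with
  | h m s =>
    induction b using LocalizedModule.induction_on with
    | h n t =>
      rw [bil_mk]
      erw [Localizations.comapFun_mk, Localizations.comapFun_mk, Localizations.comapFun_mk]
      rw [bil_mk]
      rfl

end Bil

section Pre

variable {R : CommRingCat.{u}} {M M' N N' : ModuleCat.{u} R} (f : M ⟶ M') (g : N ⟶ N')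

lemma pairHom_naturality :
    ((V (Spec R)).map (tilde.map f) ⊗ₘ (V (Spec R)).map (tilde.map g)) ≫ pairHom M' N' =
      pairHom M N ≫
        (V (Spec R)).map (tilde.map (ModuleCat.ofHom (TensorProduct.map f.hom g.hom))) := by
  apply PresheafOfModules.hom_ext
  intro U
  refine ModuleCat.MonoidalCategory.tensor_ext (fun s t => ?_)
  apply Subtype.ext
  funext x
  exact bil_comapFun x.1 f.hom g.hom _ _

lemma tildeTensorIso_hom_eq (M N : ModuleCat.{u} R) : (tildeTensorIso M N).hom =
    ((Groth.Agent.Lib.Lead.ModTensor.adj (Spec R)).homEquiv _ _).symm (pairHom M N) := by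
  rw [Adjunction.homEquiv_counit]
  rfl

lemma tildeTensorIso_hom_naturality :
    tensorMap (tilde.map f) (tilde.map g) ≫ (tildeTensorIso M' N').hom =
      (tildeTensorIso M N).hom ≫ tilde.map (ModuleCat.ofHom (TensorProduct.map f.hom g.hom)) := by
  rw [tildeTensorIso_hom_eq, tildeTensorIso_hom_eq]
  let φ : (CohB1.toPMod (tilde M) ⊗ CohB1.toPMod (tilde N) : CohB1.PMod (Spec R)) ⟶
      CohB1.toPMod (tilde M') ⊗ CohB1.toPMod (tilde N') :=
    (V (Spec R)).map (tilde.map f) ⊗ₘ (V (Spec R)).map (tilde.map g)
  have h1 := (Groth.Agent.Lib.Lead.ModTensor.adj (Spec R)).homEquiv_naturality_left_symm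
    (Y := tilde (ModuleCat.of R (M' ⊗[R] N'))) φ (pairHom M' N')
  have h2 := (Groth.Agent.Lib.Lead.ModTensor.adj (Spec R)).homEquiv_naturality_right_symm
    (Y := tilde (ModuleCat.of R (M ⊗[R] N))) (pairHom M N)
    (tilde.map (ModuleCat.ofHom (TensorProduct.map f.hom g.hom)))
  exact h1.symm.trans ((congrArg _ (pairHom_naturality f g)).trans h2)

end Pre

section Nat

variable (R : CommRingCat.{u})

open Groth.Agent.Lib.helper13.RestrKFlat in
/-- `M^~ ⊗ N^~ ≅ (M ⊗ N)^~` as an isomorphism of bifunctors -/
noncomputable def tildeTensorNatIso :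
    tilde.functor R ⋙ DCoh.tensorBi (X := Spec R) ⋙
        (Functor.whiskeringLeft _ _ _).obj (tilde.functor R) ≅
      curriedTensor (ModuleCat.{u} R) ⋙ (Functor.whiskeringRight _ _ _).obj (tilde.functor R) :=
  NatIso.ofComponents
    (fun M => NatIso.ofComponents (fun N => tildeTensorIso M N)
      (fun {N N'} g => by
        have h := tildeTensorIso_hom_naturality (𝟙 M) g
        rw [tilde.map_id] at h
        have e : ((tilde.functor R ⋙ DCoh.tensorBi (X := Spec R) ⋙
            (Functor.whiskeringLeft _ _ _).obj (tilde.functor R)).obj M).map g =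
            tensorMap (𝟙 (tilde M)) (tilde.map g) := tensorBi_obj_map (tilde M) (tilde.map g)
        rw [e]
        exact h))
    (fun {M M'} f => by
      apply NatTrans.ext
      funext N
      have h := tildeTensorIso_hom_naturality f (𝟙 N)
      rw [tilde.map_id] at h
      have e : ((tilde.functor R ⋙ DCoh.tensorBi (X := Spec R) ⋙
          (Functor.whiskeringLeft _ _ _).obj (tilde.functor R)).map f).app N =
          tensorMap (tilde.map f) (𝟙 (tilde N)) := tensorBi_map_app (tilde.map f) (tilde N)
      change ((tilde.functor R ⋙ DCoh.tensorBi (X := Spec R) ⋙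
          (Functor.whiskeringLeft _ _ _).obj (tilde.functor R)).map f).app N ≫
            (tildeTensorIso M' N).hom = (tildeTensorIso M N).hom ≫ _
      rw [e]
      exact h)

/-- termwise tilde of complexes -/
noncomputable abbrev tildeCx : DRing.Cx R ⥤ CochainComplex (Spec R).Modules ℤ :=
  (tilde.functor R).mapHomologicalComplex (ComplexShape.up ℤ)

instance preservesTotal_tilde
    (K : HomologicalComplex₂ (ModuleCat.{u} R) (ComplexShape.up ℤ) (ComplexShape.up ℤ)) :
    TotMap.PreservesTotal (tilde.functor R) K (ComplexShape.up ℤ) := fun _ => inferInstance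

variable (K L : DRing.Cx R)

/-- the bicomplex of `K ⊗ L` in `ModuleCat R` -/
noncomputable abbrev modBicx :
    HomologicalComplex₂ (ModuleCat.{u} R) (ComplexShape.up ℤ) (ComplexShape.up ℤ) :=
  (((curriedTensor (ModuleCat.{u} R)).mapBifunctorHomologicalComplex (ComplexShape.up ℤ)
    (ComplexShape.up ℤ)).obj K).obj L

open Groth.Agent.Lib.helper13.RestrKFlat in
/-- rows of the isomorphism of bicomplexes -/
noncomputable def rowIso (p : ℤ) :
    ((TotMap.map₂ (tilde.functor R) (ComplexShape.up ℤ) (ComplexShape.up ℤ)).obj (modBicx R K L)).X p ≅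
      (tenBicx ((tildeCx R).obj K) ((tildeCx R).obj L)).X p :=
  HomologicalComplex.Hom.isoOfComponents (fun q => (tildeTensorIso (K.X p) (L.X q)).symm)
      (fun q q' _ => by
        rw [Iso.symm_hom, Iso.symm_hom, Iso.inv_comp_eq, ← Category.assoc, Iso.eq_comp_inv]
        have h := tildeTensorIso_hom_naturality (𝟙 (K.X p)) (L.d q q')
        rw [tilde.map_id, ← tensorBi_obj_map] at h
        exact h)

lemma rowIso_hom_f (p q : ℤ) : (rowIso R K L p).hom.f q = (tildeTensorIso (K.X p) (L.X q)).inv := rfl

open Groth.Agent.Lib.helper13.RestrKFlat in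
/-- The isomorphism of bicomplexes `(K^p ⊗ L^q)^~ ≅ (K^p)^~ ⊗ (L^q)^~`. -/
noncomputable def bicxIso :
    (TotMap.map₂ (tilde.functor R) (ComplexShape.up ℤ) (ComplexShape.up ℤ)).obj (modBicx R K L) ≅
      tenBicx ((tildeCx R).obj K) ((tildeCx R).obj L) :=
  HomologicalComplex.Hom.isoOfComponents (fun p => rowIso R K L p)
    (fun p p' _ => HomologicalComplex.hom_ext _ _ (fun q => by
      rw [HomologicalComplex.comp_f, HomologicalComplex.comp_f, rowIso_hom_f, rowIso_hom_f]
      rw [Iso.inv_comp_eq, ← Category.assoc, Iso.eq_comp_inv]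
      have h := tildeTensorIso_hom_naturality (K.d p p') (𝟙 (L.X q))
      rw [tilde.map_id, ← tensorBi_map_app] at h
      exact h))

open Groth.Agent.Lib.helper13.RestrKFlat in
/-- **`(K ⊗ L)^~ ≅ K^~ ⊗ L^~` for complexes.** -/
noncomputable def tildeTensorCxIso :
    (tildeCx R).obj (K ⊗ L) ≅ (DCoh.tensorCx.obj ((tildeCx R).obj K)).obj ((tildeCx R).obj L) :=
  haveI := TotMap.hasTotal_map₂ (tilde.functor R) (modBicx R K L) (ComplexShape.up ℤ)
  TotMap.mapTotalIso (tilde.functor R) (modBicx R K L) (ComplexShape.up ℤ) ≪≫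
    HomologicalComplex₂.total.mapIso (bicxIso R K L) (ComplexShape.up ℤ)

end Nat

end Groth.Agent.Lib.helper13.TildeTensorNat
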