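import Mathlib
import Groth.Prelude.Def_ModSite2
import Groth.Agent.Lib.Helper21.StalkFlat2

/-!
# Comparison of topological stalks with fibres at the points of the site of opens (helper13)

* `flat_of_semilinear`: flatness transfers along a bijective semilinear map over a surjective ring map.
* `cmp P x : P.stalk x ⟶ (Opens.pointGrothendieckTopology x).presheafFiber.obj P`, bijective.
* `isFlat_of_flat_top_stalks`: an `O`-module on a ringed space whose topological stalks are flat is
  flat (`ModSite.IsFlat`).
-/

set_option autoImplicit false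
universe u
open CategoryTheory Limits TopologicalSpace Opposite

namespace Groth.Agent.Lib.helper13.StalkCmp

theorem flat_of_semilinear {R R' M M' : Type*} [CommRing R] [CommRing R'] [AddCommGroup M]
    [AddCommGroup M'] [Module R M] [Module R' M']
    (ρ : R →+* R') (hρ : Function.Surjective ρ) (μ : M →+ M') (hμ : Function.Bijective μ)
    (h : ∀ r m, μ (r • m) = ρ r • μ m) [Module.Flat R M] : Module.Flat R' M' := by
  apply Module.Flat.of_forall_isTrivialRelation
  intro l f' x' hrel
  choose f hf using fun i => hρ (f' i)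
  choose x hx using fun i => hμ.2 (x' i)
  have h0 : ∑ i, f i • x i = 0 := by
    apply hμ.1
    rw [map_sum, map_zero]
    simp_rw [h, hf, hx]
    exact hrel
  obtain ⟨k, a, y, h1, h2⟩ := Module.Flat.isTrivialRelation_of_sum_smul_eq_zero h0
  refine ⟨k, fun i j => ρ (a i j), fun j => μ (y j), ?_, ?_⟩
  · intro i
    rw [← hx i, h1 i, map_sum]
    simp_rw [h]
  · intro j
    rw [← map_zero ρ, ← h2 j, map_sum]
    simp_rw [map_mul, hf]

section cmp

variable {A : Type (u + 1)} [Category.{u} A] [HasColimits.{u} A]
  {X : TopCat.{u}} (P : (Opens X)ᵒᵖ ⥤ A) (x : X)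

/-- the comparison from the topological stalk to the fibre at the point of the site -/
noncomputable def cmp :
    TopCat.Presheaf.stalk P x ⟶ (Opens.pointGrothendieckTopology x).presheafFiber.obj P :=
  colimit.desc ((OpenNhds.inclusion x).op ⋙ P)
    { pt := (Opens.pointGrothendieckTopology x).presheafFiber.obj P
      ι :=
        { app := fun U =>
            (Opens.pointGrothendieckTopology x).toPresheafFiber U.unop.1 ⟨⟨U.unop.2⟩⟩ P
          naturality := by
            intro U V f
            dsimp
            rw [Category.comp_id]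
            exact (Opens.pointGrothendieckTopology x).toPresheafFiber_w
              ((OpenNhds.inclusion x).map f.unop) ⟨⟨V.unop.2⟩⟩ P } }

@[reassoc (attr := simp)]
lemma germ_cmp (U : Opens X) (hx : x ∈ U) :
    TopCat.Presheaf.germ P U x hx ≫ cmp P x =
      (Opens.pointGrothendieckTopology x).toPresheafFiber U ⟨⟨hx⟩⟩ P :=
  colimit.ι_desc _ _

section concrete

variable {FA : A → A → Type*} {CA : A → Type u} [∀ X Y, FunLike (FA X Y) (CA X) (CA Y)]
  [ConcreteCategory.{u} A FA] [PreservesFilteredColimitsOfSize.{u, u} (forget A)]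

lemma cmp_germ_apply (U : Opens X) (hx : x ∈ U) (s : ToType (P.obj (op U))) :
    cmp P x (TopCat.Presheaf.germ P U x hx s) =
      (Opens.pointGrothendieckTopology x).toPresheafFiber U ⟨⟨hx⟩⟩ P s := by
  rw [← ConcreteCategory.comp_apply, germ_cmp]

lemma cmp_surjective : Function.Surjective (cmp P x) := by
  intro p
  obtain ⟨U, x', z, rfl⟩ := (Opens.pointGrothendieckTopology x).toPresheafFiber_jointly_surjective p
  exact ⟨TopCat.Presheaf.germ P U x x'.down.down z, cmp_germ_apply P x U _ z⟩

lemma cmp_injective : Function.Injective (cmp P x) := by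
  intro a b hab
  obtain ⟨U, hU, s, rfl⟩ := TopCat.Presheaf.exists_germ_eq P a
  obtain ⟨V, hVU, hV, t, rfl⟩ := TopCat.Presheaf.exists_le_germ_eq P b hU
  have hs : TopCat.Presheaf.germ P U x hU s =
      TopCat.Presheaf.germ P V x hV (P.map (homOfLE hVU).op s) :=
    (TopCat.Presheaf.germ_res_apply P (homOfLE hVU) x hV s).symm
  rw [hs] at hab ⊢
  rw [cmp_germ_apply, cmp_germ_apply,
    (Opens.pointGrothendieckTopology x).toPresheafFiber_eq_iff'] at hab
  obtain ⟨Y, f, y, -, h⟩ := hab
  exact TopCat.Presheaf.germ_ext P Y y.down.down f f h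

lemma cmp_bijective : Function.Bijective (cmp P x) := ⟨cmp_injective P x, cmp_surjective P x⟩

end concrete

end cmp

section flat

variable {X : TopCat.{u}} (O : TopCat.Sheaf CommRingCat.{u} X) (F : ModSite.Mod O) (x : X)

/-- the underlying presheaf of modules, over `O.obj ⋙ forget₂` -/
abbrev pm : PresheafOfModules.{u} (O.obj ⋙ forget₂ CommRingCat.{u} RingCat.{u}) := F.val

/-- the comparison of stalks of rings -/
noncomputable def ρ : ↑(TopCat.Presheaf.stalk O.obj x) →+*
    ModSite.stalkRing (Opens.pointGrothendieckTopology x) O :=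
  (cmp O.obj x).hom

/-- the comparison of stalks of modules -/
noncomputable def μ : ↑(TopCat.Presheaf.stalk (pm O F).presheaf x) →+
    ModSite.stalkAb (Opens.pointGrothendieckTopology x) F :=
  (cmp (pm O F).presheaf x).hom

lemma ρ_germ (U : Opens X) (hx : x ∈ U) (r : O.obj.obj (op U)) :
    ρ O x (TopCat.Presheaf.germ O.obj U x hx r) =
      ModSite.germRing (Opens.pointGrothendieckTopology x) U ⟨⟨hx⟩⟩ r :=
  cmp_germ_apply O.obj x U hx r

lemma μ_germ (U : Opens X) (hx : x ∈ U) (s : ModSite.sect F U) :
    μ O F x (TopCat.Presheaf.germ (pm O F).presheaf U x hx s) =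
      ModSite.germ (Opens.pointGrothendieckTopology x) F U ⟨⟨hx⟩⟩ s :=
  cmp_germ_apply (pm O F).presheaf x U hx s

lemma μ_smul (r : ↑(TopCat.Presheaf.stalk O.obj x))
    (m : ↑(TopCat.Presheaf.stalk (pm O F).presheaf x)) :
    μ O F x (r • m) = ρ O x r • μ O F x m := by
  obtain ⟨U, hU, r0, rfl⟩ := TopCat.Presheaf.exists_germ_eq O.obj r
  obtain ⟨V, hVU, hV, m0, rfl⟩ := TopCat.Presheaf.exists_le_germ_eq (pm O F).presheaf m hU
  have hr : TopCat.Presheaf.germ O.obj U x hU r0 =
      TopCat.Presheaf.germ O.obj V x hV (O.obj.map (homOfLE hVU).op r0) :=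
    (TopCat.Presheaf.germ_res_apply O.obj (homOfLE hVU) x hV r0).symm
  rw [hr, ← PresheafOfModules.germ_smul (pm O F) x V hV, μ_germ, μ_germ, ρ_germ]
  exact ModSite.germ_smul (Opens.pointGrothendieckTopology x) F V ⟨⟨hV⟩⟩ _ _

theorem flat_stalkMod_of_flat_stalk
    (h : Module.Flat ↑(TopCat.Presheaf.stalk O.obj x)
      ↑(TopCat.Presheaf.stalk (pm O F).presheaf x)) :
    Module.Flat (ModSite.stalkRing (Opens.pointGrothendieckTopology x) O)
      (ModSite.stalkMod (Opens.pointGrothendieckTopology x) F) :=
  flat_of_semilinear (ρ O x) (cmp_surjective O.obj x) (μ O F x)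
    (cmp_bijective (pm O F).presheaf x) (μ_smul O F x)

theorem flat_stalk_of_flat_stalkMod
    (h : Module.Flat (ModSite.stalkRing (Opens.pointGrothendieckTopology x) O)
      (ModSite.stalkMod (Opens.pointGrothendieckTopology x) F)) :
    Module.Flat ↑(TopCat.Presheaf.stalk O.obj x)
      ↑(TopCat.Presheaf.stalk (pm O F).presheaf x) := by
  let eρ := RingEquiv.ofBijective (ρ O x) (cmp_bijective O.obj x)
  let eμ := AddEquiv.ofBijective (μ O F x) (cmp_bijective (pm O F).presheaf x)
  haveI : Module.Flat (ModSite.stalkRing (Opens.pointGrothendieckTopology x) O)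
      (ModSite.stalkAb (Opens.pointGrothendieckTopology x) F) := h
  refine flat_of_semilinear
    (R := ModSite.stalkRing (Opens.pointGrothendieckTopology x) O)
    (M := ModSite.stalkAb (Opens.pointGrothendieckTopology x) F)
    (R' := ↑(TopCat.Presheaf.stalk O.obj x))
    (M' := ↑(TopCat.Presheaf.stalk (pm O F).presheaf x))
    eρ.symm.toRingHom (by exact eρ.symm.surjective)
    eμ.symm.toAddMonoidHom (by exact eμ.symm.bijective) ?_
  intro (r : ModSite.stalkRing (Opens.pointGrothendieckTopology x) O)
    (m : ModSite.stalkAb (Opens.pointGrothendieckTopology x) F)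
  apply eμ.injective
  change eμ (eμ.symm (r • m)) = μ O F x (eρ.symm r • eμ.symm m)
  rw [μ_smul, AddEquiv.apply_symm_apply]
  have h1 : ρ O x (eρ.symm r) = r := eρ.apply_symm_apply r
  have h2 : μ O F x (eμ.symm m) = m := eμ.apply_symm_apply m
  rw [h1, h2]

/-- a flat sheaf of modules on a ringed space has flat (topological) stalks -/
theorem flat_top_stalks_of_isFlat (hF : ModSite.IsFlat F) (x : X) :
    Module.Flat ↑(TopCat.Presheaf.stalk O.obj x)
      ↑(TopCat.Presheaf.stalk (pm O F).presheaf x) :=
  flat_stalk_of_flat_stalkMod O F x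
    (Groth.Agent.Lib.Helper21.StalkFlat.flat_stalk (Opens.pointGrothendieckTopology x) F hF)

/-- a sheaf of modules on a ringed space whose (topological) stalks are flat is flat -/
theorem isFlat_of_flat_top_stalks
    (h : ∀ x : X, Module.Flat ↑(TopCat.Presheaf.stalk O.obj x)
      ↑(TopCat.Presheaf.stalk (pm O F).presheaf x)) : ModSite.IsFlat F := by
  refine Groth.Agent.Lib.Helper21.StalkFlat2.isFlat_of_flat_stalks F
    (Opens.pointsGrothendieckTopology X)
    (Opens.isConservativeFamilyOfPoints_pointsGrothendieckTopology X) ?_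
  rintro _ ⟨x⟩
  exact flat_stalkMod_of_flat_stalk O F x (h x)

end flat

end Groth.Agent.Lib.helper13.StalkCmp
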