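import Mathlib
import Groth.Agent.Lib.Helper13.WT2
import Groth.Agent.Lib.Helper13.WT5
import Groth.Agent.Lib.Helper13.EL8

/-!
# Base change of fibre integrals
-/

set_option autoImplicit false

namespace Groth.Agent.Lib.helper13.WT

open AlgebraicGeometry CategoryTheory Limits

universe u

/-- Every point of the fibre is the image of a lift of the geometric point. -/
lemma exists_lift_of_mem_fibre {P V : Scheme.{u}} (π : P ⟶ V) (Ω : Type u) [Field Ω]
    [IsAlgClosed Ω] (xb : Spec (.of Ω) ⟶ V) (p : P)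
    (hp : π p = xb (IsLocalRing.closedPoint Ω)) (hres : (π.residueFieldMap p).hom.Finite) :
    ∃ ℓ : {ℓ : Spec (.of Ω) ⟶ P // ℓ ≫ π = xb}, ℓ.1 (IsLocalRing.closedPoint Ω) = p := by
  have hcard := card_emb π Ω xb ⟨p, hp⟩ hres
  have hne : Nat.card (Emb π Ω xb ⟨p, hp⟩) ≠ 0 := by
    rw [hcard]
    letI := (π.residueFieldMap p).hom.toAlgebra
    have : Module.Finite (V.residueField (π p)) (P.residueField p) := hres
    exact NeZero.ne _
  have hfin : Finite (Emb π Ω xb ⟨p, hp⟩) := Nat.finite_of_card_ne_zero hne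
  have hnonempty : Nonempty (Emb π Ω xb ⟨p, hp⟩) := by
    by_contra hempty
    rw [not_nonempty_iff] at hempty
    exact hne Nat.card_of_isEmpty
  obtain ⟨b⟩ := hnonempty
  refine ⟨(liftsSigmaEquiv π Ω xb).symm ⟨⟨p, hp⟩, b⟩, ?_⟩
  have := liftsSigmaEquiv_fst π Ω xb ((liftsSigmaEquiv π Ω xb).symm ⟨⟨p, hp⟩, b⟩)
  rw [Equiv.apply_symm_apply] at this
  exact this.symm

/-- Fibres of a base change of a quasi-finite morphism with finite fibres are finite. -/
lemma finite_fibre_of_isPullback {U V U' V' : Scheme.{u}} {π : U ⟶ V} {π' : U' ⟶ V'}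
    {h : U' ⟶ U} {g : V' ⟶ V} (hc : IsPullback h π' π g) (v' : V')
    (hfib : (π ⁻¹' {g v'}).Finite)
    (hres : ∀ p, (π.residueFieldMap p).hom.Finite)
    (hres' : ∀ p, (π'.residueFieldMap p).hom.Finite) : (π' ⁻¹' {v'}).Finite := by
  obtain ⟨Ω, _, _, xb, hxb⟩ := exists_geometric_point v'
  have hxb' : (xb ≫ g) (IsLocalRing.closedPoint Ω) = g v' := by
    rw [Scheme.Hom.comp_apply, hxb]
  have hS : Finite {ℓ : Spec (.of Ω) ⟶ U // ℓ ≫ π = xb ≫ g} :=
    finite_lifts π Ω (xb ≫ g) (by rw [hxb']; exact hfib) (fun p _ ↦ hres p)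
  have hS' : Finite {ℓ : Spec (.of Ω) ⟶ U' // ℓ ≫ π' = xb} :=
    Finite.of_equiv _ (liftsEquivOfIsPullback Ω hc xb).symm
  have hsub : π' ⁻¹' {v'} ⊆ Set.range (fun ℓ : {ℓ : Spec (.of Ω) ⟶ U' // ℓ ≫ π' = xb} ↦
      ℓ.1 (IsLocalRing.closedPoint Ω)) := by
    intro p hp
    have hp' : π' p = xb (IsLocalRing.closedPoint Ω) := by rw [hxb]; exact hp
    obtain ⟨ℓ, hℓ⟩ := exists_lift_of_mem_fibre π' Ω xb p hp' (hres' p)
    exact ⟨ℓ, hℓ⟩
  exact (Set.finite_range _).subset hsub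

/-- **Base change of fibre integrals** (explicit form). -/
theorem fibreIntegral_baseChange {U V U' V' : Scheme.{u}} {π : U ⟶ V} {π' : U' ⟶ V'}
    {h : U' ⟶ U} {g : V' ⟶ V} (hc : IsPullback h π' π g) (w : U → ℤ) (v' : V')
    (hfib : (π ⁻¹' {g v'}).Finite)
    (hres : ∀ p, (π.residueFieldMap p).hom.Finite)
    (hres' : ∀ p, (π'.residueFieldMap p).hom.Finite) :
    (∑ᶠ t : {t : U' // π' t = v'}, w (h t.1) *
      (letI := (π'.residueFieldMap t.1).hom.toAlgebra;
        (Field.finSepDegree (V'.residueField (π' t.1)) (U'.residueField t.1) : ℤ))) =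
    ∑ᶠ t : {t : U // π t = g v'}, w t.1 *
      (letI := (π.residueFieldMap t.1).hom.toAlgebra;
        (Field.finSepDegree (V.residueField (π t.1)) (U.residueField t.1) : ℤ)) := by
  obtain ⟨Ω, _, _, xb, hxb⟩ := exists_geometric_point v'
  have hxb' : (xb ≫ g) (IsLocalRing.closedPoint Ω) = g v' := by
    rw [Scheme.Hom.comp_apply, hxb]
  have hfib' := finite_fibre_of_isPullback hc v' hfib hres hres'
  rw [fibreIntegral_eq_finsum_lifts π' Ω (fun t ↦ w (h t)) xb v' hxb hfib' (fun p _ ↦ hres' p),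
    fibreIntegral_eq_finsum_lifts π Ω w (xb ≫ g) (g v') hxb' hfib (fun p _ ↦ hres p)]
  exact finsum_comp_equiv (liftsEquivOfIsPullback Ω hc xb)
    (f := fun ℓ ↦ w (ℓ.1 (IsLocalRing.closedPoint Ω)))

end Groth.Agent.Lib.helper13.WT
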