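import Mathlib
import Groth.Prelude.Def_MoreMor
import Groth.Agent.Lib.Helper13.WT8

/-!
# The number of points of a geometric fibre of a quasi-finite morphism is a fibre integral
-/

set_option autoImplicit false

namespace Groth.Agent.Lib.helper13.GF

open AlgebraicGeometry CategoryTheory Limits

universe u

/-- The residue field of the spectrum of an algebraically closed field is algebraically closed. -/
lemma isAlgClosed_residueField_Spec (Ω : Type u) [Field Ω] [IsAlgClosed Ω]
    (pt : Spec (CommRingCat.of Ω)) : IsAlgClosed ((Spec (CommRingCat.of Ω)).residueField pt) := by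
  haveI : pt.asIdeal.IsMaximal := by
    have h : pt.asIdeal = ⊥ := Ideal.eq_bot_of_prime pt.asIdeal
    rw [h]; exact Ideal.bot_isMaximal
  let φ : Ω →+* (Spec (CommRingCat.of Ω)).residueField pt :=
    (CommRingCat.ofHom (algebraMap Ω pt.asIdeal.ResidueField) ≫
      (Scheme.Spec.residueFieldIso (CommRingCat.of Ω) pt).inv).hom
  have hφ : Function.Bijective φ := by
    refine ⟨φ.injective, ?_⟩
    have h1 : Function.Surjective (algebraMap Ω pt.asIdeal.ResidueField) :=
      Ideal.algebraMap_residueField_surjective pt.asIdeal
    have h2 : Function.Surjective (Scheme.Spec.residueFieldIso (CommRingCat.of Ω) pt).inv :=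
      (ConcreteCategory.bijective_of_isIso _).surjective
    exact h2.comp h1
  exact IsAlgClosed.of_ringEquiv Ω _ (RingEquiv.ofBijective φ hφ)

section Main

variable {X Y : Scheme.{u}} (f : X ⟶ Y)

/-- The geometric point of `Y` over `y` with values in a separable closure of `κ(y)`. -/
noncomputable abbrev sepPoint (y : Y) :
    Spec (CommRingCat.of (SeparableClosure (Y.residueField y))) ⟶ Y :=
  Spec.map (CommRingCat.ofHom (algebraMap (Y.residueField y)
    (SeparableClosure (Y.residueField y)))) ≫ Y.fromSpecResidueField y

/-- The geometric fibre as a plain fibre product. -/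
noncomputable def geomFiberIso (y : Y) : MoreMor.geomFiber f y ≅ pullback f (sepPoint y) :=
  pullbackLeftPullbackSndIso f (Y.fromSpecResidueField y) _

/-- A purely inseparable field extension induces a universally injective morphism of spectra. -/
lemma universallyInjective_SpecMap_of_isPurelyInseparable (k K : Type u) [Field k] [Field K]
    [Algebra k K] [IsPurelyInseparable k K] :
    UniversallyInjective (Spec.map (CommRingCat.ofHom (algebraMap k K))) := by
  have htfae := (tfae_universallyInjective (Spec.map (CommRingCat.ofHom (algebraMap k K)))).out 0 1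
  refine htfae.mpr ?_
  intro L _ g₁ g₂ hg
  obtain ⟨φ₁, rfl⟩ := Spec.map_surjective g₁
  obtain ⟨φ₂, rfl⟩ := Spec.map_surjective g₂
  have hg' : Spec.map (CommRingCat.ofHom (algebraMap k K) ≫ φ₁) =
      Spec.map (CommRingCat.ofHom (algebraMap k K) ≫ φ₂) := by
    rw [Spec.map_comp, Spec.map_comp]; exact hg
  have h2 := Spec.map_injective hg'
  have h3 : φ₁.hom.comp (algebraMap k K) = φ₂.hom.comp (algebraMap k K) :=
    congrArg CommRingCat.Hom.hom h2
  have h4 := IsPurelyInseparable.injective_comp_algebraMap k K L h3
  congr 1
  exact CommRingCat.hom_ext h4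

theorem card_pullback_sepPoint [LocallyQuasiFinite f] [LocallyOfFiniteType f] (y : Y)
    (hfin : (f ⁻¹' {y}).Finite) :
    Finite ↑(pullback f (sepPoint y)) ∧
      (Nat.card ↑(pullback f (sepPoint y)) : ℤ) = MoreMor.fibreIntegral f (fun _ ↦ 1) y := by
  classical
  -- the algebraically closed point
  let c : Spec (CommRingCat.of (AlgebraicClosure (SeparableClosure (Y.residueField y)))) ⟶
      Spec (CommRingCat.of (SeparableClosure (Y.residueField y))) :=
    Spec.map (CommRingCat.ofHom (algebraMap (SeparableClosure (Y.residueField y))
      (AlgebraicClosure (SeparableClosure (Y.residueField y)))))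
  obtain ⟨xb, hxb⟩ : ∃ xb, xb = c ≫ sepPoint y := ⟨_, rfl⟩
  let pt : Spec (CommRingCat.of (AlgebraicClosure (SeparableClosure (Y.residueField y)))) :=
    IsLocalRing.closedPoint _
  have hxbpt : xb pt = y := by
    rw [hxb]
    show (Y.fromSpecResidueField y) _ = y
    exact Scheme.fromSpecResidueField_apply _ _
  -- the comparison map is bijective
  have hρ := EL.isPullback_refineMap f (sepPoint y) c xb hxb.symm
  haveI : UniversallyInjective c := universallyInjective_SpecMap_of_isPurelyInseparable _ _
  haveI : Surjective c := ⟨fun z ↦ ⟨pt, @Subsingleton.elim _ (inferInstanceAs (Subsingleton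
    (PrimeSpectrum (SeparableClosure (Y.residueField y))))) _ _⟩⟩
  haveI : UniversallyInjective (EL.refineMap f (sepPoint y) c xb hxb.symm) :=
    MorphismProperty.of_isPullback (P := @UniversallyInjective) hρ.flip inferInstance
  haveI : Surjective (EL.refineMap f (sepPoint y) c xb hxb.symm) :=
    MorphismProperty.of_isPullback (P := @Surjective) hρ.flip inferInstance
  have hbij : Function.Bijective (EL.refineMap f (sepPoint y) c xb hxb.symm) :=
    ⟨(EL.refineMap f (sepPoint y) c xb hxb.symm).injective,
      (EL.refineMap f (sepPoint y) c xb hxb.symm).surjective⟩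
  -- the count over the algebraically closed point
  have sq : IsPullback (pullback.fst f xb) (pullback.snd f xb) f xb := IsPullback.of_hasPullback f xb
  have hres : ∀ p, (f.residueFieldMap p).hom.Finite := fun p ↦
    EL.finite_residueFieldMap_of_quasiFiniteAt (f.quasiFiniteAt p)
  have hres' : ∀ p, ((pullback.snd f xb).residueFieldMap p).hom.Finite := fun p ↦
    EL.finite_residueFieldMap_of_quasiFiniteAt ((pullback.snd f xb).quasiFiniteAt p)
  have hfib : (f ⁻¹' {xb pt}).Finite := by rw [hxbpt]; exact hfin
  have hfib' := WT.finite_fibre_of_isPullback sq pt hfib hres hres'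
  have hall : ∀ p : ↑(pullback f xb), pullback.snd f xb p = pt := fun p ↦
    @Subsingleton.elim _ (inferInstanceAs (Subsingleton (PrimeSpectrum
      (AlgebraicClosure (SeparableClosure (Y.residueField y)))))) _ _
  haveI hfinP : Finite ↑(pullback f xb) := by
    have : (Set.univ : Set ↑(pullback f xb)) = pullback.snd f xb ⁻¹' {pt} := by
      ext p; simp [hall p]
    exact Set.finite_univ_iff.mp (this ▸ hfib')
  have hbc := WT.fibreIntegral_baseChange sq (fun _ ↦ (1 : ℤ)) pt hfib hres hres'
  have hR : (∑ᶠ t : {t : X // f t = xb pt}, (1 : ℤ) *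
      (letI := (f.residueFieldMap t.1).hom.toAlgebra;
        (Field.finSepDegree (Y.residueField (f t.1)) (X.residueField t.1) : ℤ))) =
      MoreMor.fibreIntegral f (fun _ ↦ 1) (xb pt) := rfl
  rw [hR, hxbpt] at hbc
  have hone : ∀ t : ↑(pullback f xb),
      (letI := ((pullback.snd f xb).residueFieldMap t).hom.toAlgebra;
        Field.finSepDegree ((Spec (CommRingCat.of (AlgebraicClosure (SeparableClosure
          (Y.residueField y))))).residueField (pullback.snd f xb t))
          ((pullback f xb).residueField t)) = 1 := by
    intro t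
    letI := ((pullback.snd f xb).residueFieldMap t).hom.toAlgebra
    haveI := isAlgClosed_residueField_Spec (AlgebraicClosure (SeparableClosure (Y.residueField y)))
      (pullback.snd f xb t)
    haveI : Module.Finite ((Spec (CommRingCat.of (AlgebraicClosure (SeparableClosure
        (Y.residueField y))))).residueField (pullback.snd f xb t))
        ((pullback f xb).residueField t) := hres' t
    exact IsPurelyInseparable.finSepDegree_eq_one _ _
  have hL : (∑ᶠ t : {t : ↑(pullback f xb) // pullback.snd f xb t = pt}, (1 : ℤ) *
      (letI := ((pullback.snd f xb).residueFieldMap t.1).hom.toAlgebra;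
        (Field.finSepDegree ((Spec (CommRingCat.of (AlgebraicClosure (SeparableClosure
          (Y.residueField y))))).residueField (pullback.snd f xb t.1))
          ((pullback f xb).residueField t.1) : ℤ))) = (Nat.card ↑(pullback f xb) : ℤ) := by
    have e : {t : ↑(pullback f xb) // pullback.snd f xb t = pt} ≃ ↑(pullback f xb) :=
      Equiv.subtypeUnivEquiv hall
    rw [← Nat.card_congr e]
    haveI : Finite {t : ↑(pullback f xb) // pullback.snd f xb t = pt} := Finite.of_equiv _ e.symm
    letI := Fintype.ofFinite {t : ↑(pullback f xb) // pullback.snd f xb t = pt}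
    rw [finsum_eq_sum_of_fintype, Nat.card_eq_fintype_card]
    have : ∀ t : {t : ↑(pullback f xb) // pullback.snd f xb t = pt}, (1 : ℤ) *
      (letI := ((pullback.snd f xb).residueFieldMap t.1).hom.toAlgebra;
        (Field.finSepDegree ((Spec (CommRingCat.of (AlgebraicClosure (SeparableClosure
          (Y.residueField y))))).residueField (pullback.snd f xb t.1))
          ((pullback f xb).residueField t.1) : ℤ)) = 1 := fun t ↦ by
      rw [hone t.1]; simp
    rw [Finset.sum_congr rfl (fun t _ ↦ this t)]
    simp
  rw [hL] at hbc
  have e2 : ↑(pullback f xb) ≃ ↑(pullback f (sepPoint y)) := Equiv.ofBijective _ hbij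
  refine ⟨Finite.of_equiv _ e2, ?_⟩
  rw [← Nat.card_congr e2]
  exact hbc

end Main

end Groth.Agent.Lib.helper13.GF
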