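import Mathlib

/-!
# Generic points of irreducible components of quasi-separated schemes

Helper lemmas (helper13): a generic point of an irreducible component of a quasi-separated scheme
has an affine open neighbourhood disjoint from any given quasi-compact open not containing it.
-/

open CategoryTheory AlgebraicGeometry TopologicalSpace

universe u

namespace Groth.Agent.Lib.helper13

/-- A generic point of an irreducible component has no proper generalization. -/
theorem eq_of_specializes_of_mem_irreducibleComponents {X : Type*} [TopologicalSpace X] [T0Space X]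
    {η ξ : X} (hη : closure ({η} : Set X) ∈ irreducibleComponents X) (h : ξ ⤳ η) : ξ = η := by
  have h1 : closure ({η} : Set X) ≤ closure {ξ} := specializes_iff_closure_subset.mp h
  have h2 : IsIrreducible (closure ({ξ} : Set X)) := isIrreducible_singleton.closure
  have h3 : closure ({ξ} : Set X) ≤ closure {η} := hη.2 h2 h1
  exact (h.antisymm (specializes_iff_closure_subset.mpr h3)).eq

/-- Two distinct generic points of irreducible components: neither lies in the closure of the
other. -/
theorem not_mem_closure_of_ne {X : Type*} [TopologicalSpace X] [T0Space X]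
    {η t : X} (hη : closure ({η} : Set X) ∈ irreducibleComponents X) (hne : η ≠ t) :
    η ∉ closure ({t} : Set X) := by
  intro h
  have : t ⤳ η := specializes_iff_mem_closure.mpr h
  exact hne (eq_of_specializes_of_mem_irreducibleComponents hη this).symm

theorem isNilpotent_of_not_isUnit_stalk (X : Scheme.{u}) (η : X)
    (hη : ∀ ξ : X, ξ ⤳ η → ξ = η) (a : X.presheaf.stalk η) (ha : ¬ IsUnit a) :
    IsNilpotent a := by
  rw [← mem_nilradical, nilradical_eq_sInf, Ideal.mem_sInf]
  intro P hP
  have key : (⟨P, hP⟩ : PrimeSpectrum (X.presheaf.stalk η)) =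
      IsLocalRing.closedPoint (X.presheaf.stalk η) := by
    apply (X.fromSpecStalk η).isEmbedding.injective
    have h1 : X.fromSpecStalk η ⟨P, hP⟩ ⤳ η := by
      have : X.fromSpecStalk η ⟨P, hP⟩ ∈ Set.range (X.fromSpecStalk η) := ⟨_, rfl⟩
      rwa [Scheme.range_fromSpecStalk] at this
    rw [hη _ h1]
    exact (Scheme.fromSpecStalk_closedPoint).symm
  have : P = IsLocalRing.maximalIdeal (X.presheaf.stalk η) :=
    congrArg PrimeSpectrum.asIdeal key
  rw [this]
  exact (IsLocalRing.mem_maximalIdeal _).mpr ha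

theorem exists_opens_disjoint_basicOpen (X : Scheme.{u}) (η : X)
    (hη : ∀ ξ : X, ξ ⤳ η → ξ = η) {W : X.Opens} (f : Γ(X, W)) (hW : η ∈ W)
    (hf : η ∉ X.basicOpen f) :
    ∃ V : X.Opens, η ∈ V ∧ V ⊓ X.basicOpen f = ⊥ := by
  have h1 : ¬ IsUnit (X.presheaf.germ W η hW f) := by rwa [← X.mem_basicOpen f η hW]
  obtain ⟨n, hn⟩ := isNilpotent_of_not_isUnit_stalk X η hη _ h1
  rw [← map_pow] at hn
  have h0 : X.presheaf.germ W η hW (f ^ n) = X.presheaf.germ W η hW 0 := by rw [hn, map_zero]
  obtain ⟨V, hV, i1, i2, e⟩ := X.presheaf.germ_eq η hW hW _ _ h0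
  refine ⟨V, hV, ?_⟩
  rw [map_zero] at e
  have h2 := X.basicOpen_res (f ^ n) i1.op
  rw [e, Scheme.basicOpen_zero] at h2
  rw [eq_bot_iff, h2]
  refine inf_le_inf_left V ?_
  intro x hx
  have hxW : x ∈ W := X.basicOpen_le f hx
  rw [X.mem_basicOpen f x hxW] at hx
  rw [X.mem_basicOpen _ x hxW, map_pow]
  exact hx.pow n

/-- Core lemma: in a quasi-separated scheme a generic point `η` of an irreducible component has an
affine open neighbourhood disjoint from any quasi-compact open `U` not containing `η`. -/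
theorem exists_isAffineOpen_disjoint (X : Scheme.{u}) [QuasiSeparatedSpace X] (η : X)
    (hη : closure ({η} : Set X) ∈ irreducibleComponents (X : Type u)) (U : X.Opens)
    (hU : IsCompact (U : Set X)) (hηU : η ∉ U) :
    ∃ V : X.Opens, IsAffineOpen V ∧ η ∈ V ∧ Disjoint V U := by
  have hgen : ∀ ξ : X, ξ ⤳ η → ξ = η := fun ξ h =>
    eq_of_specializes_of_mem_irreducibleComponents hη h
  obtain ⟨_, ⟨W, hW, rfl⟩, hηW, -⟩ := X.isBasis_affineOpens.exists_subset_of_mem_open
    (Set.mem_univ η) isOpen_univ
  have hK : IsCompact ((U : Set X) ∩ W) :=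
    QuasiSeparatedSpace.inter_isCompact _ _ U.2 hU W.2 hW.isCompact
  have key : ∃ V : X.Opens, η ∈ V ∧ Disjoint (V : Set X) ((U : Set X) ∩ W) := by
    refine hK.induction_on (p := fun K => ∃ V : X.Opens, η ∈ V ∧ Disjoint (V : Set X) K)
      ⟨⊤, trivial, by simp⟩ ?_ ?_ ?_
    · rintro s t hst ⟨V, hV, hd⟩
      exact ⟨V, hV, hd.mono_right hst⟩
    · rintro s t ⟨V1, hV1, hd1⟩ ⟨V2, hV2, hd2⟩
      refine ⟨V1 ⊓ V2, ⟨hV1, hV2⟩, ?_⟩
      rw [Set.disjoint_union_right]
      exact ⟨hd1.mono_left Set.inter_subset_left, hd2.mono_left Set.inter_subset_right⟩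
    · intro x hx
      obtain ⟨f, hf1, hf2⟩ := hW.exists_basicOpen_le (V := U ⊓ W) ⟨x, hx⟩ hx.2
      have hηf : η ∉ X.basicOpen f := fun h => hηU (hf1 h).1
      obtain ⟨V, hV, hVf⟩ := exists_opens_disjoint_basicOpen X η hgen f hηW hηf
      refine ⟨(X.basicOpen f : Set X), ?_, V, hV, ?_⟩
      · exact mem_nhdsWithin_of_mem_nhds ((X.basicOpen f).2.mem_nhds hf2)
      · rw [Set.disjoint_iff_inter_eq_empty, ← Opens.coe_inf, hVf]; rfl
  obtain ⟨V0, hV0, hd⟩ := key
  obtain ⟨_, ⟨V, hV, rfl⟩, hηV, hVsub⟩ := X.isBasis_affineOpens.exists_subset_of_mem_open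
    (show η ∈ ((V0 ⊓ W : X.Opens) : Set X) from ⟨hV0, hηW⟩) (V0 ⊓ W).2
  refine ⟨V, hV, hηV, ?_⟩
  rw [← Opens.coe_disjoint, Set.disjoint_left]
  intro x hxV hxU
  have := hVsub hxV
  exact Set.disjoint_left.mp hd this.1 ⟨hxU, this.2⟩

/-- In a quasi-separated scheme, an affine open can be enlarged to an affine open containing a given
finite set of generic points of irreducible components. -/
theorem exists_isAffineOpen_ge_of_finset (X : Scheme.{u}) [QuasiSeparatedSpace X] (U : X.Opens)
    (hU : IsAffineOpen U) (S : Finset X)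
    (hS : ∀ η ∈ S, closure ({η} : Set X) ∈ irreducibleComponents (X : Type u)) :
    ∃ U' : X.Opens, IsAffineOpen U' ∧ U ≤ U' ∧ ∀ η ∈ S, η ∈ U' := by
  classical
  induction S using Finset.induction_on with
  | empty => exact ⟨U, hU, le_rfl, by simp⟩
  | insert η S hηS ih =>
    obtain ⟨U', hU', hle, hmem⟩ := ih (fun η' h => hS η' (Finset.mem_insert_of_mem h))
    by_cases hη : η ∈ U'
    · refine ⟨U', hU', hle, ?_⟩
      intro η' h
      rcases Finset.mem_insert.mp h with rfl | h
      · exact hη
      · exact hmem _ h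
    · obtain ⟨V, hV, hηV, hd⟩ := exists_isAffineOpen_disjoint X η
        (hS η (Finset.mem_insert_self _ _)) U' hU'.isCompact hη
      refine ⟨U' ⊔ V, hU'.sup_of_disjoint hV hd.symm, le_sup_of_le_left hle, ?_⟩
      intro η' h
      rcases Finset.mem_insert.mp h with rfl | h
      · exact Or.inr hηV
      · exact Or.inl (hmem _ h)

/-- Pairwise disjoint affine open neighbourhoods of finitely many distinct generic points of
irreducible components, avoiding a further finite set `T` of points. -/
theorem exists_disjoint_affine_nhds (X : Scheme.{u}) [QuasiSeparatedSpace X] (S : Finset X)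
    (hS : ∀ η ∈ S, closure ({η} : Set X) ∈ irreducibleComponents (X : Type u)) :
    ∀ (T : Finset X), Disjoint S T →
    ∃ U : X → X.Opens, (∀ s ∈ S, IsAffineOpen (U s) ∧ s ∈ U s ∧ ∀ t ∈ T, t ∉ U s) ∧
      (∀ s ∈ S, ∀ s' ∈ S, s ≠ s' → Disjoint (U s) (U s')) := by
  classical
  induction S using Finset.induction_on with
  | empty => intro T _; exact ⟨fun _ => ⊥, by simp, by simp⟩
  | insert η S hηS ih =>
    intro T hT
    have hηT : η ∉ T := Finset.disjoint_left.mp hT (Finset.mem_insert_self _ _)
    have hST : Disjoint S (insert η T) := by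
      rw [Finset.disjoint_insert_right]
      exact ⟨hηS, hT.mono_left (Finset.subset_insert _ _)⟩
    obtain ⟨U, hU1, hU2⟩ := ih (fun η' h => hS η' (Finset.mem_insert_of_mem h)) (insert η T) hST
    -- the union of the `U s`
    have hWaff : IsAffineOpen (⨆ s ∈ (S : Set X), U s) :=
      IsAffineOpen.biSup_of_disjoint S.finite_toSet (fun s hs => (hU1 s hs).1)
        (fun s hs s' hs' hne => hU2 s hs s' hs' hne)
    set W : X.Opens := ⨆ s ∈ (S : Set X), U s with hWdef
    have hleW : ∀ s ∈ S, U s ≤ W := fun s hs =>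
      le_iSup₂ (f := fun s (_ : s ∈ (S : Set X)) => U s) s hs
    have hηW : η ∉ W := by
      intro h
      rw [hWdef] at h
      simp only [Opens.mem_iSup] at h
      obtain ⟨s, hs, hηs⟩ := h
      exact (hU1 s hs).2.2 η (Finset.mem_insert_self _ _) hηs
    obtain ⟨V, hV, hηV, hd⟩ := exists_isAffineOpen_disjoint X η
      (hS η (Finset.mem_insert_self _ _)) W hWaff.isCompact hηW
    -- shrink `V` to avoid `T`
    have hopen : IsOpen ((V : Set X) ∩ ⋂ t ∈ T, (closure ({t} : Set X))ᶜ) :=
      V.2.inter (isOpen_biInter_finset fun t _ => isClosed_closure.isOpen_compl)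
    have hmem : η ∈ (V : Set X) ∩ ⋂ t ∈ T, (closure ({t} : Set X))ᶜ := by
      refine ⟨hηV, ?_⟩
      simp only [Set.mem_iInter, Set.mem_compl_iff]
      intro t ht
      exact not_mem_closure_of_ne (hS η (Finset.mem_insert_self _ _))
        (fun h => hηT (h ▸ ht))
    obtain ⟨_, ⟨V', hV', rfl⟩, hηV', hV'sub⟩ :=
      X.isBasis_affineOpens.exists_subset_of_mem_open hmem hopen
    have hV'V : V' ≤ V := fun x hx => (hV'sub hx).1
    have hV'T : ∀ t ∈ T, t ∉ V' := by
      intro t ht h
      have := (hV'sub h).2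
      simp only [Set.mem_iInter, Set.mem_compl_iff] at this
      exact this t ht (subset_closure rfl)
    refine ⟨Function.update U η V', ?_, ?_⟩
    · intro s hs
      rcases Finset.mem_insert.mp hs with rfl | hs
      · simp only [Function.update_self]
        exact ⟨hV', hηV', hV'T⟩
      · have hne : s ≠ η := fun h => hηS (h ▸ hs)
        rw [Function.update_of_ne hne]
        exact ⟨(hU1 s hs).1, (hU1 s hs).2.1,
          fun t ht => (hU1 s hs).2.2 t (Finset.mem_insert_of_mem ht)⟩
    · intro s hs0 s' hs0' hne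
      rcases Finset.mem_insert.mp hs0 with h1 | h1
      · rcases Finset.mem_insert.mp hs0' with h2 | h2
        · exact absurd (h1.trans h2.symm) hne
        · have hne' : s' ≠ η := fun h => hηS (h ▸ h2)
          rw [h1, Function.update_self, Function.update_of_ne hne']
          exact (hd.mono_left hV'V).mono_right (hleW s' h2)
      · have hne1 : s ≠ η := fun h => hηS (h ▸ h1)
        rcases Finset.mem_insert.mp hs0' with h2 | h2
        · rw [h2, Function.update_self, Function.update_of_ne hne1]
          exact ((hd.mono_left hV'V).mono_right (hleW s h1)).symm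
        · have hne2 : s' ≠ η := fun h => hηS (h ▸ h2)
          rw [Function.update_of_ne hne1, Function.update_of_ne hne2]
          exact hU2 s h1 s' h2 hne

end Groth.Agent.Lib.helper13
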