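import Mathlib
import Groth.Prelude.Def_Pi1

/-!
# Normal schemes: basic API

`Pi1.IsNormalScheme X` says that every stalk of `X` is an integrally closed domain.
-/

set_option autoImplicit false

namespace Groth.Agent.Lib.helper13.Normal

universe u

open AlgebraicGeometry CategoryTheory Limits

noncomputable section

/-- A ring is a *normal domain* if it is a domain which is integrally closed. -/
def IsNormalDomain (R : Type*) [CommRing R] : Prop := IsDomain R ∧ IsIntegrallyClosed R

lemma IsNormalDomain.of_ringEquiv {R S : Type*} [CommRing R] [CommRing S] (e : R ≃+* S)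
    (h : IsNormalDomain R) : IsNormalDomain S := by
  obtain ⟨h1, h2⟩ := h
  exact ⟨e.symm.injective.isDomain e.symm.toRingHom, IsIntegrallyClosed.of_equiv e⟩

lemma isNormalDomain_iff_of_ringEquiv {R S : Type*} [CommRing R] [CommRing S] (e : R ≃+* S) :
    IsNormalDomain R ↔ IsNormalDomain S :=
  ⟨fun h => h.of_ringEquiv e, fun h => h.of_ringEquiv e.symm⟩

/-- A localization of a normal domain at a prime is a normal domain. -/
lemma IsNormalDomain.localization_atPrime {R : Type*} [CommRing R] (h : IsNormalDomain R)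
    (𝔭 : Ideal R) [𝔭.IsPrime] (S : Type*) [CommRing S] [Algebra R S] [IsLocalization.AtPrime S 𝔭] :
    IsNormalDomain S := by
  obtain ⟨h1, h2⟩ := h
  exact ⟨IsLocalization.isDomain_of_atPrime S 𝔭,
    isIntegrallyClosed_of_isLocalization S 𝔭.primeCompl 𝔭.primeCompl_le_nonZeroDivisors⟩

lemma isNormalScheme_iff (X : Scheme.{u}) :
    Pi1.IsNormalScheme X ↔ ∀ x : X, IsNormalDomain (X.presheaf.stalk x) := Iff.rfl

/-- Normality is inherited by the source of an open immersion. -/
theorem of_isOpenImmersion {U X : Scheme.{u}} (f : U ⟶ X) [IsOpenImmersion f]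
    (hX : Pi1.IsNormalScheme X) : Pi1.IsNormalScheme U := by
  intro x
  have : IsIso (f.stalkMap x) := inferInstance
  exact IsNormalDomain.of_ringEquiv (asIso (f.stalkMap x)).commRingCatIsoToRingEquiv (hX (f x))

/-- Normality of an open subscheme. -/
theorem opens {X : Scheme.{u}} (hX : Pi1.IsNormalScheme X) (U : X.Opens) :
    Pi1.IsNormalScheme U := of_isOpenImmersion U.ι hX

theorem of_iso {X Y : Scheme.{u}} (e : X ≅ Y) (hY : Pi1.IsNormalScheme Y) :
    Pi1.IsNormalScheme X := of_isOpenImmersion e.hom hY

/-- Normality can be checked on an open cover. -/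
theorem of_openCover {X : Scheme.{u}} (𝒰 : X.OpenCover)
    (h : ∀ i, Pi1.IsNormalScheme (𝒰.X i)) : Pi1.IsNormalScheme X := by
  intro x
  obtain ⟨i, y, rfl⟩ := 𝒰.exists_eq x
  have : IsIso ((𝒰.f i).stalkMap y) := inferInstance
  exact IsNormalDomain.of_ringEquiv
    (asIso ((𝒰.f i).stalkMap y)).commRingCatIsoToRingEquiv.symm (h i y)

/-- The stalk of a normal scheme at a point of an affine open is the localization at the
corresponding prime; so normality is a statement about localizations of rings of sections. -/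
theorem iff_affineOpens (X : Scheme.{u}) :
    Pi1.IsNormalScheme X ↔ ∀ (U : X.Opens) (hU : IsAffineOpen U) (𝔭 : Ideal Γ(X, U)) [𝔭.IsPrime],
      IsNormalDomain (Localization.AtPrime 𝔭) := by
  constructor
  · intro hX U hU 𝔭 _
    obtain ⟨y, hy⟩ : ∃ y : PrimeSpectrum Γ(X, U), y.asIdeal = 𝔭 := ⟨⟨𝔭, inferInstance⟩, rfl⟩
    subst hy
    have hmem : hU.fromSpec y ∈ U := by
      have : hU.fromSpec y ∈ Set.range hU.fromSpec := ⟨_, rfl⟩
      rwa [hU.range_fromSpec] at this
    letI : Algebra Γ(X, U) (X.presheaf.stalk (hU.fromSpec y)) :=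
      TopCat.Presheaf.algebra_section_stalk X.presheaf ⟨hU.fromSpec y, hmem⟩
    haveI : IsLocalization.AtPrime (X.presheaf.stalk (hU.fromSpec y)) y.asIdeal :=
      hU.isLocalization_stalk' y hmem
    exact IsNormalDomain.of_ringEquiv
      (IsLocalization.algEquiv y.asIdeal.primeCompl
        (X.presheaf.stalk (hU.fromSpec y)) (Localization.AtPrime y.asIdeal)).toRingEquiv
      (hX _)
  · intro h x
    obtain ⟨U, hU, hxU, -⟩ := exists_isAffineOpen_mem_and_subset (X := X) (x := x) (U := ⊤) trivial
    letI : Algebra Γ(X, U) (X.presheaf.stalk x) :=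
      TopCat.Presheaf.algebra_section_stalk X.presheaf (⟨x, hxU⟩ : U)
    haveI := hU.isLocalization_stalk ⟨x, hxU⟩
    exact IsNormalDomain.of_ringEquiv
      (IsLocalization.algEquiv (hU.primeIdealOf ⟨x, hxU⟩).asIdeal.primeCompl
        (Localization.AtPrime (hU.primeIdealOf ⟨x, hxU⟩).asIdeal)
        (X.presheaf.stalk x)).toRingEquiv
      (h U hU _)

/-- The spectrum of a normal domain is a normal scheme. -/
theorem Spec_of_isNormalDomain (R : CommRingCat.{u}) (h : IsNormalDomain R) :
    Pi1.IsNormalScheme (Spec R) := by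
  intro x
  letI : Algebra R ((Spec R).presheaf.stalk x) :=
    inferInstanceAs (Algebra R ((Spec.structureSheaf R).presheaf.stalk x))
  haveI : IsLocalization.AtPrime ((Spec R).presheaf.stalk x) x.asIdeal :=
    inferInstanceAs (IsLocalization.AtPrime ((Spec.structureSheaf R).presheaf.stalk x) x.asIdeal)
  exact h.localization_atPrime x.asIdeal _

/-- A normal scheme is reduced. -/
theorem isReduced {X : Scheme.{u}} (hX : Pi1.IsNormalScheme X) : IsReduced X := by
  haveI : ∀ x : X, _root_.IsReduced (X.presheaf.stalk x) := fun x => by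
    haveI := (hX x).1
    infer_instance
  exact isReduced_of_isReduced_stalk X

end

end Groth.Agent.Lib.helper13.Normal
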