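import Mathlib
import Groth.Agent.Lib.Helper13.Normal1
import Groth.Agent.Lib.Helper24.SmoothNormal

/-!
# Normal schemes: ascent along smooth morphisms
-/

set_option autoImplicit false

namespace Groth.Agent.Lib.helper13.Normal

universe u

open AlgebraicGeometry CategoryTheory Limits

noncomputable section

/-- If `f : X ⟶ Y` is smooth and the local ring of `Y` at `f x` is a normal domain, then so is
the local ring of `X` at `x`. -/
theorem isNormalDomain_stalk_of_smooth {X Y : Scheme.{u}} (f : X ⟶ Y) [Smooth f] (x : X)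
    (h : IsNormalDomain (Y.presheaf.stalk (f x))) : IsNormalDomain (X.presheaf.stalk x) := by
  obtain ⟨U, hU, hyU, -⟩ := exists_isAffineOpen_mem_and_subset (X := Y) (x := f x)
    (U := ⊤) trivial
  obtain ⟨V, hV, hxV, hVU⟩ := exists_isAffineOpen_mem_and_subset (X := X) (x := x)
    (U := f ⁻¹ᵁ U) hyU
  have hφ : (f.appLE U V hVU).hom.Smooth := HasRingHomProperty.appLE (P := @Smooth) f
    inferInstance ⟨U, hU⟩ ⟨V, hV⟩ hVU
  algebraize [(f.appLE U V hVU).hom]
  haveI : Algebra.Smooth Γ(Y, U) Γ(X, V) := hφ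
  obtain ⟨q, hq⟩ : ∃ q : Ideal Γ(X, V), q = (hV.primeIdealOf ⟨x, hxV⟩).asIdeal := ⟨_, rfl⟩
  obtain ⟨p, hp⟩ : ∃ p : Ideal Γ(Y, U), p = (hU.primeIdealOf ⟨f x, hVU hxV⟩).asIdeal := ⟨_, rfl⟩
  haveI : q.IsPrime := hq ▸ inferInstance
  haveI : p.IsPrime := hp ▸ inferInstance
  have hpq : p = q.comap (algebraMap Γ(Y, U) Γ(X, V)) := by
    rw [hp, hq]
    exact (congrArg PrimeSpectrum.asIdeal
      (IsAffineOpen.comap_primeIdealOf_appLE U hU V hV hVU hxV)).symm
  letI := X.presheaf.algebra_section_stalk (⟨x, hxV⟩ : V)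
  letI := Y.presheaf.algebra_section_stalk (⟨f x, hVU hxV⟩ : U)
  haveI iX : IsLocalization.AtPrime (X.presheaf.stalk x) q := hq ▸ hV.isLocalization_stalk ⟨x, hxV⟩
  haveI iY : IsLocalization.AtPrime (Y.presheaf.stalk (f x)) p :=
    hp ▸ hU.isLocalization_stalk ⟨f x, hVU hxV⟩
  have hY : IsNormalDomain (Localization.AtPrime p) :=
    h.of_ringEquiv (IsLocalization.algEquiv p.primeCompl (Y.presheaf.stalk (f x))
      (Localization.AtPrime p)).toRingEquiv
  subst hpq
  have hX := Groth.Agent.Lib.Helper24.SmoothNormal.isDomain_isIntegrallyClosed_atPrime_of_smooth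
    Γ(Y, U) Γ(X, V) q hY.1 hY.2
  exact IsNormalDomain.of_ringEquiv (IsLocalization.algEquiv q.primeCompl
    (Localization.AtPrime q) (X.presheaf.stalk x)).toRingEquiv hX

/-- A scheme smooth over a normal scheme is normal. -/
theorem of_smooth {X Y : Scheme.{u}} (f : X ⟶ Y) [Smooth f] (hY : Pi1.IsNormalScheme Y) :
    Pi1.IsNormalScheme X := fun x => isNormalDomain_stalk_of_smooth f x (hY (f x))

/-- A scheme étale over a normal scheme is normal. -/
theorem of_etale {X Y : Scheme.{u}} (f : X ⟶ Y) [Etale f] (hY : Pi1.IsNormalScheme Y) :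
    Pi1.IsNormalScheme X := of_smooth f hY

end

end Groth.Agent.Lib.helper13.Normal
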