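import Mathlib
import Groth.Agent.Lib.Helper13.Normal2
import Groth.Agent.Lib.Helper13.GenericPoints
import Groth.Agent.S9799

/-!
# Normal schemes: irreducible components and integrality
-/

set_option autoImplicit false

namespace Groth.Agent.Lib.helper13.Normal

universe u

open AlgebraicGeometry CategoryTheory Limits

/-- If `f : Y ⟶ X` is a generalizing map to an irreducible scheme and the fibre over the generic
point of `X` is finite, then every open of `Y` has finitely many irreducible components. -/
theorem finite_irreducibleComponents_of_finite_generic_fibre {X Y : Scheme.{u}}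
    [IrreducibleSpace X] (f : Y ⟶ X) (hgen : GeneralizingMap f)
    (hfin : (f ⁻¹' {genericPoint X}).Finite) (W : Y.Opens) :
    (irreducibleComponents ↥W).Finite := by
  classical
  haveI : QuasiSober ↥W := inferInstanceAs (QuasiSober ↥(W.toScheme))
  have key : ∀ Z ∈ irreducibleComponents ↥W, ∃ ξ : ↥W, IsGenericPoint ξ Z ∧
      f ξ.1 = genericPoint X := by
    intro Z hZ
    obtain ⟨ξ, hξ⟩ := QuasiSober.sober hZ.1 (isClosed_of_mem_irreducibleComponents Z hZ)
    refine ⟨ξ, hξ, ?_⟩
    obtain ⟨ξ', hξ', hfξ'⟩ := hgen (genericPoint_specializes (f ξ.1))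
    have hξ'W : ξ' ∈ W := hξ'.mem_open W.isOpen ξ.2
    have hspec : (⟨ξ', hξ'W⟩ : ↥W) ⤳ ξ := (subtype_specializes_iff _ _).mpr hξ'
    have hcl : closure ({ξ} : Set ↥W) ∈ irreducibleComponents ↥W := by
      rw [hξ.def]; exact hZ
    have := eq_of_specializes_of_mem_irreducibleComponents hcl hspec
    rw [← this]
    exact hfξ'
  choose g hg1 hg2 using key
  haveI : Finite (f ⁻¹' {genericPoint X}) := hfin.to_subtype
  have hinj : Function.Injective (fun Z : irreducibleComponents ↥W =>
      (⟨(g Z.1 Z.2).1, hg2 Z.1 Z.2⟩ : f ⁻¹' {genericPoint X})) := by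
    rintro ⟨Z, hZ⟩ ⟨Z', hZ'⟩ h
    have h' : (g Z hZ).1 = (g Z' hZ').1 := congrArg (fun z : f ⁻¹' {genericPoint X} => z.1) h
    have h1 := (hg1 Z hZ).def
    have h2 := (hg1 Z' hZ').def
    have : g Z hZ = g Z' hZ' := Subtype.ext h'
    apply Subtype.ext
    show Z = Z'
    rw [← h1, ← h2, this]
  haveI := Finite.of_injective _ hinj
  exact Set.toFinite _

/-- A connected normal scheme all of whose quasi-compact opens have finitely many irreducible
components is integral. -/
theorem isIntegral_of_connected {Y : Scheme.{u}} [ConnectedSpace Y] (hY : Pi1.IsNormalScheme Y)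
    (hfin : ∀ U : Y.Opens, IsCompact (U : Set Y) → (irreducibleComponents ↥U).Finite) :
    IsIntegral Y := by
  haveI := isReduced hY
  obtain ⟨hopen, -⟩ := Groth.Agent.S9799.result Y hfin hY
  obtain ⟨y⟩ : Nonempty Y := inferInstance
  have hZ := irreducibleComponent_mem_irreducibleComponents y
  have hclopen : IsClopen (irreducibleComponent y) :=
    ⟨isClosed_irreducibleComponent, hopen _ hZ⟩
  have huniv : irreducibleComponent y = Set.univ :=
    hclopen.eq_univ ⟨y, mem_irreducibleComponent⟩
  haveI : IrreducibleSpace Y := by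
    have hirr : IsIrreducible (Set.univ : Set Y) := huniv ▸ isIrreducible_irreducibleComponent
    exact { isPreirreducible_univ := hirr.2, toNonempty := ⟨y⟩ }
  exact isIntegral_of_irreducibleSpace_of_isReduced Y

end Groth.Agent.Lib.helper13.Normal
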