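import Mathlib
import Groth.Agent.Lib.Helper13.Normal3

/-!
# Normal schemes: the relative normalization in the spectrum of a field is normal
-/

set_option autoImplicit false

namespace Groth.Agent.Lib.helper13.Normal

universe u

open AlgebraicGeometry CategoryTheory Limits

noncomputable section

/-- The integral closure of a ring in a field is a normal domain. -/
lemma isNormalDomain_integralClosure_of_isField {A B : Type*} [CommRing A] [CommRing B]
    [Algebra A B] (hB : IsField B) : IsNormalDomain (integralClosure A B) := by
  letI := hB.toField
  exact ⟨inferInstance, IsIntegrallyClosed.of_isIntegrallyClosedIn (integralClosure A B) B⟩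

/-- A scheme with no points is normal. -/
lemma of_isEmpty (X : Scheme.{u}) [IsEmpty X] : Pi1.IsNormalScheme X := fun x => isEmptyElim x

/-- Sections of the spectrum of a field over an open: either a field or the zero ring. -/
lemma isField_or_subsingleton_sections {R : CommRingCat.{u}} (hR : IsField R)
    (V : (Spec R).Opens) : IsField Γ(Spec R, V) ∨ Subsingleton Γ(Spec R, V) := by
  letI := hR.toField
  haveI : Unique ↥(Spec R) := inferInstanceAs (Unique (PrimeSpectrum R))
  by_cases h : (default : ↥(Spec R)) ∈ V
  · left
    have hV : V = ⊤ := by
      ext p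
      simp only [TopologicalSpace.Opens.coe_top, Set.mem_univ, iff_true]
      rw [Unique.eq_default p]
      exact h
    subst hV
    exact (Scheme.ΓSpecIso R).commRingCatIsoToRingEquiv.toMulEquiv.isField hR
  · right
    have hV : V = ⊥ := by
      ext p
      simp only [TopologicalSpace.Opens.coe_bot, Set.mem_empty_iff_false, iff_false]
      rw [Unique.eq_default p]
      exact h
    subst hV
    infer_instance

/-- The relative normalization of a scheme in the spectrum of a field is a normal scheme. -/
theorem isNormalScheme_normalization_of_isField {X : Scheme.{u}} {R : CommRingCat.{u}}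
    (hR : IsField R) (g : Spec R ⟶ X) [QuasiCompact g] [QuasiSeparated g] :
    Pi1.IsNormalScheme g.normalization := by
  refine of_openCover g.normalizationOpenCover fun U => ?_
  letI := (g.app U.1).hom.toAlgebra
  show Pi1.IsNormalScheme
    (Spec (CommRingCat.of (integralClosure Γ(X, U.1) Γ(Spec R, g ⁻¹ᵁ U.1))))
  rcases isField_or_subsingleton_sections hR (g ⁻¹ᵁ U.1) with h | h
  · exact Spec_of_isNormalDomain _ (isNormalDomain_integralClosure_of_isField h)
  · haveI : IsEmpty ↥(Spec (CommRingCat.of (integralClosure Γ(X, U.1) Γ(Spec R, g ⁻¹ᵁ U.1)))) :=
      inferInstanceAs (IsEmpty (PrimeSpectrum (integralClosure Γ(X, U.1) Γ(Spec R, g ⁻¹ᵁ U.1))))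
    exact of_isEmpty _

end

end Groth.Agent.Lib.helper13.Normal
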