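import Mathlib
import Groth.Agent.Lib.Helper13.Normal4
import Groth.Agent.S9821

/-!
# Normal schemes: an integral normal scheme is its own normalization in its function field
-/

set_option autoImplicit false

namespace Groth.Agent.Lib.helper13.Normal

universe u

open AlgebraicGeometry CategoryTheory Limits

noncomputable section

/-- Morphisms from the spectrum of a field are quasi-compact. -/
lemma quasiCompact_of_isField {X : Scheme.{u}} {R : CommRingCat.{u}} (hR : IsField R)
    (g : Spec R ⟶ X) : QuasiCompact g := by
  letI := hR.toField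
  haveI : Unique ↥(Spec R) := inferInstanceAs (Unique (PrimeSpectrum R))
  exact ⟨fun U _ _ => (Set.toFinite _).isCompact⟩

instance quasiCompact_fromSpecStalk_genericPoint (X : Scheme.{u}) [IsIntegral X] :
    QuasiCompact (X.fromSpecStalk (genericPoint X)) :=
  quasiCompact_of_isField (Field.toIsField X.functionField) _

/-- An affine morphism inducing isomorphisms on sections over all affine opens is an
isomorphism. -/
lemma isIso_of_isAffineHom_of_forall_isIso_app {X Y : Scheme.{u}} (f : X ⟶ Y) [IsAffineHom f]
    (h : ∀ U : Y.affineOpens, IsIso (f.app U.1)) : IsIso f := by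
  have := (IsZariskiLocalAtTarget.iff_of_iSup_eq_top (P := MorphismProperty.isomorphisms Scheme)
    (f := f) _ (iSup_affineOpens_eq_top Y)).mpr fun U =>
      (isIso_morphismRestrict_iff_isIso_app f U.2).mpr (h U)
  exact this

/-- Ring-level statement: if `A` is integrally closed with fraction field `K` and `B` is
an `A`-algebra isomorphic to `K`, the integral closure of `A` in `B` is `A`. -/
lemma bijective_algebraMap_integralClosure {A B K : Type*} [CommRing A] [CommRing B]
    [Algebra A B] [Field K] [Algebra A K] [IsFractionRing A K] [IsDomain A]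
    [IsIntegrallyClosed A] (e : K ≃+* B)
    (he : ∀ a, e (algebraMap A K a) = algebraMap A B a) :
    Function.Bijective (algebraMap A (integralClosure A B)) := by
  constructor
  · intro a b hab
    have h1 : algebraMap A B a = algebraMap A B b := congrArg Subtype.val hab
    rw [← he, ← he] at h1
    exact IsFractionRing.injective A K (e.injective h1)
  · rintro ⟨b, hb⟩
    let e' : B →ₐ[A] K :=
      { e.symm.toRingHom with
        commutes' := fun a => by
          show e.symm (algebraMap A B a) = algebraMap A K a
          rw [← he, e.symm_apply_apply] }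
    have h2 : IsIntegral A (e' b) := hb.map e'
    obtain ⟨a, ha⟩ := IsIntegrallyClosed.algebraMap_eq_of_integral h2
    refine ⟨a, Subtype.ext ?_⟩
    show algebraMap A B a = b
    rw [← he, ha]
    exact e.apply_symm_apply b

/-- **An integral normal scheme is its own normalization in its function field.** -/
theorem isIso_fromNormalization_of_isNormalScheme {X : Scheme.{u}} [IsIntegral X]
    (hX : Pi1.IsNormalScheme X) :
    IsIso (X.fromSpecStalk (genericPoint X)).fromNormalization := by
  set g := X.fromSpecStalk (genericPoint X) with hg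
  refine isIso_of_isAffineHom_of_forall_isIso_app _ fun U => ?_
  rw [Scheme.Hom.fromNormalization_app g U.2]
  letI := (g.app U.1).hom.toAlgebra
  suffices hbij : Function.Bijective
      (algebraMap Γ(X, U.1) (integralClosure Γ(X, U.1) Γ(Spec X.functionField, g ⁻¹ᵁ U.1))) by
    have : IsIso (CommRingCat.ofHom (algebraMap Γ(X, U.1)
        (integralClosure Γ(X, U.1) Γ(Spec X.functionField, g ⁻¹ᵁ U.1)))) :=
      (ConcreteCategory.isIso_iff_bijective _).mpr hbij
    infer_instance
  by_cases hne : Nonempty U.1
  · have hη : genericPoint X ∈ U.1 :=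
      ((genericPoint_spec X).mem_open_set_iff U.1.isOpen).mpr (by simpa using hne)
    haveI := (Groth.Agent.S9821.result X).mp hX U.1 U.2
    haveI := functionField_isFractionRing_of_isAffineOpen X U.1 U.2
    haveI : Unique ↥(Spec X.functionField) :=
      inferInstanceAs (Unique (PrimeSpectrum X.functionField))
    have htop : g ⁻¹ᵁ U.1 = ⊤ := by
      ext p
      simp only [TopologicalSpace.Opens.coe_top, Set.mem_univ, iff_true]
      have hp : p = IsLocalRing.closedPoint _ := Subsingleton.elim _ _
      show g p ∈ U.1
      rw [hp, hg, Scheme.fromSpecStalk_closedPoint]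
      exact hη
    have hiso : IsIso ((Spec X.functionField).presheaf.map
        (homOfLE (le_top : g ⁻¹ᵁ U.1 ≤ ⊤)).op) := by
      have : (homOfLE (le_top : g ⁻¹ᵁ U.1 ≤ ⊤)) = eqToHom htop := Subsingleton.elim _ _
      rw [this, eqToHom_op, eqToHom_map]
      infer_instance
    let ψ : X.functionField ⟶ Γ(Spec X.functionField, g ⁻¹ᵁ U.1) :=
      (Scheme.ΓSpecIso X.functionField).inv ≫
        (Spec X.functionField).presheaf.map (homOfLE (le_top : g ⁻¹ᵁ U.1 ≤ ⊤)).op
    haveI : IsIso ψ := inferInstance
    refine bijective_algebraMap_integralClosure (K := X.functionField)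
      (asIso ψ).commRingCatIsoToRingEquiv ?_
    intro a
    have happ : g.app U.1 = X.presheaf.germ U.1 (genericPoint X) hη ≫ ψ :=
      Scheme.fromSpecStalk_app hη
    show _ = (g.app U.1).hom a
    rw [happ]
    rfl
  · have hU : U.1 = ⊥ := by
      ext p
      simp only [TopologicalSpace.Opens.coe_bot, Set.mem_empty_iff_false, iff_false]
      exact fun hp => hne ⟨⟨p, hp⟩⟩
    haveI : Subsingleton Γ(X, U.1) := by rw [hU]; infer_instance
    haveI : Subsingleton Γ(Spec X.functionField, g ⁻¹ᵁ U.1) := by
      have : g ⁻¹ᵁ U.1 = ⊥ := by rw [hU]; rfl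
      rw [this]; infer_instance
    refine ⟨Function.injective_of_subsingleton _, fun c => ⟨0, Subsingleton.elim _ _⟩⟩

end

end Groth.Agent.Lib.helper13.Normal
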