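import Mathlib

/-!
# Finiteness of integral closure of polynomial rings over a field in purely inseparable extensions

`finite_integralClosure_of_isPurelyInseparable`: for a field `k`, finite `σ`, and a finite purely
inseparable extension `K'` of `Frac k[σ]`, the integral closure of `k[σ]` in `K'` is a finite module.

Method: the iterated Frobenius `φ : K' → K`, `x ↦ x^(q^n)`, maps the integral closure semilinearly
and injectively into `k₁[σ]` where `k₁ = k^(q^n)(S)` for a finite set `S` of coefficients, and
`k₁[σ]` is finite over `k[σ]` through `p ↦ p^(q^n)` (`finite_theta`).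
-/

set_option autoImplicit false
universe u v
open MvPolynomial

namespace Groth.Agent.Lib.helper13.PIns

/-- Lemma X -/
theorem mem_range_of_isIntegralElem {R₁ K : Type*} [CommRing R₁] [IsDomain R₁]
    [IsIntegrallyClosed R₁] [Field K] (j : R₁ →+* K) (hj : Function.Injective j) (x : K)
    (hx : ∃ z : FractionRing R₁, (IsFractionRing.lift hj : FractionRing R₁ →+* K) z = x)
    (hint : j.IsIntegralElem x) : ∃ d : R₁, j d = x := by
  obtain ⟨z, rfl⟩ := hx
  obtain ⟨p, hp, hpx⟩ := hint
  have hcomp : (IsFractionRing.lift hj : FractionRing R₁ →+* K).comp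
      (algebraMap R₁ (FractionRing R₁)) = j := RingHom.ext (IsFractionRing.lift_algebraMap hj)
  have hz : IsIntegral R₁ z := by
    refine ⟨p, hp, ?_⟩
    apply (IsFractionRing.lift hj : FractionRing R₁ →+* K).injective
    rw [Polynomial.hom_eval₂, hcomp, hpx, map_zero]
  obtain ⟨y, rfl⟩ := IsIntegrallyClosed.isIntegral_iff.mp hz
  exact ⟨y, (IsFractionRing.lift_algebraMap hj y).symm⟩


section defs
variable (k : Type u) [Field k] (q : ℕ) [ExpChar k q] (n : ℕ) (S : Finset k) (σ : Type v)

/-- The subfield `k^(q^n)`. -/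
noncomputable abbrev k0 : Subfield k := (iterateFrobenius k q n).fieldRange

/-- `k^(q^n)(S)`. -/
noncomputable abbrev k1 : IntermediateField (k0 k q n) k :=
  IntermediateField.adjoin (k0 k q n) (S : Set k)

theorem frob_mem_k1 (x : k) : iterateFrobenius k q n x ∈ k1 k q n S :=
  (k1 k q n S).algebraMap_mem ⟨iterateFrobenius k q n x, ⟨x, rfl⟩⟩

/-- Frobenius power as a map `k → k₁`. -/
noncomputable def frobk : k →+* k1 k q n S :=
  (iterateFrobenius k q n).codRestrict (k1 k q n S) (frob_mem_k1 k q n S)

theorem coe_frobk (x : k) : ((frobk k q n S x : k1 k q n S) : k) = x ^ q ^ n := by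
  rw [← iterateFrobenius_def]; rfl

/-- The twisted map `P → R₁`, `p ↦ p^(q^n)`. -/
noncomputable def theta : MvPolynomial σ k →+* MvPolynomial σ (k1 k q n S) :=
  eval₂Hom (C.comp (frobk k q n S)) (fun i => X i ^ q ^ n)

theorem map_theta (p : MvPolynomial σ k) :
    map (algebraMap (k1 k q n S) k) (theta k q n S σ p) = p ^ q ^ n := by
  haveI : ExpChar (MvPolynomial σ k) q :=
    expChar_of_injective_ringHom (MvPolynomial.C_injective σ k) q
  have h : (map (algebraMap (k1 k q n S) k)).comp (theta k q n S σ) =
      iterateFrobenius (MvPolynomial σ k) q n := by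
    apply MvPolynomial.ringHom_ext
    · intro c
      simp only [theta, RingHom.comp_apply, eval₂Hom_C, map_C, iterateFrobenius_def]
      rw [← map_pow]
      congr 1
    · intro i
      simp only [theta, RingHom.comp_apply, eval₂Hom_X', map_pow, map_X, iterateFrobenius_def]
  have := congrArg (fun f => f p) h
  simpa [iterateFrobenius_def] using this

theorem map_injective' :
    Function.Injective (map (σ := σ) (algebraMap (k1 k q n S) k)) :=
  MvPolynomial.map_injective _ (algebraMap (k1 k q n S) k).injective

theorem theta_map (r : MvPolynomial σ (k1 k q n S)) :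
    theta k q n S σ (map (algebraMap (k1 k q n S) k) r) = r ^ q ^ n := by
  apply map_injective' k q n S σ
  rw [map_theta, map_pow]

theorem isIntegral_k0 (x : k) : IsIntegral (k0 k q n) x := by
  have hQ : q ^ n ≠ 0 := (expChar_pow_pos k q n).ne'
  refine ⟨Polynomial.X ^ (q ^ n) - Polynomial.C (⟨iterateFrobenius k q n x, ⟨x, rfl⟩⟩ : k0 k q n),
    Polynomial.monic_X_pow_sub_C _ hQ, ?_⟩
  simp only [Polynomial.eval₂_sub, Polynomial.eval₂_pow, Polynomial.eval₂_X, Polynomial.eval₂_C]
  change x ^ q ^ n - iterateFrobenius k q n x = 0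
  rw [iterateFrobenius_def, sub_self]

theorem finite_theta [Finite σ] : (theta k q n S σ).Finite := by
  classical
  letI : Algebra (MvPolynomial σ k) (MvPolynomial σ (k1 k q n S)) := (theta k q n S σ).toAlgebra
  show Module.Finite (MvPolynomial σ k) (MvPolynomial σ (k1 k q n S))
  have hSk1 : ∀ s ∈ S, s ∈ k1 k q n S := fun s hs => IntermediateField.subset_adjoin _ _ hs
  let G : Set (MvPolynomial σ (k1 k q n S)) :=
    Set.range X ∪ Set.range (fun s : S => C (⟨s.1, hSk1 s.1 s.2⟩ : k1 k q n S))
  have hGfin : G.Finite := (Set.finite_range _).union (Set.finite_range _)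
  have hQ : q ^ n ≠ 0 := (expChar_pow_pos k q n).ne'
  have hint : ∀ g : MvPolynomial σ (k1 k q n S), IsIntegral (MvPolynomial σ k) g := by
    intro g
    refine ⟨Polynomial.X ^ (q ^ n) - Polynomial.C (map (algebraMap (k1 k q n S) k) g),
      Polynomial.monic_X_pow_sub_C _ hQ, ?_⟩
    simp only [Polynomial.eval₂_sub, Polynomial.eval₂_pow, Polynomial.eval₂_X, Polynomial.eval₂_C]
    rw [RingHom.algebraMap_toAlgebra, theta_map, sub_self]
  have hAE : (k1 k q n S).toSubalgebra = Algebra.adjoin (k0 k q n) (S : Set k) :=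
    IntermediateField.adjoin_toSubalgebra_of_isAlgebraic
      (fun x _ => (isIntegral_k0 k q n x).isAlgebraic)
  have key : ∀ x : k, x ∈ Algebra.adjoin (k0 k q n) (S : Set k) → ∀ hx : x ∈ k1 k q n S,
      C (⟨x, hx⟩ : k1 k q n S) ∈ Algebra.adjoin (MvPolynomial σ k) G := by
    intro x hx
    induction hx using Algebra.adjoin_induction with
    | mem x hxS =>
      intro hx
      exact Algebra.subset_adjoin (Or.inr ⟨⟨x, hxS⟩, rfl⟩)
    | algebraMap r =>
      intro hx
      obtain ⟨e, he⟩ := r.2
      have : (C (⟨algebraMap (k0 k q n) k r, hx⟩ : k1 k q n S) :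
          MvPolynomial σ (k1 k q n S)) = algebraMap (MvPolynomial σ k) _ (C e) := by
        rw [RingHom.algebraMap_toAlgebra]
        simp only [theta, eval₂Hom_C, RingHom.comp_apply]
        congr 1
        apply Subtype.ext
        exact he.symm
      rw [this]
      exact Subalgebra.algebraMap_mem _ _
    | add x y hx hy ihx ihy =>
      intro hxy
      have hx' : x ∈ k1 k q n S := by
        rw [← IntermediateField.mem_toSubalgebra, hAE]; exact hx
      have hy' : y ∈ k1 k q n S := by
        rw [← IntermediateField.mem_toSubalgebra, hAE]; exact hy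
      have : (C (⟨x + y, hxy⟩ : k1 k q n S) : MvPolynomial σ (k1 k q n S)) =
          C (⟨x, hx'⟩ : k1 k q n S) + C (⟨y, hy'⟩ : k1 k q n S) := by
        rw [← map_add]; rfl
      rw [this]
      exact add_mem (ihx hx') (ihy hy')
    | mul x y hx hy ihx ihy =>
      intro hxy
      have hx' : x ∈ k1 k q n S := by
        rw [← IntermediateField.mem_toSubalgebra, hAE]; exact hx
      have hy' : y ∈ k1 k q n S := by
        rw [← IntermediateField.mem_toSubalgebra, hAE]; exact hy
      have : (C (⟨x * y, hxy⟩ : k1 k q n S) : MvPolynomial σ (k1 k q n S)) =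
          C (⟨x, hx'⟩ : k1 k q n S) * C (⟨y, hy'⟩ : k1 k q n S) := by
        rw [← map_mul]; rfl
      rw [this]
      exact mul_mem (ihx hx') (ihy hy')
  have hadj : Algebra.adjoin (MvPolynomial σ k) G = ⊤ := by
    rw [eq_top_iff]
    rintro r -
    induction r using MvPolynomial.induction_on with
    | C c =>
      have hc : (c : k) ∈ Algebra.adjoin (k0 k q n) (S : Set k) := by
        rw [← hAE, IntermediateField.mem_toSubalgebra]; exact c.2
      exact key c.1 hc c.2
    | add p q hp hq => exact add_mem hp hq
    | mul_X p i hp => exact mul_mem hp (Algebra.subset_adjoin (Or.inl ⟨i, rfl⟩))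
  have hfg := fg_adjoin_of_finite hGfin (fun g _ => hint g)
  rw [hadj] at hfg
  exact ⟨by rwa [Algebra.top_toSubmodule] at hfg⟩

end defs

section main
variable (k : Type u) [Field k] (σ : Type v) [Finite σ]

set_option maxHeartbeats 1000000 in
/-- Integral closure of `k[x₁..xₛ]` in a finite purely inseparable extension of its fraction field
is a finite module. -/
theorem finite_integralClosure_of_isPurelyInseparable
    (K' : Type*) [Field K'] [Algebra (MvPolynomial σ k) K']
    [Algebra (FractionRing (MvPolynomial σ k)) K']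
    [IsScalarTower (MvPolynomial σ k) (FractionRing (MvPolynomial σ k)) K']
    [FiniteDimensional (FractionRing (MvPolynomial σ k)) K']
    [IsPurelyInseparable (FractionRing (MvPolynomial σ k)) K'] :
    Module.Finite (MvPolynomial σ k) (integralClosure (MvPolynomial σ k) K') := by
  classical
  obtain ⟨q, hq⟩ := ExpChar.exists k
  haveI : ExpChar (MvPolynomial σ k) q :=
    expChar_of_injective_ringHom (MvPolynomial.C_injective σ k) q
  haveI : ExpChar (FractionRing (MvPolynomial σ k)) q :=
    expChar_of_injective_algebraMap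
      (IsFractionRing.injective (MvPolynomial σ k) (FractionRing (MvPolynomial σ k))) q
  obtain ⟨n, hn⟩ : ∃ n, n = IsPurelyInseparable.exponent (FractionRing (MvPolynomial σ k)) K' :=
    ⟨_, rfl⟩
  obtain ⟨φ, hφdef⟩ : ∃ φ : K' →+* FractionRing (MvPolynomial σ k),
      φ = IsPurelyInseparable.iterateFrobenius (FractionRing (MvPolynomial σ k)) K' q hn.ge :=
    ⟨_, rfl⟩
  have hφK : ∀ y : FractionRing (MvPolynomial σ k),
      φ (algebraMap (FractionRing (MvPolynomial σ k)) K' y) = y ^ q ^ n := by
    intro y
    rw [hφdef]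
    exact IsPurelyInseparable.iterateFrobenius_algebraMap K' q hn.ge y
  -- a basis and fractions
  let b := Module.finBasis (FractionRing (MvPolynomial σ k)) K'
  have hfrac : ∀ i, ∃ a c : MvPolynomial σ k,
      algebraMap (MvPolynomial σ k) (FractionRing (MvPolynomial σ k)) a /
        algebraMap (MvPolynomial σ k) (FractionRing (MvPolynomial σ k)) c = φ (b i) := by
    intro i
    obtain ⟨a, c, -, h⟩ := IsFractionRing.div_surjective (A := MvPolynomial σ k) (φ (b i))
    exact ⟨a, c, h⟩
  choose a c hac using hfrac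
  let S : Finset k := Finset.univ.biUnion (fun i => (a i).coeffs ∪ (c i).coeffs)
  -- notation
  have hinjι : Function.Injective (algebraMap (k1 k q n S) k) := (algebraMap (k1 k q n S) k).injective
  obtain ⟨j, hjdef⟩ : ∃ j : MvPolynomial σ (k1 k q n S) →+* FractionRing (MvPolynomial σ k),
      j = (algebraMap (MvPolynomial σ k) (FractionRing (MvPolynomial σ k))).comp
        (map (algebraMap (k1 k q n S) k)) := ⟨_, rfl⟩
  have hj : Function.Injective j := by
    rw [hjdef]
    exact (IsFractionRing.injective (MvPolynomial σ k) _).comp (map_injective' k q n S σ)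
  have hjθ : ∀ p : MvPolynomial σ k, j (theta k q n S σ p) =
      (algebraMap (MvPolynomial σ k) (FractionRing (MvPolynomial σ k)) p) ^ q ^ n := by
    intro p
    rw [hjdef, RingHom.comp_apply, map_theta, map_pow]
  -- elements with coefficients in `S` come from `R₁`
  have hmemS : ∀ p : MvPolynomial σ k, (p.coeffs : Set k) ⊆ S →
      ∃ r : MvPolynomial σ (k1 k q n S),
        j r = algebraMap (MvPolynomial σ k) (FractionRing (MvPolynomial σ k)) p := by
    intro p hp
    have : p ∈ Set.range (map (σ := σ) (algebraMap (k1 k q n S) k)) := by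
      rw [mem_range_map_iff_coeffs_subset]
      intro x hx
      exact ⟨⟨x, IntermediateField.subset_adjoin _ _ (hp hx)⟩, rfl⟩
    obtain ⟨r, hr⟩ := this
    exact ⟨r, by rw [hjdef, RingHom.comp_apply, hr]⟩
  -- the subfield `F₁`
  obtain ⟨F₁, hF₁⟩ : ∃ F₁ : Subfield (FractionRing (MvPolynomial σ k)), F₁ =
      (IsFractionRing.lift hj : FractionRing (MvPolynomial σ (k1 k q n S)) →+* _).fieldRange :=
    ⟨_, rfl⟩
  have hjF : ∀ r, j r ∈ F₁ := by
    intro r
    rw [hF₁]
    exact ⟨algebraMap _ _ r, IsFractionRing.lift_algebraMap hj r⟩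
  have hKF : ∀ y : FractionRing (MvPolynomial σ k), y ^ q ^ n ∈ F₁ := by
    intro y
    obtain ⟨u, v, -, rfl⟩ := IsFractionRing.div_surjective (A := MvPolynomial σ k) y
    rw [div_pow, ← hjθ, ← hjθ]
    exact F₁.div_mem (hjF _) (hjF _)
  have hbF : ∀ i, φ (b i) ∈ F₁ := by
    intro i
    rw [← hac i]
    have ha : ((a i).coeffs : Set k) ⊆ S := by
      intro x hx
      simp only [S, Finset.coe_biUnion, Finset.coe_univ, Set.mem_univ, Set.iUnion_true,
        Finset.coe_union, Set.mem_iUnion, Set.mem_union]
      exact ⟨i, Or.inl hx⟩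
    have hc : ((c i).coeffs : Set k) ⊆ S := by
      intro x hx
      simp only [S, Finset.coe_biUnion, Finset.coe_univ, Set.mem_univ, Set.iUnion_true,
        Finset.coe_union, Set.mem_iUnion, Set.mem_union]
      exact ⟨i, Or.inr hx⟩
    obtain ⟨ra, hra⟩ := hmemS (a i) ha
    obtain ⟨rc, hrc⟩ := hmemS (c i) hc
    rw [← hra, ← hrc]
    exact F₁.div_mem (hjF _) (hjF _)
  have hφF : ∀ x : K', φ x ∈ F₁ := by
    intro x
    rw [← b.sum_repr x, map_sum]
    refine F₁.sum_mem (fun i _ => ?_)
    rw [Algebra.smul_def, map_mul, hφK]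
    exact F₁.mul_mem (hKF _) (hbF i)
  -- integrality
  have hcomp : φ.comp (algebraMap (MvPolynomial σ k) K') = j.comp (theta k q n S σ) := by
    ext p
    · simp only [RingHom.comp_apply]
      rw [IsScalarTower.algebraMap_apply (MvPolynomial σ k) (FractionRing (MvPolynomial σ k)) K',
        hφK, hjθ]
    · simp only [RingHom.comp_apply]
      rw [IsScalarTower.algebraMap_apply (MvPolynomial σ k) (FractionRing (MvPolynomial σ k)) K',
        hφK, hjθ]
  have hex : ∀ x : integralClosure (MvPolynomial σ k) K',
      ∃ d : MvPolynomial σ (k1 k q n S), j d = φ x.1 := by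
    intro x
    apply mem_range_of_isIntegralElem j hj
    · have := hφF x.1
      rw [hF₁] at this
      exact this
    · obtain ⟨p, hp, hpx⟩ := x.2
      refine ⟨p.map (theta k q n S σ), hp.map _, ?_⟩
      rw [Polynomial.eval₂_map, ← hcomp, ← Polynomial.hom_eval₂, hpx, map_zero]
  choose ψ hψ using hex
  letI : Algebra (MvPolynomial σ k) (MvPolynomial σ (k1 k q n S)) := (theta k q n S σ).toAlgebra
  haveI : Module.Finite (MvPolynomial σ k) (MvPolynomial σ (k1 k q n S)) := finite_theta k q n S σ
  haveI : IsNoetherian (MvPolynomial σ k) (MvPolynomial σ (k1 k q n S)) :=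
    isNoetherian_of_isNoetherianRing_of_finite _ _
  let ψl : integralClosure (MvPolynomial σ k) K' →ₗ[MvPolynomial σ k]
      MvPolynomial σ (k1 k q n S) :=
    { toFun := ψ
      map_add' := fun x y => by
        apply hj
        rw [map_add, hψ, hψ, hψ]
        exact map_add φ x.1 y.1
      map_smul' := fun p x => by
        apply hj
        rw [RingHom.id_apply, hψ]
        have h0 : p • ψ x = theta k q n S σ p * ψ x := by
          rw [Algebra.smul_def, RingHom.algebraMap_toAlgebra]
        rw [h0, map_mul, hψ]
        have h1 : ((p • x : integralClosure (MvPolynomial σ k) K') : K') =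
            algebraMap (MvPolynomial σ k) K' p * x.1 := by
          rw [← Algebra.smul_def]; rfl
        rw [h1, map_mul]
        congr 1
        exact congrArg (fun f => f p) hcomp }
  refine Module.Finite.of_injective ψl ?_
  intro x y hxy
  have h1 : ψ x = ψ y := hxy
  have h2 : φ x.1 = φ y.1 := by rw [← hψ, ← hψ, h1]
  exact Subtype.ext (φ.injective h2)

end main
end Groth.Agent.Lib.helper13.PIns
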