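import Mathlib
import Groth.Agent.Lib.Helper13.PIns1
import Groth.Agent.S4562

/-!
# Finitely generated domains over a field are N-2 (Japanese)

* `isN2_mvPolynomial`: `k[x₁..xₛ]` is N-2.
* `IsN2.finite_integralClosure`: N-2 in terms of an arbitrary fraction field.
* `finite_integralClosure_of_finite_injective`: N-2 ascends along finite injective extensions of
  domains (in the arbitrary fraction field form).
* `finite_integralClosure_of_finiteType_field`: for a domain `A` of finite type over a field, the
  integral closure of `A` in a finite extension of its fraction field is a finite `A`-module.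
* `isN2_of_finiteType_field`, `isUniversallyJapanese_field`, `isN1_of_finiteType_field`.
-/

set_option autoImplicit false
universe u
open MvPolynomial

namespace Groth.Agent.Lib.helper13.PIns

theorem isN2_mvPolynomial (k : Type u) [Field k] (s : ℕ) : CAlg.IsN2 (MvPolynomial (Fin s) k) := by
  apply Groth.Agent.S4562.result
  intro K' _ _ _ _ hfd hpi
  exact finite_integralClosure_of_isPurelyInseparable k (Fin s) K'

/-- N-2 in terms of an arbitrary fraction field. -/
theorem IsN2.finite_integralClosure {A : Type u} [CommRing A] [IsDomain A] (hA : CAlg.IsN2 A)
    (K L : Type u) [Field K] [Field L] [Algebra A K] [IsFractionRing A K] [Algebra K L]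
    [Algebra A L] [IsScalarTower A K L] [FiniteDimensional K L] :
    Module.Finite A (integralClosure A L) := by
  let e : FractionRing A ≃ₐ[A] K := FractionRing.algEquiv A K
  letI : Algebra (FractionRing A) K := (e : FractionRing A →+* K).toAlgebra
  letI : Algebra (FractionRing A) L :=
    ((algebraMap K L).comp (algebraMap (FractionRing A) K)).toAlgebra
  haveI : IsScalarTower (FractionRing A) K L := IsScalarTower.of_algebraMap_eq (fun _ => rfl)
  haveI : IsScalarTower A (FractionRing A) K := IsScalarTower.of_algebraMap_eq (fun a => by
    rw [RingHom.algebraMap_toAlgebra]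
    exact (e.commutes a).symm)
  haveI : IsScalarTower A (FractionRing A) L := IsScalarTower.of_algebraMap_eq (fun a => by
    rw [IsScalarTower.algebraMap_apply A K L, IsScalarTower.algebraMap_apply A (FractionRing A) K,
      ← IsScalarTower.algebraMap_apply (FractionRing A) K L])
  haveI : Module.Finite (FractionRing A) K := by
    let f : FractionRing A →ₗ[FractionRing A] K :=
      { toFun := e
        map_add' := map_add e
        map_smul' := fun r x => by
          rw [RingHom.id_apply, smul_eq_mul, map_mul, Algebra.smul_def,
            RingHom.algebraMap_toAlgebra]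
          rfl }
    exact Module.Finite.of_surjective f e.surjective
  haveI : FiniteDimensional (FractionRing A) L := Module.Finite.trans K L
  exact hA L inferInstance

/-- N-2 ascends along finite injective extensions of domains. -/
theorem finite_integralClosure_of_finite_injective {A₀ A : Type u} [CommRing A₀] [IsDomain A₀]
    [CommRing A] [IsDomain A] [Algebra A₀ A] [Module.Finite A₀ A] [FaithfulSMul A₀ A]
    (h₀ : CAlg.IsN2 A₀)
    (K L : Type u) [Field K] [Field L] [Algebra A K] [IsFractionRing A K] [Algebra K L]
    [Algebra A L] [IsScalarTower A K L] [FiniteDimensional K L] :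
    Module.Finite A (integralClosure A L) := by
  haveI : Algebra.IsIntegral A₀ A := Algebra.IsIntegral.of_finite A₀ A
  letI : Algebra A₀ K := ((algebraMap A K).comp (algebraMap A₀ A)).toAlgebra
  haveI : IsScalarTower A₀ A K := IsScalarTower.of_algebraMap_eq (fun _ => rfl)
  letI : Algebra A₀ L := ((algebraMap A L).comp (algebraMap A₀ A)).toAlgebra
  haveI : IsScalarTower A₀ A L := IsScalarTower.of_algebraMap_eq (fun _ => rfl)
  haveI : IsScalarTower A₀ K L := IsScalarTower.of_algebraMap_eq (fun a => by
    rw [IsScalarTower.algebraMap_apply A₀ A L, IsScalarTower.algebraMap_apply A K L,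
      ← IsScalarTower.algebraMap_apply A₀ A K])
  have hinjK : Function.Injective (algebraMap A₀ K) := by
    rw [IsScalarTower.algebraMap_eq A₀ A K]
    exact (IsFractionRing.injective A K).comp (FaithfulSMul.algebraMap_injective A₀ A)
  letI : Algebra (FractionRing A₀) K := (IsFractionRing.lift hinjK).toAlgebra
  haveI : IsScalarTower A₀ (FractionRing A₀) K := IsScalarTower.of_algebraMap_eq (fun a => by
    rw [RingHom.algebraMap_toAlgebra]
    exact (IsFractionRing.lift_algebraMap hinjK a).symm)
  haveI : Module.Finite (FractionRing A₀) K :=
    Module.Finite.of_isLocalization A₀ A (nonZeroDivisors A₀)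
  letI : Algebra (FractionRing A₀) L :=
    ((algebraMap K L).comp (algebraMap (FractionRing A₀) K)).toAlgebra
  haveI : IsScalarTower (FractionRing A₀) K L := IsScalarTower.of_algebraMap_eq (fun _ => rfl)
  haveI : IsScalarTower A₀ (FractionRing A₀) L := IsScalarTower.of_algebraMap_eq (fun a => by
    rw [IsScalarTower.algebraMap_apply A₀ K L,
      IsScalarTower.algebraMap_apply A₀ (FractionRing A₀) K,
      ← IsScalarTower.algebraMap_apply (FractionRing A₀) K L])
  haveI : FiniteDimensional (FractionRing A₀) L := Module.Finite.trans K L
  have h1 : Module.Finite A₀ (integralClosure A₀ L) := h₀ L inferInstance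
  -- compare the two integral closures
  have hsub : ∀ x : L, x ∈ integralClosure A₀ L → x ∈ integralClosure A L :=
    fun x hx => IsIntegral.tower_top (A := A) hx
  have hsup : ∀ x : L, x ∈ integralClosure A L → x ∈ integralClosure A₀ L :=
    fun x hx => isIntegral_trans (R := A₀) (A := A) x hx
  let f : integralClosure A₀ L →ₗ[A₀] integralClosure A L :=
    { toFun := fun x => ⟨x.1, hsub x.1 x.2⟩
      map_add' := fun x y => rfl
      map_smul' := fun r x => by
        apply Subtype.ext
        simp only [RingHom.id_apply]
        change r • (x : L) = r • (x : L)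
        rfl }
  have hf : Function.Surjective f := fun y => ⟨⟨y.1, hsup y.1 y.2⟩, rfl⟩
  haveI : Module.Finite A₀ (integralClosure A L) := Module.Finite.of_surjective f hf
  exact Module.Finite.of_restrictScalars_finite A₀ A _

/-- For a domain `A` of finite type over a field, the integral closure of `A` in a finite extension
of its fraction field is a finite `A`-module. -/
theorem finite_integralClosure_of_finiteType_field (k A K L : Type u) [Field k] [CommRing A]
    [IsDomain A] [Algebra k A] [Algebra.FiniteType k A] [Field K] [Field L] [Algebra A K]
    [IsFractionRing A K] [Algebra K L] [FiniteDimensional K L] [Algebra A L]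
    [IsScalarTower A K L] : Module.Finite A (integralClosure A L) := by
  obtain ⟨s, g, hginj, hgfin⟩ := exists_finite_inj_algHom_of_fg k A
  letI : Algebra (MvPolynomial (Fin s) k) A := g.toRingHom.toAlgebra
  haveI : Module.Finite (MvPolynomial (Fin s) k) A := hgfin
  haveI : FaithfulSMul (MvPolynomial (Fin s) k) A :=
    (faithfulSMul_iff_algebraMap_injective _ _).mpr hginj
  exact finite_integralClosure_of_finite_injective (isN2_mvPolynomial k s) K L

theorem isN2_of_finiteType_field (k A : Type u) [Field k] [CommRing A] [IsDomain A] [Algebra k A]
    [Algebra.FiniteType k A] : CAlg.IsN2 A := by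
  intro L _ _ _ _ hfd
  exact finite_integralClosure_of_finiteType_field k A (FractionRing A) L

theorem isUniversallyJapanese_field (k : Type u) [Field k] : CAlg.IsUniversallyJapanese k := by
  intro S _ _ _ hS
  exact isN2_of_finiteType_field k S

theorem isN1_of_finiteType_field (k A : Type u) [Field k] [CommRing A] [IsDomain A] [Algebra k A]
    [Algebra.FiniteType k A] : CAlg.IsN1 A := by
  have := isN2_of_finiteType_field k A (FractionRing A) inferInstance
  exact this

end Groth.Agent.Lib.helper13.PIns
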