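import Mathlib

/-!
# Krull–Akizuki, ring level (case of overrings inside the fraction field)

`A` is a Noetherian domain in which every nonzero prime is maximal, `K` its fraction field and
`B` a subalgebra of `K`.  Then `B` is Noetherian and `B = aB + (finitely generated A-module)` for
every nonzero `a ∈ A`.
-/

set_option autoImplicit false

namespace Groth.Agent.Lib.helper13.KrAk

variable {A K : Type*} [CommRing A] [IsDomain A] [IsNoetherianRing A] [Field K] [Algebra A K]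
  [IsFractionRing A K]

/-- Descending chains of ideals containing a fixed nonzero element stabilize. -/
lemma dcc (hdim : ∀ p : Ideal A, p.IsPrime → p ≠ ⊥ → p.IsMaximal) {a : A} (ha : a ≠ 0)
    (J : ℕ → Ideal A) (hJ : Antitone J) (haJ : ∀ n, a ∈ J n) :
    ∃ n, ∀ m, n ≤ m → J m = J n := by
  set I : Ideal A := Ideal.span {a} with hIdef
  have hI : I ≠ ⊥ := by
    rw [hIdef, Ne, Ideal.span_singleton_eq_bot]; exact ha
  have hIJ : ∀ n, I ≤ J n := fun n => by
    rw [hIdef, Ideal.span_singleton_le_iff_mem]; exact haJ n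
  haveI : Ring.KrullDimLE 0 (A ⧸ I) := Ring.krullDimLE_zero_iff.mpr fun P hP => by
    have hne : P.comap (Ideal.Quotient.mk I) ≠ ⊥ := by
      intro h
      apply hI
      rw [eq_bot_iff, ← h]
      intro x hx
      rw [Ideal.mem_comap, Ideal.Quotient.eq_zero_iff_mem.mpr hx]
      exact P.zero_mem
    have hmax : (P.comap (Ideal.Quotient.mk I)).IsMaximal := hdim _ (hP.comap _) hne
    have hmap := Ideal.map_comap_of_surjective (Ideal.Quotient.mk I)
      Ideal.Quotient.mk_surjective P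
    rw [← hmap]
    refine (Ideal.map_eq_top_or_isMaximal_of_surjective (Ideal.Quotient.mk I)
      Ideal.Quotient.mk_surjective hmax).resolve_left ?_
    rw [hmap]
    exact hP.ne_top
  haveI : IsArtinianRing (A ⧸ I) := IsNoetherianRing.isArtinianRing_of_krullDimLE_zero
  let qs : ℕ →o (Ideal (A ⧸ I))ᵒᵈ :=
    { toFun := fun n => OrderDual.toDual ((J n).map (Ideal.Quotient.mk I))
      monotone' := fun i j e => Ideal.map_mono (hJ e) }
  obtain ⟨n, hn⟩ := IsArtinian.monotone_stabilizes qs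
  refine ⟨n, fun m hm => ?_⟩
  have h1 : (J n).map (Ideal.Quotient.mk I) = (J m).map (Ideal.Quotient.mk I) := hn m hm
  have hcm : ∀ k, ((J k).map (Ideal.Quotient.mk I)).comap (Ideal.Quotient.mk I) = J k := by
    intro k
    rw [Ideal.comap_map_of_surjective (Ideal.Quotient.mk I) Ideal.Quotient.mk_surjective]
    apply le_antisymm
    · refine sup_le le_rfl ?_
      intro x hx
      rw [Ideal.mem_comap, Ideal.mem_bot, Ideal.Quotient.eq_zero_iff_mem] at hx
      exact hIJ k hx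
    · exact le_sup_left
  rw [← hcm m, ← h1, hcm n]

/-- The auxiliary ideals `(aⁿB ∩ A) + aA`. -/
def auxIdeal (B : Subalgebra A K) (a : A) (n : ℕ) : Ideal A where
  carrier := {r | ∃ s ∈ B, ∃ t : A,
    algebraMap A K r = algebraMap A K a ^ n * s + algebraMap A K (a * t)}
  zero_mem' := ⟨0, B.zero_mem, 0, by simp⟩
  add_mem' := by
    rintro r₁ r₂ ⟨s₁, hs₁, t₁, h₁⟩ ⟨s₂, hs₂, t₂, h₂⟩
    refine ⟨s₁ + s₂, B.add_mem hs₁ hs₂, t₁ + t₂, ?_⟩
    rw [map_add, h₁, h₂]
    simp only [map_mul, map_add]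
    ring
  smul_mem' := by
    rintro c r ⟨s, hs, t, h⟩
    refine ⟨c • s, B.smul_mem hs c, c * t, ?_⟩
    rw [smul_eq_mul, map_mul, h, Algebra.smul_def]
    simp only [map_mul]
    ring

lemma mem_auxIdeal {B : Subalgebra A K} {a : A} {n : ℕ} {r : A} :
    r ∈ auxIdeal B a n ↔ ∃ s ∈ B, ∃ t : A,
      algebraMap A K r = algebraMap A K a ^ n * s + algebraMap A K (a * t) := Iff.rfl

lemma auxIdeal_antitone (B : Subalgebra A K) (a : A) : Antitone (auxIdeal B a) := by
  intro n m hnm r hr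
  obtain ⟨s, hs, t, h⟩ := mem_auxIdeal.mp hr
  refine mem_auxIdeal.mpr ⟨(a ^ (m - n)) • s, B.smul_mem hs _, t, ?_⟩
  rw [h, Algebra.smul_def, map_pow, ← mul_assoc, ← pow_add, Nat.add_sub_cancel' hnm]

lemma self_mem_auxIdeal (B : Subalgebra A K) (a : A) (n : ℕ) : a ∈ auxIdeal B a n :=
  mem_auxIdeal.mpr ⟨0, B.zero_mem, 1, by simp⟩

/-- Key step of Krull–Akizuki: `a^l B ⊆ a^(l+1) B + A` for some `l`. -/
theorem exists_pow (hdim : ∀ p : Ideal A, p.IsPrime → p ≠ ⊥ → p.IsMaximal) (B : Subalgebra A K)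
    {a : A} (ha : a ≠ 0) :
    ∃ l : ℕ, ∀ x ∈ B, ∃ s ∈ B, ∃ r : A,
      algebraMap A K a ^ l * x = algebraMap A K a ^ (l + 1) * s + algebraMap A K r := by
  obtain ⟨l, hl⟩ := dcc hdim ha (auxIdeal B a) (auxIdeal_antitone B a) (self_mem_auxIdeal B a)
  refine ⟨l, fun x hx => ?_⟩
  set α := algebraMap A K a with hα
  have hα0 : α ≠ 0 := by
    rw [hα, Ne, map_eq_zero_iff _ (IsFractionRing.injective A K)]; exact ha
  -- the property
  let P : ℕ → Prop := fun h => ∃ s ∈ B, ∃ r : A, α ^ h * x = α ^ (h + 1) * s + algebraMap A K r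
  -- Step 1: some `h` works
  have step1 : ∃ h, P h := by
    obtain ⟨b, c, hc, hbc⟩ := IsFractionRing.div_surjective (A := A) x
    have hc0 : c ≠ 0 := nonZeroDivisors.ne_zero hc
    have hc0' : algebraMap A K c ≠ 0 := by
      rw [Ne, map_eq_zero_iff _ (IsFractionRing.injective A K)]; exact hc0
    have hxc : algebraMap A K c * x = algebraMap A K b := by
      rw [← hbc]; field_simp
    obtain ⟨h, hh⟩ := dcc hdim hc0 (fun n => Ideal.span {a ^ n} ⊔ Ideal.span {c})
      (fun n m hnm => sup_le_sup_right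
        (Ideal.span_singleton_le_span_singleton.mpr (pow_dvd_pow a hnm)) _)
      (fun n => Ideal.mem_sup_right (Ideal.mem_span_singleton_self c))
    have hmem : a ^ h ∈ Ideal.span {a ^ (h + 1)} ⊔ Ideal.span {c} := by
      rw [hh (h + 1) (Nat.le_succ h)]
      exact Ideal.mem_sup_left (Ideal.mem_span_singleton_self _)
    obtain ⟨y, hy, z, hz, hyz⟩ := Submodule.mem_sup.mp hmem
    obtain ⟨u, rfl⟩ := Ideal.mem_span_singleton'.mp hy
    obtain ⟨v, rfl⟩ := Ideal.mem_span_singleton'.mp hz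
    refine ⟨h, u • x, B.smul_mem hx u, v * b, ?_⟩
    have : α ^ h = algebraMap A K u * α ^ (h + 1) + algebraMap A K v * algebraMap A K c := by
      rw [hα, ← map_pow, ← map_pow, ← map_mul, ← map_mul, ← map_add, hyz]
    rw [this, Algebra.smul_def, map_mul, ← hxc]
    ring
  -- Step 2: descend
  have step2 : ∀ h, l ≤ h → P (h + 1) → P h := by
    rintro h hlh ⟨s, hs, r, hr⟩
    have hr1 : r ∈ auxIdeal B a (h + 1) := by
      refine mem_auxIdeal.mpr ⟨x - a • s, B.sub_mem hx (B.smul_mem hs a), 0, ?_⟩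
      rw [mul_zero, map_zero, add_zero, Algebra.smul_def, mul_sub, hr]
      ring
    rw [hl (h + 1) (by omega), ← hl (h + 2) (by omega)] at hr1
    obtain ⟨s', hs', t', ht'⟩ := mem_auxIdeal.mp hr1
    refine ⟨s + s', B.add_mem hs hs', t', ?_⟩
    apply mul_left_cancel₀ hα0
    have e1 : α * (α ^ h * x) = α ^ (h + 1) * x := by ring
    rw [e1, hr, ht', map_mul, ← hα]
    ring
  -- Step 3: ascend
  have step3 : ∀ h, P h → P (h + 1) := by
    rintro h ⟨s, hs, r, hr⟩
    refine ⟨s, hs, a * r, ?_⟩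
    rw [pow_succ', mul_assoc, hr, map_mul]
    ring
  obtain ⟨h₀, hh₀⟩ := step1
  have up : ∀ d, P (h₀ + d) := by
    intro d
    induction d with
    | zero => exact hh₀
    | succ d ih => exact step3 _ ih
  have down : ∀ d, P (l + d) → P l := by
    intro d
    induction d with
    | zero => exact id
    | succ d ih => exact fun hd => ih (step2 (l + d) (Nat.le_add_right l d) hd)
  have hmax : P (l + (h₀ + l - l)) := by
    have := up l
    rwa [show l + (h₀ + l - l) = h₀ + l by omega]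
  exact down _ hmax

/-- Every `A`-submodule `N` of `B` containing `aB` is `aB` plus a finitely generated module. -/
theorem exists_finset (hdim : ∀ p : Ideal A, p.IsPrime → p ≠ ⊥ → p.IsMaximal)
    (B : Subalgebra A K) {a : A} (ha : a ≠ 0) (N : Submodule A K)
    (hN1 : ∀ x ∈ B, algebraMap A K a * x ∈ N) (hN2 : ∀ x ∈ N, x ∈ B) :
    ∃ S : Finset K, (∀ s ∈ S, s ∈ N) ∧ ∀ x ∈ N, ∃ y ∈ B, ∃ z ∈ Submodule.span A (S : Set K),
      x = algebraMap A K a * y + z := by
  classical
  obtain ⟨l, hl⟩ := exists_pow hdim B ha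
  set α := algebraMap A K a with hα
  have hα0 : α ≠ 0 := by
    rw [hα, Ne, map_eq_zero_iff _ (IsFractionRing.injective A K)]; exact ha
  let 𝔞 : Ideal A :=
    { carrier := {r | ∃ n ∈ N, algebraMap A K r = α ^ l * n}
      zero_mem' := ⟨0, N.zero_mem, by simp⟩
      add_mem' := by
        rintro r₁ r₂ ⟨n₁, hn₁, h₁⟩ ⟨n₂, hn₂, h₂⟩
        exact ⟨n₁ + n₂, N.add_mem hn₁ hn₂, by rw [map_add, h₁, h₂]; ring⟩
      smul_mem' := by
        rintro c r ⟨n, hn, h⟩
        exact ⟨c • n, N.smul_mem c hn, by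
          rw [smul_eq_mul, map_mul, h, Algebra.smul_def]; ring⟩ }
  have h𝔞 : ∀ r, r ∈ 𝔞 ↔ ∃ n ∈ N, algebraMap A K r = α ^ l * n := fun r => Iff.rfl
  obtain ⟨T, hT⟩ : 𝔞.FG := IsNoetherian.noetherian 𝔞
  let pick : A → K := fun r => if h : r ∈ 𝔞 then ((h𝔞 r).mp h).choose else 0
  have hpick : ∀ r ∈ 𝔞, pick r ∈ N ∧ algebraMap A K r = α ^ l * pick r := by
    intro r hr
    simp only [pick, dif_pos hr]
    exact ((h𝔞 r).mp hr).choose_spec
  have hT𝔞 : ∀ t ∈ T, t ∈ 𝔞 := fun t ht => hT ▸ Submodule.subset_span ht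
  refine ⟨T.image pick, ?_, ?_⟩
  · intro s hs
    obtain ⟨t, ht, rfl⟩ := Finset.mem_image.mp hs
    exact (hpick t (hT𝔞 t ht)).1
  · intro x hxN
    obtain ⟨s, hs, r, hr⟩ := hl x (hN2 x hxN)
    have hr𝔞 : r ∈ 𝔞 := by
      refine (h𝔞 r).mpr ⟨x - α * s, N.sub_mem hxN (hN1 s hs), ?_⟩
      rw [mul_sub, hr]; ring
    have key : ∀ r ∈ Submodule.span A (T : Set A),
        ∃ z ∈ Submodule.span A ((T.image pick : Finset K) : Set K),
          algebraMap A K r = α ^ l * z := by
      intro r hr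
      induction hr using Submodule.span_induction with
      | mem t ht =>
        exact ⟨pick t, Submodule.subset_span (Finset.mem_coe.mpr
          (Finset.mem_image_of_mem pick ht)), (hpick t (hT𝔞 t ht)).2⟩
      | zero => exact ⟨0, Submodule.zero_mem _, by simp⟩
      | add r₁ r₂ _ _ ih₁ ih₂ =>
        obtain ⟨z₁, hz₁, e₁⟩ := ih₁
        obtain ⟨z₂, hz₂, e₂⟩ := ih₂
        exact ⟨z₁ + z₂, Submodule.add_mem _ hz₁ hz₂, by rw [map_add, e₁, e₂]; ring⟩
      | smul c r _ ih =>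
        obtain ⟨z, hz, e⟩ := ih
        exact ⟨c • z, Submodule.smul_mem _ c hz, by
          rw [smul_eq_mul, map_mul, e, Algebra.smul_def]; ring⟩
    obtain ⟨z, hz, hrz⟩ := key r (by
      have : r ∈ Ideal.span (T : Set A) := by rw [hT]; exact hr𝔞
      exact this)
    refine ⟨s, hs, z, hz, ?_⟩
    apply mul_left_cancel₀ (pow_ne_zero l hα0)
    rw [hr, hrz]
    ring

/-- **Krull–Akizuki**: every ring between a one-dimensional Noetherian domain and its fraction
field is Noetherian. -/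
theorem isNoetherianRing_subalgebra (hdim : ∀ p : Ideal A, p.IsPrime → p ≠ ⊥ → p.IsMaximal)
    (B : Subalgebra A K) : IsNoetherianRing B := by
  classical
  rw [isNoetherianRing_iff_ideal_fg]
  intro J
  by_cases hJ : J = ⊥
  · rw [hJ]; exact Submodule.fg_bot
  obtain ⟨b, hbJ, hb0⟩ := Submodule.exists_mem_ne_zero_of_ne_bot hJ
  obtain ⟨p, c, hc, hpc⟩ := IsFractionRing.div_surjective (A := A) (b : K)
  have hc0 : c ≠ 0 := nonZeroDivisors.ne_zero hc
  have hc0' : algebraMap A K c ≠ 0 := by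
    rw [Ne, map_eq_zero_iff _ (IsFractionRing.injective A K)]; exact hc0
  have hcb : algebraMap A K c * (b : K) = algebraMap A K p := by
    rw [← hpc]; field_simp
  have hb0' : (b : K) ≠ 0 := fun h => hb0 (Subtype.ext h)
  have hp0 : p ≠ 0 := by
    rintro rfl
    rw [map_zero] at hcb
    exact (mul_ne_zero hc0' hb0') hcb
  have hpJ : algebraMap A B p ∈ J := by
    have : algebraMap A B p = algebraMap A B c * b := by
      apply Subtype.ext
      show algebraMap A K p = algebraMap A K c * (b : K)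
      exact hcb.symm
    rw [this]
    exact J.mul_mem_left _ hbJ
  let N : Submodule A K := (J.restrictScalars A).map B.val.toLinearMap
  have hNmem : ∀ x : K, x ∈ N ↔ ∃ j : B, j ∈ J ∧ (j : K) = x := by
    intro x
    simp only [N, Submodule.mem_map, Submodule.restrictScalars_mem]
    rfl
  have hN1 : ∀ x ∈ B, algebraMap A K p * x ∈ N := by
    intro x hx
    exact (hNmem _).mpr ⟨algebraMap A B p * ⟨x, hx⟩, J.mul_mem_right _ hpJ, rfl⟩
  have hN2 : ∀ x ∈ N, x ∈ B := by
    intro x hx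
    obtain ⟨j, -, rfl⟩ := (hNmem x).mp hx
    exact j.2
  obtain ⟨S, hS1, hS2⟩ := exists_finset hdim B hp0 N hN1 hN2
  let G : Set B := {j | j ∈ J ∧ (j : K) ∈ S} ∪ {algebraMap A B p}
  have hGfin : G.Finite := by
    refine Set.Finite.union ?_ (Set.finite_singleton _)
    refine Set.Finite.subset (Set.Finite.preimage (f := (Subtype.val : B → K))
      Subtype.val_injective.injOn S.finite_toSet) ?_
    intro j hj
    exact hj.2
  have hGJ : G ⊆ J := by
    rintro j (hj | hj)
    · exact hj.1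
    · rw [Set.mem_singleton_iff] at hj; rw [hj]; exact hpJ
  refine Submodule.fg_def.mpr ⟨G, hGfin, le_antisymm (Ideal.span_le.mpr hGJ) ?_⟩
  intro j hj
  obtain ⟨y, hy, z, hz, hjz⟩ := hS2 (j : K) ((hNmem _).mpr ⟨j, hj, rfl⟩)
  have key : ∀ z ∈ Submodule.span A (S : Set K), ∃ z' : B, z' ∈ Ideal.span G ∧ (z' : K) = z := by
    intro z hz
    induction hz using Submodule.span_induction with
    | mem s hs =>
      obtain ⟨j', hj', rfl⟩ := (hNmem s).mp (hS1 s hs)
      exact ⟨j', Ideal.subset_span (Or.inl ⟨hj', hs⟩), rfl⟩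
    | zero => exact ⟨0, Submodule.zero_mem _, rfl⟩
    | add z₁ z₂ _ _ ih₁ ih₂ =>
      obtain ⟨w₁, hw₁, e₁⟩ := ih₁
      obtain ⟨w₂, hw₂, e₂⟩ := ih₂
      exact ⟨w₁ + w₂, Submodule.add_mem _ hw₁ hw₂, by rw [← e₁, ← e₂]; rfl⟩
    | smul c z _ ih =>
      obtain ⟨w, hw, e⟩ := ih
      refine ⟨algebraMap A B c * w, Ideal.mul_mem_left _ _ hw, ?_⟩
      rw [← e, Algebra.smul_def]; rfl
  obtain ⟨z', hz', hz'z⟩ := key z hz
  have : j = algebraMap A B p * ⟨y, hy⟩ + z' := by
    apply Subtype.ext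
    show (j : K) = algebraMap A K p * y + (z' : K)
    rw [hz'z]; exact hjz
  rw [this]
  exact Submodule.add_mem _ (Ideal.mul_mem_right _ _ (Ideal.subset_span (Or.inr rfl))) hz'

/-- For `a ≠ 0` and a surjection `ψ : B → L` killing `a`, `L` is a finite `A`-module. -/
theorem finite_comp_of_surjective (hdim : ∀ p : Ideal A, p.IsPrime → p ≠ ⊥ → p.IsMaximal)
    (B : Subalgebra A K) {a : A} (ha : a ≠ 0) {L : Type*} [CommRing L] (ψ : B →+* L)
    (hψ : Function.Surjective ψ) (hψa : ψ (algebraMap A B a) = 0) :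
    (ψ.comp (algebraMap A B)).Finite := by
  classical
  obtain ⟨S, hS1, hS2⟩ := exists_finset hdim B ha (Subalgebra.toSubmodule B)
    (fun x hx => B.mul_mem (B.algebraMap_mem a) hx) (fun x hx => hx)
  letI : Algebra A L := (ψ.comp (algebraMap A B)).toAlgebra
  let ψl : B →ₗ[A] L :=
    { toFun := ψ
      map_add' := map_add ψ
      map_smul' := fun c b => by
        show ψ (c • b) = (ψ.comp (algebraMap A B)) c * ψ b
        rw [Algebra.smul_def, map_mul]; rfl }
  let pick : K → L := fun k => if h : k ∈ B then ψ ⟨k, h⟩ else 0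
  show Module.Finite A L
  refine ⟨⟨S.image pick, ?_⟩⟩
  rw [eq_top_iff]
  intro ℓ _
  obtain ⟨b, rfl⟩ := hψ ℓ
  obtain ⟨y, hy, z, hz, hbz⟩ := hS2 (b : K) b.2
  have key : ∀ z ∈ Submodule.span A (S : Set K), ∃ hzB : z ∈ B,
      ψ ⟨z, hzB⟩ ∈ Submodule.span A ((S.image pick : Finset L) : Set L) := by
    intro z hz
    induction hz using Submodule.span_induction with
    | mem s hs =>
      refine ⟨hS1 s hs, Submodule.subset_span ?_⟩
      rw [Finset.mem_coe, Finset.mem_image]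
      have hsB : s ∈ B := hS1 s hs
      exact ⟨s, hs, dif_pos hsB⟩
    | zero =>
      refine ⟨B.zero_mem, ?_⟩
      have : (⟨0, B.zero_mem⟩ : B) = 0 := rfl
      rw [this, map_zero]; exact Submodule.zero_mem _
    | add z₁ z₂ _ _ ih₁ ih₂ =>
      obtain ⟨h₁, e₁⟩ := ih₁
      obtain ⟨h₂, e₂⟩ := ih₂
      refine ⟨B.add_mem h₁ h₂, ?_⟩
      have : (⟨z₁ + z₂, B.add_mem h₁ h₂⟩ : B) = ⟨z₁, h₁⟩ + ⟨z₂, h₂⟩ := rfl
      rw [this, map_add]; exact Submodule.add_mem _ e₁ e₂
    | smul c z _ ih =>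
      obtain ⟨h, e⟩ := ih
      refine ⟨B.smul_mem h c, ?_⟩
      have : (⟨c • z, B.smul_mem h c⟩ : B) = c • (⟨z, h⟩ : B) := rfl
      rw [this]
      have : ψ (c • (⟨z, h⟩ : B)) = c • ψ ⟨z, h⟩ := ψl.map_smul c _
      rw [this]; exact Submodule.smul_mem _ c e
  obtain ⟨hzB, hzψ⟩ := key z hz
  have : b = algebraMap A B a * ⟨y, hy⟩ + ⟨z, hzB⟩ := by
    apply Subtype.ext
    show (b : K) = algebraMap A K a * y + z
    exact hbz
  rw [this, map_add, map_mul, hψa, zero_mul, zero_add]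
  exact hzψ

end Groth.Agent.Lib.helper13.KrAk
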