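import Mathlib
import Groth.Agent.Lib.Helper13.KrAk1

/-!
# Krull–Akizuki for the integral closure in a ring isomorphic to the fraction field
-/

set_option autoImplicit false

namespace Groth.Agent.Lib.helper13.KrAk

variable {A K₀ K' : Type*} [CommRing A] [IsDomain A] [IsNoetherianRing A] [Field K₀]
  [Algebra A K₀] [IsFractionRing A K₀] [CommRing K'] [Algebra A K']

theorem isNoetherianRing_integralClosure
    (hdim : ∀ p : Ideal A, p.IsPrime → p ≠ ⊥ → p.IsMaximal) (e : K₀ ≃+* K')
    (he : ∀ a, e (algebraMap A K₀ a) = algebraMap A K' a) :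
    IsNoetherianRing (integralClosure A K') := by
  letI : Field K' := (e.symm.toMulEquiv.isField (Field.toIsField K₀)).toField
  haveI : IsFractionRing A K' :=
    IsLocalization.isLocalization_of_algEquiv (nonZeroDivisors A) (AlgEquiv.ofRingEquiv he)
  exact isNoetherianRing_subalgebra hdim (integralClosure A K')

omit [IsNoetherianRing A] in
theorem injective_algebraMap_integralClosure (e : K₀ ≃+* K')
    (he : ∀ a, e (algebraMap A K₀ a) = algebraMap A K' a) :
    Function.Injective (algebraMap A (integralClosure A K')) := by
  intro a b hab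
  have h1 : algebraMap A K' a = algebraMap A K' b := congrArg Subtype.val hab
  rw [← he, ← he] at h1
  exact IsFractionRing.injective A K₀ (e.injective h1)

theorem finite_comp_of_surjective_integralClosure
    (hdim : ∀ p : Ideal A, p.IsPrime → p ≠ ⊥ → p.IsMaximal) (e : K₀ ≃+* K')
    (he : ∀ a, e (algebraMap A K₀ a) = algebraMap A K' a) {a : A} (ha : a ≠ 0)
    {L : Type*} [CommRing L] (ψ : integralClosure A K' →+* L)
    (hψ : Function.Surjective ψ) (hψa : ψ (algebraMap A (integralClosure A K') a) = 0) :
    (ψ.comp (algebraMap A (integralClosure A K'))).Finite := by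
  letI : Field K' := (e.symm.toMulEquiv.isField (Field.toIsField K₀)).toField
  haveI : IsFractionRing A K' :=
    IsLocalization.isLocalization_of_algEquiv (nonZeroDivisors A) (AlgEquiv.ofRingEquiv he)
  exact finite_comp_of_surjective hdim (integralClosure A K') ha ψ hψ hψa

end Groth.Agent.Lib.helper13.KrAk
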