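import Mathlib

/-!
# Finite-stage descent of "empty fibre" (algebraic part)

Used to show that a quasi-compact morphism is universally closed as soon as its base changes to
affine spaces are closed.
-/

set_option autoImplicit false

namespace Groth.Agent.Lib.helper13.UCA

universe u

section Algebra

variable {A B D : Type u} [CommRing A] [CommRing B] [CommRing D] (α : A →+* D) (β : B →+* D)

/-- If `D` is generated by the images of `A` and `B`, every element of `D` comes from any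
"approximation" `C` of `D` built from `A` and a ring `P → B` whose image contains a suitable finite
set. -/
lemma exists_finset_lift (hgen : Subring.closure (Set.range α ∪ Set.range β) = ⊤) (d : D) :
    ∃ F : Finset B, ∀ (P C : Type u) [CommRing P] [CommRing C] (ψ : P →+* B) (γ : P →+* C)
      (φ : C →+* D) (α' : A →+* C), φ.comp γ = β.comp ψ → φ.comp α' = α →
      (↑F ⊆ Set.range ψ) → d ∈ Set.range φ := by
  classical
  have hd : d ∈ Subring.closure (Set.range α ∪ Set.range β) := by rw [hgen]; trivial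
  induction hd using Subring.closure_induction with
  | mem x hx =>
    rcases hx with ⟨a, rfl⟩ | ⟨b, rfl⟩
    · exact ⟨∅, fun P C _ _ ψ γ φ α' h1 h2 _ => ⟨α' a, by rw [← h2]; rfl⟩⟩
    · refine ⟨{b}, fun P C _ _ ψ γ φ α' h1 h2 hF => ?_⟩
      obtain ⟨p, hp⟩ := hF (show b ∈ (↑({b} : Finset B) : Set B) by simp)
      exact ⟨γ p, by rw [← RingHom.comp_apply, h1, RingHom.comp_apply, hp]⟩
  | zero => exact ⟨∅, fun _ _ _ _ _ _ φ _ _ _ _ => ⟨0, map_zero φ⟩⟩
  | one => exact ⟨∅, fun _ _ _ _ _ _ φ _ _ _ _ => ⟨1, map_one φ⟩⟩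
  | add x y _ _ hx hy =>
    obtain ⟨Fx, hFx⟩ := hx
    obtain ⟨Fy, hFy⟩ := hy
    refine ⟨Fx ∪ Fy, fun P C _ _ ψ γ φ α' h1 h2 hF => ?_⟩
    obtain ⟨cx, hcx⟩ := hFx P C ψ γ φ α' h1 h2
      (subset_trans (by rw [Finset.coe_union]; exact Set.subset_union_left) hF)
    obtain ⟨cy, hcy⟩ := hFy P C ψ γ φ α' h1 h2
      (subset_trans (by rw [Finset.coe_union]; exact Set.subset_union_right) hF)
    exact ⟨cx + cy, by rw [map_add, hcx, hcy]⟩
  | neg x _ hx =>
    obtain ⟨Fx, hFx⟩ := hx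
    refine ⟨Fx, fun P C _ _ ψ γ φ α' h1 h2 hF => ?_⟩
    obtain ⟨cx, hcx⟩ := hFx P C ψ γ φ α' h1 h2 hF
    exact ⟨-cx, by rw [map_neg, hcx]⟩
  | mul x y _ _ hx hy =>
    obtain ⟨Fx, hFx⟩ := hx
    obtain ⟨Fy, hFy⟩ := hy
    refine ⟨Fx ∪ Fy, fun P C _ _ ψ γ φ α' h1 h2 hF => ?_⟩
    obtain ⟨cx, hcx⟩ := hFx P C ψ γ φ α' h1 h2
      (subset_trans (by rw [Finset.coe_union]; exact Set.subset_union_left) hF)
    obtain ⟨cy, hcy⟩ := hFy P C ψ γ φ α' h1 h2
      (subset_trans (by rw [Finset.coe_union]; exact Set.subset_union_right) hF)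
    exact ⟨cx * cy, by rw [map_mul, hcx, hcy]⟩

/-- Elements of the extension of an ideal `𝔮` of `B` to `D` come from the extension of the
contraction of `𝔮` at a finite stage. -/
lemma exists_finset_lift_map (hgen : Subring.closure (Set.range α ∪ Set.range β) = ⊤)
    (𝔮 : Ideal B) (m : D) (hm : m ∈ Ideal.map β 𝔮) :
    ∃ F : Finset B, ∀ (P C : Type u) [CommRing P] [CommRing C] (ψ : P →+* B) (γ : P →+* C)
      (φ : C →+* D) (α' : A →+* C), φ.comp γ = β.comp ψ → φ.comp α' = α →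
      (↑F ⊆ Set.range ψ) → ∃ m' ∈ Ideal.map γ (𝔮.comap ψ), φ m' = m := by
  classical
  unfold Ideal.map at hm
  induction hm using Submodule.span_induction with
  | mem x hx =>
    obtain ⟨q, hq, rfl⟩ := hx
    refine ⟨{q}, fun P C _ _ ψ γ φ α' h1 h2 hF => ?_⟩
    obtain ⟨p, hp⟩ := hF (show q ∈ (↑({q} : Finset B) : Set B) by simp)
    refine ⟨γ p, Ideal.mem_map_of_mem γ (by rw [Ideal.mem_comap, hp]; exact hq), ?_⟩
    rw [← RingHom.comp_apply, h1, RingHom.comp_apply, hp]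
  | zero => exact ⟨∅, fun _ _ _ _ _ _ φ _ _ _ _ => ⟨0, Ideal.zero_mem _, map_zero φ⟩⟩
  | add x y _ _ hx hy =>
    obtain ⟨Fx, hFx⟩ := hx
    obtain ⟨Fy, hFy⟩ := hy
    refine ⟨Fx ∪ Fy, fun P C _ _ ψ γ φ α' h1 h2 hF => ?_⟩
    obtain ⟨cx, hcx, hcx'⟩ := hFx P C ψ γ φ α' h1 h2
      (subset_trans (by rw [Finset.coe_union]; exact Set.subset_union_left) hF)
    obtain ⟨cy, hcy, hcy'⟩ := hFy P C ψ γ φ α' h1 h2
      (subset_trans (by rw [Finset.coe_union]; exact Set.subset_union_right) hF)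
    exact ⟨cx + cy, Ideal.add_mem _ hcx hcy, by rw [map_add, hcx', hcy']⟩
  | smul d x _ hx =>
    obtain ⟨Fx, hFx⟩ := hx
    obtain ⟨Fd, hFd⟩ := exists_finset_lift α β hgen d
    refine ⟨Fd ∪ Fx, fun P C _ _ ψ γ φ α' h1 h2 hF => ?_⟩
    obtain ⟨cd, hcd⟩ := hFd P C ψ γ φ α' h1 h2
      (subset_trans (by rw [Finset.coe_union]; exact Set.subset_union_left) hF)
    obtain ⟨cx, hcx, hcx'⟩ := hFx P C ψ γ φ α' h1 h2
      (subset_trans (by rw [Finset.coe_union]; exact Set.subset_union_right) hF)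
    exact ⟨cd * cx, Ideal.mul_mem_left _ _ hcx, by rw [map_mul, hcd, hcx', smul_eq_mul]⟩

/-- **Finite-stage descent of an empty fibre.** If no prime of `D` containing `I` lies over the
prime `𝔮` of `B`, then the same holds for every approximation `C` of `D` over a ring `P → B`
whose image contains a suitable finite subset of `B`. -/
theorem exists_finset_no_prime (hgen : Subring.closure (Set.range α ∪ Set.range β) = ⊤)
    (I : Ideal D) (𝔮 : Ideal B) [𝔮.IsPrime]
    (hI : ∀ 𝔓 : Ideal D, 𝔓.IsPrime → I ≤ 𝔓 → 𝔓.comap β ≠ 𝔮) :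
    ∃ F : Finset B, ∀ (P C : Type u) [CommRing P] [CommRing C] (ψ : P →+* B) (γ : P →+* C)
      (φ : C →+* D) (α' : A →+* C), φ.comp γ = β.comp ψ → φ.comp α' = α →
      (↑F ⊆ Set.range ψ) → ∀ 𝔓 : Ideal C, 𝔓.IsPrime → I.comap φ ≤ 𝔓 →
        𝔓.comap γ ≠ 𝔮.comap ψ := by
  classical
  -- Step 1
  obtain ⟨g, hg𝔮, hgJ⟩ : ∃ g, g ∉ 𝔮 ∧ β g ∈ I ⊔ Ideal.map β 𝔮 := by
    by_contra hcon
    push Not at hcon
    have hdisj : Disjoint ((I ⊔ Ideal.map β 𝔮 : Ideal D) : Set D)
        (Submonoid.map β 𝔮.primeCompl : Submonoid D) := by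
      rw [Set.disjoint_left]
      rintro _ hx ⟨g, hg, rfl⟩
      exact hcon g hg hx
    obtain ⟨𝔓, h𝔓, hle, hdisj'⟩ := Ideal.exists_le_prime_disjoint _ _ hdisj
    refine hI 𝔓 h𝔓 (le_trans le_sup_left hle) ?_
    apply le_antisymm
    · intro b hb
      by_contra hb𝔮
      exact Set.disjoint_left.mp hdisj' hb ⟨b, hb𝔮, rfl⟩
    · rw [← Ideal.map_le_iff_le_comap]
      exact le_trans le_sup_right hle
  obtain ⟨h, hhI, m, hm, hsum⟩ := Submodule.mem_sup.mp hgJ
  obtain ⟨Fh, hFh⟩ := exists_finset_lift α β hgen h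
  obtain ⟨Fm, hFm⟩ := exists_finset_lift_map α β hgen 𝔮 m hm
  refine ⟨{g} ∪ Fh ∪ Fm, fun P C _ _ ψ γ φ α' h1 h2 hF 𝔓 h𝔓 hle heq => ?_⟩
  have hF1 : (↑({g} : Finset B) : Set B) ⊆ Set.range ψ :=
    subset_trans (by
      rw [Finset.coe_union, Finset.coe_union]
      exact Set.subset_union_of_subset_left Set.subset_union_left _) hF
  have hF2 : (↑Fh : Set B) ⊆ Set.range ψ :=
    subset_trans (by
      rw [Finset.coe_union, Finset.coe_union]
      exact Set.subset_union_of_subset_left Set.subset_union_right _) hF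
  have hF3 : (↑Fm : Set B) ⊆ Set.range ψ :=
    subset_trans (by
      rw [Finset.coe_union]
      exact Set.subset_union_right) hF
  obtain ⟨g', hg'⟩ := hF1 (show g ∈ (↑({g} : Finset B) : Set B) by simp)
  obtain ⟨h', hh'⟩ := hFh P C ψ γ φ α' h1 h2 hF2
  obtain ⟨m', hm', hm''⟩ := hFm P C ψ γ φ α' h1 h2 hF3
  have hh'𝔓 : h' ∈ 𝔓 := hle (by rw [Ideal.mem_comap, hh']; exact hhI)
  have hm'𝔓 : m' ∈ 𝔓 := by
    rw [← heq] at hm'
    exact Ideal.map_comap_le hm'
  have hker : γ g' - h' - m' ∈ 𝔓 := by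
    apply hle
    rw [Ideal.mem_comap, map_sub, map_sub, hh', hm'', ← RingHom.comp_apply, h1,
      RingHom.comp_apply, hg', ← hsum]
    simp
  have hγg : γ g' ∈ 𝔓 := by
    have : γ g' = (γ g' - h' - m') + h' + m' := by ring
    rw [this]
    exact 𝔓.add_mem (𝔓.add_mem hker hh'𝔓) hm'𝔓
  have : g' ∈ 𝔮.comap ψ := by
    rw [← heq]
    exact hγg
  rw [Ideal.mem_comap, hg'] at this
  exact hg𝔮 this

open CategoryTheory in
/-- In a pushout square of commutative rings, the pushout is generated by the two images. -/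
theorem closure_eq_top_of_isPushout {R A B D : CommRingCat.{u}} {f : R ⟶ A} {g : R ⟶ B}
    {a : A ⟶ D} {b : B ⟶ D} (h : CategoryTheory.IsPushout f g a b) :
    Subring.closure (Set.range a.hom ∪ Set.range b.hom) = ⊤ := by
  set E : Subring D := Subring.closure (Set.range a.hom ∪ Set.range b.hom) with hE
  let a' : A ⟶ CommRingCat.of E := CommRingCat.ofHom (a.hom.codRestrict E
    (fun x => Subring.subset_closure (Or.inl ⟨x, rfl⟩)))
  let b' : B ⟶ CommRingCat.of E := CommRingCat.ofHom (b.hom.codRestrict E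
    (fun x => Subring.subset_closure (Or.inr ⟨x, rfl⟩)))
  let ι : CommRingCat.of E ⟶ D := CommRingCat.ofHom E.subtype
  have ha : a' ≫ ι = a := by ext x; rfl
  have hb : b' ≫ ι = b := by ext x; rfl
  have hι : CategoryTheory.Mono ι :=
    CategoryTheory.ConcreteCategory.mono_of_injective ι Subtype.val_injective
  have hw : f ≫ a' = g ≫ b' := by
    rw [← CategoryTheory.cancel_mono ι, CategoryTheory.Category.assoc,
      CategoryTheory.Category.assoc, ha, hb, h.w]
  have hd : h.desc a' b' hw ≫ ι = 𝟙 D := by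
    apply h.hom_ext
    · rw [← CategoryTheory.Category.assoc, h.inl_desc, ha, CategoryTheory.Category.comp_id]
    · rw [← CategoryTheory.Category.assoc, h.inr_desc, hb, CategoryTheory.Category.comp_id]
  rw [eq_top_iff]
  intro x _
  have : ι.hom ((h.desc a' b' hw).hom x) = x := by
    have := congrArg (fun k => k.hom x) hd
    exact this
  rw [← this]
  exact ((h.desc a' b' hw).hom x).2

end Algebra

end Groth.Agent.Lib.helper13.UCA
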