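import Mathlib
import Groth.Agent.Lib.Helper13.UCA1

/-!
# Prime ideals of points on affine opens
-/

set_option autoImplicit false

namespace Groth.Agent.Lib.helper13.UCA

universe u

open AlgebraicGeometry CategoryTheory Limits

variable {Y Y' : Scheme.{u}}

/-- The prime ideal of sections over `V` vanishing at `p ∈ V`. -/
noncomputable def primeAt (V : Y.Opens) (p : Y) (hp : p ∈ V) : Ideal Γ(Y, V) :=
  (IsLocalRing.maximalIdeal (Y.presheaf.stalk p)).comap (Y.presheaf.germ V p hp).hom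

instance (V : Y.Opens) (p : Y) (hp : p ∈ V) : (primeAt V p hp).IsPrime := by
  unfold primeAt; infer_instance

lemma mem_primeAt {V : Y.Opens} {p : Y} {hp : p ∈ V} (s : Γ(Y, V)) :
    s ∈ primeAt V p hp ↔ p ∉ Y.basicOpen s := by
  rw [primeAt, Ideal.mem_comap, IsLocalRing.mem_maximalIdeal, mem_nonunits_iff,
    Scheme.mem_basicOpen _ _ _ hp]

lemma comap_primeAt (h : Y ⟶ Y') (V' : Y'.Opens) (V : Y.Opens) (e : V ≤ h ⁻¹ᵁ V') (p : Y)
    (hp : p ∈ V) :
    (primeAt V p hp).comap (h.appLE V' V e).hom = primeAt V' (h p) (e hp) := by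
  ext s
  rw [Ideal.mem_comap, mem_primeAt, mem_primeAt, Scheme.basicOpen_appLE]
  constructor
  · intro h1 h2
    exact h1 ⟨hp, h2⟩
  · rintro h1 ⟨-, h2⟩
    exact h1 h2

/-- On an affine open, every prime ideal of sections is the prime of a point. -/
lemma exists_primeAt_eq {V : Y.Opens} (hV : IsAffineOpen V) (𝔓 : Ideal Γ(Y, V)) [𝔓.IsPrime] :
    ∃ (p : Y) (hp : p ∈ V), primeAt V p hp = 𝔓 := by
  have hmem : hV.fromSpec ⟨𝔓, inferInstance⟩ ∈ V := by
    have : hV.fromSpec ⟨𝔓, inferInstance⟩ ∈ Set.range hV.fromSpec := ⟨_, rfl⟩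
    rw [hV.range_fromSpec] at this
    exact this
  refine ⟨hV.fromSpec ⟨𝔓, inferInstance⟩, hmem, ?_⟩
  ext s
  rw [mem_primeAt]
  have h1 : hV.fromSpec ⟨𝔓, inferInstance⟩ ∈ Y.basicOpen s ↔
      (⟨𝔓, inferInstance⟩ : PrimeSpectrum Γ(Y, V)) ∈ hV.fromSpec ⁻¹ᵁ Y.basicOpen s := Iff.rfl
  rw [h1, hV.fromSpec_preimage_basicOpen]
  exact not_not

/-- A closed subset is cut out on an affine open by an ideal. -/
lemma exists_ideal_of_isClosed {V : Y.Opens} (hV : IsAffineOpen V) (Z : Set Y) (hZ : IsClosed Z) :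
    ∃ I : Ideal Γ(Y, V), ∀ (p : Y) (hp : p ∈ V), p ∈ Z ↔ I ≤ primeAt V p hp := by
  classical
  refine ⟨⨅ q : {q : Y // q ∈ V ∧ q ∈ Z}, primeAt V q.1 q.2.1, fun p hp => ⟨fun hpZ => ?_, fun hle => ?_⟩⟩
  · exact iInf_le (fun q : {q : Y // q ∈ V ∧ q ∈ Z} => primeAt V q.1 q.2.1) ⟨p, hp, hpZ⟩
  · by_contra hpZ
    obtain ⟨s, hs1, hs2⟩ := hV.exists_basicOpen_le (V := ⟨Zᶜ, hZ.isOpen_compl⟩) ⟨p, hpZ⟩ hp
    have : s ∈ primeAt V p hp := by
      apply hle
      rw [Ideal.mem_iInf]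
      rintro ⟨q, hqV, hqZ⟩
      rw [mem_primeAt]
      intro hq
      exact hs1 hq hqZ
    rw [mem_primeAt] at this
    exact this hs2

/-- Points of an affine scheme are determined by their primes of global sections. -/
lemma eq_of_primeAt_eq [IsAffine Y] (p q : Y)
    (h : primeAt (⊤ : Y.Opens) p trivial = primeAt (⊤ : Y.Opens) q trivial) : p = q := by
  have hins : Inseparable p q := by
    rw [(isBasis_basicOpen Y).inseparable_iff]
    rintro _ ⟨_, ⟨s, rfl⟩, rfl⟩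
    have h1 := mem_primeAt (V := ⊤) (p := p) (hp := trivial) s
    have h2 := mem_primeAt (V := ⊤) (p := q) (hp := trivial) s
    rw [h] at h1
    exact not_iff_not.mp (h1.symm.trans h2)
  exact hins.eq

end Groth.Agent.Lib.helper13.UCA
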