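import Mathlib
import Groth.Agent.Lib.Helper13.Normal5
import Groth.Agent.Lib.Helper13.UCA2

/-!
# Normal schemes: incomparability for integral morphisms, sections of integral morphisms
-/

set_option autoImplicit false

namespace Groth.Agent.Lib.helper13.Normal

universe u

open AlgebraicGeometry CategoryTheory Limits Groth.Agent.Lib.helper13.UCA

noncomputable section

/-- Specialization gives inclusion of the primes. -/
lemma primeAt_le_of_specializes {Y : Scheme.{u}} {U : Y.Opens} (y z : Y)
    (hy : y ∈ U) (hz : z ∈ U) (h : y ⤳ z) : primeAt U y hy ≤ primeAt U z hz := by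
  intro s hs
  rw [mem_primeAt] at hs ⊢
  intro hzs
  exact hs (h.mem_open (Y.basicOpen s).isOpen hzs)

/-- On an affine open, inclusion of the primes of two points means specialization. -/
lemma specializes_of_primeAt_le {Y : Scheme.{u}} {U : Y.Opens} (hU : IsAffineOpen U) (y z : Y)
    (hy : y ∈ U) (hz : z ∈ U) (h : primeAt U y hy ≤ primeAt U z hz) : y ⤳ z := by
  rw [specializes_iff_forall_open]
  intro W hW hzW
  obtain ⟨s, hs1, hs2⟩ := hU.exists_basicOpen_le (V := ⟨W, hW⟩) ⟨z, hzW⟩ hz
  apply hs1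
  by_contra hys
  have : s ∈ primeAt U y hy := (mem_primeAt s).mpr hys
  exact ((mem_primeAt s).mp (h this)) hs2

lemma primeAt_congr {Y : Scheme.{u}} {U : Y.Opens} {y z : Y} (h : y = z) (hy : y ∈ U)
    (hz : z ∈ U) : primeAt U y hy = primeAt U z hz := by
  subst h; rfl

/-- **Incomparability** for integral morphisms: two points of the same fibre, one specializing
to the other, coincide. -/
theorem eq_of_specializes_of_isIntegralHom {X' X : Scheme.{u}} (f : X' ⟶ X) [IsIntegralHom f]
    {x y : X'} (h : x ⤳ y) (hf : f x = f y) : x = y := by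
  obtain ⟨V, hV, hyV, -⟩ :=
    exists_isAffineOpen_mem_and_subset (X := X) (x := f y) (U := ⊤) trivial
  have hW : IsAffineOpen (f ⁻¹ᵁ V) := hV.preimage f
  have hy : y ∈ f ⁻¹ᵁ V := hyV
  have hx : x ∈ f ⁻¹ᵁ V := h.mem_open (f ⁻¹ᵁ V).isOpen hy
  have hle := primeAt_le_of_specializes x y hx hy h
  have hc1 := comap_primeAt f V (f ⁻¹ᵁ V) le_rfl x hx
  have hc2 := comap_primeAt f V (f ⁻¹ᵁ V) le_rfl y hy
  have hc : (primeAt _ x hx).comap (f.appLE V (f ⁻¹ᵁ V) le_rfl).hom =
      (primeAt _ y hy).comap (f.appLE V (f ⁻¹ᵁ V) le_rfl).hom := by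
    rw [hc1, hc2]
    exact primeAt_congr hf _ _
  have hint : (f.appLE V (f ⁻¹ᵁ V) le_rfl).hom.IsIntegral := by
    rw [Scheme.Hom.appLE_eq_app]
    exact IsIntegralHom.isIntegral_app f V hV
  have heq : primeAt _ x hx = primeAt _ y hy := by
    by_contra hne
    have hlt := lt_of_le_of_ne hle hne
    letI := (f.appLE V (f ⁻¹ᵁ V) le_rfl).hom.toAlgebra
    haveI : Algebra.IsIntegral Γ(X, V) Γ(X', f ⁻¹ᵁ V) := ⟨hint⟩
    have := Ideal.IsIntegral.comap_lt_comap (R := Γ(X, V)) hlt
    exact absurd hc (ne_of_lt this)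
  have h' : y ⤳ x := specializes_of_primeAt_le hW y x hy hx heq.ge
  exact (h.antisymm h').eq

/-- Generic-point version of the extension of rational sections: a section over the generic point
of an integral morphism onto an integral normal scheme extends to a section. -/
theorem extendGen {X X' : Scheme.{u}} [IsIntegral X] (hX : Pi1.IsNormalScheme X)
    (g : X' ⟶ X) [IsIntegralHom g] (t : Spec X.functionField ⟶ X')
    (ht : t ≫ g = X.fromSpecStalk (genericPoint X)) :
    ∃ s' : X ⟶ X', s' ≫ g = 𝟙 X ∧ X.fromSpecStalk (genericPoint X) ≫ s' = t := by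
  let j := X.fromSpecStalk (genericPoint X)
  haveI : IsIso j.fromNormalization := isIso_fromNormalization_of_isNormalScheme hX
  have H : j = t ≫ g := ht.symm
  let d := j.normalizationDesc t g H
  have hd1 : d ≫ g = j.fromNormalization := Scheme.Hom.normalizationDesc_comp _ _ _ _
  have hd2 : j.toNormalization ≫ d = t := Scheme.Hom.toNormalization_normalizationDesc _ _ _ _
  refine ⟨inv j.fromNormalization ≫ d, ?_, ?_⟩
  · rw [Category.assoc, hd1, IsIso.inv_hom_id]
  · have h3 : j ≫ inv j.fromNormalization = j.toNormalization :=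
      (IsIso.comp_inv_eq _).mpr j.toNormalization_fromNormalization.symm
    show j ≫ inv j.fromNormalization ≫ d = t
    rw [← Category.assoc, h3, hd2]

/-- An integral ring map into a domain admitting a retraction is bijective. -/
lemma bijective_of_integral_of_retraction {A B : Type*} [CommRing A] [CommRing B] [IsDomain B]
    (φ : A →+* B) (hφ : φ.IsIntegral) (σ : B →+* A) (h : ∀ a, σ (φ a) = a) :
    Function.Bijective φ := by
  haveI : Nontrivial A := φ.domain_nontrivial
  letI := φ.toAlgebra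
  haveI : Algebra.IsIntegral A B := ⟨hφ⟩
  have hker : RingHom.ker σ = ⊥ := by
    apply Ideal.eq_bot_of_comap_eq_bot (R := A)
    ext a
    simp only [Ideal.mem_comap, RingHom.mem_ker, Ideal.mem_bot]
    show σ (φ a) = 0 ↔ a = 0
    rw [h]
  have hinj : Function.Injective σ := (RingHom.injective_iff_ker_eq_bot σ).mpr hker
  refine ⟨Function.LeftInverse.injective h, fun b => ⟨σ b, hinj ?_⟩⟩
  rw [h]

/-- An integral morphism from an integral scheme which has a section is an isomorphism. -/
theorem isIso_of_section {X X' : Scheme.{u}} [IsIntegral X'] (g : X' ⟶ X) [IsIntegralHom g]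
    (s' : X ⟶ X') (hs' : s' ≫ g = 𝟙 X) : IsIso g := by
  refine isIso_of_isAffineHom_of_forall_isIso_app g fun V => ?_
  have hle : V.1 ≤ s' ⁻¹ᵁ (g ⁻¹ᵁ V.1) := by
    rw [← Scheme.Hom.comp_preimage, hs']
    simp
  have hcomp : g.app V.1 ≫ s'.appLE (g ⁻¹ᵁ V.1) V.1 hle = 𝟙 _ := by
    rw [Scheme.Hom.app_eq_appLE, Scheme.Hom.appLE_comp_appLE]
    have : ∀ (t : X ⟶ X) (_ : t = 𝟙 X) (e : V.1 ≤ t ⁻¹ᵁ V.1), t.appLE V.1 V.1 e = 𝟙 _ := by
      rintro _ rfl e
      have h1 : homOfLE e = 𝟙 V.1 := Subsingleton.elim _ _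
      simp only [Scheme.Hom.appLE, h1]
      erw [Scheme.Hom.id_app, Category.id_comp]
      exact X.presheaf.map_id _
    exact this _ hs' _
  apply (ConcreteCategory.isIso_iff_bijective _).mpr
  by_cases hne : Nonempty (g ⁻¹ᵁ V.1 : X'.Opens)
  · refine bijective_of_integral_of_retraction (g.app V.1).hom
      (IsIntegralHom.isIntegral_app g V.1 V.2) (s'.appLE (g ⁻¹ᵁ V.1) V.1 hle).hom fun a => ?_
    have := congr($(hcomp).hom a)
    simpa using this
  · have hV : V.1 = ⊥ := by
      ext p
      simp only [TopologicalSpace.Opens.coe_bot, Set.mem_empty_iff_false, iff_false]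
      intro hp
      exact hne ⟨⟨s' p, hle hp⟩⟩
    haveI : Subsingleton Γ(X, V.1) := by rw [hV]; infer_instance
    haveI : Subsingleton Γ(X', g ⁻¹ᵁ V.1) := by
      have : g ⁻¹ᵁ V.1 = ⊥ := by rw [hV]; rfl
      rw [this]; infer_instance
    exact ⟨Function.injective_of_subsingleton _, fun c => ⟨0, Subsingleton.elim _ _⟩⟩

end

end Groth.Agent.Lib.helper13.Normal
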