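import Mathlib
import Groth.Agent.Lib.Helper13.KrAk2
import Groth.Agent.Lib.Helper13.Normal6

/-!
# Krull–Akizuki for the normalization of an integral scheme: affine-local statements
-/

set_option autoImplicit false

namespace Groth.Agent.Lib.helper13.KrAk

universe u

open AlgebraicGeometry CategoryTheory Limits Groth.Agent.Lib.helper13.UCA
  Groth.Agent.Lib.helper13.Normal

noncomputable section

/-- The sections of `Spec K(X)` over the preimage of a nonempty affine open are the function
field. -/
lemma exists_ringEquiv_functionField (X : Scheme.{u}) [IsIntegral X] (U : X.Opens)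
    [Nonempty U] :
    ∃ e : X.functionField ≃+* Γ(Spec X.functionField, X.fromSpecStalk (genericPoint X) ⁻¹ᵁ U),
      ∀ a, e (algebraMap Γ(X, U) X.functionField a) =
        ((X.fromSpecStalk (genericPoint X)).app U).hom a := by
  set g := X.fromSpecStalk (genericPoint X) with hg
  have hη : genericPoint X ∈ U :=
    ((genericPoint_spec X).mem_open_set_iff U.isOpen).mpr (by
      obtain ⟨x⟩ := ‹Nonempty U›
      exact ⟨x.1, trivial, x.2⟩)
  haveI : Unique ↥(Spec X.functionField) :=
    inferInstanceAs (Unique (PrimeSpectrum X.functionField))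
  have htop : g ⁻¹ᵁ U = ⊤ := by
    ext p
    simp only [TopologicalSpace.Opens.coe_top, Set.mem_univ, iff_true]
    have hp : p = IsLocalRing.closedPoint _ := Subsingleton.elim _ _
    show g p ∈ U
    rw [hp, hg, Scheme.fromSpecStalk_closedPoint]
    exact hη
  have hiso : IsIso ((Spec X.functionField).presheaf.map
      (homOfLE (le_top : g ⁻¹ᵁ U ≤ ⊤)).op) := by
    have : (homOfLE (le_top : g ⁻¹ᵁ U ≤ ⊤)) = eqToHom htop := Subsingleton.elim _ _
    rw [this, eqToHom_op, eqToHom_map]
    infer_instance
  let ψ : X.functionField ⟶ Γ(Spec X.functionField, g ⁻¹ᵁ U) :=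
    (Scheme.ΓSpecIso X.functionField).inv ≫
      (Spec X.functionField).presheaf.map (homOfLE (le_top : g ⁻¹ᵁ U ≤ ⊤)).op
  haveI : IsIso ψ := inferInstance
  refine ⟨(asIso ψ).commRingCatIsoToRingEquiv, ?_⟩
  intro a
  have happ : g.app U = X.presheaf.germ U (genericPoint X) hη ≫ ψ :=
    Scheme.fromSpecStalk_app hη
  show _ = (g.app U).hom a
  rw [happ]
  rfl

variable (X : Scheme.{u}) [IsIntegral X] [QuasiCompact (X.fromSpecStalk (genericPoint X))]
  [QuasiSeparated (X.fromSpecStalk (genericPoint X))]

/-- The ring of sections of the normalization over the preimage of an affine open `U`,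
as an algebra over `Γ(X, U)`: an explicit description. -/
lemma exists_ringEquiv_normalization (U : X.Opens) (hU : IsAffineOpen U) :
    letI := ((X.fromSpecStalk (genericPoint X)).app U).hom.toAlgebra
    ∃ ι : Γ((X.fromSpecStalk (genericPoint X)).normalization,
        (X.fromSpecStalk (genericPoint X)).fromNormalization ⁻¹ᵁ U) ≃+*
        integralClosure Γ(X, U) Γ(Spec X.functionField, X.fromSpecStalk (genericPoint X) ⁻¹ᵁ U),
      ∀ a, ι (((X.fromSpecStalk (genericPoint X)).fromNormalization.app U).hom a) =
        algebraMap Γ(X, U) _ a := by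
  letI := ((X.fromSpecStalk (genericPoint X)).app U).hom.toAlgebra
  set g := X.fromSpecStalk (genericPoint X) with hg
  refine ⟨(g.normalizationObjIso hU).commRingCatIsoToRingEquiv, fun a => ?_⟩
  rw [Scheme.Hom.fromNormalization_app g hU]
  show (g.normalizationObjIso hU).hom.hom ((g.normalizationObjIso hU).inv.hom _) = _
  rw [← CommRingCat.comp_apply, Iso.inv_hom_id]
  rfl

/-- Krull–Akizuki, affine-local form for the normalization (1): Noetherianity. -/
theorem isNoetherianRing_normalization_preimage (U : X.Opens) (hU : IsAffineOpen U) [Nonempty U]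
    [IsNoetherianRing Γ(X, U)]
    (hdim : ∀ p : Ideal Γ(X, U), p.IsPrime → p ≠ ⊥ → p.IsMaximal) :
    IsNoetherianRing Γ((X.fromSpecStalk (genericPoint X)).normalization,
      (X.fromSpecStalk (genericPoint X)).fromNormalization ⁻¹ᵁ U) := by
  letI := ((X.fromSpecStalk (genericPoint X)).app U).hom.toAlgebra
  haveI : IsDomain Γ(X, U) := inferInstance
  haveI := functionField_isFractionRing_of_isAffineOpen X U hU
  obtain ⟨e, he⟩ := exists_ringEquiv_functionField X U
  obtain ⟨ι, -⟩ := exists_ringEquiv_normalization X U hU
  haveI := isNoetherianRing_integralClosure hdim e he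
  exact isNoetherianRing_of_ringEquiv _ ι.symm

/-- (2): injectivity on sections. -/
theorem injective_fromNormalization_app (U : X.Opens) (hU : IsAffineOpen U) [Nonempty U] :
    Function.Injective ((X.fromSpecStalk (genericPoint X)).fromNormalization.app U).hom := by
  letI := ((X.fromSpecStalk (genericPoint X)).app U).hom.toAlgebra
  haveI : IsDomain Γ(X, U) := inferInstance
  haveI := functionField_isFractionRing_of_isAffineOpen X U hU
  obtain ⟨e, he⟩ := exists_ringEquiv_functionField X U
  obtain ⟨ι, hι⟩ := exists_ringEquiv_normalization X U hU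
  intro a b hab
  apply injective_algebraMap_integralClosure e he
  rw [← hι, ← hι, hab]

/-- (3): finiteness of quotients killing a nonzero element of `Γ(X, U)`. -/
theorem finite_comp_fromNormalization_app (U : X.Opens) (hU : IsAffineOpen U) [Nonempty U]
    [IsNoetherianRing Γ(X, U)]
    (hdim : ∀ p : Ideal Γ(X, U), p.IsPrime → p ≠ ⊥ → p.IsMaximal) {a : Γ(X, U)} (ha : a ≠ 0)
    {L : Type*} [CommRing L]
    (ψ : Γ((X.fromSpecStalk (genericPoint X)).normalization,
      (X.fromSpecStalk (genericPoint X)).fromNormalization ⁻¹ᵁ U) →+* L)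
    (hψ : Function.Surjective ψ)
    (hψa : ψ (((X.fromSpecStalk (genericPoint X)).fromNormalization.app U).hom a) = 0) :
    (ψ.comp ((X.fromSpecStalk (genericPoint X)).fromNormalization.app U).hom).Finite := by
  letI := ((X.fromSpecStalk (genericPoint X)).app U).hom.toAlgebra
  haveI : IsDomain Γ(X, U) := inferInstance
  haveI := functionField_isFractionRing_of_isAffineOpen X U hU
  obtain ⟨e, he⟩ := exists_ringEquiv_functionField X U
  obtain ⟨ι, hι⟩ := exists_ringEquiv_normalization X U hU
  have hfin := finite_comp_of_surjective_integralClosure hdim e he ha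
    (ψ.comp ι.symm.toRingHom) (hψ.comp ι.symm.surjective) (by
      show ψ (ι.symm _) = 0
      rw [← hι, ι.symm_apply_apply]; exact hψa)
  have heq : (ψ.comp ι.symm.toRingHom).comp (algebraMap Γ(X, U) _) =
      ψ.comp ((X.fromSpecStalk (genericPoint X)).fromNormalization.app U).hom := by
    ext a
    show ψ (ι.symm _) = ψ _
    rw [← hι, ι.symm_apply_apply]
  rw [heq] at hfin
  exact hfin

end

end Groth.Agent.Lib.helper13.KrAk
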