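import Mathlib
import Groth.Agent.Lib.Helper13.PIns2
import Groth.Agent.Lib.Helper13.Normal5
import Groth.Agent.S9688

/-!
# Normalization of integral schemes locally of finite type over a field

* `exists_away_isIntegrallyClosed_of_isN1`: an N-1 domain has a nonzero `f` with `A_f` integrally
  closed.
* `exists_finiteType_sections`: sections over an affine open of a scheme locally of finite type over
  `Spec k` are a `k`-algebra of finite type.
* `isN2_sections_of_locallyOfFiniteType_field`.
* `isFinite_normalizationι_of_locallyOfFiniteType_field`.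
* `isIso_fromNormalization_app_of_isIntegrallyClosed`.
* `exists_isIso_normalizationι_restrict`.
-/

set_option autoImplicit false
universe u v

namespace Groth.Agent.Lib.helper13.PIns

open AlgebraicGeometry CategoryTheory Limits

noncomputable section

theorem exists_away_isIntegrallyClosed_of_isN1 {A : Type u} [CommRing A] [IsDomain A]
    (h : Module.Finite A (integralClosure A (FractionRing A))) :
    ∃ f : A, f ≠ 0 ∧ ∀ (Af : Type v) [CommRing Af] [Algebra A Af] [IsLocalization.Away f Af],
      IsIntegrallyClosed Af := by
  classical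
  obtain ⟨s, hs⟩ := h.fg_top
  obtain ⟨b, hb⟩ := IsLocalization.exist_integer_multiples_of_finset (nonZeroDivisors A)
    (s.image (Subtype.val : integralClosure A (FractionRing A) → FractionRing A))
  have hb0 : (b : A) ≠ 0 := nonZeroDivisors.ne_zero b.2
  have key : ∀ x : integralClosure A (FractionRing A),
      IsLocalization.IsInteger A ((b : A) • (x : FractionRing A)) := by
    intro x
    have hx : x ∈ Submodule.span A (s : Set (integralClosure A (FractionRing A))) := by
      rw [hs]; trivial
    induction hx using Submodule.span_induction with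
    | mem x hx => exact hb _ (Finset.mem_image_of_mem _ hx)
    | zero =>
      show IsLocalization.IsInteger A ((b : A) • (0 : FractionRing A))
      rw [smul_zero]; exact ⟨0, map_zero _⟩
    | add x y _ _ hx hy =>
      show IsLocalization.IsInteger A ((b : A) • ((x : FractionRing A) + (y : FractionRing A)))
      rw [smul_add]; exact IsLocalization.isInteger_add hx hy
    | smul a x _ hx =>
      show IsLocalization.IsInteger A ((b : A) • (a • (x : FractionRing A)))
      rw [smul_comm]; exact IsLocalization.isInteger_smul hx
  refine ⟨b, hb0, ?_⟩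
  intro Af _ _ _
  have hle : Submonoid.powers (b : A) ≤ nonZeroDivisors A :=
    Submonoid.powers_le.mpr b.2
  haveI : IsDomain Af := IsLocalization.isDomain_of_le_nonZeroDivisors Af hle
  have hunit : ∀ y : Submonoid.powers (b : A), IsUnit (algebraMap A (FractionRing A) y) := by
    intro y
    apply IsUnit.mk0
    rw [Ne, map_eq_zero_iff _ (IsFractionRing.injective A (FractionRing A))]
    exact nonZeroDivisors.ne_zero (hle y.2)
  letI : Algebra Af (FractionRing A) := (IsLocalization.lift hunit).toAlgebra
  haveI : IsScalarTower A Af (FractionRing A) := IsScalarTower.of_algebraMap_eq (fun a => by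
    rw [RingHom.algebraMap_toAlgebra]
    exact (IsLocalization.lift_eq hunit a).symm)
  haveI : IsFractionRing Af (FractionRing A) :=
    IsFractionRing.isFractionRing_of_isDomain_of_isLocalization (Submonoid.powers (b : A)) Af
      (FractionRing A)
  rw [isIntegrallyClosed_iff (FractionRing A)]
  intro x hx
  obtain ⟨⟨m, n, rfl⟩, hm⟩ :=
    IsIntegral.exists_multiple_integral_of_isLocalization (Submonoid.powers (b : A)) x hx
  obtain ⟨a, ha⟩ := key ⟨_, hm⟩
  have hmem : (b : A) ^ (n + 1) ∈ Submonoid.powers (b : A) := ⟨n + 1, rfl⟩
  refine ⟨IsLocalization.mk' Af a (⟨(b : A) ^ (n + 1), hmem⟩ : Submonoid.powers (b : A)), ?_⟩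
  have h1 : algebraMap Af (FractionRing A)
      (IsLocalization.mk' Af a (⟨(b : A) ^ (n + 1), hmem⟩ : Submonoid.powers (b : A))) *
      algebraMap A (FractionRing A) ((b : A) ^ (n + 1)) = algebraMap A (FractionRing A) a := by
    rw [IsScalarTower.algebraMap_apply A Af (FractionRing A) ((b : A) ^ (n + 1)), ← map_mul,
      IsScalarTower.algebraMap_apply A Af (FractionRing A) a]
    congr 1
    exact IsLocalization.mk'_spec Af a (⟨(b : A) ^ (n + 1), hmem⟩ : Submonoid.powers (b : A))
  have h2 : x * algebraMap A (FractionRing A) ((b : A) ^ (n + 1)) =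
      algebraMap A (FractionRing A) a := by
    rw [ha]
    simp only [Submonoid.smul_def, Algebra.smul_def, map_pow]
    ring
  have h3 : algebraMap A (FractionRing A) ((b : A) ^ (n + 1)) ≠ 0 := by
    rw [Ne, map_eq_zero_iff _ (IsFractionRing.injective A (FractionRing A))]
    exact pow_ne_zero _ hb0
  exact mul_right_cancel₀ h3 (h1.trans h2.symm)

/-- Sections over an affine open of a scheme locally of finite type over `Spec k` form a
`k`-algebra of finite type. -/
theorem exists_finiteType_sections (k : Type u) [CommRing k] {X : Scheme.{u}}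
    (f : X ⟶ Spec (CommRingCat.of k)) [LocallyOfFiniteType f] (U : X.Opens)
    (hU : IsAffineOpen U) : ∃ ρ : k →+* Γ(X, U), ρ.FiniteType := by
  have h1 : (f.appLE ⊤ U le_top).hom.FiniteType :=
    HasRingHomProperty.appLE (P := @LocallyOfFiniteType) f inferInstance
      ⟨⊤, isAffineOpen_top _⟩ ⟨U, hU⟩ le_top
  refine ⟨(f.appLE ⊤ U le_top).hom.comp (Scheme.ΓSpecIso (CommRingCat.of k)).inv.hom, ?_⟩
  refine RingHom.FiniteType.comp h1 (RingHom.FiniteType.of_surjective _ ?_)
  exact (ConcreteCategory.bijective_of_isIso (Scheme.ΓSpecIso (CommRingCat.of k)).inv).2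

/-- Coordinate rings of nonempty affine opens of an integral scheme locally of finite type over a
field are N-2. -/
theorem isN2_sections_of_locallyOfFiniteType_field (k : Type u) [Field k] {X : Scheme.{u}}
    (f : X ⟶ Spec (CommRingCat.of k)) [LocallyOfFiniteType f] [IsIntegral X] (U : X.Opens)
    (hU : IsAffineOpen U) (hne : Nonempty U) :
    @CAlg.IsN2 Γ(X, U) _ (@IsIntegral.component_integral X _ U hne) := by
  obtain ⟨ρ, hρ⟩ := exists_finiteType_sections k f U hU
  letI : Algebra k Γ(X, U) := ρ.toAlgebra
  haveI : Algebra.FiniteType k Γ(X, U) := hρ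
  haveI : IsDomain Γ(X, U) := @IsIntegral.component_integral X _ U hne
  exact isN2_of_finiteType_field k Γ(X, U)

/-- The normalization of an integral scheme locally of finite type over a field is finite. -/
theorem isFinite_normalizationι_of_locallyOfFiniteType_field (k : Type u) [Field k]
    {X : Scheme.{u}} (f : X ⟶ Spec (CommRingCat.of k)) [LocallyOfFiniteType f] [IsIntegral X]
    [QuasiCompact (X.fromSpecStalk (genericPoint X))]
    [QuasiSeparated (X.fromSpecStalk (genericPoint X))] :
    IsFinite (Curv2.normalizationι X) :=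
  Groth.Agent.S9688.result X
    (fun U hU hne => isN2_sections_of_locallyOfFiniteType_field k f U hU hne)

open Groth.Agent.Lib.helper13.Normal in
/-- Over a nonempty affine open with integrally closed coordinate ring the normalization is an
isomorphism on sections. -/
theorem isIso_fromNormalization_app_of_isIntegrallyClosed {X : Scheme.{u}} [IsIntegral X]
    (U : X.Opens) (hU : IsAffineOpen U) (hne : Nonempty U)
    (hic : IsIntegrallyClosed Γ(X, U)) :
    IsIso ((X.fromSpecStalk (genericPoint X)).fromNormalization.app U) := by
  set g := X.fromSpecStalk (genericPoint X) with hg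
  rw [Scheme.Hom.fromNormalization_app g hU]
  letI := (g.app U).hom.toAlgebra
  suffices hbij : Function.Bijective
      (algebraMap Γ(X, U) (integralClosure Γ(X, U) Γ(Spec X.functionField, g ⁻¹ᵁ U))) by
    have : IsIso (CommRingCat.ofHom (algebraMap Γ(X, U)
        (integralClosure Γ(X, U) Γ(Spec X.functionField, g ⁻¹ᵁ U)))) :=
      (ConcreteCategory.isIso_iff_bijective _).mpr hbij
    infer_instance
  have hη : genericPoint X ∈ U :=
    ((genericPoint_spec X).mem_open_set_iff U.isOpen).mpr (by simpa using hne)
  haveI := functionField_isFractionRing_of_isAffineOpen X U hU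
  haveI : Unique ↥(Spec X.functionField) :=
    inferInstanceAs (Unique (PrimeSpectrum X.functionField))
  have htop : g ⁻¹ᵁ U = ⊤ := by
    ext p
    simp only [TopologicalSpace.Opens.coe_top, Set.mem_univ, iff_true]
    have hp : p = IsLocalRing.closedPoint _ := Subsingleton.elim _ _
    show g p ∈ U
    rw [hp, hg, Scheme.fromSpecStalk_closedPoint]
    exact hη
  have hiso : IsIso ((Spec X.functionField).presheaf.map
      (homOfLE (le_top : g ⁻¹ᵁ U ≤ ⊤)).op) := by
    have : (homOfLE (le_top : g ⁻¹ᵁ U ≤ ⊤)) = eqToHom htop := Subsingleton.elim _ _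
    rw [this, eqToHom_op, eqToHom_map]
    infer_instance
  let ψ : X.functionField ⟶ Γ(Spec X.functionField, g ⁻¹ᵁ U) :=
    (Scheme.ΓSpecIso X.functionField).inv ≫
      (Spec X.functionField).presheaf.map (homOfLE (le_top : g ⁻¹ᵁ U ≤ ⊤)).op
  haveI : IsIso ψ := inferInstance
  refine bijective_algebraMap_integralClosure (K := X.functionField)
    (asIso ψ).commRingCatIsoToRingEquiv ?_
  intro a
  have happ : g.app U = X.presheaf.germ U (genericPoint X) hη ≫ ψ :=
    Scheme.fromSpecStalk_app hη
  show _ = (g.app U).hom a
  rw [happ]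
  rfl

/-- The normalization of an integral scheme whose nonempty affine opens have N-1 coordinate rings is
an isomorphism over a nonempty open. -/
theorem exists_isIso_normalizationι_restrict {X : Scheme.{u}} [IsIntegral X]
    [QuasiCompact (X.fromSpecStalk (genericPoint X))]
    [QuasiSeparated (X.fromSpecStalk (genericPoint X))]
    (hN1 : ∀ (U : X.Opens), IsAffineOpen U → ∀ (hne : Nonempty ↥U),
      @CAlg.IsN1 ↑Γ(X, U) _ (@IsIntegral.component_integral X _ U hne)) :
    ∃ V : X.Opens, (V : Set X).Nonempty ∧ IsIso (Curv2.normalizationι X ∣_ V) := by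
  obtain ⟨U, hU, hηU, -⟩ :=
    exists_isAffineOpen_mem_and_subset (X := X) (x := genericPoint X) (U := ⊤) trivial
  have hne : Nonempty U := ⟨⟨genericPoint X, hηU⟩⟩
  haveI : IsDomain Γ(X, U) := @IsIntegral.component_integral X _ U hne
  obtain ⟨f, hf0, hf⟩ := exists_away_isIntegrallyClosed_of_isN1.{u, u} (hN1 U hU hne)
  have hV : IsAffineOpen (X.basicOpen f) := hU.basicOpen f
  haveI : IsLocalization.Away f Γ(X, X.basicOpen f) := hU.isLocalization_basicOpen f
  have hic : IsIntegrallyClosed Γ(X, X.basicOpen f) := hf _
  have hVne : (X.basicOpen f : Set X).Nonempty := by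
    by_contra hempty
    rw [Set.not_nonempty_iff_eq_empty] at hempty
    have : X.basicOpen f = ⊥ := TopologicalSpace.Opens.ext hempty
    rw [basicOpen_eq_bot_iff] at this
    exact hf0 this
  refine ⟨X.basicOpen f, hVne, ?_⟩
  show IsIso ((X.fromSpecStalk (genericPoint X)).fromNormalization ∣_ X.basicOpen f)
  rw [isIso_morphismRestrict_iff_isIso_app _ hV]
  exact isIso_fromNormalization_app_of_isIntegrallyClosed _ hV hVne.to_subtype hic

end

end Groth.Agent.Lib.helper13.PIns
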