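import Mathlib
import Groth.Agent.Lib.Helper13.Normal6

/-!
# Normal schemes: the generic fibre of the normalization in a field
-/

set_option autoImplicit false

namespace Groth.Agent.Lib.helper13.Normal

universe u

open AlgebraicGeometry CategoryTheory Limits

noncomputable section

variable {X : Scheme.{u}} [IsIntegral X] {R : CommRingCat.{u}}

/-- The point of `Spec R` (`R` a field) goes to the generic point of the normalization. -/
theorem toNormalization_eq_genericPoint (hR : IsField R) (g : Spec R ⟶ X) [QuasiCompact g]
    [QuasiSeparated g] [IsIntegral (Spec R)] (pt : ↥(Spec R)) :
    g.toNormalization pt = genericPoint g.normalization := by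
  letI := hR.toField
  haveI : Unique ↥(Spec R) := inferInstanceAs (Unique (PrimeSpectrum R))
  have hdense : DenseRange g.toNormalization := g.toNormalization.denseRange
  have hrange : Set.range g.toNormalization = {g.toNormalization pt} := by
    ext q
    constructor
    · rintro ⟨p, rfl⟩
      rw [Unique.eq_default p, ← Unique.eq_default pt]
      rfl
    · rintro rfl
      exact ⟨pt, rfl⟩
  have hgp : IsGenericPoint (g.toNormalization pt) (⊤ : Set g.normalization) := by
    rw [isGenericPoint_def, ← hrange]
    exact hdense.closure_range
  exact hgp.eq (genericPoint_spec g.normalization)

/-- The normalization morphism maps the generic point to the generic point. -/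
theorem fromNormalization_genericPoint (hR : IsField R) (g : Spec R ⟶ X) [QuasiCompact g]
    [QuasiSeparated g] [IsIntegral (Spec R)] (pt : ↥(Spec R)) (hpt : g pt = genericPoint X) :
    g.fromNormalization (genericPoint g.normalization) = genericPoint X := by
  rw [← toNormalization_eq_genericPoint hR g pt, ← Scheme.Hom.comp_apply,
    Scheme.Hom.toNormalization_fromNormalization, hpt]

/-- The generic point of the normalization is the only point over the generic point. -/
theorem fromNormalization_preimage_genericPoint (hR : IsField R) (g : Spec R ⟶ X)
    [QuasiCompact g] [QuasiSeparated g] [IsIntegral (Spec R)] (pt : ↥(Spec R))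
    (hpt : g pt = genericPoint X) :
    g.fromNormalization ⁻¹' {genericPoint X} = {genericPoint g.normalization} := by
  ext x'
  simp only [Set.mem_preimage, Set.mem_singleton_iff]
  constructor
  · intro hx'
    have hsp : genericPoint g.normalization ⤳ x' := (genericPoint_spec g.normalization).specializes trivial
    exact (eq_of_specializes_of_isIntegralHom g.fromNormalization hsp
      ((fromNormalization_genericPoint hR g pt hpt).trans hx'.symm)).symm
  · rintro rfl
    exact fromNormalization_genericPoint hR g pt hpt

end

end Groth.Agent.Lib.helper13.Normal
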