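import Mathlib
import Groth.Agent.Lib.Helper13.Normal3
import Groth.Agent.S2102

/-!
# Normal schemes: connectedness from domains of sections, integrally closed sections

* `eq_bot_of_one_eq_zero`: an open `U` with `1 = 0` in `Γ(W, U)` is empty.
* `connectedSpace_of_isDomain`: a scheme whose ring of global sections is a domain is connected.
* `finite_irreducibleComponents_of_isLocallyNoetherian`: compact opens of a locally Noetherian
  scheme have finitely many irreducible components.
* `isIntegral_of_isDomain_top`: a normal locally Noetherian scheme whose ring of global sections is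
  a domain is integral.
* `isIntegrallyClosed_sections_of_isDomain`: on a normal locally Noetherian scheme, if `Γ(X, W)` is
  a domain then it is integrally closed.
-/

set_option autoImplicit false

namespace Groth.Agent.Lib.helper13.Normal

universe u

open AlgebraicGeometry CategoryTheory Limits TopologicalSpace Opposite

theorem eq_bot_of_one_eq_zero {W : Scheme.{u}} (U : W.Opens) (h : (1 : Γ(W, U)) = 0) : U = ⊥ := by
  have h1 : W.basicOpen (1 : Γ(W, U)) = U := Scheme.basicOpen_of_isUnit _ isUnit_one
  rw [h, Scheme.basicOpen_zero] at h1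
  exact h1.symm

/-- A scheme whose ring of global sections is a domain is connected. -/
theorem connectedSpace_of_isDomain (W : Scheme.{u}) [IsDomain Γ(W, ⊤)] : ConnectedSpace W := by
  rw [connectedSpace_iff_clopen]
  have hne : Nonempty W := by
    by_contra h
    rw [not_nonempty_iff] at h
    exact not_subsingleton Γ(W, ⊤) inferInstance
  refine ⟨hne, fun S hS => ?_⟩
  obtain ⟨U₁, hU₁⟩ : ∃ U₁ : W.Opens, (U₁ : Set W) = S := ⟨⟨S, hS.isOpen⟩, rfl⟩
  obtain ⟨U₂, hU₂⟩ : ∃ U₂ : W.Opens, (U₂ : Set W) = Sᶜ := ⟨⟨Sᶜ, hS.compl.isOpen⟩, rfl⟩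
  have hinf : U₁ ⊓ U₂ = ⊥ := by
    ext x
    simp only [Opens.coe_inf, hU₁, hU₂, Set.inter_compl_self, Opens.coe_bot]
  have hsup : (⊤ : W.Opens) ≤ U₁ ⊔ U₂ := by
    intro x _
    by_cases hx : x ∈ S
    · exact Or.inl (hU₁ ▸ hx : x ∈ (U₁ : Set W))
    · exact Or.inr (hU₂ ▸ hx : x ∈ (U₂ : Set W))
  let U : Bool → W.Opens := fun b => match b with | true => U₁ | false => U₂
  let s : ∀ b, Γ(W, U b) := fun b => match b with
    | true => (1 : Γ(W, U₁))
    | false => (0 : Γ(W, U₂))
  have hcov : (⊤ : W.Opens) ≤ iSup U := by
    refine hsup.trans (sup_le ?_ ?_)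
    · exact le_iSup U true
    · exact le_iSup U false
  have compat : TopCat.Presheaf.IsCompatible W.presheaf U s := by
    intro i j
    cases i <;> cases j
    · rfl
    · haveI : Subsingleton Γ(W, U false ⊓ U true) := by
        have : U false ⊓ U true = ⊥ := by rw [inf_comm]; exact hinf
        rw [this]; infer_instance
      exact Subsingleton.elim _ _
    · haveI : Subsingleton Γ(W, U true ⊓ U false) := by
        have : U true ⊓ U false = ⊥ := hinf
        rw [this]; infer_instance
      exact Subsingleton.elim _ _
    · rfl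
  obtain ⟨e, he, -⟩ : ∃! e : Γ(W, ⊤), ∀ b : Bool,
      W.presheaf.map (homOfLE (le_top : U b ≤ ⊤)).op e = s b :=
    W.sheaf.existsUnique_gluing' U ⊤ (fun b => homOfLE le_top) hcov s compat
  have h1 : W.presheaf.map (homOfLE (le_top : U₁ ≤ ⊤)).op e = 1 := he true
  have h2 : W.presheaf.map (homOfLE (le_top : U₂ ≤ ⊤)).op e = 0 := he false
  have hee : e * (1 - e) = 0 := by
    apply W.sheaf.eq_of_locally_eq' U ⊤ (fun b => homOfLE le_top) hcov
    intro b
    cases b
    · change W.presheaf.map (homOfLE (le_top : U₂ ≤ ⊤)).op (e * (1 - e)) =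
        W.presheaf.map (homOfLE (le_top : U₂ ≤ ⊤)).op 0
      rw [map_mul, h2, zero_mul, map_zero]
    · change W.presheaf.map (homOfLE (le_top : U₁ ≤ ⊤)).op (e * (1 - e)) =
        W.presheaf.map (homOfLE (le_top : U₁ ≤ ⊤)).op 0
      rw [map_mul, map_sub, h1, map_one, sub_self, mul_zero, map_zero]
  rcases mul_eq_zero.mp hee with h | h
  · left
    have : (1 : Γ(W, U₁)) = 0 := by rw [← h1, h, map_zero]
    have := eq_bot_of_one_eq_zero U₁ this
    rw [← hU₁, this]; rfl
  · right
    have h' : e = 1 := (sub_eq_zero.mp h).symm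
    have : (1 : Γ(W, U₂)) = 0 := by rw [← h2, h', map_one]
    have := eq_bot_of_one_eq_zero U₂ this
    have h3 : Sᶜ = ∅ := by rw [← hU₂, this]; rfl
    exact Set.compl_empty_iff.mp h3

/-- Compact opens of a locally Noetherian scheme have finitely many irreducible components. -/
theorem finite_irreducibleComponents_of_isLocallyNoetherian (Y : Scheme.{u}) [IsLocallyNoetherian Y]
    (U : Y.Opens) (hU : IsCompact (U : Set Y)) : (irreducibleComponents ↥U).Finite := by
  haveI : CompactSpace U := isCompact_iff_compactSpace.mp hU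
  haveI : IsNoetherian U.toScheme := { }
  have h1 : NoetherianSpace U.toScheme := IsNoetherian.noetherianSpace (X := U.toScheme)
  exact @NoetherianSpace.finite_irreducibleComponents _ _ h1

/-- A normal locally Noetherian scheme whose ring of global sections is a domain is integral. -/
theorem isIntegral_of_isDomain_top (W : Scheme.{u}) [IsLocallyNoetherian W] [IsDomain Γ(W, ⊤)]
    (hW : Pi1.IsNormalScheme W) : IsIntegral W := by
  haveI := connectedSpace_of_isDomain W
  exact isIntegral_of_connected hW (finite_irreducibleComponents_of_isLocallyNoetherian W)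

/-- On a normal locally Noetherian scheme, if `Γ(X, W)` is a domain then `W` is integral. -/
theorem isIntegral_opens_of_isDomain {X : Scheme.{u}} [IsLocallyNoetherian X]
    (hX : Pi1.IsNormalScheme X) (W : X.Opens) [IsDomain Γ(X, W)] : IsIntegral W.toScheme := by
  haveI : IsDomain Γ(W.toScheme, ⊤) :=
    (W.topIso.commRingCatIsoToRingEquiv.toMulEquiv).isDomain _
  exact isIntegral_of_isDomain_top W.toScheme (opens hX W)

/-- On a normal locally Noetherian scheme, if `Γ(X, W)` is a domain then it is integrally
closed. -/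
theorem isIntegrallyClosed_sections_of_isDomain {X : Scheme.{u}} [IsLocallyNoetherian X]
    (hX : Pi1.IsNormalScheme X) (W : X.Opens) [IsDomain Γ(X, W)] :
    IsIntegrallyClosed Γ(X, W) := by
  haveI := isIntegral_opens_of_isDomain hX W
  have h1 := Groth.Agent.S2102.result W.toScheme (opens hX W)
  exact IsIntegrallyClosed.of_equiv W.topIso.commRingCatIsoToRingEquiv

end Groth.Agent.Lib.helper13.Normal
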