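import Mathlib
import Groth.Agent.Lib.Helper13.Normal10

/-!
# Normal schemes: idempotents, connected affine neighbourhoods, descent of normality along
morphisms with `O_Y ≅ f_* O_X`

* `connectedSpace_of_idempotents`: a scheme whose ring of global sections is nontrivial and has only
  the trivial idempotents is connected.
* `idempotent_eq_zero_or_one_of_isPreconnected`: on a preconnected open, idempotent sections are
  `0` or `1`.
* `exists_open_nbhd_forall_isPreconnected`: in a space with finitely many irreducible components,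
  every point has an open neighbourhood all of whose open sub-neighbourhoods are preconnected.
* `exists_isAffineOpen_isPreconnected_nbhd`: in a locally Noetherian scheme every point has a
  preconnected affine open neighbourhood.
* `isNormalDomain_stalk_of_isAffineOpen`: stalks at points of an affine open with normal coordinate
  ring are normal domains.
* `isNormalScheme_of_forall_isIso_app`: if `f : X ⟶ Y` is a morphism of locally Noetherian schemes
  with `Γ(Y, V) ≅ Γ(X, f⁻¹V)` for all `V` and `X` is normal, then `Y` is normal.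
-/

set_option autoImplicit false

namespace Groth.Agent.Lib.helper13.Normal

universe u

open AlgebraicGeometry CategoryTheory Limits TopologicalSpace Opposite

/-- A scheme whose ring of global sections is nontrivial with only trivial idempotents is
connected. -/
theorem connectedSpace_of_idempotents (W : Scheme.{u}) [Nontrivial Γ(W, ⊤)]
    (hid : ∀ e : Γ(W, ⊤), IsIdempotentElem e → e = 0 ∨ e = 1) : ConnectedSpace W := by
  rw [connectedSpace_iff_clopen]
  have hne : Nonempty W := by
    by_contra h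
    rw [not_nonempty_iff] at h
    exact not_subsingleton Γ(W, ⊤) inferInstance
  refine ⟨hne, fun S hS => ?_⟩
  obtain ⟨U₁, hU₁⟩ : ∃ U₁ : W.Opens, (U₁ : Set W) = S := ⟨⟨S, hS.isOpen⟩, rfl⟩
  obtain ⟨U₂, hU₂⟩ : ∃ U₂ : W.Opens, (U₂ : Set W) = Sᶜ := ⟨⟨Sᶜ, hS.compl.isOpen⟩, rfl⟩
  have hinf : U₁ ⊓ U₂ = ⊥ := by
    ext x
    simp only [Opens.coe_inf, hU₁, hU₂, Set.inter_compl_self, Opens.coe_bot]
  have hsup : (⊤ : W.Opens) ≤ U₁ ⊔ U₂ := by
    intro x _
    by_cases hx : x ∈ S
    · exact Or.inl (hU₁ ▸ hx : x ∈ (U₁ : Set W))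
    · exact Or.inr (hU₂ ▸ hx : x ∈ (U₂ : Set W))
  let U : Bool → W.Opens := fun b => match b with | true => U₁ | false => U₂
  let s : ∀ b, Γ(W, U b) := fun b => match b with
    | true => (1 : Γ(W, U₁))
    | false => (0 : Γ(W, U₂))
  have hcov : (⊤ : W.Opens) ≤ iSup U := by
    refine hsup.trans (sup_le ?_ ?_)
    · exact le_iSup U true
    · exact le_iSup U false
  have compat : TopCat.Presheaf.IsCompatible W.presheaf U s := by
    intro i j
    cases i <;> cases j
    · rfl
    · haveI : Subsingleton Γ(W, U false ⊓ U true) := by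
        have : U false ⊓ U true = ⊥ := by rw [inf_comm]; exact hinf
        rw [this]; infer_instance
      exact Subsingleton.elim _ _
    · haveI : Subsingleton Γ(W, U true ⊓ U false) := by
        have : U true ⊓ U false = ⊥ := hinf
        rw [this]; infer_instance
      exact Subsingleton.elim _ _
    · rfl
  obtain ⟨e, he, -⟩ : ∃! e : Γ(W, ⊤), ∀ b : Bool,
      W.presheaf.map (homOfLE (le_top : U b ≤ ⊤)).op e = s b :=
    W.sheaf.existsUnique_gluing' U ⊤ (fun b => homOfLE le_top) hcov s compat
  have h1 : W.presheaf.map (homOfLE (le_top : U₁ ≤ ⊤)).op e = 1 := he true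
  have h2 : W.presheaf.map (homOfLE (le_top : U₂ ≤ ⊤)).op e = 0 := he false
  have hee : e * e = e := by
    apply W.sheaf.eq_of_locally_eq' U ⊤ (fun b => homOfLE le_top) hcov
    intro b
    cases b
    · change W.presheaf.map (homOfLE (le_top : U₂ ≤ ⊤)).op (e * e) =
        W.presheaf.map (homOfLE (le_top : U₂ ≤ ⊤)).op e
      rw [map_mul, h2, zero_mul]
    · change W.presheaf.map (homOfLE (le_top : U₁ ≤ ⊤)).op (e * e) =
        W.presheaf.map (homOfLE (le_top : U₁ ≤ ⊤)).op e
      rw [map_mul, h1, one_mul]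
  rcases hid e hee with h | h
  · left
    have : (1 : Γ(W, U₁)) = 0 := by rw [← h1, h, map_zero]
    have := eq_bot_of_one_eq_zero U₁ this
    rw [← hU₁, this]; rfl
  · right
    have : (1 : Γ(W, U₂)) = 0 := by rw [← h2, h, map_one]
    have := eq_bot_of_one_eq_zero U₂ this
    have h3 : Sᶜ = ∅ := by rw [← hU₂, this]; rfl
    exact Set.compl_empty_iff.mp h3

/-- A section whose basic open is the whole open is a unit. -/
theorem isUnit_of_basicOpen_eq {T : Scheme.{u}} {U : T.Opens} (e : Γ(T, U))
    (h : T.basicOpen e = U) : IsUnit e := by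
  apply RingedSpace.isUnit_of_isUnit_germ T.toRingedSpace U e
  intro x hx
  have hx' : x ∈ T.basicOpen e := by rw [h]; exact hx
  exact (T.mem_basicOpen e x hx).mp hx'

/-- On a preconnected open, idempotent sections are `0` or `1`. -/
theorem idempotent_eq_zero_or_one_of_isPreconnected {T : Scheme.{u}} (U : T.Opens)
    (hU : _root_.IsPreconnected (U : Set T)) (e : Γ(T, U)) (he : IsIdempotentElem e) :
    e = 0 ∨ e = 1 := by
  have hdisj : T.basicOpen e ⊓ T.basicOpen (1 - e) = ⊥ := by
    rw [← Scheme.basicOpen_mul, mul_sub, mul_one, he.eq, sub_self, Scheme.basicOpen_zero]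
  have hcov : U ≤ T.basicOpen e ⊔ T.basicOpen (1 - e) := by
    have h1 := T.basicOpen_add_le e (1 - e)
    rwa [add_sub_cancel, Scheme.basicOpen_one] at h1
  have key : ∀ a : Γ(T, U), IsIdempotentElem a → T.basicOpen a = U → a = 1 := by
    intro a ha h
    obtain ⟨u, hu⟩ := isUnit_of_basicOpen_eq a h
    have h2 : a * a = a := ha.eq
    rw [← hu] at h2 ⊢
    have := congrArg (fun t => (↑(u⁻¹) : Γ(T, U)) * t) h2
    simpa using this
  have h3 := (isPreconnected_iff_subset_of_disjoint.mp hU) (T.basicOpen e : Set T)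
    (T.basicOpen (1 - e) : Set T) (T.basicOpen e).isOpen (T.basicOpen (1 - e)).isOpen
    (fun x hx => hcov hx) (by
      have : ((T.basicOpen e ⊓ T.basicOpen (1 - e) : T.Opens) : Set T) = ∅ := by
        rw [hdisj]; rfl
      rw [Opens.coe_inf] at this
      rw [this, Set.inter_empty])
  rcases h3 with h | h
  · right
    exact key e he (le_antisymm (T.basicOpen_le e) h)
  · left
    have := key (1 - e) he.one_sub (le_antisymm (T.basicOpen_le (1 - e)) h)
    exact (sub_eq_self.mp this)

/-- The intersection of a preirreducible set with an open set is preirreducible. -/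
theorem isPreirreducible_inter_open {T : Type*} [TopologicalSpace T] {Z D : Set T}
    (hZ : IsPreirreducible Z) (hD : IsOpen D) : IsPreirreducible (Z ∩ D) := by
  intro u v hu hv ⟨a, ⟨haZ, haD⟩, hau⟩ ⟨b, ⟨hbZ, hbD⟩, hbv⟩
  obtain ⟨c, hcZ, hc1, hc2⟩ := hZ (u ∩ D) (v ∩ D) (hu.inter hD) (hv.inter hD)
    ⟨a, haZ, hau, haD⟩ ⟨b, hbZ, hbv, hbD⟩
  exact ⟨c, ⟨hcZ, hc1.2⟩, hc1.1, hc2.1⟩

/-- In a space with finitely many irreducible components, every point has an open neighbourhood
all of whose open sub-neighbourhoods are preconnected. -/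
theorem exists_open_nbhd_forall_isPreconnected {T : Type*} [TopologicalSpace T]
    (hfin : (irreducibleComponents T).Finite) (y : T) :
    ∃ O : Set T, IsOpen O ∧ y ∈ O ∧ ∀ D : Set T, IsOpen D → y ∈ D → D ⊆ O → _root_.IsPreconnected D := by
  refine ⟨(⋃₀ {Z ∈ irreducibleComponents T | y ∉ Z})ᶜ, ?_, ?_, ?_⟩
  · rw [isOpen_compl_iff]
    rw [Set.sUnion_eq_biUnion]
    apply Set.Finite.isClosed_biUnion (hfin.subset (Set.sep_subset _ _))
    intro Z hZ
    exact isClosed_of_mem_irreducibleComponents Z hZ.1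
  · rintro ⟨Z, ⟨-, hyZ⟩, hy⟩
    exact hyZ hy
  · intro D hD hyD hDO
    apply isPreconnected_of_forall y
    intro d hd
    refine ⟨irreducibleComponent d ∩ D, Set.inter_subset_right, ⟨?_, hyD⟩,
      ⟨mem_irreducibleComponent, hd⟩,
      (isPreirreducible_inter_open isIrreducible_irreducibleComponent.2 hD).isPreconnected⟩
    by_contra hy
    exact hDO hd ⟨irreducibleComponent d,
      ⟨irreducibleComponent_mem_irreducibleComponents d, hy⟩, mem_irreducibleComponent⟩

/-- In a locally Noetherian scheme every point has a preconnected affine open neighbourhood. -/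
theorem exists_isAffineOpen_isPreconnected_nbhd (Y : Scheme.{u}) [IsLocallyNoetherian Y] (y : Y) :
    ∃ V : Y.Opens, IsAffineOpen V ∧ y ∈ V ∧ _root_.IsPreconnected (V : Set Y) := by
  obtain ⟨V, hV, hyV, -⟩ := exists_isAffineOpen_mem_and_subset (X := Y) (x := y) (U := ⊤) trivial
  haveI : IsNoetherianRing Γ(Y, V) := IsLocallyNoetherian.component_noetherian ⟨V, hV⟩
  haveI : NoetherianSpace V := noetherianSpace_of_isAffineOpen V hV
  obtain ⟨O, hO, hyO, hpre⟩ := exists_open_nbhd_forall_isPreconnected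
    (T := V) NoetherianSpace.finite_irreducibleComponents ⟨y, hyV⟩
  -- the image of `O` in `Y`
  have hO' : IsOpen (Subtype.val '' O : Set Y) := V.isOpen.isOpenMap_subtype_val O hO
  obtain ⟨D, hD, hyD, hDO⟩ := exists_isAffineOpen_mem_and_subset (X := Y) (x := y)
    (U := ⟨Subtype.val '' O, hO'⟩) ⟨⟨y, hyV⟩, hyO, rfl⟩
  refine ⟨D, hD, hyD, ?_⟩
  have h1 : _root_.IsPreconnected (Subtype.val ⁻¹' (D : Set Y) : Set V) := by
    apply hpre _ (D.isOpen.preimage continuous_subtype_val) hyD
    intro d hd
    obtain ⟨d', hd', hdd⟩ := hDO hd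
    have : d' = d := Subtype.ext hdd
    exact this ▸ hd'
  have h2 := h1.image Subtype.val continuous_subtype_val.continuousOn
  convert h2 using 1
  ext d
  constructor
  · intro hd
    obtain ⟨d', -, hdd⟩ := hDO hd
    exact ⟨d', by show d'.1 ∈ D; rw [hdd]; exact hd, hdd⟩
  · rintro ⟨d', hd', rfl⟩
    exact hd'

/-- Stalks at points of an affine open with normal coordinate ring are normal domains. -/
theorem isNormalDomain_stalk_of_isAffineOpen {X : Scheme.{u}} {U : X.Opens} (hU : IsAffineOpen U)
    (h : IsNormalDomain Γ(X, U)) (x : X) (hxU : x ∈ U) : IsNormalDomain (X.presheaf.stalk x) := by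
  letI : Algebra Γ(X, U) (X.presheaf.stalk x) :=
    TopCat.Presheaf.algebra_section_stalk X.presheaf (⟨x, hxU⟩ : U)
  haveI := hU.isLocalization_stalk ⟨x, hxU⟩
  exact h.localization_atPrime (hU.primeIdealOf ⟨x, hxU⟩).asIdeal _

/-- If `f : X ⟶ Y` is a morphism of locally Noetherian schemes inducing isomorphisms
`Γ(Y, V) ≅ Γ(X, f⁻¹V)` for all opens `V`, and `X` is normal, then `Y` is normal. -/
theorem isNormalScheme_of_forall_isIso_app {X Y : Scheme.{u}} [IsLocallyNoetherian X]
    [IsLocallyNoetherian Y] (f : X ⟶ Y) (hfib : ∀ V : Y.Opens, IsIso (f.app V))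
    (hX : Pi1.IsNormalScheme X) : Pi1.IsNormalScheme Y := by
  intro y
  obtain ⟨V, hV, hyV, hpre⟩ := exists_isAffineOpen_isPreconnected_nbhd Y y
  apply isNormalDomain_stalk_of_isAffineOpen hV _ y hyV
  haveI := hfib V
  have e2 : Γ(Y, V) ≃+* Γ(X, f ⁻¹ᵁ V) := (asIso (f.app V)).commRingCatIsoToRingEquiv
  have e1 : Γ((f ⁻¹ᵁ V).toScheme, ⊤) ≃+* Γ(X, f ⁻¹ᵁ V) :=
    (f ⁻¹ᵁ V).topIso.commRingCatIsoToRingEquiv
  have e : Γ((f ⁻¹ᵁ V).toScheme, ⊤) ≃+* Γ(Y, V) := e1.trans e2.symm
  have hnt : Nontrivial Γ(Y, V) := by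
    by_contra hs
    rw [not_nontrivial_iff_subsingleton] at hs
    have := eq_bot_of_one_eq_zero V (Subsingleton.elim _ _)
    rw [this] at hyV
    exact hyV
  haveI : Nontrivial Γ((f ⁻¹ᵁ V).toScheme, ⊤) := e.toEquiv.nontrivial
  have hid : ∀ a : Γ((f ⁻¹ᵁ V).toScheme, ⊤), IsIdempotentElem a → a = 0 ∨ a = 1 := by
    intro a ha
    have ha' : IsIdempotentElem (e a) := by
      show e a * e a = e a
      rw [← map_mul, ha.eq]
    rcases idempotent_eq_zero_or_one_of_isPreconnected V hpre (e a) ha' with h | h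
    · left
      exact e.injective (h.trans (map_zero e).symm)
    · right
      exact e.injective (h.trans (map_one e).symm)
  haveI := connectedSpace_of_idempotents (f ⁻¹ᵁ V).toScheme hid
  have hn := opens hX (f ⁻¹ᵁ V)
  haveI : IsIntegral (f ⁻¹ᵁ V).toScheme :=
    isIntegral_of_connected hn (finite_irreducibleComponents_of_isLocallyNoetherian _)
  have hic := Groth.Agent.S2102.result (f ⁻¹ᵁ V).toScheme hn
  exact IsNormalDomain.of_ringEquiv e ⟨inferInstance, hic⟩

end Groth.Agent.Lib.helper13.Normal
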