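import Mathlib
import Groth.Agent.S6340

/-!
# Finitely presented modules are Mittag-Leffler; tensoring with them commutes with products

(helper13) Builds on helper28's `piRightHom` lemmas and on `S6340`.
-/

set_option autoImplicit false
universe u

namespace Groth.Agent.Lib.helper13

open TensorProduct

/-- Mittag-Leffler transports along linear equivalences. -/
theorem ml_of_equiv {R : Type u} [CommRing R] {N N' : Type u} [AddCommGroup N] [Module R N]
    [AddCommGroup N'] [Module R N'] (e : N ≃ₗ[R] N') (h : CAlg.IsMittagLeffler R N) :
    CAlg.IsMittagLeffler R N' := by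
  intro ι Q _ _
  rw [injective_iff_map_eq_zero]
  intro x hx
  have h1 := Groth.Agent.Lib.helper28.piRightHom_rTensor (e.symm : N' →ₗ[R] N) Q x
  rw [hx] at h1
  have h2 : TensorProduct.piRightHom R R N Q ((e.symm : N' →ₗ[R] N).rTensor (∀ i, Q i) x) = 0 := by
    rw [h1]; funext i; simp
  have h3 := h ι Q (h2.trans (map_zero _).symm)
  have hinj : Function.Injective ((e.symm : N' →ₗ[R] N).rTensor (∀ i, Q i)) :=
    (LinearEquiv.rTensor (∀ i, Q i) e.symm).injective
  exact hinj (h3.trans (map_zero _).symm)

/-- `R` is a Mittag-Leffler `R`-module. -/
theorem ml_self (R : Type u) [CommRing R] : CAlg.IsMittagLeffler R R := by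
  intro ι Q _ _
  rw [injective_iff_map_eq_zero]
  intro x hx
  have key : ∀ y : R ⊗[R] (∀ i, Q i),
      (fun i => TensorProduct.lid R (Q i) (TensorProduct.piRightHom R R R Q y i)) =
        TensorProduct.lid R (∀ i, Q i) y := by
    intro y
    induction y using TensorProduct.induction_on with
    | zero => funext i; simp
    | tmul r q => funext i; simp
    | add a b ha hb =>
      rw [map_add, map_add, ← ha, ← hb]
      funext i
      simp
  have h1 := key x
  rw [hx] at h1
  apply (TensorProduct.lid R (∀ i, Q i)).injective
  rw [← h1, map_zero]
  funext i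
  simp

/-- A finite free module `Fin n → R` is Mittag-Leffler. -/
theorem ml_fin_free (R : Type u) [CommRing R] (n : ℕ) : CAlg.IsMittagLeffler R (Fin n → R) := by
  intro ι Q _ _
  rw [injective_iff_map_eq_zero]
  intro x hx
  have h1 : ∀ j : Fin n, (LinearMap.proj (R := R) (φ := fun _ : Fin n => R) j).rTensor (∀ i, Q i) x = 0 := by
    intro j
    apply ml_self R ι Q
    rw [Groth.Agent.Lib.helper28.piRightHom_rTensor, hx, map_zero]
    funext i
    simp
  have key : ∀ y : (Fin n → R) ⊗[R] (∀ i, Q i), ∀ j,
      TensorProduct.piLeft R (∀ i, Q i) (fun _ : Fin n => R) y j =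
        (LinearMap.proj (R := R) (φ := fun _ : Fin n => R) j).rTensor (∀ i, Q i) y := by
    intro y j
    induction y using TensorProduct.induction_on with
    | zero => simp
    | tmul f q => simp
    | add a b ha hb => rw [map_add, map_add, Pi.add_apply, ha, hb]
  apply (TensorProduct.piLeft R (∀ i, Q i) (fun _ : Fin n => R)).injective
  rw [map_zero]
  funext j
  rw [key, h1]
  rfl

/-- A finitely presented module is Mittag-Leffler. -/
theorem ml_of_finitePresentation (R : Type u) [CommRing R] (N : Type u) [AddCommGroup N]
    [Module R N] [Module.FinitePresentation R N] : CAlg.IsMittagLeffler R N := by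
  obtain ⟨n, K, e, hK⟩ := Module.FinitePresentation.exists_fin R N
  have h1 := Groth.Agent.S6340.result R K hK (ml_fin_free R n)
  exact ml_of_equiv e.symm h1

/-- For a finitely presented module `N`, the map `N ⊗ ∏ Qᵢ → ∏ (N ⊗ Qᵢ)` is bijective. -/
theorem piRightHom_bijective_of_finitePresentation (R : Type u) [CommRing R] (N : Type u)
    [AddCommGroup N] [Module R N] [Module.FinitePresentation R N] {ι : Type u} (Q : ι → Type u)
    [∀ i, AddCommGroup (Q i)] [∀ i, Module R (Q i)] :
    Function.Bijective (TensorProduct.piRightHom R R N Q) :=
  ⟨ml_of_finitePresentation R N ι Q,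
    Groth.Agent.Lib.helper28.piRightHom_surjective_of_fg
      (Module.Finite.fg_top (R := R) (M := N)) Q⟩

/-- The `S`-linear and `R`-linear versions of `piRightHom` agree as functions. -/
theorem piRightHom_eq (R S : Type u) [CommRing R] [CommRing S] [Algebra R S] {ι : Type u}
    (Q : ι → Type u) [∀ i, AddCommGroup (Q i)] [∀ i, Module R (Q i)]
    (x : S ⊗[R] (∀ i, Q i)) :
    TensorProduct.piRightHom R S S Q x = TensorProduct.piRightHom R R S Q x := by
  induction x using TensorProduct.induction_on with
  | zero => simp
  | tmul s q => rfl
  | add a b ha hb => rw [map_add, map_add, ha, hb]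

/-- Restriction of scalars along `R → S` with `S` a finitely presented `R`-module preserves
Mittag-Leffler modules. -/
theorem ml_restrictScalars_of_finitePresentation (R S : Type u) [CommRing R] [CommRing S]
    [Algebra R S] [Module.FinitePresentation R S]
    (M : Type u) [AddCommGroup M] [Module S M] [Module R M] [IsScalarTower R S M]
    (hM : CAlg.IsMittagLeffler S M) : CAlg.IsMittagLeffler R M := by
  intro ι Q _ _
  let piS : TensorProduct R S (∀ i, Q i) →ₗ[S] ∀ i, TensorProduct R S (Q i) :=
    TensorProduct.piRightHom R S S Q
  have hpiS : Function.Bijective piS := by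
    have hb := piRightHom_bijective_of_finitePresentation R S Q
    have he : (piS : TensorProduct R S (∀ i, Q i) → ∀ i, TensorProduct R S (Q i)) =
        TensorProduct.piRightHom R R S Q := funext fun x => piRightHom_eq R S Q x
    rw [he]; exact hb
  have hlT : Function.Injective (piS.lTensor M) :=
    (LinearEquiv.lTensor M (LinearEquiv.ofBijective piS hpiS)).injective
  have hM' := hM ι (fun i => TensorProduct R S (Q i))
  let c := TensorProduct.AlgebraTensorModule.cancelBaseChange R S S M (∀ i, Q i)
  let ci := fun i => TensorProduct.AlgebraTensorModule.cancelBaseChange R S S M (Q i)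
  have hcomm : ∀ x' : TensorProduct S M (TensorProduct R S (∀ i, Q i)),
      TensorProduct.piRightHom R R M Q (c x') =
        fun i => ci i (TensorProduct.piRightHom S S M (fun i => TensorProduct R S (Q i))
          (piS.lTensor M x') i) := by
    intro x'
    induction x' using TensorProduct.induction_on with
    | zero =>
      funext i
      simp
    | tmul m z =>
      induction z using TensorProduct.induction_on with
      | zero =>
        funext i
        simp
      | tmul s q =>
        funext i
        simp [c, ci, piS]
      | add a b ha hb =>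
        rw [TensorProduct.tmul_add, map_add, map_add, ha, hb, map_add, map_add]
        funext i
        simp
    | add a b ha hb =>
      rw [map_add, map_add, ha, hb, map_add, map_add]
      funext i
      simp
  rw [injective_iff_map_eq_zero]
  intro x hx
  obtain ⟨x', rfl⟩ := c.surjective x
  rw [hcomm] at hx
  have h1 : TensorProduct.piRightHom S S M (fun i => TensorProduct R S (Q i))
      (piS.lTensor M x') = 0 := by
    funext i
    apply (ci i).injective
    rw [Pi.zero_apply, map_zero]
    exact congrFun hx i
  have h2 : piS.lTensor M x' = 0 := by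
    apply hM'
    rw [h1, map_zero]
  have h3 : x' = 0 := by
    apply hlT
    rw [h2, map_zero]
  rw [h3, map_zero]

end Groth.Agent.Lib.helper13
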