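import Mathlib
import Groth.Agent.Lib.Helper20.DetKaehler2
import Groth.Agent.Lib.Helper7.RegImmKinds

/-!
# Good charts for a closed immersion of smooth schemes, ring level (helper13)

Block B6b of helper20's plan for S11924.

* `rankAtStalk_kaehler_of_locally`: `Ω[A⁄R]` has rank `n` everywhere when `R → A` is locally standard
  smooth of relative dimension `n`.
* `length_add_eq`, `length_add_eq'`: a Koszul-regular sequence cutting a smooth quotient of relative
  dimension `r` out of a smooth algebra of relative dimension `N` has length `N - r`.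
* `exists_away_isRegular`: a sequence in a Noetherian ring which is weakly regular in the local ring at
  a prime `q ⊇ (rs)` is regular in `A[1/g]` for some `g ∉ q`.
-/

set_option autoImplicit false
universe u
open TensorProduct RingTheory.Sequence

namespace Groth.Agent.Lib.helper13.GoodChart

section Rank

variable {R A : Type u} [CommRing R] [CommRing A] [Algebra R A]

/-- Kähler differentials of a ring map which is locally standard smooth of relative dimension `n`
have rank `n` at every prime. -/
theorem rankAtStalk_kaehler_of_locally (n : ℕ)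
    (h : RingHom.Locally (RingHom.IsStandardSmoothOfRelativeDimension n) (algebraMap R A))
    [Module.Finite A (Ω[A⁄R])] [Module.Flat A (Ω[A⁄R])]
    (q : PrimeSpectrum A) : Module.rankAtStalk (Ω[A⁄R]) q = n := by
  obtain ⟨s, hs, hP⟩ := h
  obtain ⟨t, hts, htq⟩ : ∃ t ∈ s, t ∉ q.asIdeal := by
    by_contra hcon
    push Not at hcon
    have : Ideal.span s ≤ q.asIdeal := Ideal.span_le.mpr hcon
    rw [hs] at this
    exact q.2.ne_top (top_le_iff.mp this)
  have hstd : Algebra.IsStandardSmoothOfRelativeDimension n R (Localization.Away t) := by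
    rw [← RingHom.isStandardSmoothOfRelativeDimension_algebraMap]
    rw [IsScalarTower.algebraMap_eq R A (Localization.Away t)]
    exact hP t hts
  haveI : Algebra.IsStandardSmooth R (Localization.Away t) := hstd.isStandardSmooth
  -- a prime of the localization over `q`
  have hdisj : Disjoint (Submonoid.powers t : Set A) (q.asIdeal : Set A) := by
    rw [Set.disjoint_left]
    rintro x ⟨k, rfl⟩ hx
    exact htq (q.2.mem_of_pow_mem k hx)
  let q' : PrimeSpectrum (Localization.Away t) :=
    ⟨q.asIdeal.map (algebraMap A (Localization.Away t)),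
      IsLocalization.isPrime_of_isPrime_disjoint (Submonoid.powers t) _ _ q.2 hdisj⟩
  have hq' : q'.comap (algebraMap A (Localization.Away t)) = q := by
    ext1
    exact IsLocalization.comap_map_of_isPrime_disjoint (Submonoid.powers t) _ q.2 hdisj
  have hbc := KaehlerDifferential.isBaseChange_of_formallyEtale R A (Localization.Away t)
  have h1 := Module.rankAtStalk_isBaseChange hbc q'
  rw [hq'] at h1
  rw [← h1, Module.rankAtStalk_eq_finrank_of_free]
  haveI : Nontrivial (Localization.Away t) := (PrimeSpectrum.nonempty_iff_nontrivial.mp ⟨q'⟩)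
  have := hstd.rank_kaehlerDifferential
  simp only [Pi.natCast_def]
  exact Module.finrank_eq_of_rank_eq this
  
lemma smooth_of_locally (n : ℕ)
    (h : RingHom.Locally (RingHom.IsStandardSmoothOfRelativeDimension n) (algebraMap R A)) :
    Algebra.Smooth R A := by
  rw [← RingHom.smooth_algebraMap]
  rw [RingHom.smooth_iff_locally_isStandardSmooth]
  exact RingHom.locally_of_locally (fun h => h.isStandardSmooth) h

/-- the length of a Koszul-regular sequence cutting out a smooth quotient of a smooth algebra is the
difference of the relative dimensions -/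
theorem length_add_eq (N r : ℕ)
    (hA : RingHom.Locally (RingHom.IsStandardSmoothOfRelativeDimension N) (algebraMap R A))
    (rs : List A) (hrs : LCI.IsKoszulRegularSeq A rs)
    (hB : RingHom.Locally (RingHom.IsStandardSmoothOfRelativeDimension r)
      (algebraMap R (A ⧸ Ideal.ofList rs)))
    [Nontrivial (A ⧸ Ideal.ofList rs)] : rs.length + r = N := by
  haveI := smooth_of_locally N hA
  haveI := smooth_of_locally r hB
  have hq : Groth.Agent.Lib.helper11.QuasiReg.QR rs.get :=
    Groth.Agent.Lib.helper7.RegImmKinds.seq_quasi_of_h1 _ rs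
      (Groth.Agent.Lib.helper7.RegImmKinds.seq_h1_of_koszul _ rs hrs)
  have hspan : Ideal.span (Set.range rs.get) = Ideal.ofList rs := by
    rw [Set.range_list_get]
  obtain ⟨a, s, hbij⟩ := Groth.Agent.Lib.Helper20.DetKaehler.exists_conormal_split (A := R)
    (Ideal.ofList rs) rs.get hq hspan
  obtain ⟨q⟩ := (PrimeSpectrum.nonempty_iff_nontrivial (R := A ⧸ Ideal.ofList rs)).mpr inferInstance
  have e := LinearEquiv.ofBijective _ hbij
  have h1 := congrFun (Module.rankAtStalk_eq_of_equiv e) q
  rw [Module.rankAtStalk_baseChange, rankAtStalk_kaehler_of_locally N hA] at h1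
  rw [Module.rankAtStalk_prod, Pi.add_apply, rankAtStalk_kaehler_of_locally r hB,
    Module.rankAtStalk_eq_finrank_of_free] at h1
  simpa using h1

end Rank

/-- ring-hom form of `length_add_eq` -/
theorem length_add_eq' {R A B : Type u} [CommRing R] [CommRing A] [CommRing B] (φ : R →+* A)
    (π : A →+* B) (hπ : Function.Surjective π) (N r : ℕ)
    (hA : RingHom.Locally (RingHom.IsStandardSmoothOfRelativeDimension N) φ)
    (hB : RingHom.Locally (RingHom.IsStandardSmoothOfRelativeDimension r) (π.comp φ))
    (rs : List A) (hrs : LCI.IsKoszulRegularSeq A rs) (hker : RingHom.ker π = Ideal.ofList rs)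
    [Nontrivial B] : rs.length + r = N := by
  letI := φ.toAlgebra
  let e : (A ⧸ Ideal.ofList rs) ≃+* B :=
    (Ideal.quotEquivOfEq hker.symm).trans (RingHom.quotientKerEquivOfSurjective hπ)
  haveI : Nontrivial (A ⧸ Ideal.ofList rs) := e.symm.injective.nontrivial
  refine @length_add_eq R A _ _ _ N r hA rs hrs ?_ ‹_›
  have hcomp : π.comp φ = e.toRingHom.comp (algebraMap R (A ⧸ Ideal.ofList rs)) := by
    ext x
    rfl
  rw [hcomp] at hB
  have h2 := (RingHom.locally_respectsIso
    (RingHom.isStandardSmoothOfRelativeDimension_respectsIso (n := r))).1 _ e.symm hB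
  have h3 : e.symm.toRingHom.comp (e.toRingHom.comp (algebraMap R (A ⧸ Ideal.ofList rs))) =
      algebraMap R (A ⧸ Ideal.ofList rs) := by
    ext x
    simp
  rwa [h3] at h2

section Spread

variable {A : Type u} [CommRing A]

/-- weak regularity of the image of a list in an algebra `B`, elementwise form -/
lemma isWeaklyRegular_map_iff {B : Type u} [CommRing B] (φ : A →+* B) (rs : List A) :
    IsWeaklyRegular B (rs.map φ) ↔ ∀ (i : ℕ) (h : i < rs.length) (b : B),
      φ rs[i] * b ∈ (Ideal.ofList (rs.take i)).map φ → b ∈ (Ideal.ofList (rs.take i)).map φ := by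
  rw [isWeaklyRegular_iff]
  simp only [List.length_map]
  refine forall_congr' fun i => forall_congr' fun h => ?_
  rw [isSMulRegular_quotient_iff_mem_of_smul_mem]
  have hI : (Ideal.ofList ((rs.map φ).take i) • ⊤ : Submodule B B) =
      (Ideal.ofList (rs.take i)).map φ := by
    rw [← List.map_take, Ideal.map_ofList, smul_eq_mul, Ideal.mul_top]
  rw [hI]
  simp only [List.getElem_map, smul_eq_mul]

/-- a finitely generated ideal whose elements are each multiplied into `I` by something outside a
prime `q` is multiplied into `I` by a single element outside `q` -/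
lemma exists_notMem_forall_mul_mem (N I : Ideal A) (hN : N.FG) (q : Ideal A) [q.IsPrime]
    (h : ∀ a ∈ N, ∃ s, s ∉ q ∧ s * a ∈ I) : ∃ g, g ∉ q ∧ ∀ a ∈ N, g * a ∈ I := by
  classical
  obtain ⟨T, rfl⟩ := hN
  choose! s hs using h
  refine ⟨∏ t ∈ T, s t, ?_, ?_⟩
  · intro hmem
    obtain ⟨t, ht, htq⟩ := (Ideal.IsPrime.prod_mem_iff).mp hmem
    exact (hs t (Ideal.subset_span ht)).1 htq
  · intro a ha
    refine Submodule.span_induction (p := fun a _ => (∏ t ∈ T, s t) * a ∈ I) ?_ ?_ ?_ ?_ ha
    · intro t ht
      rw [← Finset.mul_prod_erase T s ht, mul_assoc, mul_comm _ t, ← mul_assoc]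
      exact I.mul_mem_right _ (hs t (Ideal.subset_span ht)).2
    · simp
    · intro x y _ _ hx hy
      rw [mul_add]; exact I.add_mem hx hy
    · intro c x _ hx
      rw [smul_eq_mul, mul_left_comm]; exact I.mul_mem_left _ hx

/-- **spreading out regularity**: if the image of `rs` is weakly regular in the local ring at `q`,
it is regular in `A[1/g]` for some `g ∉ q`. -/
theorem exists_away_isRegular [IsNoetherianRing A] (rs : List A) (q : Ideal A) [q.IsPrime]
    (hq : Ideal.ofList rs ≤ q)
    (hreg : IsWeaklyRegular (Localization.AtPrime q)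
      (rs.map (algebraMap A (Localization.AtPrime q)))) :
    ∃ g, g ∉ q ∧ ∀ (B : Type u) [CommRing B] [Algebra A B]
      [IsLocalization.Away g B], IsRegular B (rs.map (algebraMap A B)) := by
  classical
  rw [isWeaklyRegular_map_iff] at hreg
  -- the colon ideals
  let Nc : ℕ → Ideal A := fun i =>
    if h : i < rs.length then
      Submodule.comap (LinearMap.lsmul A A rs[i]) (Ideal.ofList (rs.take i)) else ⊥
  have hNc : ∀ (i : ℕ) (h : i < rs.length) (a : A),
      a ∈ Nc i ↔ rs[i] * a ∈ Ideal.ofList (rs.take i) := by
    intro i h a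
    simp only [Nc, dif_pos h, Submodule.mem_comap, LinearMap.lsmul_apply, smul_eq_mul]
  have hloc : ∀ i : ℕ, ∃ g, g ∉ q ∧ ∀ a ∈ Nc i, g * a ∈ Ideal.ofList (rs.take i) := by
    intro i
    by_cases h : i < rs.length
    · refine exists_notMem_forall_mul_mem (Nc i) _ (IsNoetherian.noetherian _) q ?_
      intro a ha
      rw [hNc i h] at ha
      have h1 : algebraMap A (Localization.AtPrime q) rs[i] *
          algebraMap A (Localization.AtPrime q) a ∈
          (Ideal.ofList (rs.take i)).map (algebraMap A (Localization.AtPrime q)) := by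
        rw [← map_mul]; exact Ideal.mem_map_of_mem _ ha
      have h2 := hreg i h _ h1
      rw [IsLocalization.algebraMap_mem_map_algebraMap_iff q.primeCompl] at h2
      obtain ⟨s, hs, hsa⟩ := h2
      exact ⟨s, hs, hsa⟩
    · refine ⟨1, fun h1 => ‹q.IsPrime›.ne_top ((Ideal.eq_top_iff_one _).mpr h1), ?_⟩
      intro a ha
      simp only [Nc, dif_neg h, Submodule.mem_bot] at ha
      simp [ha]
  choose gi hgi using hloc
  refine ⟨∏ i ∈ Finset.range rs.length, gi i, ?_, ?_⟩
  · intro hmem
    obtain ⟨i, -, hi⟩ := (Ideal.IsPrime.prod_mem_iff).mp hmem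
    exact (hgi i).1 hi
  intro B _ _ _
  set g := ∏ i ∈ Finset.range rs.length, gi i with hg
  have hgN : ∀ (i : ℕ) (_ : i < rs.length), ∀ a ∈ Nc i, g * a ∈ Ideal.ofList (rs.take i) := by
    intro i hi a ha
    rw [hg, ← Finset.mul_prod_erase _ gi (Finset.mem_range.mpr hi), mul_assoc, mul_comm _ a,
      ← mul_assoc]
    exact Ideal.mul_mem_right _ _ ((hgi i).2 a ha)
  constructor
  · rw [isWeaklyRegular_map_iff]
    intro i hi b hb
    obtain ⟨⟨a, s⟩, hab⟩ := IsLocalization.surj (Submonoid.powers g) b
    dsimp only at hab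
    have hsu : IsUnit (algebraMap A B s) := IsLocalization.map_units B s
    have h1 : algebraMap A B (rs[i] * a) ∈ (Ideal.ofList (rs.take i)).map (algebraMap A B) := by
      rw [map_mul, ← hab, ← mul_assoc]
      exact Ideal.mul_mem_right _ _ hb
    rw [IsLocalization.algebraMap_mem_map_algebraMap_iff (Submonoid.powers g)] at h1
    obtain ⟨m, ⟨k, rfl⟩, hm⟩ := h1
    have h2 : g ^ k * a ∈ Nc i := by
      rw [hNc i hi]
      rw [mul_left_comm]; exact hm
    have h3 := hgN i hi _ h2
    have h4 : algebraMap A B a ∈ (Ideal.ofList (rs.take i)).map (algebraMap A B) := by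
      rw [IsLocalization.algebraMap_mem_map_algebraMap_iff (Submonoid.powers g)]
      refine ⟨g ^ (k + 1), ⟨k + 1, rfl⟩, ?_⟩
      have : g ^ (k + 1) * a = g * (g ^ k * a) := by ring
      rw [this]
      exact h3
    rw [← hab] at h4
    exact (Ideal.mul_unit_mem_iff_mem _ hsu).mp h4
  · -- the quotient is nontrivial
    rw [smul_eq_mul, Ideal.mul_top, ← Ideal.map_ofList]
    intro htop
    have hdisj : Disjoint (Submonoid.powers g : Set A) (q : Set A) := by
      rw [Set.disjoint_left]
      rintro x ⟨k, rfl⟩ hx
      have h1 := ‹q.IsPrime›.mem_of_pow_mem k hx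
      obtain ⟨i, -, hi⟩ := (Ideal.IsPrime.prod_mem_iff).mp h1
      exact (hgi i).1 hi
    have hprime := IsLocalization.isPrime_of_isPrime_disjoint (Submonoid.powers g) B q
      ‹q.IsPrime› hdisj
    exact hprime.ne_top (top_le_iff.mp (htop.le.trans (Ideal.map_mono hq)))

end Spread

end Groth.Agent.Lib.helper13.GoodChart
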