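import Mathlib
import Groth.Agent.Lib.Helper13.ARD2

/-!
# Artin–Rees in the derived category, tensor part and main theorem (helper13, S14102)

* `μ 𝔞 M : 𝔞 ⊗ M → M` with `μ_whiskerLeft`, `μ_whiskerRight`, `μ_injective` (flat `M`), `range_μ`.
* `main`: for a bounded complex `K` of finite projective modules over a Noetherian ring whose
  cohomology is killed by `J`, there is `n` such that `J^(n+m) ⊗ K → J^m ⊗ K` is zero in `D(A)`
  for all `m`.
-/

set_option autoImplicit false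
universe w u
open CategoryTheory CategoryTheory.Limits MonoidalCategory

namespace Groth.Agent.Lib.helper13.ARD

variable {A : Type u} [CommRing A]

/-- the multiplication map `𝔞 ⊗ M → M` -/
noncomputable def μ (𝔞 : Ideal A) (M : ModuleCat.{u} A) :
    ↑(ModuleCat.of A 𝔞 ⊗ M) →ₗ[A] M :=
  TensorProduct.lift ((LinearMap.lsmul A M).comp 𝔞.subtype)

lemma μ_tmul (𝔞 : Ideal A) (M : ModuleCat.{u} A) (x : 𝔞) (k : M) :
    μ 𝔞 M (x ⊗ₜ[A] k) = (x : A) • k :=
  TensorProduct.lift.tmul _ _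

lemma μ_whiskerLeft (𝔞 : Ideal A) {M N : ModuleCat.{u} A} (g : M ⟶ N) :
    μ 𝔞 N ∘ₗ (ModuleCat.of A 𝔞 ◁ g).hom = g.hom ∘ₗ μ 𝔞 M := by
  apply TensorProduct.ext'
  intro x k
  change μ 𝔞 N (x ⊗ₜ[A] g.hom k) = g.hom (μ 𝔞 M (x ⊗ₜ[A] k))
  rw [μ_tmul, μ_tmul, map_smul]

lemma μ_whiskerRight {𝔞 𝔟 : Ideal A} (h : 𝔞 ≤ 𝔟) (M : ModuleCat.{u} A) :
    μ 𝔟 M ∘ₗ (ModuleCat.ofHom (Submodule.inclusion h) ▷ M).hom = μ 𝔞 M := by
  apply TensorProduct.ext'
  intro x k
  change μ 𝔟 M (Submodule.inclusion h x ⊗ₜ[A] k) = μ 𝔞 M (x ⊗ₜ[A] k)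
  rw [μ_tmul, μ_tmul]
  rfl

lemma μ_injective (𝔞 : Ideal A) (M : ModuleCat.{u} A) [Module.Flat A M] :
    Function.Injective (μ 𝔞 M) := by
  have h : μ 𝔞 M = (TensorProduct.lid A M).toLinearMap ∘ₗ (𝔞.subtype.rTensor M) := by
    apply TensorProduct.ext'
    intro x k
    rw [μ_tmul]
    rfl
  rw [h]
  exact (TensorProduct.lid A M).injective.comp
    (Module.Flat.rTensor_preserves_injective_linearMap _ (Submodule.injective_subtype 𝔞))

lemma range_μ (𝔞 : Ideal A) (M : ModuleCat.{u} A) :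
    LinearMap.range (μ 𝔞 M) = 𝔞 • (⊤ : Submodule A M) := by
  apply le_antisymm
  · rintro _ ⟨z, rfl⟩
    induction z using TensorProduct.induction_on with
    | zero => rw [map_zero]; exact Submodule.zero_mem _
    | tmul x k =>
      rw [μ_tmul]
      exact Submodule.smul_mem_smul x.2 trivial
    | add x y hx hy =>
      rw [map_add]
      exact Submodule.add_mem _ hx hy
  · rw [Submodule.smul_le]
    intro x hx k _
    exact ⟨(⟨x, hx⟩ : 𝔞) ⊗ₜ[A] k, μ_tmul 𝔞 M ⟨x, hx⟩ k⟩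

theorem main (A : Type u) [CommRing A] [IsNoetherianRing A]
    [HasDerivedCategory.{w} (ModuleCat.{u} A)]
    (K : CochainComplex (ModuleCat.{u} A) ℤ) (a b : ℤ)
    (hK : ∀ q : ℤ, q < a ∨ b < q → Limits.IsZero (K.X q))
    (hfin : ∀ q : ℤ, Module.Finite A (K.X q)) (hproj : ∀ q : ℤ, Module.Projective A (K.X q))
    (J : Ideal A) (hJ : ∀ q : ℤ, ∀ x ∈ J, ∀ c : ↑(K.homology q), x • c = 0) :
    ∃ n : ℕ, ∀ m : ℕ,
      DerivedCategory.Q.map
        ((NatTrans.mapHomologicalComplex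
          ((curriedTensor (ModuleCat.{u} A)).map
            (ModuleCat.ofHom (Submodule.inclusion (p := J ^ (n + m)) (p' := J ^ m)
              (Ideal.pow_le_pow_right (Nat.le_add_left m n)))))
          (ComplexShape.up ℤ)).app K) = 0 := by
  have hJ' := fun q x hx z hz => exists_boundary_of_smul_homology K J hJ q x hx z hz
  obtain ⟨n, hn⟩ := exists_subfamily K a b hK hfin J hJ'
  refine ⟨n, fun m => ?_⟩
  obtain ⟨W, h1, h2, h3, h4⟩ := hn m
  haveI : ∀ q, Module.Flat A (K.X q) := fun q => by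
    haveI := hproj q
    infer_instance
  apply Q_map_eq_zero_of_acyclic_sub _ (fun q => (W q).comap (μ (J ^ m) (K.X q)))
  · intro i j y hy
    change μ (J ^ m) (K.X j) ((ModuleCat.of A ↥(J ^ m) ◁ K.d i j).hom y) ∈ W j
    rw [← LinearMap.comp_apply, μ_whiskerLeft]
    exact h3 i j _ hy
  · intro q x
    change μ (J ^ m) (K.X q) ((ModuleCat.ofHom (Submodule.inclusion
      (Ideal.pow_le_pow_right (Nat.le_add_left m n))) ▷ K.X q).hom x) ∈ W q
    rw [← LinearMap.comp_apply, μ_whiskerRight]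
    exact h1 q (by rw [← range_μ]; exact ⟨x, rfl⟩)
  · intro q y hy hy0
    have hd : (K.d q (q + 1)).hom (μ (J ^ m) (K.X q) y) = 0 := by
      rw [← LinearMap.comp_apply, ← μ_whiskerLeft, LinearMap.comp_apply]
      change μ (J ^ m) (K.X (q + 1)) ((ModuleCat.of A ↥(J ^ m) ◁ K.d q (q + 1)).hom y) = 0
      have hy0' : (ModuleCat.of A ↥(J ^ m) ◁ K.d q (q + 1)).hom y = 0 := hy0
      rw [hy0', map_zero]
    obtain ⟨v', hv', hv'd⟩ := h4 q _ hy hd
    have hr : v' ∈ LinearMap.range (μ (J ^ m) (K.X (q - 1))) := by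
      rw [range_μ]
      exact h2 (q - 1) hv'
    obtain ⟨v, rfl⟩ := hr
    refine ⟨v, hv', ?_⟩
    apply μ_injective (J ^ m) (K.X q)
    change μ (J ^ m) (K.X q) ((ModuleCat.of A ↥(J ^ m) ◁ K.d (q - 1) q).hom v) = _
    rw [← LinearMap.comp_apply, μ_whiskerLeft, LinearMap.comp_apply]
    exact hv'd

end Groth.Agent.Lib.helper13.ARD
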