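import Mathlib

/-!
# Adapted data for left derived functors, abstractly, and products (helper13)

Generalisation of helper25's `LDerAdapted.isIso_counit_app` from full triangulated subcategories to
an arbitrary fully faithful functor `ι : A' ⥤ C`, so that the notion is stable under products
(`IsAdapted.prod`): this gives the computation of derived functors of SEVERAL variables on
adapted tuples.

* `IsAdapted L W ι W'` : `ι` fully faithful, `ι ⋙ L` a localization for `W'`, every object of `C`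
  receives a `W`-map from `ι P`, and "arrow resolutions".
* `IsAdapted.isIso_counit_app` : the counit of any left derived functor `(LF, ε)` of `Φ` along `L`
  is invertible at `ι.obj P` if `ι ⋙ Φ` inverts `W'`.
* `IsAdapted.prod`.
-/

set_option autoImplicit false
universe v₁ v₂ v₃ v₄ v₅ v₆ v₇ u₁ u₂ u₃ u₄ u₅ u₆ u₇
open CategoryTheory

namespace Groth.Agent.Lib.helper13.Adapted2

variable {C : Type u₁} [Category.{v₁} C] {D : Type u₂} [Category.{v₂} D]
  {H : Type u₃} [Category.{v₃} H] {A' : Type u₄} [Category.{v₄} A']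

/-- Adapted data for computing left derived functors along `L : C ⥤ D` (a localization for `W`). -/
structure IsAdapted (L : C ⥤ D) (W : MorphismProperty C) (ι : A' ⥤ C)
    (W' : MorphismProperty A') : Prop where
  full : ι.Full
  faithful : ι.Faithful
  isLocalization : (ι ⋙ L).IsLocalization W'
  hres : ∀ X : C, ∃ (P : A') (s : ι.obj P ⟶ X), W s
  harrow : ∀ {X Y : C} (f : X ⟶ Y) (PX PY : A') (sX : ι.obj PX ⟶ X) (sY : ι.obj PY ⟶ Y),
    W sY → ∃ (P'' : A') (t : P'' ⟶ PX) (g : P'' ⟶ PY),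
      W (ι.map t) ∧ ι.map t ≫ sX ≫ f = ι.map g ≫ sY

namespace IsAdapted

variable {L : C ⥤ D} {W : MorphismProperty C} {ι : A' ⥤ C} {W' : MorphismProperty A'}

/-- The counit of a left derived functor is invertible at adapted objects. -/
theorem isIso_counit_app (h : IsAdapted L W ι W') [L.IsLocalization W] (Φ : C ⥤ H)
    (hinv : W'.IsInvertedBy (ι ⋙ Φ)) (LF : D ⥤ H) (ε : L ⋙ LF ⟶ Φ)
    [LF.IsLeftDerivedFunctor ε W] (P : A') : IsIso (ε.app (ι.obj P)) := by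
  classical
  haveI := h.full
  haveI := h.faithful
  haveI hloc := h.isLocalization
  let G : D ⥤ H := Localization.lift (ι ⋙ Φ) hinv (ι ⋙ L)
  let e₀ : (ι ⋙ L) ⋙ G ≅ ι ⋙ Φ := Localization.fac (ι ⋙ Φ) hinv (ι ⋙ L)
  have hres := h.hres
  choose R s hs using hres
  haveI : ∀ X, IsIso (L.map (s X)) := fun X => Localization.inverts L W _ (hs X)
  let βapp : ∀ X : C, G.obj (L.obj X) ⟶ Φ.obj X := fun X =>
    inv (G.map (L.map (s X))) ≫ e₀.hom.app (R X) ≫ Φ.map (s X)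
  have e₀nat : ∀ {P P' : A'} (g : P ⟶ P'),
      G.map (L.map (ι.map g)) ≫ e₀.hom.app P' = e₀.hom.app P ≫ Φ.map (ι.map g) := by
    intro P P' g
    exact e₀.hom.naturality g
  have βnat : ∀ {X Y : C} (f : X ⟶ Y), G.map (L.map f) ≫ βapp Y = βapp X ≫ Φ.map f := by
    intro X Y f
    obtain ⟨P'', t, g, ht, fac⟩ := h.harrow f (R X) (R Y) (s X) (s Y) (hs Y)
    haveI : IsIso (L.map (ι.map t)) := Localization.inverts L W _ ht
    have h1 : G.map (L.map f) ≫ inv (G.map (L.map (s Y))) =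
        inv (G.map (L.map (s X))) ≫ inv (G.map (L.map (ι.map t))) ≫ G.map (L.map (ι.map g)) := by
      rw [IsIso.comp_inv_eq, Category.assoc, Category.assoc, IsIso.eq_inv_comp, IsIso.eq_inv_comp]
      simp only [← Functor.map_comp]
      rw [fac]
    have h2 := e₀nat g
    have h3 := e₀nat t
    have h4 : inv (G.map (L.map (ι.map t))) ≫ e₀.hom.app P'' ≫ Φ.map (ι.map t) =
        e₀.hom.app (R X) := by
      rw [IsIso.inv_comp_eq, h3]
    calc G.map (L.map f) ≫ βapp Y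
        = (G.map (L.map f) ≫ inv (G.map (L.map (s Y)))) ≫ e₀.hom.app (R Y) ≫
            Φ.map (s Y) := by simp only [βapp, Category.assoc]
      _ = inv (G.map (L.map (s X))) ≫ inv (G.map (L.map (ι.map t))) ≫
            (G.map (L.map (ι.map g)) ≫ e₀.hom.app (R Y)) ≫ Φ.map (s Y) := by
          rw [h1]; simp only [Category.assoc]
      _ = inv (G.map (L.map (s X))) ≫ inv (G.map (L.map (ι.map t))) ≫
            e₀.hom.app P'' ≫ Φ.map (ι.map g ≫ s Y) := by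
          rw [h2]; simp only [Category.assoc, Functor.map_comp]
      _ = inv (G.map (L.map (s X))) ≫ (inv (G.map (L.map (ι.map t))) ≫
            e₀.hom.app P'' ≫ Φ.map (ι.map t)) ≫ Φ.map (s X) ≫ Φ.map f := by
          rw [← fac]; simp only [Category.assoc, Functor.map_comp]
      _ = βapp X ≫ Φ.map f := by
          rw [h4]; simp only [βapp, Category.assoc]
  let β : L ⋙ G ⟶ Φ := { app := βapp, naturality := fun X Y f => βnat f }
  have βA : ∀ (Q : A'), β.app (ι.obj Q) = e₀.hom.app Q := by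
    intro Q
    obtain ⟨g, hg⟩ := ι.map_surjective (s (ι.obj Q))
    have := e₀nat g
    rw [hg] at this
    change inv (G.map (L.map (s (ι.obj Q)))) ≫ e₀.hom.app (R (ι.obj Q)) ≫ Φ.map (s (ι.obj Q)) = _
    rw [IsIso.inv_comp_eq, this]
  let γ : G ⟶ LF := LF.leftDerivedLift ε W G β
  have hγ : ∀ X, γ.app (L.obj X) ≫ ε.app X = β.app X :=
    fun X => LF.leftDerived_fac_app ε W G β X
  let τ : (ι ⋙ L) ⋙ LF ⟶ (ι ⋙ L) ⋙ G :=
    (Functor.associator _ _ _).hom ≫ Functor.whiskerLeft ι ε ≫ e₀.inv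
  let δ : LF ⟶ G := Localization.liftNatTrans (ι ⋙ L) W' _ _ LF G τ
  have hδ : ∀ (Q : A'), δ.app (L.obj (ι.obj Q)) = ε.app (ι.obj Q) ≫ e₀.inv.app Q := by
    intro Q
    have := Localization.liftNatTrans_app (ι ⋙ L) W' _ _ LF G τ Q
    simpa [τ] using this
  have key : δ ≫ γ = 𝟙 LF := by
    apply LF.leftDerived_ext ε W
    ext X
    simp only [NatTrans.comp_app, Functor.whiskerLeft_app, NatTrans.id_app]
    rw [Category.assoc, hγ]
    change δ.app (L.obj X) ≫ β.app X = 𝟙 (LF.obj (L.obj X)) ≫ ε.app X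
    rw [Category.id_comp]
    have n1 : LF.map (L.map (s X)) ≫ δ.app (L.obj X) =
        δ.app (L.obj (ι.obj (R X))) ≫ G.map (L.map (s X)) := δ.naturality (L.map (s X))
    have n2 : LF.map (L.map (s X)) ≫ ε.app X = ε.app (ι.obj (R X)) ≫ Φ.map (s X) :=
      ε.naturality (s X)
    haveI : IsIso (LF.map (L.map (s X))) := inferInstance
    rw [← cancel_epi (LF.map (L.map (s X))), ← Category.assoc, n1, n2, hδ (R X)]
    change ((ε.app (ι.obj (R X)) ≫ e₀.inv.app (R X)) ≫ G.map (L.map (s X))) ≫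
      inv (G.map (L.map (s X))) ≫ e₀.hom.app (R X) ≫ Φ.map (s X) = _
    rw [Category.assoc, IsIso.hom_inv_id_assoc, Category.assoc, Iso.inv_hom_id_app_assoc]
  have h1 : (inv (e₀.hom.app P) ≫ γ.app (L.obj (ι.obj P))) ≫ ε.app (ι.obj P) = 𝟙 _ := by
    rw [Category.assoc, hγ, βA P, IsIso.inv_hom_id]
  have h2 : ε.app (ι.obj P) ≫ (inv (e₀.hom.app P) ≫ γ.app (L.obj (ι.obj P))) = 𝟙 _ := by
    have := congr_app key (L.obj (ι.obj P))
    rw [NatTrans.comp_app, hδ P, NatTrans.id_app] at this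
    change _ = 𝟙 (LF.obj (L.obj (ι.obj P)))
    rw [← this, Category.assoc]
    congr 2
    rw [IsIso.inv_eq_of_hom_inv_id (Iso.hom_inv_id_app e₀ _)]
  exact ⟨_, h2, h1⟩

end IsAdapted

section Prod

variable {C₁ : Type u₁} [Category.{v₁} C₁] {D₁ : Type u₂} [Category.{v₂} D₁]
  {A₁ : Type u₃} [Category.{v₃} A₁]
  {C₂ : Type u₄} [Category.{v₄} C₂] {D₂ : Type u₅} [Category.{v₅} D₂]
  {A₂ : Type u₆} [Category.{v₆} A₂]
  {L₁ : C₁ ⥤ D₁} {W₁ : MorphismProperty C₁} {ι₁ : A₁ ⥤ C₁} {W'₁ : MorphismProperty A₁}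
  {L₂ : C₂ ⥤ D₂} {W₂ : MorphismProperty C₂} {ι₂ : A₂ ⥤ C₂} {W'₂ : MorphismProperty A₂}

theorem IsAdapted.prod (h₁ : IsAdapted L₁ W₁ ι₁ W'₁) (h₂ : IsAdapted L₂ W₂ ι₂ W'₂)
    [W'₁.ContainsIdentities] [W'₂.ContainsIdentities] :
    IsAdapted (L₁.prod L₂) (W₁.prod W₂) (ι₁.prod ι₂) (W'₁.prod W'₂) where
  full := by
    haveI := h₁.full
    haveI := h₂.full
    exact ⟨fun {X Y} f => ⟨(ι₁.preimage f.1, ι₂.preimage f.2), by
      apply Prod.ext <;> simp⟩⟩
  faithful := by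
    haveI := h₁.faithful
    haveI := h₂.faithful
    exact ⟨fun {X Y} f g hfg => by
      apply Prod.ext
      · exact ι₁.map_injective (congrArg Prod.fst hfg)
      · exact ι₂.map_injective (congrArg Prod.snd hfg)⟩
  isLocalization := by
    haveI := h₁.isLocalization
    haveI := h₂.isLocalization
    show ((ι₁ ⋙ L₁).prod (ι₂ ⋙ L₂)).IsLocalization (W'₁.prod W'₂)
    infer_instance
  hres := by
    rintro ⟨X₁, X₂⟩
    obtain ⟨P₁, s₁, hs₁⟩ := h₁.hres X₁
    obtain ⟨P₂, s₂, hs₂⟩ := h₂.hres X₂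
    exact ⟨(P₁, P₂), (s₁, s₂), ⟨hs₁, hs₂⟩⟩
  harrow := by
    rintro ⟨X₁, X₂⟩ ⟨Y₁, Y₂⟩ ⟨f₁, f₂⟩ ⟨PX₁, PX₂⟩ ⟨PY₁, PY₂⟩ ⟨sX₁, sX₂⟩ ⟨sY₁, sY₂⟩ ⟨hs₁, hs₂⟩
    obtain ⟨P₁, t₁, g₁, ht₁, fac₁⟩ := h₁.harrow f₁ PX₁ PY₁ sX₁ sY₁ hs₁
    obtain ⟨P₂, t₂, g₂, ht₂, fac₂⟩ := h₂.harrow f₂ PX₂ PY₂ sX₂ sY₂ hs₂
    exact ⟨(P₁, P₂), (t₁, t₂), (g₁, g₂), ⟨ht₁, ht₂⟩, Prod.ext fac₁ fac₂⟩

end Prod

end Groth.Agent.Lib.helper13.Adapted2
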