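import Mathlib
import Groth.Agent.Lib.Helper13.Adapted2A

/-!
# Adapted data, complex level: descending along a localization `q : C₀ ⥤ C` (helper13)

Typical use: `C₀` a product of categories of cochain complexes, `C` the product of the homotopy
categories, `q` the product of the quotient functors (a localization for tuples of homotopy
equivalences), `L` the product of the `Qh`, `L₀` the product of the `Q`.

* `descε` / `isLeftDerivedFunctor_descε` : a left derived functor `(LF, ε)` of `F : C₀ ⥤ H` along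
  `L₀ ≅ q ⋙ L` is a left derived functor of `Fh` (`q ⋙ Fh ≅ F`) along `L`.
* `IsAdaptedCx q ι W' P₀ W₀ o e` : the adapted objects `ι.obj P` come from objects `o P` of `C₀`
  satisfying `P₀`, and `W'`-maps lift to `W₀`-maps.  `IsAdaptedCx.prod`.
* `isIso_counit_app_cx`.
-/

set_option autoImplicit false
universe v₁ v₂ v₃ v₄ v₅ v₆ v₇ v₈ u₁ u₂ u₃ u₄ u₅ u₆ u₇ u₈
open CategoryTheory

namespace Groth.Agent.Lib.helper13.Adapted2

section Bridge

variable {C₀ : Type u₁} [Category.{v₁} C₀] {C : Type u₂} [Category.{v₂} C]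
  {D : Type u₃} [Category.{v₃} D] {H : Type u₄} [Category.{v₄} H]
  (q : C₀ ⥤ C) (Wq : MorphismProperty C₀) [q.IsLocalization Wq]
  (L : C ⥤ D) (W : MorphismProperty C) [L.IsLocalization W]
  (L₀ : C₀ ⥤ D) (W₀ : MorphismProperty C₀) [L₀.IsLocalization W₀] (eL : q ⋙ L ≅ L₀)
  (F : C₀ ⥤ H) (Fh : C ⥤ H) (eF : q ⋙ Fh ≅ F)
  (LF : D ⥤ H) (ε : L₀ ⋙ LF ⟶ F)

/-- The natural transformation on `C` induced by `ε : L₀ ⋙ LF ⟶ F`. -/
noncomputable def descε : L ⋙ LF ⟶ Fh :=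
  letI : Localization.Lifting q Wq (L₀ ⋙ LF) (L ⋙ LF) :=
    ⟨(Functor.associator _ _ _).symm ≪≫ Functor.isoWhiskerRight eL LF⟩
  letI : Localization.Lifting q Wq F Fh := ⟨eF⟩
  Localization.liftNatTrans q Wq (L₀ ⋙ LF) F (L ⋙ LF) Fh ε

lemma descε_app (X : C₀) :
    (descε q Wq L L₀ eL F Fh eF LF ε).app (q.obj X) =
      LF.map (eL.hom.app X) ≫ ε.app X ≫ eF.inv.app X := by
  letI : Localization.Lifting q Wq (L₀ ⋙ LF) (L ⋙ LF) :=
    ⟨(Functor.associator _ _ _).symm ≪≫ Functor.isoWhiskerRight eL LF⟩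
  letI : Localization.Lifting q Wq F Fh := ⟨eF⟩
  unfold descε
  rw [Localization.liftNatTrans_app]
  simp [Localization.Lifting.iso]

/-- (B1, general form) a left derived functor along `L₀ ≅ q ⋙ L` is a left derived functor
along `L`. -/
theorem isLeftDerivedFunctor_descε [LF.IsLeftDerivedFunctor ε W₀] :
    LF.IsLeftDerivedFunctor (descε q Wq L L₀ eL F Fh eF LF ε) W := by
  rw [Functor.isLeftDerivedFunctor_iff_isRightKanExtension]
  set εh := descε q Wq L L₀ eL F Fh eF LF ε with hεh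
  have happ : ∀ X, εh.app (q.obj X) = LF.map (eL.hom.app X) ≫ ε.app X ≫ eF.inv.app X :=
    descε_app q Wq L L₀ eL F Fh eF LF ε
  -- the transformation on `C₀` attached to `β' : L ⋙ G' ⟶ Fh`
  let β₀ : ∀ (G' : D ⥤ H) (_ : L ⋙ G' ⟶ Fh), L₀ ⋙ G' ⟶ F := fun G' β' =>
    { app := fun X => G'.map (eL.inv.app X) ≫ β'.app (q.obj X) ≫ eF.hom.app X
      naturality := fun X Y f => by
        have h1 := eL.inv.naturality f
        have h2 := β'.naturality (q.map f)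
        have h3 := eF.hom.naturality f
        dsimp at h1 h2 h3 ⊢
        rw [← G'.map_comp_assoc, h1, G'.map_comp_assoc, reassoc_of% h2, h3]
        simp only [Category.assoc] }
  have hlift : ∀ (G' : D ⥤ H) (β' : L ⋙ G' ⟶ Fh),
      Functor.whiskerLeft L (LF.leftDerivedLift ε W₀ G' (β₀ G' β')) ≫ εh = β' := by
    intro G' β'
    apply Localization.natTrans_ext q Wq
    intro X
    have hγ := LF.leftDerived_fac_app ε W₀ G' (β₀ G' β') X
    have hn := ((LF.leftDerivedLift ε W₀ G' (β₀ G' β')).naturality (eL.hom.app X)).symm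
    dsimp at hn
    rw [NatTrans.comp_app, Functor.whiskerLeft_app, happ, reassoc_of% hn, reassoc_of% hγ]
    dsimp [β₀]
    simp only [Category.assoc]
    rw [← G'.map_comp_assoc, Iso.hom_inv_id_app]
    erw [G'.map_id, Category.id_comp, Iso.hom_inv_id_app]
    exact Category.comp_id _
  have huniq : ∀ (G' : D ⥤ H) (γ₁ γ₂ : G' ⟶ LF),
      Functor.whiskerLeft L γ₁ ≫ εh = Functor.whiskerLeft L γ₂ ≫ εh → γ₁ = γ₂ := by
    intro G' γ₁ γ₂ h
    apply LF.leftDerived_ext ε W₀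
    ext X
    have h' := congr_app h (q.obj X)
    rw [NatTrans.comp_app, NatTrans.comp_app, Functor.whiskerLeft_app, Functor.whiskerLeft_app,
      happ] at h'
    have hn₁ := (γ₁.naturality (eL.hom.app X)).symm
    have hn₂ := (γ₂.naturality (eL.hom.app X)).symm
    dsimp at hn₁ hn₂
    rw [reassoc_of% hn₁, reassoc_of% hn₂] at h'
    simp only [NatTrans.comp_app, Functor.whiskerLeft_app]
    have h'' := (cancel_epi _).1 h'
    simp only [← Category.assoc] at h''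
    exact (cancel_mono _).1 h''
  refine ⟨⟨Limits.IsTerminal.ofUniqueHom
    (fun E => CostructuredArrow.homMk _ (hlift E.left E.hom)) (fun E m => ?_)⟩⟩
  apply CostructuredArrow.ext
  apply huniq
  have := CostructuredArrow.w m
  exact this.trans (hlift E.left E.hom).symm

end Bridge

section Cx

variable {C₀ : Type u₁} [Category.{v₁} C₀] {C : Type u₂} [Category.{v₂} C]
  {A' : Type u₅} [Category.{v₅} A']

/-- The adapted objects `ι.obj P` of `C` come from objects `o P` of `C₀` (satisfying `P₀`) and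
`W'`-maps between them lift to `W₀`-maps. -/
structure IsAdaptedCx (q : C₀ ⥤ C) (ι : A' ⥤ C) (W' : MorphismProperty A')
    (P₀ : ObjectProperty C₀) (W₀ : MorphismProperty C₀) (o : A' → C₀)
    (e : ∀ P, ι.obj P ≅ q.obj (o P)) : Prop where
  ho : ∀ P, P₀ (o P)
  surj : ∀ X₀, P₀ X₀ → ∃ P, o P = X₀
  lift_map : ∀ {P P' : A'} (t : P ⟶ P'), W' t →
    ∃ f : o P ⟶ o P', W₀ f ∧ q.map f = (e P).inv ≫ ι.map t ≫ (e P').hom

end Cx

section CxProd

variable {C₁ : Type u₁} [Category.{v₁} C₁] {K₁ : Type u₂} [Category.{v₂} K₁]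
  {A₁ : Type u₃} [Category.{v₃} A₁]
  {C₂ : Type u₄} [Category.{v₄} C₂] {K₂ : Type u₅} [Category.{v₅} K₂]
  {A₂ : Type u₆} [Category.{v₆} A₂]
  {q₁ : C₁ ⥤ K₁} {ι₁ : A₁ ⥤ K₁} {W'₁ : MorphismProperty A₁} {P₁ : ObjectProperty C₁}
  {W₁ : MorphismProperty C₁} {o₁ : A₁ → C₁} {e₁ : ∀ P, ι₁.obj P ≅ q₁.obj (o₁ P)}
  {q₂ : C₂ ⥤ K₂} {ι₂ : A₂ ⥤ K₂} {W'₂ : MorphismProperty A₂} {P₂ : ObjectProperty C₂}
  {W₂ : MorphismProperty C₂} {o₂ : A₂ → C₂} {e₂ : ∀ P, ι₂.obj P ≅ q₂.obj (o₂ P)}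

/-- The product of two object properties. -/
def prodProp (P₁ : ObjectProperty C₁) (P₂ : ObjectProperty C₂) : ObjectProperty (C₁ × C₂) :=
  fun X => P₁ X.1 ∧ P₂ X.2

theorem IsAdaptedCx.prod (h₁ : IsAdaptedCx q₁ ι₁ W'₁ P₁ W₁ o₁ e₁)
    (h₂ : IsAdaptedCx q₂ ι₂ W'₂ P₂ W₂ o₂ e₂) :
    IsAdaptedCx (q₁.prod q₂) (ι₁.prod ι₂) (W'₁.prod W'₂) (prodProp P₁ P₂) (W₁.prod W₂)
      (fun P => (o₁ P.1, o₂ P.2)) (fun P => (e₁ P.1).prod (e₂ P.2)) where
  ho P := ⟨h₁.ho P.1, h₂.ho P.2⟩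
  surj := by
    rintro ⟨X₁, X₂⟩ ⟨hX₁, hX₂⟩
    obtain ⟨Q₁, rfl⟩ := h₁.surj X₁ hX₁
    obtain ⟨Q₂, rfl⟩ := h₂.surj X₂ hX₂
    exact ⟨(Q₁, Q₂), rfl⟩
  lift_map := by
    rintro ⟨Q₁, Q₂⟩ ⟨Q₁', Q₂'⟩ ⟨t₁, t₂⟩ ⟨ht₁, ht₂⟩
    obtain ⟨f₁, hf₁, fac₁⟩ := h₁.lift_map t₁ ht₁
    obtain ⟨f₂, hf₂, fac₂⟩ := h₂.lift_map t₂ ht₂
    exact ⟨(f₁, f₂), ⟨hf₁, hf₂⟩, Prod.ext fac₁ fac₂⟩

end CxProd

section Main

variable {C₀ : Type u₁} [Category.{v₁} C₀] {C : Type u₂} [Category.{v₂} C]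
  {D : Type u₃} [Category.{v₃} D] {H : Type u₄} [Category.{v₄} H]
  {A' : Type u₅} [Category.{v₅} A']
  {q : C₀ ⥤ C} (Wq : MorphismProperty C₀) [q.IsLocalization Wq]
  {L : C ⥤ D} {W : MorphismProperty C} [L.IsLocalization W]
  {L₀ : C₀ ⥤ D} (W₀ : MorphismProperty C₀) [L₀.IsLocalization W₀]
  {ι : A' ⥤ C} {W' : MorphismProperty A'} {P₀ : ObjectProperty C₀}
  {W₀c : MorphismProperty C₀} {o : A' → C₀} {e : ∀ P, ι.obj P ≅ q.obj (o P)}

/-- **Derived functors of several variables are computed on adapted tuples** (abstract form). -/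
theorem isIso_counit_app_cx (eL : q ⋙ L ≅ L₀) (h : IsAdapted L W ι W')
    (h₀ : IsAdaptedCx q ι W' P₀ W₀c o e)
    (F : C₀ ⥤ H) (hFq : Wq.IsInvertedBy F)
    (hF₀ : ∀ {X X' : C₀} (f : X ⟶ X'), P₀ X → P₀ X' → W₀c f → IsIso (F.map f))
    (LF : D ⥤ H) (ε : L₀ ⋙ LF ⟶ F) [LF.IsLeftDerivedFunctor ε W₀]
    (X₀ : C₀) (hX₀ : P₀ X₀) : IsIso (ε.app X₀) := by
  let Fh : C ⥤ H := Localization.lift F hFq q
  let eF : q ⋙ Fh ≅ F := Localization.fac F hFq q
  let εh := descε q Wq L L₀ eL F Fh eF LF ε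
  haveI : LF.IsLeftDerivedFunctor εh W := isLeftDerivedFunctor_descε q Wq L W L₀ W₀ eL F Fh eF LF ε
  have hinv : W'.IsInvertedBy (ι ⋙ Fh) := by
    intro P P' t ht
    obtain ⟨f, hf, fac⟩ := h₀.lift_map t ht
    haveI : IsIso (F.map f) := hF₀ f (h₀.ho P) (h₀.ho P') hf
    have h1 : Fh.map (q.map f) = eF.hom.app _ ≫ F.map f ≫ eF.inv.app _ := by
      have := eF.hom.naturality f
      dsimp at this
      rw [← reassoc_of% this, Iso.hom_inv_id_app]
      exact (Category.comp_id _).symm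
    haveI : IsIso (Fh.map (q.map f)) := by rw [h1]; infer_instance
    have h2 : ι.map t = (e P).hom ≫ q.map f ≫ (e P').inv := by
      rw [fac]; simp
    change IsIso (Fh.map (ι.map t))
    rw [h2, Functor.map_comp, Functor.map_comp]
    infer_instance
  obtain ⟨P, rfl⟩ := h₀.surj X₀ hX₀
  haveI h3 : IsIso (εh.app (ι.obj P)) := h.isIso_counit_app Fh hinv LF εh P
  have h4 : (L ⋙ LF).map (e P).hom ≫ εh.app (q.obj (o P)) = εh.app (ι.obj P) ≫ Fh.map (e P).hom :=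
    εh.naturality (e P).hom
  haveI h5 : IsIso (εh.app (q.obj (o P))) := by
    have : εh.app (q.obj (o P)) =
        inv ((L ⋙ LF).map (e P).hom) ≫ εh.app (ι.obj P) ≫ Fh.map (e P).hom := by
      rw [IsIso.eq_inv_comp, h4]
    rw [this]; infer_instance
  have h6 := descε_app q Wq L L₀ eL F Fh eF LF ε (o P)
  have h7 : ε.app (o P) = inv (LF.map (eL.hom.app (o P))) ≫ εh.app (q.obj (o P)) ≫
      eF.hom.app (o P) := by
    rw [IsIso.eq_inv_comp, h6]; simp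
  rw [h7]; infer_instance

end Main

end Groth.Agent.Lib.helper13.Adapted2
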