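import Mathlib
import Groth.Agent.Lib.Helper13.Adapted2B
import Groth.Agent.Lib.Helper25.LDerAdapted

/-!
# Adapted classes of cochain complexes as `IsAdapted` data (helper13)

`P₀` a class of cochain complexes with `hzero`, `hshift`, `hcone`, `hres₀` (as in helper25's
`LDerAdapted`).  Then (no isomorphism closure, so that objects of the subcategory are literally
complexes):
* `isAdapted_strictP` : `IsAdapted Qh quasiIso (strictP P₀).ι W'`
* `isAdaptedCx_strictP` : `IsAdaptedCx quotient (strictP P₀).ι W' P₀ quasiIso (·.obj.as) (Iso.refl)`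
* `isIso_counit_app₂` : two-variable version of helper25's `isIso_counit_app_Q`.
* `isIso_counit_app₃` : three-variable version (`Cx × (Cx × Cx)`).
-/

set_option autoImplicit false
universe v₁ v₂ v₃ u₁ u₂ u₃
open CategoryTheory CategoryTheory.Limits Pretriangulated

namespace Groth.Agent.Lib.helper13.Adapted2

open Groth.Agent.Lib.Helper25.LDerAdapted

section Tri

variable {C : Type u₁} [Category.{v₁} C] [HasZeroObject C] [HasShift C ℤ] [Preadditive C]
  [∀ n : ℤ, (shiftFunctor C n).Additive] [Pretriangulated C] [IsTriangulated C]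
  {D : Type u₂} [Category.{v₂} D]
  (A B : ObjectProperty C) [A.IsTriangulated]
  [B.IsTriangulated] [B.IsClosedUnderIsomorphisms]
  (hres : ∀ X : C, ∃ (P : C) (s : P ⟶ X), A P ∧ B.trW s)

omit [IsTriangulated C] in
lemma trW_inf_of_trW {X Y : C} (f : X ⟶ Y) (hX : A X) (hY : A Y) (hf : B.trW f) :
    (A ⊓ B).trW f := by
  rw [ObjectProperty.trW_iff] at hf ⊢
  obtain ⟨W, g, k, hT, hW⟩ := hf
  obtain ⟨W', hW', ⟨e⟩⟩ : A.isoClosure W := A.ext_of_isTriangulatedClosed₃' _ hT hX hY
  exact ⟨W', g ≫ e.hom, e.inv ≫ k, isomorphic_distinguished _ hT _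
    (Triangle.isoMk _ _ (Iso.refl _) (Iso.refl _) e.symm
      ((Category.comp_id _).trans (Category.id_comp _).symm)
      (by
        change (g ≫ e.hom) ≫ e.inv = 𝟙 _ ≫ g
        rw [Category.assoc, Iso.hom_inv_id, Category.comp_id, Category.id_comp])
      (by
        change (e.inv ≫ k) ≫ (𝟙 X)⟦(1 : ℤ)⟧' = e.inv ≫ k
        rw [CategoryTheory.Functor.map_id, Category.comp_id])), ⟨hW', B.prop_of_iso e hW⟩⟩

omit [IsTriangulated C] in
lemma trW_inverseImage_ι_eq : (B.inverseImage A.ι).trW = B.trW.inverseImage A.ι := by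
  ext X Y f
  rw [ObjectProperty.trW_inverseImage_ι_iff, MorphismProperty.inverseImage_iff]
  exact ⟨ObjectProperty.trW_monotone (fun _ h => h.2) _,
    fun h => trW_inf_of_trW A B _ X.property Y.property h⟩

include hres in
lemma isVerdierLeftLocalizing' : A.IsVerdierLeftLocalizing B := by
  rw [ObjectProperty.isVerdierLeftLocalizing_iff]
  intro X Y s hY hs
  obtain ⟨Z, a, hZ, ha⟩ := hres X
  exact ⟨Z, a ≫ s, a, hZ, trW_inf_of_trW A B _ hZ hY
    (MorphismProperty.comp_mem _ _ _ ha hs), rfl⟩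

variable (L : C ⥤ D) [L.IsLocalization B.trW]

include hres in
lemma isLocalization_ι_comp' : (A.ι ⋙ L).IsLocalization (B.trW.inverseImage A.ι) := by
  rw [← trW_inverseImage_ι_eq]
  haveI := isVerdierLeftLocalizing' A B hres
  haveI : L.EssSurj := Localization.essSurj L B.trW
  haveI : (A.ι ⋙ L).EssSurj := ⟨fun Y => by
    obtain ⟨P, s, hP, hs⟩ := hres (L.objPreimage Y)
    haveI := Localization.inverts L B.trW s hs
    exact ⟨⟨P, hP⟩, ⟨asIso (L.map s) ≪≫ L.objObjPreimageIso Y⟩⟩⟩
  exact (A.triangulatedLocalizerMorphism B).isLocalization_of_isLocalizedFullyFaithful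
    (L₂ := L) (L₁ := A.ι ⋙ L) (F := 𝟭 D) (Functor.rightUnitor _).symm

include hres in
/-- Abstract triangulated version: a triangulated subcategory with resolutions is adapted. -/
theorem isAdapted_of_triangulated :
    IsAdapted L B.trW A.ι (B.trW.inverseImage A.ι) where
  full := inferInstance
  faithful := inferInstance
  isLocalization := isLocalization_ι_comp' A B hres L
  hres X := by
    obtain ⟨P, s, hP, hs⟩ := hres X
    exact ⟨⟨P, hP⟩, s, hs⟩
  harrow := by
    intro X Y f PX PY sX sY hsY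
    obtain ⟨P'', t, g, hP'', ht, fac⟩ := exists_arrow_resolution A B hres f sX sY hsY
    exact ⟨⟨P'', hP''⟩, A.homMk t, A.homMk g, ht, fac⟩

end Tri

section Cx

universe w v u
open HomotopyCategory

variable {A₀ : Type u} [Category.{v} A₀] [Abelian A₀] [HasDerivedCategory.{w} A₀]
  (P₀ : ObjectProperty (CochainComplex A₀ ℤ))
  (hzero : ∃ Z : CochainComplex A₀ ℤ, IsZero Z ∧ P₀ Z)
  (hshift : ∀ (E : CochainComplex A₀ ℤ) (n : ℤ), P₀ E → P₀ (E⟦n⟧))
  (hcone : ∀ {E E' : CochainComplex A₀ ℤ} (f : E ⟶ E'), P₀ E → P₀ E' →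
    P₀ (CochainComplex.mappingCone f))
  (hres₀ : ∀ E : CochainComplex A₀ ℤ, ∃ (E' : CochainComplex A₀ ℤ) (f : E' ⟶ E),
    P₀ E' ∧ QuasiIso f)

/-- The class of maps in the subcategory of adapted complexes (up to homotopy). -/
abbrev W'P : MorphismProperty (strictP P₀).FullSubcategory :=
  (HomotopyCategory.quasiIso A₀ (ComplexShape.up ℤ)).inverseImage (strictP P₀).ι

include hzero hshift hcone hres₀ in
theorem isAdapted_strictP :
    IsAdapted (DerivedCategory.Qh : HomotopyCategory A₀ (ComplexShape.up ℤ) ⥤ _)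
      (HomotopyCategory.quasiIso A₀ (ComplexShape.up ℤ)) (strictP P₀).ι (W'P P₀) := by
  haveI := isTriangulated_strictP P₀ hzero hshift hcone
  have hW : HomotopyCategory.quasiIso A₀ (ComplexShape.up ℤ) = (subcategoryAcyclic A₀).trW :=
    quasiIso_eq_trW_subcategoryAcyclic _
  haveI : DerivedCategory.Qh.IsLocalization (subcategoryAcyclic A₀).trW := by
    rw [← hW]; infer_instance
  unfold W'P
  rw [hW]
  refine isAdapted_of_triangulated (strictP P₀) (subcategoryAcyclic A₀) ?_ DerivedCategory.Qh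
  intro X
  obtain ⟨K, rfl⟩ := X.quotient_obj_surjective
  obtain ⟨E', f, hE', hf⟩ := hres₀ K
  refine ⟨(quotient _ _).obj E', (quotient _ _).map f, (strictP_quotient_obj_iff E').2 hE', ?_⟩
  rw [← hW, quotient_map_mem_quasiIso_iff, HomologicalComplex.mem_quasiIso_iff]
  exact hf

instance containsIdentities_W'P : (W'P P₀).ContainsIdentities := by
  unfold W'P
  infer_instance

theorem isAdaptedCx_strictP :
    IsAdaptedCx (quotient A₀ (ComplexShape.up ℤ)) (strictP P₀).ι (W'P P₀) P₀
      (HomologicalComplex.quasiIso A₀ (ComplexShape.up ℤ)) (fun P => P.obj.as)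
      (fun P => Iso.refl _) := by
  refine ⟨fun P => ?_, fun X₀ hX₀ => ⟨⟨(quotient _ _).obj X₀, (strictP_quotient_obj_iff X₀).2 hX₀⟩,
    rfl⟩, ?_⟩
  · exact (strictP_quotient_obj_iff (P₀ := P₀) P.obj.as).1 P.property
  · intro P P' t ht
    obtain ⟨f, hf⟩ := (quotient A₀ (ComplexShape.up ℤ)).map_surjective
      (X := P.obj.as) (Y := P'.obj.as) t.hom
    refine ⟨f, ?_, ?_⟩
    · have h1 : HomotopyCategory.quasiIso A₀ (ComplexShape.up ℤ) t.hom := ht
      rw [← hf] at h1
      exact (quotient_map_mem_quasiIso_iff (C := A₀) (c := ComplexShape.up ℤ) f).1 h1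
    · rw [hf]
      exact ((Category.id_comp _).trans (Category.comp_id _)).symm

end Cx

end Groth.Agent.Lib.helper13.Adapted2
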