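import Mathlib
import Groth.Agent.Lib.Helper13.Adapted2C

/-!
# Derived functors of two and three variables are computed on adapted tuples (helper13)

`isIso_counit_app₂`, `isIso_counit_app₃` : for `F : Cx(A₁) × Cx(A₂) ⥤ H` (resp. on
`Cx(A₁) × (Cx(A₂) × Cx(A₃))`) inverting tuples of homotopy equivalences, and adapted classes
`P₁`, `P₂` (, `P₃`) such that `F` inverts tuples of quasi-isomorphisms between adapted tuples, the
counit of ANY left derived functor of `F` along `Q × Q` (resp. `Q × (Q × Q)`) is invertible at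
adapted tuples.
-/

set_option autoImplicit false
universe v₁ v₂ v₃ u₁ u₂ u₃
open CategoryTheory CategoryTheory.Limits Pretriangulated
open scoped ZeroObject

namespace Groth.Agent.Lib.helper13.Adapted2

open Groth.Agent.Lib.Helper25.LDerAdapted HomotopyCategory

universe w v u v' u'

/-- The hypotheses on an adapted class of complexes, bundled. -/
structure IsAdaptedClass {A₀ : Type u} [Category.{v} A₀] [Abelian A₀]
    (P₀ : ObjectProperty (CochainComplex A₀ ℤ)) : Prop where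
  hzero : ∃ Z : CochainComplex A₀ ℤ, IsZero Z ∧ P₀ Z
  hshift : ∀ (E : CochainComplex A₀ ℤ) (n : ℤ), P₀ E → P₀ (E⟦n⟧)
  hcone : ∀ {E E' : CochainComplex A₀ ℤ} (f : E ⟶ E'), P₀ E → P₀ E' →
    P₀ (CochainComplex.mappingCone f)
  hres₀ : ∀ E : CochainComplex A₀ ℤ, ∃ (E' : CochainComplex A₀ ℤ) (f : E' ⟶ E),
    P₀ E' ∧ QuasiIso f

/-- All complexes form an adapted class. -/
lemma isAdaptedClass_top {A₀ : Type u} [Category.{v} A₀] [Abelian A₀] :
    IsAdaptedClass (A₀ := A₀) (fun _ => True) where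
  hzero := ⟨0, isZero_zero _, trivial⟩
  hshift _ _ _ := trivial
  hcone _ _ _ := trivial
  hres₀ E := ⟨E, 𝟙 E, trivial, inferInstance⟩

variable {A₁ : Type u} [Category.{v} A₁] [Abelian A₁] [HasDerivedCategory.{w} A₁]
  {A₂ : Type u} [Category.{v} A₂] [Abelian A₂] [HasDerivedCategory.{w} A₂]
  {A₃ : Type u} [Category.{v} A₃] [Abelian A₃] [HasDerivedCategory.{w} A₃]
  {H : Type u'} [Category.{v'} H]

section Two

variable (P₁ : ObjectProperty (CochainComplex A₁ ℤ)) (hP₁ : IsAdaptedClass P₁)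
  (P₂ : ObjectProperty (CochainComplex A₂ ℤ)) (hP₂ : IsAdaptedClass P₂)
  (F : CochainComplex A₁ ℤ × CochainComplex A₂ ℤ ⥤ H)
  (hFq : ((HomologicalComplex.homotopyEquivalences A₁ (ComplexShape.up ℤ)).prod
    (HomologicalComplex.homotopyEquivalences A₂ (ComplexShape.up ℤ))).IsInvertedBy F)
  (hF₀ : ∀ {X X' : CochainComplex A₁ ℤ × CochainComplex A₂ ℤ} (f : X ⟶ X'),
    P₁ X.1 → P₂ X.2 → P₁ X'.1 → P₂ X'.2 → QuasiIso f.1 → QuasiIso f.2 → IsIso (F.map f))
  (LF : DerivedCategory A₁ × DerivedCategory A₂ ⥤ H)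
  (ε : (DerivedCategory.Q.prod DerivedCategory.Q) ⋙ LF ⟶ F)
  [LF.IsLeftDerivedFunctor ε ((HomologicalComplex.quasiIso A₁ (ComplexShape.up ℤ)).prod
    (HomologicalComplex.quasiIso A₂ (ComplexShape.up ℤ)))]

include hP₁ hP₂ hFq hF₀ in
theorem isIso_counit_app₂ (E₁ : CochainComplex A₁ ℤ) (E₂ : CochainComplex A₂ ℤ)
    (h₁ : P₁ E₁) (h₂ : P₂ E₂) : IsIso (ε.app (E₁, E₂)) := by
  have a₁ := isAdapted_strictP P₁ hP₁.hzero hP₁.hshift hP₁.hcone hP₁.hres₀
  have a₂ := isAdapted_strictP P₂ hP₂.hzero hP₂.hshift hP₂.hcone hP₂.hres₀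
  have c₁ := isAdaptedCx_strictP P₁
  have c₂ := isAdaptedCx_strictP P₂
  let eL : ((quotient A₁ (ComplexShape.up ℤ)).prod (quotient A₂ (ComplexShape.up ℤ))) ⋙
      (DerivedCategory.Qh.prod DerivedCategory.Qh) ≅
      (DerivedCategory.Q.prod DerivedCategory.Q : _ ⥤ DerivedCategory A₁ × DerivedCategory A₂) :=
    NatIso.prod (DerivedCategory.quotientCompQhIso A₁) (DerivedCategory.quotientCompQhIso A₂)
  exact isIso_counit_app_cx
    ((HomologicalComplex.homotopyEquivalences A₁ (ComplexShape.up ℤ)).prod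
      (HomologicalComplex.homotopyEquivalences A₂ (ComplexShape.up ℤ)))
    ((HomologicalComplex.quasiIso A₁ (ComplexShape.up ℤ)).prod
      (HomologicalComplex.quasiIso A₂ (ComplexShape.up ℤ)))
    eL (a₁.prod a₂) (c₁.prod c₂) F hFq
    (fun f hX hX' hf => hF₀ f hX.1 hX.2 hX'.1 hX'.2
      ((HomologicalComplex.mem_quasiIso_iff _).1 hf.1)
      ((HomologicalComplex.mem_quasiIso_iff _).1 hf.2))
    LF ε (E₁, E₂) ⟨h₁, h₂⟩

end Two

section Three

variable (P₁ : ObjectProperty (CochainComplex A₁ ℤ)) (hP₁ : IsAdaptedClass P₁)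
  (P₂ : ObjectProperty (CochainComplex A₂ ℤ)) (hP₂ : IsAdaptedClass P₂)
  (P₃ : ObjectProperty (CochainComplex A₃ ℤ)) (hP₃ : IsAdaptedClass P₃)
  (F : CochainComplex A₁ ℤ × (CochainComplex A₂ ℤ × CochainComplex A₃ ℤ) ⥤ H)
  (hFq : ((HomologicalComplex.homotopyEquivalences A₁ (ComplexShape.up ℤ)).prod
    ((HomologicalComplex.homotopyEquivalences A₂ (ComplexShape.up ℤ)).prod
      (HomologicalComplex.homotopyEquivalences A₃ (ComplexShape.up ℤ)))).IsInvertedBy F)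
  (hF₀ : ∀ {X X' : CochainComplex A₁ ℤ × (CochainComplex A₂ ℤ × CochainComplex A₃ ℤ)}
    (f : X ⟶ X'), P₁ X.1 → P₂ X.2.1 → P₃ X.2.2 → P₁ X'.1 → P₂ X'.2.1 → P₃ X'.2.2 →
    QuasiIso f.1 → QuasiIso f.2.1 → QuasiIso f.2.2 → IsIso (F.map f))
  (LF : DerivedCategory A₁ × (DerivedCategory A₂ × DerivedCategory A₃) ⥤ H)
  (ε : ((DerivedCategory.Q (C := A₁)).prod ((DerivedCategory.Q (C := A₂)).prod
    (DerivedCategory.Q (C := A₃)))) ⋙ LF ⟶ F)
  [LF.IsLeftDerivedFunctor ε ((HomologicalComplex.quasiIso A₁ (ComplexShape.up ℤ)).prod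
    ((HomologicalComplex.quasiIso A₂ (ComplexShape.up ℤ)).prod
      (HomologicalComplex.quasiIso A₃ (ComplexShape.up ℤ))))]

include hP₁ hP₂ hP₃ hFq hF₀ in
theorem isIso_counit_app₃ (E₁ : CochainComplex A₁ ℤ) (E₂ : CochainComplex A₂ ℤ)
    (E₃ : CochainComplex A₃ ℤ) (h₁ : P₁ E₁) (h₂ : P₂ E₂) (h₃ : P₃ E₃) :
    IsIso (ε.app (E₁, (E₂, E₃))) := by
  have a₁ := isAdapted_strictP P₁ hP₁.hzero hP₁.hshift hP₁.hcone hP₁.hres₀
  have a₂ := isAdapted_strictP P₂ hP₂.hzero hP₂.hshift hP₂.hcone hP₂.hres₀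
  have a₃ := isAdapted_strictP P₃ hP₃.hzero hP₃.hshift hP₃.hcone hP₃.hres₀
  have c₁ := isAdaptedCx_strictP P₁
  have c₂ := isAdaptedCx_strictP P₂
  have c₃ := isAdaptedCx_strictP P₃
  let eL : ((quotient A₁ (ComplexShape.up ℤ)).prod
        ((quotient A₂ (ComplexShape.up ℤ)).prod (quotient A₃ (ComplexShape.up ℤ)))) ⋙
      ((DerivedCategory.Qh (C := A₁)).prod ((DerivedCategory.Qh (C := A₂)).prod
        (DerivedCategory.Qh (C := A₃)))) ≅
      ((DerivedCategory.Q (C := A₁)).prod ((DerivedCategory.Q (C := A₂)).prod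
        (DerivedCategory.Q (C := A₃)))) :=
    NatIso.prod (DerivedCategory.quotientCompQhIso A₁)
      (NatIso.prod (DerivedCategory.quotientCompQhIso A₂) (DerivedCategory.quotientCompQhIso A₃))
  exact isIso_counit_app_cx
    ((HomologicalComplex.homotopyEquivalences A₁ (ComplexShape.up ℤ)).prod
      ((HomologicalComplex.homotopyEquivalences A₂ (ComplexShape.up ℤ)).prod
        (HomologicalComplex.homotopyEquivalences A₃ (ComplexShape.up ℤ))))
    ((HomologicalComplex.quasiIso A₁ (ComplexShape.up ℤ)).prod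
      ((HomologicalComplex.quasiIso A₂ (ComplexShape.up ℤ)).prod
        (HomologicalComplex.quasiIso A₃ (ComplexShape.up ℤ))))
    eL (a₁.prod (a₂.prod a₃)) (c₁.prod (c₂.prod c₃)) F hFq
    (fun f hX hX' hf => hF₀ f hX.1 hX.2.1 hX.2.2 hX'.1 hX'.2.1 hX'.2.2
      ((HomologicalComplex.mem_quasiIso_iff _).1 hf.1)
      ((HomologicalComplex.mem_quasiIso_iff _).1 hf.2.1)
      ((HomologicalComplex.mem_quasiIso_iff _).1 hf.2.2))
    LF ε (E₁, (E₂, E₃)) ⟨h₁, h₂, h₃⟩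

end Three

end Groth.Agent.Lib.helper13.Adapted2
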