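import Mathlib

/-!
# Homotopy classes versus derived category morphisms: transport along functors (helper13)

* `bijective_mapHomotopyCategory_map`: a fully faithful additive functor induces bijections on
  homotopy classes of chain maps.
* `mapDerivedCategoryCompIso`, `faithful_mapDerivedCategory_of_retraction`: an exact functor `Φ`
  with an exact retraction `Ψ` (`Φ ⋙ Ψ ≅ 𝟭`) induces a faithful functor on derived categories.
* `bijective_Qh_map_of_map`: transport of "`Hom_K(E, F) → Hom_D(E, F)` is bijective" along a fully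
  faithful exact functor inducing a faithful functor on derived categories.
-/

set_option autoImplicit false
universe v u v' u'

open CategoryTheory Category Limits

attribute [local instance] HasDerivedCategory.standard

namespace Groth.Agent.Lib.helper13.AffK

section homotopy

variable {𝒜 : Type u} [Category.{v} 𝒜] [Preadditive 𝒜] {ℬ : Type u'} [Category.{v'} ℬ]
  [Preadditive ℬ] (Φ : 𝒜 ⥤ ℬ) [Φ.Additive] [Φ.Full] [Φ.Faithful]
  {ι : Type*} (c : ComplexShape ι)

/-- lift a chain map along a fully faithful functor -/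
noncomputable def preimageHom {K L : HomologicalComplex 𝒜 c}
    (g : (Φ.mapHomologicalComplex c).obj K ⟶ (Φ.mapHomologicalComplex c).obj L) : K ⟶ L where
  f i := Φ.preimage (g.f i : Φ.obj (K.X i) ⟶ Φ.obj (L.X i))
  comm' i j _ := by
    apply Φ.map_injective
    rw [Functor.map_comp, Functor.map_comp, Φ.map_preimage, Φ.map_preimage]
    exact g.comm i j

lemma map_preimageHom {K L : HomologicalComplex 𝒜 c}
    (g : (Φ.mapHomologicalComplex c).obj K ⟶ (Φ.mapHomologicalComplex c).obj L) :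
    (Φ.mapHomologicalComplex c).map (preimageHom Φ c g) = g := by
  ext i
  simp [preimageHom]

/-- lift a homotopy along a fully faithful functor -/
noncomputable def preimageHomotopy {K L : HomologicalComplex 𝒜 c} (g₁ g₂ : K ⟶ L)
    (h : Homotopy ((Φ.mapHomologicalComplex c).map g₁) ((Φ.mapHomologicalComplex c).map g₂)) :
    Homotopy g₁ g₂ where
  hom i j := Φ.preimage (h.hom i j)
  zero i j hij := by
    apply Φ.map_injective
    rw [Φ.map_preimage, h.zero i j hij, Φ.map_zero]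
    rfl
  comm i := by
    apply Φ.map_injective
    have := h.comm i
    dsimp [dNext, prevD] at this
    simp only [dNext, prevD, AddMonoidHom.mk'_apply, Functor.map_add, Functor.map_comp,
      Functor.map_preimage]
    exact this

theorem bijective_mapHomotopyCategory_map (K L : HomologicalComplex 𝒜 c) :
    Function.Bijective (fun φ : (HomotopyCategory.quotient 𝒜 c).obj K ⟶
      (HomotopyCategory.quotient 𝒜 c).obj L => (Φ.mapHomotopyCategory c).map φ) := by
  constructor
  · intro φ₁ φ₂ h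
    obtain ⟨g₁, rfl⟩ := (HomotopyCategory.quotient 𝒜 c).map_surjective φ₁
    obtain ⟨g₂, rfl⟩ := (HomotopyCategory.quotient 𝒜 c).map_surjective φ₂
    have h' : (HomotopyCategory.quotient ℬ c).map ((Φ.mapHomologicalComplex c).map g₁) =
        (HomotopyCategory.quotient ℬ c).map ((Φ.mapHomologicalComplex c).map g₂) := h
    exact HomotopyCategory.eq_of_homotopy _ _
      (preimageHomotopy Φ c g₁ g₂ (HomotopyCategory.homotopyOfEq _ _ h'))
  · intro ψ
    obtain ⟨g, hg⟩ := (HomotopyCategory.quotient ℬ c).map_surjective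
      (X := (Φ.mapHomologicalComplex c).obj K) (Y := (Φ.mapHomologicalComplex c).obj L) ψ
    refine ⟨(HomotopyCategory.quotient 𝒜 c).map (preimageHom Φ c g), ?_⟩
    change (HomotopyCategory.quotient ℬ c).map
      ((Φ.mapHomologicalComplex c).map (preimageHom Φ c g)) = ψ
    rw [map_preimageHom, hg]

end homotopy

section derived

variable {𝒜 : Type u} [Category.{v} 𝒜] [Abelian 𝒜] {ℬ : Type u'} [Category.{v'} ℬ] [Abelian ℬ]
  (Φ : 𝒜 ⥤ ℬ) [Φ.Additive] [PreservesFiniteLimits Φ] [PreservesFiniteColimits Φ]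
  (Ψ : ℬ ⥤ 𝒜) [Ψ.Additive] [PreservesFiniteLimits Ψ] [PreservesFiniteColimits Ψ]

/-- the isomorphism on complexes induced by `Φ ⋙ Ψ ≅ 𝟭` -/
noncomputable def mapHCCompIso (e : Φ ⋙ Ψ ≅ 𝟭 𝒜) :
    Φ.mapHomologicalComplex (ComplexShape.up ℤ) ⋙ Ψ.mapHomologicalComplex (ComplexShape.up ℤ) ≅
      𝟭 (CochainComplex 𝒜 ℤ) :=
  NatIso.ofComponents
    (fun K => HomologicalComplex.Hom.isoOfComponents (fun i => e.app (K.X i))
      (fun i j _ => by
        dsimp
        exact (e.hom.naturality (K.d i j)).symm))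
    (fun {K L} f => by
      ext i
      dsimp
      exact e.hom.naturality (f.f i))

/-- `Φ ⋙ Ψ ≅ 𝟭` induces `D(Φ) ⋙ D(Ψ) ≅ 𝟭` -/
noncomputable def mapDerivedCategoryCompIso (e : Φ ⋙ Ψ ≅ 𝟭 𝒜) :
    Φ.mapDerivedCategory ⋙ Ψ.mapDerivedCategory ≅ 𝟭 (DerivedCategory 𝒜) :=
  Localization.liftNatIso DerivedCategory.Q (HomologicalComplex.quasiIso 𝒜 (ComplexShape.up ℤ))
    (DerivedCategory.Q ⋙ (Φ.mapDerivedCategory ⋙ Ψ.mapDerivedCategory))
    (DerivedCategory.Q ⋙ 𝟭 _) _ _
    ((Functor.associator _ _ _).symm ≪≫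
      Functor.isoWhiskerRight Φ.mapDerivedCategoryFactors Ψ.mapDerivedCategory ≪≫
      Functor.associator _ _ _ ≪≫
      Functor.isoWhiskerLeft _ Ψ.mapDerivedCategoryFactors ≪≫
      (Functor.associator _ _ _).symm ≪≫
      Functor.isoWhiskerRight (mapHCCompIso Φ Ψ e) DerivedCategory.Q ≪≫
      Functor.leftUnitor _ ≪≫ (Functor.rightUnitor _).symm)

lemma faithful_mapDerivedCategory_of_retraction (e : Φ ⋙ Ψ ≅ 𝟭 𝒜) :
    Φ.mapDerivedCategory.Faithful :=
  Functor.Faithful.of_comp_iso (mapDerivedCategoryCompIso Φ Ψ e)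

variable [Φ.Full] [Φ.Faithful]

/-- transport of bijectivity of `Hom_K(E, F) → Hom_D(E, F)` -/
theorem bijective_Qh_map_of_map [Φ.mapDerivedCategory.Faithful] (E F : CochainComplex 𝒜 ℤ)
    (h : Function.Bijective (fun φ :
      (HomotopyCategory.quotient ℬ (ComplexShape.up ℤ)).obj
        ((Φ.mapHomologicalComplex (ComplexShape.up ℤ)).obj E) ⟶
      (HomotopyCategory.quotient ℬ (ComplexShape.up ℤ)).obj
        ((Φ.mapHomologicalComplex (ComplexShape.up ℤ)).obj F) =>
      (DerivedCategory.Qh (C := ℬ)).map φ)) :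
    Function.Bijective (fun φ : (HomotopyCategory.quotient 𝒜 (ComplexShape.up ℤ)).obj E ⟶
      (HomotopyCategory.quotient 𝒜 (ComplexShape.up ℤ)).obj F =>
      (DerivedCategory.Qh (C := 𝒜)).map φ) := by
  have hK := bijective_mapHomotopyCategory_map Φ (ComplexShape.up ℤ) E F
  let a := Φ.mapDerivedCategoryFactorsh.app
    ((HomotopyCategory.quotient 𝒜 (ComplexShape.up ℤ)).obj E)
  let b := Φ.mapDerivedCategoryFactorsh.app
    ((HomotopyCategory.quotient 𝒜 (ComplexShape.up ℤ)).obj F)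
  -- the commutative square
  have sq : ∀ φ : (HomotopyCategory.quotient 𝒜 (ComplexShape.up ℤ)).obj E ⟶
      (HomotopyCategory.quotient 𝒜 (ComplexShape.up ℤ)).obj F,
      Φ.mapDerivedCategory.map ((DerivedCategory.Qh (C := 𝒜)).map φ) =
        a.hom ≫ (DerivedCategory.Qh (C := ℬ)).map
          ((Φ.mapHomotopyCategory (ComplexShape.up ℤ)).map φ) ≫ b.inv := by
    intro φ
    have := Φ.mapDerivedCategoryFactorsh.hom.naturality φ
    dsimp at this
    dsimp only [a, b, Iso.app_hom, Iso.app_inv]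
    rw [← reassoc_of% this, Iso.hom_inv_id_app]
    exact (comp_id _).symm
  constructor
  · intro φ₁ φ₂ hφ
    have h1 : Φ.mapDerivedCategory.map ((DerivedCategory.Qh (C := 𝒜)).map φ₁) =
        Φ.mapDerivedCategory.map ((DerivedCategory.Qh (C := 𝒜)).map φ₂) := congrArg _ hφ
    rw [sq, sq, cancel_epi, cancel_mono] at h1
    exact hK.1 (h.1 h1)
  · intro ψ
    obtain ⟨θ, hθ⟩ := h.2 (a.inv ≫ Φ.mapDerivedCategory.map ψ ≫ b.hom)
    obtain ⟨φ, rfl⟩ := hK.2 θ
    refine ⟨φ, Φ.mapDerivedCategory.map_injective ?_⟩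
    have hθ' : (DerivedCategory.Qh (C := ℬ)).map
        ((Φ.mapHomotopyCategory (ComplexShape.up ℤ)).map φ) =
        a.inv ≫ Φ.mapDerivedCategory.map ψ ≫ b.hom := hθ
    calc Φ.mapDerivedCategory.map ((DerivedCategory.Qh (C := 𝒜)).map φ)
        = a.hom ≫ (DerivedCategory.Qh (C := ℬ)).map
          ((Φ.mapHomotopyCategory (ComplexShape.up ℤ)).map φ) ≫ b.inv := sq φ
      _ = a.hom ≫ (a.inv ≫ Φ.mapDerivedCategory.map ψ ≫ b.hom) ≫ b.inv := by rw [hθ']
      _ = Φ.mapDerivedCategory.map ψ := by simp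

/-- transport of bijectivity of `Hom_K(E, F) → Hom_D(E, F)` in the other direction -/
theorem bijective_Qh_map_map [Φ.mapDerivedCategory.Faithful] [Φ.mapDerivedCategory.Full]
    (E F : CochainComplex 𝒜 ℤ)
    (h : Function.Bijective (fun φ : (HomotopyCategory.quotient 𝒜 (ComplexShape.up ℤ)).obj E ⟶
      (HomotopyCategory.quotient 𝒜 (ComplexShape.up ℤ)).obj F =>
      (DerivedCategory.Qh (C := 𝒜)).map φ)) :
    Function.Bijective (fun φ :
      (HomotopyCategory.quotient ℬ (ComplexShape.up ℤ)).obj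
        ((Φ.mapHomologicalComplex (ComplexShape.up ℤ)).obj E) ⟶
      (HomotopyCategory.quotient ℬ (ComplexShape.up ℤ)).obj
        ((Φ.mapHomologicalComplex (ComplexShape.up ℤ)).obj F) =>
      (DerivedCategory.Qh (C := ℬ)).map φ) := by
  have hK := bijective_mapHomotopyCategory_map Φ (ComplexShape.up ℤ) E F
  let a := Φ.mapDerivedCategoryFactorsh.app
    ((HomotopyCategory.quotient 𝒜 (ComplexShape.up ℤ)).obj E)
  let b := Φ.mapDerivedCategoryFactorsh.app
    ((HomotopyCategory.quotient 𝒜 (ComplexShape.up ℤ)).obj F)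
  have sq : ∀ φ : (HomotopyCategory.quotient 𝒜 (ComplexShape.up ℤ)).obj E ⟶
      (HomotopyCategory.quotient 𝒜 (ComplexShape.up ℤ)).obj F,
      (DerivedCategory.Qh (C := ℬ)).map ((Φ.mapHomotopyCategory (ComplexShape.up ℤ)).map φ) =
        a.inv ≫ Φ.mapDerivedCategory.map ((DerivedCategory.Qh (C := 𝒜)).map φ) ≫ b.hom := by
    intro φ
    have := Φ.mapDerivedCategoryFactorsh.hom.naturality φ
    dsimp at this
    dsimp only [a, b, Iso.app_hom, Iso.app_inv]
    rw [this, Iso.inv_hom_id_app_assoc]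
  constructor
  · intro θ₁ θ₂ hθ
    obtain ⟨φ₁, rfl⟩ := hK.2 θ₁
    obtain ⟨φ₂, rfl⟩ := hK.2 θ₂
    have h1 : (DerivedCategory.Qh (C := ℬ)).map
        ((Φ.mapHomotopyCategory (ComplexShape.up ℤ)).map φ₁) =
        (DerivedCategory.Qh (C := ℬ)).map
          ((Φ.mapHomotopyCategory (ComplexShape.up ℤ)).map φ₂) := hθ
    rw [sq, sq, cancel_epi, cancel_mono] at h1
    have h2 := h.1 (Φ.mapDerivedCategory.map_injective h1)
    dsimp only
    rw [h2]
  · intro ψ
    obtain ⟨χ, hχ⟩ := Φ.mapDerivedCategory.map_surjective (a.hom ≫ ψ ≫ b.inv)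
    obtain ⟨φ, rfl⟩ := h.2 χ
    refine ⟨(Φ.mapHomotopyCategory (ComplexShape.up ℤ)).map φ, ?_⟩
    dsimp only at hχ
    calc (DerivedCategory.Qh (C := ℬ)).map ((Φ.mapHomotopyCategory (ComplexShape.up ℤ)).map φ)
        = a.inv ≫ Φ.mapDerivedCategory.map ((DerivedCategory.Qh (C := 𝒜)).map φ) ≫ b.hom := sq φ
      _ = a.inv ≫ (a.hom ≫ ψ ≫ b.inv) ≫ b.hom := by rw [hχ]
      _ = ψ := by
        simp only [Category.assoc, Iso.inv_hom_id_assoc]
        have hb : b.inv ≫ b.hom = 𝟙 _ := b.inv_hom_id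
        erw [hb]
        exact Category.comp_id ψ

/-- bijectivity of `Hom_K(E, F) → Hom_D(E, F)` is invariant under isomorphisms of complexes -/
theorem bijective_Qh_map_of_iso {E E' F F' : CochainComplex 𝒜 ℤ} (e : E ≅ E') (f : F ≅ F')
    (h : Function.Bijective (fun φ : (HomotopyCategory.quotient 𝒜 (ComplexShape.up ℤ)).obj E ⟶
      (HomotopyCategory.quotient 𝒜 (ComplexShape.up ℤ)).obj F =>
      (DerivedCategory.Qh (C := 𝒜)).map φ)) :
    Function.Bijective (fun φ : (HomotopyCategory.quotient 𝒜 (ComplexShape.up ℤ)).obj E' ⟶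
      (HomotopyCategory.quotient 𝒜 (ComplexShape.up ℤ)).obj F' =>
      (DerivedCategory.Qh (C := 𝒜)).map φ) := by
  let eK := (HomotopyCategory.quotient 𝒜 (ComplexShape.up ℤ)).mapIso e
  let fK := (HomotopyCategory.quotient 𝒜 (ComplexShape.up ℤ)).mapIso f
  constructor
  · intro φ₁ φ₂ hφ
    have h1 : (DerivedCategory.Qh (C := 𝒜)).map φ₁ = (DerivedCategory.Qh (C := 𝒜)).map φ₂ := hφ
    have h2 := h.1 (a₁ := eK.hom ≫ φ₁ ≫ fK.inv) (a₂ := eK.hom ≫ φ₂ ≫ fK.inv) (by
      dsimp only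
      rw [Functor.map_comp, Functor.map_comp, Functor.map_comp, Functor.map_comp, h1])
    rwa [cancel_epi, cancel_mono] at h2
  · intro ψ
    obtain ⟨φ, hφ⟩ := h.2 ((DerivedCategory.Qh (C := 𝒜)).map eK.hom ≫ ψ ≫
      (DerivedCategory.Qh (C := 𝒜)).map fK.inv)
    refine ⟨eK.inv ≫ φ ≫ fK.hom, ?_⟩
    dsimp only at hφ ⊢
    rw [Functor.map_comp, Functor.map_comp, hφ]
    have ha : (DerivedCategory.Qh (C := 𝒜)).map eK.inv ≫
        (DerivedCategory.Qh (C := 𝒜)).map eK.hom = 𝟙 _ := by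
      rw [← Functor.map_comp, Iso.inv_hom_id, CategoryTheory.Functor.map_id]
    have hb : (DerivedCategory.Qh (C := 𝒜)).map fK.inv ≫
        (DerivedCategory.Qh (C := 𝒜)).map fK.hom = 𝟙 _ := by
      rw [← Functor.map_comp, Iso.inv_hom_id, CategoryTheory.Functor.map_id]
    rw [Category.assoc, Category.assoc, hb, Category.comp_id, reassoc_of% ha]

end derived

end Groth.Agent.Lib.helper13.AffK
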