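import Mathlib
import Groth.Agent.S0997
import Groth.Agent.S12451
import Groth.Agent.S9498
import Groth.Agent.Lib.Helper16.FLF2
import Groth.Agent.Lib.Helper13.AffK1

/-!
# Homotopy classes versus derived category morphisms on `Spec R` (helper13)

`bijective_Qh_map_Spec`: on `Spec R`, for `E` a bounded above complex of finite locally free modules
and `F` a complex of quasi-coherent modules, `Hom_K(E, F) → Hom_D(E, F)` is bijective.
-/

set_option autoImplicit false
universe u

open CategoryTheory Category Limits AlgebraicGeometry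

attribute [local instance] HasDerivedCategory.standard

namespace Groth.Agent.Lib.helper13.AffK

variable (R : CommRingCat.{u})

instance : (moduleSpecΓFunctor (R := R)).Additive :=
  (tilde.adjunction (R := R)).right_adjoint_additive

/-- the complex of global sections -/
noncomputable abbrev ΓCx (E : CochainComplex (Spec (CommRingCat.of R)).Modules ℤ) :
    CochainComplex (ModuleCat.{u} R) ℤ :=
  ((moduleSpecΓFunctor (R := R)).mapHomologicalComplex (ComplexShape.up ℤ)).obj E

/-- the tilde of a complex -/
noncomputable abbrev tildeCx' (P : CochainComplex (ModuleCat.{u} R) ℤ) :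
    CochainComplex (Spec (CommRingCat.of R)).Modules ℤ :=
  ((tilde.functor R).mapHomologicalComplex (ComplexShape.up ℤ)).obj P

/-- the counit `(Γ E)^~ ⟶ E` -/
noncomputable abbrev tildeΓHom (E : CochainComplex (Spec (CommRingCat.of R)).Modules ℤ) :
    tildeCx' R (ΓCx R E) ⟶ E :=
  (NatTrans.mapHomologicalComplex (Scheme.Modules.fromTildeΓNatTrans (R := R))
    (ComplexShape.up ℤ)).app E

lemma isIso_tildeΓHom (E : CochainComplex (Spec (CommRingCat.of R)).Modules ℤ)
    (hE : ∀ i, (E.X i).IsQuasicoherent) : IsIso (tildeΓHom R E) := by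
  haveI : ∀ i, IsIso ((tildeΓHom R E).f i) := fun i => by
    haveI := hE i
    exact inferInstanceAs (IsIso (Scheme.Modules.fromTildeΓ (E.X i)))
  exact HomologicalComplex.Hom.isIso_of_components _

/-- `(Γ E)^~ ≅ E` for a complex with quasi-coherent terms -/
noncomputable def tildeΓIso (E : CochainComplex (Spec (CommRingCat.of R)).Modules ℤ)
    (hE : ∀ i, (E.X i).IsQuasicoherent) : tildeCx' R (ΓCx R E) ≅ E :=
  @asIso _ _ _ _ (tildeΓHom R E) (isIso_tildeΓHom R E hE)

/-- on `Spec R`: for `P` bounded above with projective terms, `Hom_K(P^~, N^~) → Hom_D(P^~, N^~)` is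
bijective -/
theorem bijective_Qh_map_tilde (P N : CochainComplex (ModuleCat.{u} R) ℤ) (b : ℤ)
    [P.IsStrictlyLE b] [∀ n, Projective (P.X n)] :
    Function.Bijective (fun φ :
      (HomotopyCategory.quotient (Spec (CommRingCat.of R)).Modules (ComplexShape.up ℤ)).obj
        (tildeCx' R P) ⟶
      (HomotopyCategory.quotient (Spec (CommRingCat.of R)).Modules (ComplexShape.up ℤ)).obj
        (tildeCx' R N) =>
      (DerivedCategory.Qh (C := (Spec (CommRingCat.of R)).Modules)).map φ) := by
  haveI := Groth.Agent.S9498.preservesFiniteLimits_tilde R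
  haveI : (tilde.functor R).mapDerivedCategory.Full := (Groth.Agent.S0997.result R).1
  haveI : (tilde.functor R).mapDerivedCategory.Faithful := (Groth.Agent.S0997.result R).2.1
  haveI : P.IsKProjective := CochainComplex.isKProjective_of_projective P b
  exact bijective_Qh_map_map (tilde.functor R) P N
    (CochainComplex.IsKProjective.Qh_map_bijective P
      ((HomotopyCategory.quotient _ _).obj N))

open Groth.Agent.Lib.helper16 in
lemma projective_ΓCx_X (E : CochainComplex (Spec (CommRingCat.of R)).Modules ℤ)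
    (hE : ∀ i : ℤ, FlatMod.IsFinLocFree (E.X i)) (i : ℤ) : Projective ((ΓCx R E).X i) := by
  have hq : ∀ i, (E.X i).IsQuasicoherent := fun i =>
    FLF.isQuasicoherent_of_isFinLocFree _ (hE i)
  have e : tilde (R := R) ((ΓCx R E).X i) ≅ E.X i :=
    (HomologicalComplex.eval _ _ i).mapIso (tildeΓIso R E hq)
  have h1 : FlatMod.IsFinLocFree (tilde (R := R) ((ΓCx R E).X i)) :=
    FLF.isFinLocFree_of_iso e.symm (hE i)
  have h2 := (Groth.Agent.S12451.result (R := R) ((ΓCx R E).X i)).1 h1
  have h3 : Projective (ModuleCat.of R ((ΓCx R E).X i)) :=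
    (IsProjective.iff_projective (R := R) ((ΓCx R E).X i)).1 h2.2
  exact h3

lemma isStrictlyLE_ΓCx (E : CochainComplex (Spec (CommRingCat.of R)).Modules ℤ) (b : ℤ)
    (hEb : ∀ i : ℤ, b < i → IsZero (E.X i)) : (ΓCx R E).IsStrictlyLE b := by
  rw [CochainComplex.isStrictlyLE_iff]
  intro i hi
  exact (moduleSpecΓFunctor (R := R)).map_isZero (hEb i hi)

open Groth.Agent.Lib.helper16 in
/-- **Main result on `Spec R`** -/
theorem bijective_Qh_map_Spec (E F : CochainComplex (Spec (CommRingCat.of R)).Modules ℤ) (b : ℤ)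
    (hEb : ∀ i : ℤ, b < i → IsZero (E.X i))
    (hE : ∀ i : ℤ, FlatMod.IsFinLocFree (E.X i)) (hF : ∀ i : ℤ, (F.X i).IsQuasicoherent) :
    Function.Bijective (fun φ :
      (HomotopyCategory.quotient (Spec (CommRingCat.of R)).Modules (ComplexShape.up ℤ)).obj E ⟶
      (HomotopyCategory.quotient (Spec (CommRingCat.of R)).Modules (ComplexShape.up ℤ)).obj F =>
      (DerivedCategory.Qh (C := (Spec (CommRingCat.of R)).Modules)).map φ) := by
  have hq : ∀ i, (E.X i).IsQuasicoherent := fun i =>
    FLF.isQuasicoherent_of_isFinLocFree _ (hE i)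
  haveI := isStrictlyLE_ΓCx R E b hEb
  haveI : ∀ n, Projective ((ΓCx R E).X n) := projective_ΓCx_X R E hE
  exact bijective_Qh_map_of_iso (tildeΓIso R E hq) (tildeΓIso R F hF)
    (bijective_Qh_map_tilde R (ΓCx R E) (ΓCx R F) b)

end Groth.Agent.Lib.helper13.AffK
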