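import Mathlib
import Groth.Prelude.Def_CxOX
import Groth.Agent.Lib.Helper16.FLF5
import Groth.Agent.Lib.Helper13.AffK2

/-!
# Homotopy classes versus derived category morphisms on an affine scheme (helper13)

`bijective_Qh_map_affine`: on an affine scheme `X`, for `E` a bounded above complex of finite
locally free modules and `F` a complex of quasi-coherent modules, `Hom_K(E, F) → Hom_D(E, F)` is
bijective.
-/

set_option autoImplicit false
universe u

open CategoryTheory Category Limits AlgebraicGeometry

attribute [local instance] HasDerivedCategory.standard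

namespace Groth.Agent.Lib.helper13.AffK

open Scheme.Modules

/-- restriction along an isomorphism of schemes is an equivalence of categories of modules -/
noncomputable def restrictEquiv {X Y : Scheme.{u}} (f : X ≅ Y) : Y.Modules ≌ X.Modules :=
  CategoryTheory.Equivalence.mk (restrictFunctor f.hom) (restrictFunctor f.inv)
    (restrictFunctorId.symm ≪≫ restrictFunctorCongr f.inv_hom_id.symm ≪≫
      restrictFunctorComp f.inv f.hom)
    ((restrictFunctorComp f.hom f.inv).symm ≪≫ restrictFunctorCongr f.hom_inv_id ≪≫
      restrictFunctorId)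

instance {X Y : Scheme.{u}} (f : X ≅ Y) : (restrictFunctor f.hom).IsEquivalence :=
  (restrictEquiv f).isEquivalence_functor

open Groth.Agent.Lib.helper16 in
/-- **Main result**: on an affine scheme, for `E` bounded above with finite locally free terms and
`F` with quasi-coherent terms, `Hom_K(E, F) → Hom_D(E, F)` is bijective. -/
theorem bijective_Qh_map_affine {X : Scheme.{u}} [IsAffine X]
    (E F : CochainComplex X.Modules ℤ) (b : ℤ) (hEb : ∀ i : ℤ, b < i → IsZero (E.X i))
    (hE : ∀ i : ℤ, FlatMod.IsFinLocFree (E.X i)) (hF : ∀ i : ℤ, (F.X i).IsQuasicoherent) :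
    Function.Bijective (fun φ : (HomotopyCategory.quotient X.Modules (ComplexShape.up ℤ)).obj E ⟶
        (HomotopyCategory.quotient X.Modules (ComplexShape.up ℤ)).obj F =>
      (DerivedCategory.Qh (C := X.Modules)).map φ) := by
  let R : CommRingCat.{u} := Γ(X, ⊤)
  let f : Spec (CommRingCat.of R) ≅ X := X.isoSpec.symm
  let Φ : X.Modules ⥤ (Spec (CommRingCat.of R)).Modules := restrictFunctor f.hom
  let Ψ : (Spec (CommRingCat.of R)).Modules ⥤ X.Modules := restrictFunctor f.inv
  let e : Φ ⋙ Ψ ≅ 𝟭 X.Modules := (restrictEquiv f).unitIso.symm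
  haveI : Φ.IsEquivalence := inferInstanceAs (restrictFunctor f.hom).IsEquivalence
  haveI : Φ.mapDerivedCategory.Faithful := faithful_mapDerivedCategory_of_retraction Φ Ψ e
  refine bijective_Qh_map_of_map Φ E F ?_
  refine bijective_Qh_map_Spec R _ _ b ?_ ?_ ?_
  · intro i hi
    exact Φ.map_isZero (hEb i hi)
  · intro i
    exact FLF.isFinLocFree_restrict f.hom (hE i)
  · intro i
    haveI := hF i
    exact Scheme.Modules.isQuasicoherent_restrictFunctor f.hom (F.X i)

end Groth.Agent.Lib.helper13.AffK
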