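import Mathlib
import Groth.Agent.Lib.Helper13.KrAk1

/-!
# Approximation in one-dimensional Noetherian domains (helper13)

* `exists_mem_forall_one_lt`: simultaneous poles for finitely many `ℤᵐ⁰`-valued valuations.
* `exists_pow_mem_jacobson`: conductor argument.
* `isDedekindDomain_integralClosure` (Krull–Akizuki), `finite_heightOneSpectrum_integralClosure`.
* `exists_pow_of_valuation_lt`.
-/

set_option autoImplicit false
open scoped WithZero
open IsDedekindDomain

namespace Groth.Agent.Lib.helper13.Approx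

theorem exists_mem_forall_one_lt {K : Type*} [Field K] (A : Subring K) {ι : Type*} [Finite ι]
    (w : ι → Valuation K ℤᵐ⁰) (h : ∀ j, ∃ a ∈ A, 1 < w j a) : ∃ x ∈ A, x ≠ 0 ∧ ∀ j, 1 < w j x := by
  classical
  haveI := Fintype.ofFinite ι
  suffices H : ∀ S : Finset ι, ∃ x ∈ A, x ≠ 0 ∧ ∀ j ∈ S, 1 < w j x by
    obtain ⟨x, hx, hx0, hx'⟩ := H Finset.univ
    exact ⟨x, hx, hx0, fun j => hx' j (Finset.mem_univ j)⟩
  intro S
  induction S using Finset.induction_on with
  | empty => exact ⟨1, A.one_mem, one_ne_zero, fun j hj => absurd hj (Finset.notMem_empty j)⟩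
  | insert j₀ S hj₀ ih =>
    obtain ⟨x, hxA, hx00, hx⟩ := ih
    obtain ⟨a, haA, ha⟩ := h j₀
    by_cases hx0 : 1 < w j₀ x
    · refine ⟨x, hxA, hx00, fun j hj => ?_⟩
      rcases Finset.mem_insert.mp hj with rfl | hj
      · exact hx0
      · exact hx j hj
    · push Not at hx0
      -- choose exponents
      have hN : ∀ j ∈ S, ∃ n : ℕ, w j a ≤ (w j x) ^ n := fun j hj =>
        MulArchimedean.arch (w j a) (hx j hj)
      choose! n hn using hN
      let N := S.sup n + 1
      have hlt : ∀ j ∈ S, w j a < (w j x) ^ N := by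
        intro j hj
        calc w j a ≤ (w j x) ^ n j := hn j hj
          _ < (w j x) ^ N := by
            apply pow_lt_pow_right₀ (hx j hj)
            exact Nat.lt_succ_of_le (Finset.le_sup hj)
      have hj₀' : 1 < w j₀ (x ^ N + a) := by
        have h1 : w j₀ (x ^ N) < w j₀ a := by
          rw [map_pow]
          exact lt_of_le_of_lt (pow_le_one₀ zero_le' hx0) ha
        rw [Valuation.map_add_eq_of_lt_right _ h1]
        exact ha
      have hne : x ^ N + a ≠ 0 := by
        intro h0
        rw [h0, map_zero] at hj₀'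
        exact not_lt.mpr zero_le' hj₀'
      refine ⟨x ^ N + a, A.add_mem (A.pow_mem hxA N) haA, hne, fun j hj => ?_⟩
      rcases Finset.mem_insert.mp hj with rfl | hj
      · exact hj₀'
      · have h1 : w j a < w j (x ^ N) := by
          rw [map_pow]; exact hlt j hj
        rw [Valuation.map_add_eq_of_lt_left _ h1, map_pow]
        exact one_lt_pow₀ (hx j hj) (Nat.succ_ne_zero _)

theorem exists_pow_mem_jacobson {C D : Type*} [CommRing C] [IsDomain C] [CommRing D] [IsDomain D]
    [Algebra C D] [Algebra.IsIntegral C D] (hinj : Function.Injective (algebraMap C D))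
    (hdim : ∀ p : Ideal C, p.IsPrime → p ≠ ⊥ → p.IsMaximal)
    (b : C) (hb : b ≠ 0) (hbD : ∀ d : D, ∃ c : C, algebraMap C D c = algebraMap C D b * d)
    (y : D) (hy : y ∈ (⊥ : Ideal D).jacobson) :
    ∃ M : ℕ, ∀ M' ≥ M, ∃ c : C, algebraMap C D c = y ^ M' ∧ c ∈ (⊥ : Ideal C).jacobson := by
  classical
  let 𝔣 : Ideal D :=
    { carrier := {d | ∀ d' : D, ∃ c : C, algebraMap C D c = d * d'}
      add_mem' := by
        intro d₁ d₂ h₁ h₂ d'
        obtain ⟨c₁, hc₁⟩ := h₁ d'
        obtain ⟨c₂, hc₂⟩ := h₂ d'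
        exact ⟨c₁ + c₂, by rw [map_add, hc₁, hc₂, add_mul]⟩
      zero_mem' := fun d' => ⟨0, by rw [map_zero, zero_mul]⟩
      smul_mem' := by
        intro r d h d'
        obtain ⟨c, hc⟩ := h (r * d')
        exact ⟨c, by rw [hc, smul_eq_mul]; ring⟩ }
  have hb𝔣 : algebraMap C D b ∈ 𝔣 := hbD
  have h𝔣 : 𝔣 ≠ ⊥ := by
    intro h
    rw [h, Ideal.mem_bot] at hb𝔣
    exact hb (hinj (hb𝔣.trans (map_zero _).symm))
  have hyJ : ∀ Q : Ideal D, Q.IsMaximal → y ∈ Q := by
    intro Q hQ
    rw [Ideal.jacobson, Ideal.mem_sInf] at hy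
    exact hy ⟨bot_le, hQ⟩
  have hrad : y ∈ 𝔣.radical := by
    rw [Ideal.radical_eq_sInf, Ideal.mem_sInf]
    rintro P ⟨h𝔣P, hP⟩
    have hP0 : P ≠ ⊥ := fun h => h𝔣 (le_bot_iff.mp (h ▸ h𝔣P))
    have hc0 : P.comap (algebraMap C D) ≠ ⊥ := fun h => hP0 (Ideal.eq_bot_of_comap_eq_bot h)
    have hcmax : (P.comap (algebraMap C D)).IsMaximal := hdim _ (Ideal.comap_isPrime _ P) hc0
    exact hyJ P (Ideal.isMaximal_of_isIntegral_of_isMaximal_comap P hcmax)
  obtain ⟨M, hM⟩ := hrad
  refine ⟨M + 1, fun M' hM' => ?_⟩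
  obtain ⟨k, rfl⟩ := Nat.exists_eq_add_of_le hM'
  have h1 : y ^ (M + 1 + k) ∈ 𝔣 := by
    rw [show M + 1 + k = M + (1 + k) by ring, pow_add]
    exact Ideal.mul_mem_right _ _ hM
  obtain ⟨c, hc⟩ := h1 1
  rw [mul_one] at hc
  refine ⟨c, hc, ?_⟩
  rw [Ideal.jacobson, Ideal.mem_sInf]
  rintro m ⟨-, hm⟩
  have hker : RingHom.ker (algebraMap C D) ≤ m := by
    rw [(RingHom.injective_iff_ker_eq_bot _).mp hinj]; exact bot_le
  obtain ⟨Q, hQ, hQm⟩ := Ideal.exists_ideal_over_maximal_of_isIntegral (S := D) m hker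
  rw [← hQm, Ideal.mem_comap, hc, show M + 1 + k = (M + k) + 1 by ring, pow_succ]
  exact Ideal.mul_mem_left _ _ (hyJ Q hQ)

section
variable {C K : Type*} [CommRing C] [IsDomain C] [IsNoetherianRing C] [Field K] [Algebra C K]
  [IsFractionRing C K]

theorem isDedekindDomain_integralClosure
    (hdim : ∀ p : Ideal C, p.IsPrime → p ≠ ⊥ → p.IsMaximal) :
    IsDedekindDomain (integralClosure C K) := by
  haveI : Ring.DimensionLEOne C := ⟨fun h hp => hdim _ hp h⟩
  haveI : IsFractionRing (integralClosure C K) K :=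
    integralClosure.isFractionRing_of_finite_extension K K
  refine (isDedekindDomain_iff (integralClosure C K) K).mpr ⟨inferInstance,
    Groth.Agent.Lib.helper13.KrAk.isNoetherianRing_subalgebra hdim _, inferInstance, ?_⟩
  intro x hx
  have hx' : IsIntegral C x := isIntegral_trans x hx
  exact ⟨⟨x, hx'⟩, rfl⟩

omit [IsNoetherianRing C] in
theorem isFractionRing_integralClosure : IsFractionRing (integralClosure C K) K :=
  integralClosure.isFractionRing_of_finite_extension K K

attribute [local instance] isFractionRing_integralClosure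

theorem finite_heightOneSpectrum_integralClosure
    (hdim : ∀ p : Ideal C, p.IsPrime → p ≠ ⊥ → p.IsMaximal)
    [IsDedekindDomain (integralClosure C K)]
    (t : C) (ht0 : t ≠ 0) (ht : ∀ m : Ideal C, m.IsMaximal → t ∈ m) :
    Finite (HeightOneSpectrum (integralClosure C K)) := by
  have hinj : Function.Injective (algebraMap C (integralClosure C K)) := by
    intro a b hab
    exact IsFractionRing.injective C K (congrArg Subtype.val hab)
  have ht' : algebraMap C (integralClosure C K) t ≠ 0 := fun h => ht0 (hinj (h.trans (map_zero _).symm))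
  have hI : Ideal.span {algebraMap C (integralClosure C K) t} ≠ 0 := by
    rw [Ne, Ideal.zero_eq_bot, Ideal.span_singleton_eq_bot]
    exact ht'
  have hfin := Ideal.finite_factors hI
  have huniv : {v : HeightOneSpectrum (integralClosure C K) |
      v.asIdeal ∣ Ideal.span {algebraMap C (integralClosure C K) t}} = Set.univ := by
    rw [Set.eq_univ_iff_forall]
    intro v
    rw [Set.mem_setOf_eq, Ideal.dvd_span_singleton]
    have hc0 : v.asIdeal.comap (algebraMap C (integralClosure C K)) ≠ ⊥ :=
      fun h => v.ne_bot (Ideal.eq_bot_of_comap_eq_bot h)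
    have hmax := hdim _ (Ideal.comap_isPrime _ v.asIdeal) hc0
    exact ht _ hmax
  rw [huniv] at hfin
  exact Set.finite_univ_iff.mp hfin


theorem exists_mem_one_lt_valuation [IsDedekindDomain (integralClosure C K)]
    (A : Subring K) (hAC : A ⊔ (algebraMap C K).range = ⊤)
    (v : HeightOneSpectrum (integralClosure C K)) : ∃ a ∈ A, 1 < v.valuation K a := by
  by_contra h
  push Not at h
  have h1 : A ≤ (v.valuation K).valuationSubring.toSubring := fun a ha => h a ha
  have h2 : (algebraMap C K).range ≤ (v.valuation K).valuationSubring.toSubring := by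
    rintro _ ⟨c, rfl⟩
    exact v.valuation_le_one (algebraMap C (integralClosure C K) c)
  have h3 : (⊤ : Subring K) ≤ (v.valuation K).valuationSubring.toSubring :=
    hAC ▸ sup_le h1 h2
  obtain ⟨s, hs, hs0⟩ := Submodule.exists_mem_ne_zero_of_ne_bot v.ne_bot
  have hlt : v.valuation K (algebraMap (integralClosure C K) K s) < 1 :=
    (v.valuation_lt_one_iff_mem s).mpr hs
  have hs0' : algebraMap (integralClosure C K) K s ≠ 0 := by
    rw [Ne, map_eq_zero_iff _ (IsFractionRing.injective (integralClosure C K) K)]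
    exact hs0
  have hle : v.valuation K (algebraMap (integralClosure C K) K s)⁻¹ ≤ 1 :=
    h3 (Subring.mem_top _)
  have h4 : v.valuation K (algebraMap (integralClosure C K) K s) *
      v.valuation K (algebraMap (integralClosure C K) K s)⁻¹ = 1 := by
    rw [← map_mul, mul_inv_cancel₀ hs0', map_one]
  have h5 : v.valuation K (algebraMap (integralClosure C K) K s) *
      v.valuation K (algebraMap (integralClosure C K) K s)⁻¹ < 1 :=
    calc _ ≤ v.valuation K (algebraMap (integralClosure C K) K s) * 1 := mul_le_mul_right hle _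
      _ = v.valuation K (algebraMap (integralClosure C K) K s) := mul_one _
      _ < 1 := hlt
  rw [h4] at h5
  exact lt_irrefl _ h5

/-- generic: elements of the Jacobson radical descend along integral extensions -/
theorem mem_jacobson_of_isIntegral {D E : Type*} [CommRing D] [CommRing E] [Algebra D E]
    [Algebra.IsIntegral D E] (hinj : Function.Injective (algebraMap D E)) (y : D)
    (hy : algebraMap D E y ∈ (⊥ : Ideal E).jacobson) : y ∈ (⊥ : Ideal D).jacobson := by
  rw [Ideal.jacobson, Ideal.mem_sInf]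
  rintro P ⟨-, hP⟩
  have hker : RingHom.ker (algebraMap D E) ≤ P := by
    rw [(RingHom.injective_iff_ker_eq_bot _).mp hinj]; exact bot_le
  obtain ⟨Q, hQ, hQP⟩ := Ideal.exists_ideal_over_maximal_of_isIntegral (S := E) P hker
  rw [← hQP, Ideal.mem_comap]
  rw [Ideal.jacobson, Ideal.mem_sInf] at hy
  exact hy ⟨bot_le, hQ⟩

theorem mem_jacobson_integralClosure [IsDedekindDomain (integralClosure C K)]
    (hfield : ¬ IsField (integralClosure C K)) (y : integralClosure C K)
    (hy : ∀ v : HeightOneSpectrum (integralClosure C K), v.valuation K (y : K) < 1) :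
    y ∈ (⊥ : Ideal (integralClosure C K)).jacobson := by
  rw [Ideal.jacobson, Ideal.mem_sInf]
  rintro Q ⟨-, hQ⟩
  have hQ0 : Q ≠ ⊥ := (Ideal.bot_lt_of_maximal Q hfield).ne'
  let v : HeightOneSpectrum (integralClosure C K) := ⟨Q, hQ.isPrime, hQ0⟩
  exact (v.valuation_lt_one_iff_mem y).mp (hy v)

theorem mem_integralClosure_of_valuation_le [IsDedekindDomain (integralClosure C K)] (y : K)
    (hy : ∀ v : HeightOneSpectrum (integralClosure C K), v.valuation K y ≤ 1) :
    IsIntegral C y := by
  obtain ⟨c, hc⟩ := HeightOneSpectrum.mem_integers_of_valuation_le_one K y hy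
  rw [← hc]
  exact c.2


theorem exists_pow_of_valuation_lt (hdim : ∀ p : Ideal C, p.IsPrime → p ≠ ⊥ → p.IsMaximal)
    [IsDedekindDomain (integralClosure C K)] (hfield : ¬ IsField C)
    (y : K) (hy : ∀ v : HeightOneSpectrum (integralClosure C K), v.valuation K y < 1) :
    ∃ M : ℕ, ∀ M' ≥ M, ∃ c : C, algebraMap C K c = y ^ M' ∧ c ∈ (⊥ : Ideal C).jacobson := by
  classical
  have hyint : IsIntegral C y := mem_integralClosure_of_valuation_le y (fun v => (hy v).le)
  have hinjK : Function.Injective (algebraMap C K) := IsFractionRing.injective C K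
  have hfield' : ¬ IsField (integralClosure C K) := by
    intro h
    refine hfield (isField_of_isIntegral_of_isField (R := C) (S := integralClosure C K) ?_ h)
    intro a b hab
    exact hinjK (congrArg Subtype.val hab)
  have hDC' : Algebra.adjoin C {y} ≤ integralClosure C K :=
    Algebra.adjoin_le (Set.singleton_subset_iff.mpr hyint)
  haveI : Algebra.IsIntegral C (Algebra.adjoin C {y}) :=
    Algebra.IsIntegral.adjoin (by simpa using hyint)
  letI algDE : Algebra (Algebra.adjoin C {y}) (integralClosure C K) :=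
    (Subalgebra.inclusion hDC').toRingHom.toAlgebra
  haveI : IsScalarTower C (Algebra.adjoin C {y}) (integralClosure C K) :=
    IsScalarTower.of_algebraMap_eq (fun x => rfl)
  haveI : Algebra.IsIntegral (Algebra.adjoin C {y}) (integralClosure C K) :=
    Algebra.IsIntegral.tower_top C
  have hinjDE : Function.Injective (algebraMap (Algebra.adjoin C {y}) (integralClosure C K)) :=
    Subalgebra.inclusion_injective hDC'
  have hinjCD : Function.Injective (algebraMap C (Algebra.adjoin C {y})) := by
    intro a b hab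
    exact hinjK (congrArg Subtype.val hab)
  have hyJ : (⟨y, Algebra.self_mem_adjoin_singleton C y⟩ : Algebra.adjoin C {y}) ∈
      (⊥ : Ideal (Algebra.adjoin C {y})).jacobson := by
    apply mem_jacobson_of_isIntegral (E := integralClosure C K) hinjDE
    exact mem_jacobson_integralClosure hfield' ⟨y, hyint⟩ hy
  -- common denominator
  obtain ⟨G, hG⟩ := hyint.fg_adjoin_singleton
  obtain ⟨b, hb⟩ := IsLocalization.exist_integer_multiples_of_finset (nonZeroDivisors C) G
  have hb0 : (b : C) ≠ 0 := nonZeroDivisors.ne_zero b.2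
  have hbD : ∀ d : Algebra.adjoin C {y}, ∃ c : C,
      algebraMap C (Algebra.adjoin C {y}) c = algebraMap C (Algebra.adjoin C {y}) b * d := by
    intro d
    have hd : (d : K) ∈ Submodule.span C (G : Set K) := by
      rw [hG]; exact d.2
    have key : ∀ x ∈ Submodule.span C (G : Set K),
        ∃ c : C, algebraMap C K c = algebraMap C K b * x := by
      intro x hx
      induction hx using Submodule.span_induction with
      | mem g hg =>
        obtain ⟨c, hc⟩ := hb g hg
        exact ⟨c, by rw [hc, Algebra.smul_def]⟩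
      | zero => exact ⟨0, by rw [map_zero, mul_zero]⟩
      | add x z _ _ hx hz =>
        obtain ⟨c₁, h₁⟩ := hx
        obtain ⟨c₂, h₂⟩ := hz
        exact ⟨c₁ + c₂, by rw [map_add, h₁, h₂, mul_add]⟩
      | smul r x _ hx =>
        obtain ⟨c, hc⟩ := hx
        exact ⟨r * c, by rw [map_mul, hc, Algebra.smul_def]; ring⟩
    obtain ⟨c, hc⟩ := key _ hd
    exact ⟨c, Subtype.ext hc⟩
  obtain ⟨M, hM⟩ := exists_pow_mem_jacobson hinjCD hdim (b : C) hb0 hbD _ hyJ
  refine ⟨M, fun M' hM' => ?_⟩
  obtain ⟨c, hc, hcJ⟩ := hM M' hM'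
  refine ⟨c, ?_, hcJ⟩
  have := congrArg Subtype.val hc
  simpa using this

end

end Groth.Agent.Lib.helper13.Approx
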