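import Mathlib
import Groth.Prelude.Def_CxOX
import Groth.Agent.Lib.Helper1.FreeOnLoc
import Groth.Agent.Lib.Helper1.BaerAbstract
import Groth.Agent.Lib.Helper21.ModGroth

/-!
# Baer criterion for O_X-modules with respect to the modules `j_! O_V`, `V` in a basis of opens (helper13)
-/

set_option autoImplicit false
universe u
open CategoryTheory CategoryTheory.Limits AlgebraicGeometry Opposite

namespace Groth.Agent.Lib.helper13.BaerBasis

open Groth.Agent.H1 Groth.Agent.H1.FreeOnLoc

variable (X : Scheme.{u}) (ℬ : Set X.Opens)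

/-- the test objects: `freeOn V`, as an `O_X`-module. -/
noncomputable abbrev E (V : X.Opens) : X.Modules := ModSite.freeOn X.sheaf V

/-- inclusions of subobjects of the `j_! O_V`, `V` in the basis. -/
def genMono : MorphismProperty X.Modules :=
  MorphismProperty.ofHoms
    (fun (p : Σ V : ℬ, Subobject (E X V.1)) => p.2.arrow)

lemma genMono_arrow (V : ℬ) (S : Subobject (E X V.1)) : genMono X ℬ S.arrow :=
  MorphismProperty.ofHoms.mk (f := fun (p : Σ V : ℬ, Subobject (E X V.1)) => p.2.arrow)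
    (⟨V, S⟩ : Σ V : ℬ, Subobject (E X V.1))

/-- a mono of modules through which all maps from the `E V`, `V` affine, factor is an iso. -/
lemma isIso_of_factor (hB : TopologicalSpace.Opens.IsBasis ℬ) {A B : X.Modules} (p : A ⟶ B) [Mono p]
    (h : ∀ (V : ℬ) (f : E X V.1 ⟶ B), ∃ a : E X V.1 ⟶ A, a ≫ p = f) :
    IsIso p := by
  haveI : Epi p := by
    refine epi_of_local_sections X.sheaf (G := A) (G' := B) p (fun U s => ?_)
    let T : Sieve U :=
      { arrows := fun Y _ => ∃ W : ℬ, Y ≤ W.1 ∧ W.1 ≤ U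
        downward_closed := by
          rintro Y Z f ⟨W, h1, h2⟩ g
          exact ⟨W, (leOfHom g).trans h1, h2⟩ }
    refine ⟨T, ?_, ?_⟩
    · intro x hx
      obtain ⟨W, hW, hxW, hWU⟩ :=
        (TopologicalSpace.Opens.isBasis_iff_nbhd.mp hB) hx
      exact ⟨W, homOfLE hWU, ⟨⟨W, hW⟩, le_rfl, hWU⟩, hxW⟩
    · rintro Y g ⟨W, h1, h2⟩
      obtain ⟨a, ha⟩ := h W (fmap X.sheaf (homOfLE h2) ≫ s)
      refine ⟨fmap X.sheaf (homOfLE h1) ≫ a, ?_⟩
      have e1 : fmap X.sheaf (homOfLE h1) ≫ a ≫ p =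
          fmap X.sheaf (homOfLE h1) ≫ fmap X.sheaf (homOfLE h2) ≫ s := congrArg _ ha
      have e2 : fmap X.sheaf (homOfLE h1) ≫ fmap X.sheaf (homOfLE h2) ≫ s =
          (fmap X.sheaf (homOfLE h1) ≫ fmap X.sheaf (homOfLE h2)) ≫ s :=
        (Category.assoc _ _ _).symm
      have e3 : fmap X.sheaf (homOfLE h1) ≫ fmap X.sheaf (homOfLE h2) = fmap X.sheaf g := by
        rw [← fmap_comp]
        rfl
      exact (Category.assoc _ _ _).trans (e1.trans (e2.trans (congrArg (· ≫ s) e3)))
  exact isIso_of_mono_of_epi p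

set_option backward.isDefEq.respectTransparency false in
lemma hyp_genMono (hB : TopologicalSpace.Opens.IsBasis ℬ) (V₀ : ℬ) : Baer.Hyp (genMono X ℬ) where
  iso_le := MorphismProperty.isomorphisms_le_pushouts _
    (fun _ => ⟨_, _, _, genMono_arrow X ℬ V₀ ⊤, 0, inferInstance⟩)
  exists_pushouts {A B} p _ hp := by
    have : ∃ (V : ℬ) (f : E X V.1 ⟶ B),
        ¬ ∃ a : E X V.1 ⟶ A, a ≫ p = f := by
      by_contra hcon
      push Not at hcon
      exact hp (isIso_of_factor X ℬ hB p hcon)
    obtain ⟨V, f, hf⟩ := this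
    refine ⟨pushout (pullback.fst p f) (pullback.snd p f), pushout.inl _ _,
      pushout.desc p f pullback.condition,
      ⟨_, _, _, (Subobject.underlyingIso _).hom ≫ pullback.fst _ _,
      pushout.inr _ _, genMono_arrow X ℬ V (Subobject.mk (pullback.snd p f)),
      (IsPushout.of_hasPushout (pullback.fst p f) (pullback.snd p f)).of_iso
        ((Subobject.underlyingIso _).symm) (Iso.refl _) (Iso.refl _)
        (Iso.refl _) (by simp) (by simp) (by simp) (by simp)⟩, ?_, ?_, by simp⟩
    · intro h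
      apply hf
      refine ⟨pushout.inr _ _ ≫ inv (pushout.inl (pullback.fst p f) (pullback.snd p f)), ?_⟩
      have e : inv (pushout.inl (pullback.fst p f) (pullback.snd p f)) ≫ p =
          pushout.desc p f pullback.condition := by
        rw [IsIso.inv_comp_eq, pushout.inl_desc]
      rw [Category.assoc, e, pushout.inr_desc]
    · exact (IsPushout.of_hasPushout _ _).mono_of_isPullback_of_mono
        (IsPullback.of_hasPullback p f) _ (by simp) (by simp)

lemma mono_of_genMono {A B : X.Modules} (i : A ⟶ B) (hi : genMono X ℬ i) : Mono i := by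
  obtain ⟨⟨V, S⟩⟩ := hi
  infer_instance

/-- **Baer criterion for `O_X`-modules**: `I` is injective as soon as morphisms from subobjects of
the `j_! O_V` (`V` in a basis `ℬ` of opens) to `I` extend to `j_! O_V`. -/
theorem injective_of_baer (hB : TopologicalSpace.Opens.IsBasis ℬ) (V₀ : ℬ) (I : X.Modules)
    (h : ∀ (V : ℬ) (S : X.Modules) (i : S ⟶ E X V.1) [Mono i] (φ : S ⟶ I),
      ∃ ψ : E X V.1 ⟶ I, i ≫ ψ = φ) :
    Injective I := by
  haveI : IsGrothendieckAbelian.{u} X.Modules :=
    Groth.Agent.Lib.Helper21.ModGroth.isGrothendieckAbelian_mod _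
  apply Baer.injective_of_rlp.{u} (hyp_genMono X ℬ hB V₀) I
  rintro _ _ _ ⟨⟨V, S⟩⟩
  constructor
  intro a b sq
  obtain ⟨ψ, hψ⟩ := h V _ S.arrow a
  exact ⟨⟨{ l := ψ, fac_left := hψ, fac_right := (isZero_zero _).eq_of_tgt _ _ }⟩⟩

end Groth.Agent.Lib.helper13.BaerBasis
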