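import Mathlib

set_option autoImplicit false
universe u
open TensorProduct

namespace Groth.Agent.Lib.helper13.FibreBound

variable {A : Type u} [CommRing A] (M : Type u) [AddCommGroup M] [Module A M]

/-- a field-valued point kills `L ⊗ Q` as soon as it does not kill an annihilator of `Q` -/
lemma subsingleton_tensor_of_smul_eq_zero (Q : Type u) [AddCommGroup Q] [Module A Q]
    (L : Type u) [Field L] [Algebra A L] (f : A) (hf : algebraMap A L f ≠ 0) (hQ : ∀ q : Q, f • q = 0) :
    Subsingleton (L ⊗[A] Q) := by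
  refine ⟨fun x y => ?_⟩
  suffices h : ∀ x : L ⊗[A] Q, x = 0 by rw [h x, h y]
  intro x
  induction x using TensorProduct.induction_on with
  | zero => rfl
  | tmul l q =>
    have h1 : (algebraMap A L f) • (l ⊗ₜ[A] q) = 0 := by
      have e1 : (algebraMap A L f) • (l ⊗ₜ[A] q) = (f • l) ⊗ₜ[A] q := by
        rw [TensorProduct.smul_tmul', smul_eq_mul, Algebra.smul_def]
      rw [e1, TensorProduct.smul_tmul, hQ, TensorProduct.tmul_zero]
    exact (smul_eq_zero.1 h1).resolve_left hf
  | add x y hx hy => rw [hx, hy, add_zero]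

/-- the `L`-span of the elements `1 ⊗ m i` contains `L ⊗ N'` for `N'` the `A`-span of the `m i` -/
lemma finrank_le_of_quotient_killed {k : ℕ} (m : Fin k → M)
    (L : Type u) [Field L] [Algebra A L]
    (hQ : Subsingleton (L ⊗[A] (M ⧸ Submodule.span A (Set.range m)))) :
    Module.finrank L (L ⊗[A] M) ≤ k := by
  set N' := Submodule.span A (Set.range m) with hN'
  have key : ∀ y : L ⊗[A] N', (LinearMap.lTensor L N'.subtype) y ∈
      Submodule.span L (Set.range fun i => (1 : L) ⊗ₜ[A] m i) := by
    intro y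
    induction y using TensorProduct.induction_on with
    | zero => simp
    | tmul l n =>
      obtain ⟨n, hn⟩ := n
      rw [LinearMap.lTensor_tmul]
      change l ⊗ₜ[A] n ∈ _
      induction hn using Submodule.span_induction with
      | mem n hn =>
        obtain ⟨i, rfl⟩ := hn
        have : l ⊗ₜ[A] m i = l • ((1 : L) ⊗ₜ[A] m i) := by
          rw [TensorProduct.smul_tmul', smul_eq_mul, mul_one]
        rw [this]
        exact Submodule.smul_mem _ _ (Submodule.subset_span ⟨i, rfl⟩)
      | zero => simp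
      | add a b _ _ ha hb => rw [TensorProduct.tmul_add]; exact Submodule.add_mem _ ha hb
      | smul r a _ ha =>
        have : l ⊗ₜ[A] (r • a) = (algebraMap A L r) • (l ⊗ₜ[A] a) := by
          rw [← TensorProduct.smul_tmul, TensorProduct.smul_tmul', Algebra.smul_def, smul_eq_mul]
        rw [this]
        exact Submodule.smul_mem _ _ ha
    | add a b ha hb => rw [map_add]; exact Submodule.add_mem _ ha hb
  have hspan : Submodule.span L (Set.range fun i => (1 : L) ⊗ₜ[A] m i) = ⊤ := by
    rw [eq_top_iff]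
    intro x _
    have hex := lTensor_exact L (LinearMap.exact_subtype_mkQ N') (Submodule.mkQ_surjective N')
    have hx : (LinearMap.lTensor L N'.mkQ) x = 0 := Subsingleton.elim _ _
    obtain ⟨y, rfl⟩ := (hex x).1 hx
    exact key y
  have h := finrank_range_le_card (R := L) (fun i => (1 : L) ⊗ₜ[A] m i)
  rw [Set.finrank, hspan, finrank_top] at h
  simpa using h


/-- generators of the fibre coming from `M` -/
lemma exists_generators [Module.Finite A M] (L₀ : Type u) [Field L₀] [Algebra A L₀] :
    ∃ m : Fin (Module.finrank L₀ (L₀ ⊗[A] M)) → M,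
      Submodule.span L₀ (Set.range fun i => (1 : L₀) ⊗ₜ[A] m i) = ⊤ := by
  classical
  set s : Set (L₀ ⊗[A] M) := Set.range (fun x : M => (1 : L₀) ⊗ₜ[A] x) with hs
  have hspan : Submodule.span L₀ s = ⊤ := by
    rw [eq_top_iff]
    rintro x -
    induction x using TensorProduct.induction_on with
    | zero => simp
    | tmul l x =>
      have : l ⊗ₜ[A] x = l • ((1 : L₀) ⊗ₜ[A] x) := by
        rw [TensorProduct.smul_tmul', smul_eq_mul, mul_one]
      rw [this]
      exact Submodule.smul_mem _ _ (Submodule.subset_span ⟨x, rfl⟩)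
    | add a b ha hb => exact Submodule.add_mem _ ha hb
  obtain ⟨b, hbs, hb, hli⟩ := exists_linearIndependent L₀ s
  let B : Module.Basis b L₀ (L₀ ⊗[A] M) := Module.Basis.mk hli (by
    rw [Subtype.range_coe, hb, hspan])
  haveI : Fintype b := FiniteDimensional.fintypeBasisIndex B
  have hcard : Module.finrank L₀ (L₀ ⊗[A] M) = Fintype.card b := Module.finrank_eq_card_basis B
  let e : Fin (Module.finrank L₀ (L₀ ⊗[A] M)) ≃ b := (Fintype.equivFinOfCardEq hcard.symm).symm
  choose m hm using fun i => hbs (e i).2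
  refine ⟨m, ?_⟩
  have : (Set.range fun i => (1 : L₀) ⊗ₜ[A] m i) = b := by
    ext x
    constructor
    · rintro ⟨i, rfl⟩
      rw [hm i]
      exact (e i).2
    · intro hx
      refine ⟨e.symm ⟨x, hx⟩, ?_⟩
      rw [hm, Equiv.apply_symm_apply]
  rw [this, hb, hspan]

/-- **Upper semicontinuity of the fibre dimension of a finite module, in test-field form.** -/
theorem exists_fibre_bound [Module.Finite A M] (L₀ : Type u) [Field L₀] [Algebra A L₀] :
    ∃ f : A, algebraMap A L₀ f ≠ 0 ∧ ∀ (L : Type u) [Field L] [Algebra A L], algebraMap A L f ≠ 0 →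
      Module.finrank L (L ⊗[A] M) ≤ Module.finrank L₀ (L₀ ⊗[A] M) := by
  obtain ⟨m, hm⟩ := exists_generators (A := A) M L₀
  set N' := Submodule.span A (Set.range m) with hN'
  -- `L₀ ⊗ Q = 0`
  have hQ₀ : Subsingleton (L₀ ⊗[A] (M ⧸ N')) := by
    let g : L₀ ⊗[A] M →ₗ[L₀] L₀ ⊗[A] (M ⧸ N') := LinearMap.baseChange L₀ N'.mkQ
    have hsurj : Function.Surjective g :=
      LinearMap.lTensor_surjective (R := A) L₀ (Submodule.mkQ_surjective N')
    have hzero : g = 0 := by
      apply LinearMap.ext_on hm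
      rintro _ ⟨i, rfl⟩
      rw [LinearMap.baseChange_tmul, LinearMap.zero_apply]
      have : N'.mkQ (m i) = 0 := by
        rw [Submodule.mkQ_apply, Submodule.Quotient.mk_eq_zero]
        exact Submodule.subset_span ⟨i, rfl⟩
      rw [this, TensorProduct.tmul_zero]
    refine ⟨fun x y => ?_⟩
    obtain ⟨x', rfl⟩ := hsurj x
    obtain ⟨y', rfl⟩ := hsurj y
    rw [hzero, LinearMap.zero_apply, LinearMap.zero_apply]
  -- the prime
  let 𝔭 : Ideal A := RingHom.ker (algebraMap A L₀)
  haveI : 𝔭.IsPrime := RingHom.ker_isPrime _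
  let p : PrimeSpectrum A := ⟨𝔭, inferInstance⟩
  have hp : p ∉ Module.support A (M ⧸ N') := by
    rw [Module.mem_support_iff_nontrivial_residueField_tensorProduct]
    intro hnt
    let ψ : 𝔭.ResidueField →+* L₀ := Ideal.ResidueField.lift 𝔭 (algebraMap A L₀) le_rfl (by
      intro a ha
      exact IsUnit.mk0 _ (fun h => ha ((RingHom.mem_ker).2 h)))
    letI : Algebra 𝔭.ResidueField L₀ := ψ.toAlgebra
    haveI : IsScalarTower A 𝔭.ResidueField L₀ := IsScalarTower.of_algebraMap_eq (fun a =>
      (Ideal.ResidueField.lift_algebraMap 𝔭 (algebraMap A L₀) le_rfl _ a).symm)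
    let eqv := TensorProduct.AlgebraTensorModule.cancelBaseChange A 𝔭.ResidueField L₀ L₀ (M ⧸ N')
    haveI : Subsingleton (L₀ ⊗[𝔭.ResidueField] (𝔭.ResidueField ⊗[A] (M ⧸ N'))) :=
      eqv.toEquiv.subsingleton
    have h1 : Module.finrank L₀ (L₀ ⊗[𝔭.ResidueField] (𝔭.ResidueField ⊗[A] (M ⧸ N'))) = 0 :=
      Module.finrank_zero_of_subsingleton
    rw [Module.finrank_baseChange] at h1
    have h2 : 0 < Module.finrank 𝔭.ResidueField (𝔭.ResidueField ⊗[A] (M ⧸ N')) := Module.finrank_pos
    omega
  rw [Module.support_eq_zeroLocus, PrimeSpectrum.mem_zeroLocus, Set.not_subset] at hp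
  obtain ⟨f, hfann, hfp⟩ := hp
  refine ⟨f, fun h => hfp ((RingHom.mem_ker).2 h), fun L _ _ hL => ?_⟩
  have hQ : Subsingleton (L ⊗[A] (M ⧸ N')) :=
    subsingleton_tensor_of_smul_eq_zero (M ⧸ N') L f hL
      (fun q => (Module.mem_annihilator.1 hfann) q)
  exact finrank_le_of_quotient_killed M m L hQ

end Groth.Agent.Lib.helper13.FibreBound
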