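import Mathlib
import Groth.Prelude.Def_Coh
import Groth.Agent.Lib.Helper13.FibreBound
import Groth.Agent.Lib.Helper16.QCohPullback2

set_option autoImplicit false
universe u
open CategoryTheory CategoryTheory.Limits AlgebraicGeometry Opposite TopologicalSpace TensorProduct

namespace Groth.Agent.Lib.helper13.FibreNu
open Groth.Agent.Lib.helper16.QCohPullback Groth.Agent.Lib.helper16.CohFinite
  Groth.Agent.Lib.helper13.FibreBound

variable {V : Scheme.{u}}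

/-- on a one-point scheme with a field of functions, a function is nonzero iff its nonvanishing locus is
everything -/
lemma mem_basicOpen_iff_ne_zero {Z : Scheme.{u}} (hK : IsField Γ(Z, ⊤)) (z : Z) (s : Γ(Z, ⊤)) :
    z ∈ Z.basicOpen s ↔ s ≠ 0 := by
  letI := hK.toField
  constructor
  · rintro hz rfl
    rw [Scheme.basicOpen_zero] at hz
    exact hz
  · intro hs
    have hu : IsUnit s := IsUnit.mk0 s hs
    rw [Scheme.basicOpen_of_isUnit _ hu]
    trivial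

/-- the nonvanishing of the pullback of a function at a field point -/
lemma appLE_ne_zero_iff {Z : Scheme.{u}} (hK : IsField Γ(Z, ⊤)) (g : Z ⟶ V) (U : V.Opens)
    (e : ⊤ ≤ g ⁻¹ᵁ U) (f : Γ(V, U)) (z : Z) :
    (g.appLE U ⊤ e).hom f ≠ 0 ↔ g z ∈ V.basicOpen f := by
  rw [← mem_basicOpen_iff_ne_zero hK z]
  have h1 : Z.basicOpen ((g.appLE U ⊤ e).hom f) = ⊤ ⊓ Z.basicOpen ((g.app U).hom f) := by
    rw [Scheme.Hom.appLE, CommRingCat.hom_comp, RingHom.comp_apply]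
    exact Scheme.basicOpen_res _ _ _
  rw [h1]
  have h2 : Z.basicOpen ((g.app U).hom f) = g ⁻¹ᵁ V.basicOpen f := (Scheme.preimage_basicOpen g f).symm
  rw [h2]
  constructor
  · intro h; exact h.2
  · intro h; exact ⟨trivial, h⟩


/-- the dimension of the fibre of `N` at a field point `g : Z ⟶ V` -/
noncomputable def nu (N : V.Modules) {Z : Scheme.{u}} (g : Z ⟶ V) : ℕ :=
  Module.finrank Γ(Z, ⊤) Γ((Scheme.Modules.pullback g).obj N, ⊤)

lemma nu_eq_finrank (N : V.Modules) {Z : Scheme.{u}} (g : Z ⟶ V) :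
    nu N g = Module.finrank (Coh.Γtop Z) (((Scheme.Modules.pullback g).obj N).val.obj (op ⊤)) := rfl

/-- fibre dimension through sections over an affine open -/
lemma nu_eq (N : V.Modules) [N.IsQuasicoherent] {Z : Scheme.{u}} [IsAffine Z] (g : Z ⟶ V)
    {U : V.Opens} (hU : IsAffineOpen U) (e : ⊤ ≤ g ⁻¹ᵁ U) :
    letI := (g.appLE U ⊤ e).hom.toAlgebra
    nu N g = Module.finrank Γ(Z, ⊤) (Γ(Z, ⊤) ⊗[Γ(V, U)] Γ(N, U)) := by
  letI := (g.appLE U ⊤ e).hom.toAlgebra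
  exact LinearEquiv.finrank_eq (pullbackSectionsEquiv g N hU (isAffineOpen_top Z) e)

/-- **Upper semicontinuity of the fibre dimension of a finite type quasi-coherent module** (test-field form). -/
theorem exists_nhd_nu_le (N : V.Modules) [N.IsQuasicoherent]
    (hft : SheafOfModules.IsFiniteType (R := V.ringCatSheaf) N)
    {Z₀ : Scheme.{u}} [IsAffine Z₀] [Subsingleton Z₀] (hK₀ : IsField Γ(Z₀, ⊤)) (g₀ : Z₀ ⟶ V) (z₀ : Z₀) :
    ∃ W : V.Opens, g₀ z₀ ∈ W ∧ ∀ {Z : Scheme.{u}} [IsAffine Z] [Nonempty Z] (_ : IsField Γ(Z, ⊤))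
      (g : Z ⟶ V), (∀ z : Z, g z ∈ W) → nu N g ≤ nu N g₀ := by
  obtain ⟨U, hU, hz₀U, -⟩ := Opens.isBasis_iff_nbhd.mp V.isBasis_affineOpens
    (show g₀ z₀ ∈ (⊤ : V.Opens) from trivial)
  have e₀ : ⊤ ≤ g₀ ⁻¹ᵁ U := by
    intro z _
    rw [Subsingleton.elim z z₀]
    exact hz₀U
  haveI : Module.Finite Γ(V, U) Γ(N, U) := finite_sections_of_isFiniteType N hft hU
  letI alg₀ := (g₀.appLE U ⊤ e₀).hom.toAlgebra
  letI fld₀ : Field Γ(Z₀, ⊤) := hK₀.toField
  obtain ⟨f, hf₀, hf⟩ := exists_fibre_bound (A := Γ(V, U)) Γ(N, U) Γ(Z₀, ⊤)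
  refine ⟨V.basicOpen f, (appLE_ne_zero_iff hK₀ g₀ U e₀ f z₀).1 hf₀, ?_⟩
  intro Z _ _ hK g hg
  have e : ⊤ ≤ g ⁻¹ᵁ U := fun z _ => V.basicOpen_le f (hg z)
  letI alg := (g.appLE U ⊤ e).hom.toAlgebra
  letI fld : Field Γ(Z, ⊤) := hK.toField
  obtain ⟨z⟩ := (inferInstance : Nonempty Z)
  have hne : algebraMap Γ(V, U) Γ(Z, ⊤) f ≠ 0 := (appLE_ne_zero_iff hK g U e f z).2 (hg z)
  rw [nu_eq N g hU e, nu_eq N g₀ hU e₀]
  exact hf Γ(Z, ⊤) hne

end Groth.Agent.Lib.helper13.FibreNu
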