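import Mathlib
import Groth.Prelude.Def_Coh
import Groth.Agent.Lib.Helper25.StalkEpi
import Groth.Agent.Lib.Helper22.EulerChar

set_option autoImplicit false
universe u
open CategoryTheory CategoryTheory.Limits AlgebraicGeometry Opposite TopologicalSpace

namespace Groth.Agent.Lib.helper13.PointGamma

variable (Z : Scheme.{u})

/-- global sections functor, valued in modules over `Γ(Z, O_Z)` -/
noncomputable abbrev ΓZ : Z.Modules ⥤ ModuleCat.{u} (Coh.Γtop Z) :=
  SheafOfModules.evaluation Z.ringCatSheaf (op ⊤)

noncomputable instance : PreservesFiniteLimits (ΓZ Z) :=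
  SheafOfModules.Finite.evaluationPreservesFiniteLimits Z.ringCatSheaf (op ⊤)

instance : (ΓZ Z).Additive :=
  inferInstanceAs (SheafOfModules.forget Z.ringCatSheaf ⋙ PresheafOfModules.evaluation _ (op ⊤)).Additive

variable {Z}

/-- on a one-point scheme, epimorphisms are surjective on global sections -/
theorem surjective_of_epi [Subsingleton Z] [hZ : Nonempty Z] {M N : Z.Modules} (g : M ⟶ N) [Epi g] :
    Function.Surjective ((ΓZ Z).map g) := by
  have h0 : @Epi (SheafOfModules.{u} Z.ringCatSheaf) _ M N g := ‹Epi g›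
  have h1 : Epi ((SheafOfModules.toSheaf Z.ringCatSheaf).map (X := M) (Y := N) g) :=
    @Groth.Agent.Lib.helper25.StalkEpi.epi_toSheaf_map _ _ _ Z.ringCatSheaf _ _ M N g h0
  have h2 := (TopCat.Sheaf.isLocallySurjective_iff_epi
    ((SheafOfModules.toSheaf Z.ringCatSheaf).map (X := M) (Y := N) g)).2 h1
  rw [TopCat.Presheaf.isLocallySurjective_iff] at h2
  intro t
  · obtain ⟨z⟩ := hZ
    obtain ⟨V, hV, ⟨s, hs⟩, hz⟩ := h2 ⊤ t z trivial
    have hVtop : V = ⊤ := by
      ext y
      simp only [Opens.coe_top, Set.mem_univ, iff_true]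
      rw [Subsingleton.elim y z]
      exact hz
    subst hVtop
    refine ⟨s, ?_⟩
    refine Eq.trans ?_ (hs.trans ?_)
    · rfl
    · have : (homOfLE hV).op = 𝟙 (op (⊤ : Opens Z)) := Subsingleton.elim _ _
      change (ConcreteCategory.hom
        (((SheafOfModules.toSheaf Z.ringCatSheaf).obj N).obj.map (homOfLE hV).op)) t = t
      rw [this, CategoryTheory.Functor.map_id]
      rfl



/-- on a one-point scheme, global sections preserve short exact sequences -/
theorem shortExact_map [Subsingleton Z] [Nonempty Z] (S : ShortComplex Z.Modules) (hS : S.ShortExact) :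
    (S.map (ΓZ Z)).ShortExact := by
  haveI := hS.mono_f
  haveI := hS.epi_g
  haveI : Epi ((ΓZ Z).map S.g) := (ModuleCat.epi_iff_surjective _).2 (surjective_of_epi S.g)
  haveI : Mono ((ΓZ Z).map S.f) := inferInstance
  exact ShortComplex.ShortExact.mk' (hS.exact.map_of_mono_of_preservesKernel (ΓZ Z) inferInstance inferInstance)
    (inferInstanceAs (Mono ((ΓZ Z).map S.f))) (inferInstanceAs (Epi ((ΓZ Z).map S.g)))


/-- additivity of `finrank` on short exact sequences of vector spaces -/
lemma finrank_shortExact {K : Type u} [Field K] (S : ShortComplex (ModuleCat.{u} K)) (hS : S.ShortExact)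
    [Module.Finite K S.X₂] :
    Module.finrank K S.X₂ = Module.finrank K S.X₁ + Module.finrank K S.X₃ := by
  have hf : Function.Injective S.f.hom := (ModuleCat.mono_iff_injective _).1 hS.mono_f
  have hg : Function.Surjective S.g.hom := (ModuleCat.epi_iff_surjective _).1 hS.epi_g
  have hex : LinearMap.range S.f.hom = LinearMap.ker S.g.hom :=
    (ShortComplex.moduleCat_exact_iff_range_eq_ker S).1 hS.exact
  have h1 := LinearMap.finrank_range_add_finrank_ker S.g.hom
  rw [LinearMap.range_eq_top.2 hg, finrank_top, ← hex,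
    LinearMap.finrank_range_of_inj hf] at h1
  omega

section Field

variable (Z) [Subsingleton Z] [Nonempty Z] (hK : IsField (Coh.Γtop Z))

/-- the dimension of the space of global sections -/
noncomputable def φ (M : Z.Modules) : ℤ := (Module.finrank (Coh.Γtop Z) ((ΓZ Z).obj M) : ℤ)

/-- finite-dimensionality of the space of global sections -/
def P (M : Z.Modules) : Prop := Module.Finite (Coh.Γtop Z) ((ΓZ Z).obj M)

open Groth.Agent.Lib.helper22.EulerChar in
include hK in
theorem isAdditiveOn : IsAdditiveOn (φ Z) (P Z) := by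
  letI := hK.toField
  refine ⟨fun S hS hP => ?_, fun {X Y} e => ?_, fun X hX => ?_, fun {X Y} f _ hY => ?_⟩
  · haveI : Module.Finite (Coh.Γtop Z) (S.map (ΓZ Z)).X₂ := hP
    have := finrank_shortExact (S.map (ΓZ Z)) (shortExact_map S hS)
    simp only [φ]
    exact_mod_cast this
  · simp only [φ]
    exact_mod_cast LinearEquiv.finrank_eq ((ΓZ Z).mapIso e).toLinearEquiv
  · have h0 : IsZero ((ΓZ Z).obj X) := (ΓZ Z).map_isZero hX
    haveI := ModuleCat.subsingleton_of_isZero h0
    simp only [φ]
    exact_mod_cast Module.finrank_zero_of_subsingleton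
  · have hinj : Function.Injective ((ΓZ Z).map f).hom :=
      (ModuleCat.mono_iff_injective _).1 inferInstance
    haveI : Module.Finite (Coh.Γtop Z) ((ΓZ Z).obj Y) := hY
    exact Module.Finite.of_injective ((ΓZ Z).map f).hom hinj

end Field

end Groth.Agent.Lib.helper13.PointGamma
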