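import Mathlib
import Groth.Agent.Lib.Helper13.PointGamma
import Groth.Agent.Lib.Helper13.FibreNu

set_option autoImplicit false
universe v u
open CategoryTheory CategoryTheory.Limits AlgebraicGeometry Opposite TopologicalSpace

/-!
# The dimension of a cohomology group of a fibre complex through cokernels of differentials (helper13)

* `homology_formula`: for an additive invariant `φ` of an abelian category and a cochain complex `K`,
  `φ (H^p K) + φ (K^{p+1}) = φ (coker d^{p-1}) + φ (coker d^p)`.
* `phi_homology_pullCx`: for a field point `g : Z ⟶ V` and a complex `S` on `V` whose terms have finite-dimensional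
  fibres, `dim H^p(g^* S) + dim g^* S^{p+1} = ν(coker d^{p-1}) + ν(coker d^p)` with `ν(N) = dim Γ(g^* N)`.
-/

namespace Groth.Agent.Lib.helper13.BettiFormula
open Groth.Agent.Lib.helper22.EulerChar Groth.Agent.Lib.helper13.PointGamma Groth.Agent.Lib.helper13.FibreNu

section generic

variable {C : Type u} [Category.{v} C] [Abelian C] {G : Type*} [AddCommGroup G]
  {φ : C → G} {P : C → Prop} (hφ : IsAdditiveOn φ P)

include hφ in
/-- the additive invariant of a cohomology object through cokernels of differentials -/
theorem homology_formula (K : CochainComplex C ℤ) (p : ℤ) (hP1 : P (K.opcycles p)) (hP2 : P (K.X (p + 1))) :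
    φ (K.homology p) + φ (K.X (p + 1)) =
      φ (cokernel (K.d (p - 1) p)) + φ (cokernel (K.d p (p + 1))) := by
  let ψ := K.fromOpcycles p (p + 1)
  have h1 := hφ.ker_add_image ψ hP1
  have h2 := hφ.image_add_coker ψ hP2
  have e1 : kernel ψ ≅ K.homology p :=
    (kernelIsKernel ψ).conePointUniqueUpToIso (K.homologyIsKernel p (p + 1) (by simp))
  have e2 : cokernel ψ ≅ cokernel (K.d p (p + 1)) := by
    have : K.d p (p + 1) = K.pOpcycles p ≫ ψ := (K.p_fromOpcycles p (p + 1)).symm
    rw [this]
    exact (cokernelEpiComp (K.pOpcycles p) ψ).symm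
  have e3 : K.opcycles p ≅ cokernel (K.d (p - 1) p) :=
    (K.opcyclesIsCokernel (p - 1) p (by simp)).coconePointUniqueUpToIso
      (colimit.isColimit _)
  rw [hφ.iso e1] at h1
  rw [hφ.iso e2] at h2
  rw [hφ.iso e3] at h1
  rw [h1, h2]
  abel

end generic

variable {Z V : Scheme.{u}} [Subsingleton Z] [Nonempty Z]

/-- the fibre complex formula -/
theorem phi_homology_pullCx (hK : IsField (Coh.Γtop Z)) (g : Z ⟶ V) (S : CochainComplex V.Modules ℤ) (p : ℤ)
    (h1 : P Z ((Scheme.Modules.pullback g).obj (S.X p)))
    (h2 : P Z ((Scheme.Modules.pullback g).obj (S.X (p + 1)))) :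
    φ Z ((((Scheme.Modules.pullback g).mapHomologicalComplex (ComplexShape.up ℤ)).obj S).homology p) +
        φ Z ((Scheme.Modules.pullback g).obj (S.X (p + 1))) =
      (nu (cokernel (S.d (p - 1) p)) g : ℤ) + (nu (cokernel (S.d p (p + 1))) g : ℤ) := by
  have hadd := isAdditiveOn Z hK
  set K := ((Scheme.Modules.pullback g).mapHomologicalComplex (ComplexShape.up ℤ)).obj S with hKdef
  have hop : P Z (K.opcycles p) := by
    have hs := surjective_of_epi (K.pOpcycles p)
    haveI : Module.Finite (Coh.Γtop Z) ((ΓZ Z).obj (K.X p)) := h1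
    exact Module.Finite.of_surjective ((ΓZ Z).map (K.pOpcycles p)).hom hs
  have h := homology_formula hadd K p hop h2
  have e1 : φ Z (cokernel (K.d (p - 1) p)) = (nu (cokernel (S.d (p - 1) p)) g : ℤ) :=
    (hadd.iso (PreservesCokernel.iso (Scheme.Modules.pullback g) (S.d (p - 1) p))).symm
  have e2 : φ Z (cokernel (K.d p (p + 1))) = (nu (cokernel (S.d p (p + 1))) g : ℤ) :=
    (hadd.iso (PreservesCokernel.iso (Scheme.Modules.pullback g) (S.d p (p + 1)))).symm
  rw [e1, e2] at h
  exact h

end Groth.Agent.Lib.helper13.BettiFormula
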