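import Mathlib
import Groth.Agent.Lib.Helper25.LDerAdapted2
import Groth.Agent.Lib.Helper25.DerAdjK

/-!
# Derived adjunctions for left derived functors computed on an adapted class (helper13)

* `isLeftDerivedFunctor_of_isIso`: a functor `G` with `β : L ⋙ G ⟶ Φ` whose comparison with a left
  derived functor `(LF, α)` is pointwise invertible on enough objects is itself a left derived functor.
* `isLeftDerivedFunctor_of_adapted`: cochain complex version with an adapted class `P₀`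
  (helper25 `LDerAdapted`): `(G, β)` is a left derived functor of `Φ : K(A) ⥤ H` as soon as `β` is
  invertible at the complexes of `P₀`.
* `nonempty_adjunction_of_adapted`: if `G₀ ⊣ F₀` with `F₀` exact, and `(G', α)` is a left derived functor
  of `G₀.mapHomotopyCategory ⋙ Qh` which is computed by an adapted class `P₀`, then
  `G' ⊣ F₀.mapDerivedCategory`, with the unit characterised by `Adjunction.derivedη_fac_app`.
-/

set_option autoImplicit false
universe w₁ w₂ v₁ v₂ v₃ u₁ u₂ u₃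
open CategoryTheory CategoryTheory.Limits

namespace Groth.Agent.Lib.helper13.DerAdjL

section Abstract

variable {C : Type u₁} {D : Type u₂} {H : Type u₃} [Category.{v₁} C] [Category.{v₂} D]
  [Category.{v₃} H] (L : C ⥤ D) (W : MorphismProperty C) [L.IsLocalization W]
  (Φ : C ⥤ H) (LF : D ⥤ H) (α : L ⋙ LF ⟶ Φ) [LF.IsLeftDerivedFunctor α W]

theorem isLeftDerivedFunctor_of_isIso (G : D ⥤ H) (β : L ⋙ G ⟶ Φ)
    (h : ∀ Y : D, ∃ P : C, Nonempty (L.obj P ≅ Y) ∧ IsIso (α.app P) ∧ IsIso (β.app P)) :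
    G.IsLeftDerivedFunctor β W := by
  rw [Functor.isLeftDerivedFunctor_iff_isIso_leftDerivedLift LF α W G β]
  rw [NatTrans.isIso_iff_isIso_app]
  intro Y
  obtain ⟨P, ⟨e⟩, h1, h2⟩ := h Y
  rw [← NatTrans.isIso_app_iff_of_iso (LF.leftDerivedLift α W G β) e]
  have h3 := LF.leftDerived_fac_app α W G β P
  have h4 : (LF.leftDerivedLift α W G β).app (L.obj P) = β.app P ≫ inv (α.app P) := by
    rw [← h3]; simp
  rw [h4]
  infer_instance

end Abstract

section Complexes

open HomotopyCategory Groth.Agent.Lib.Helper25.LDerAdapted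

variable {A₀ : Type u₁} [Category.{v₁} A₀] [Abelian A₀] [HasDerivedCategory.{w₁} A₀]
  {H : Type u₃} [Category.{v₃} H]
  (P₀ : ObjectProperty (CochainComplex A₀ ℤ))
  (hzero : ∃ Z : CochainComplex A₀ ℤ, IsZero Z ∧ P₀ Z)
  (hshift : ∀ (E : CochainComplex A₀ ℤ) (n : ℤ), P₀ E → P₀ (E⟦n⟧))
  (hcone : ∀ {E E' : CochainComplex A₀ ℤ} (f : E ⟶ E'), P₀ E → P₀ E' →
    P₀ (CochainComplex.mappingCone f))
  (hres₀ : ∀ E : CochainComplex A₀ ℤ, ∃ (E' : CochainComplex A₀ ℤ) (f : E' ⟶ E),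
    P₀ E' ∧ QuasiIso f)
  (Φ : HomotopyCategory A₀ (ComplexShape.up ℤ) ⥤ H)
  (hΦ₀ : ∀ {E E' : CochainComplex A₀ ℤ} (f : E ⟶ E'), P₀ E → P₀ E' → QuasiIso f →
    IsIso (Φ.map ((quotient _ _).map f)))

include hres₀ in
lemma exists_adapted_iso (Y : DerivedCategory A₀) :
    ∃ E : CochainComplex A₀ ℤ, P₀ E ∧
      Nonempty (DerivedCategory.Qh.obj ((quotient _ _).obj E) ≅ Y) := by
  obtain ⟨K, ⟨e⟩⟩ : ∃ K : CochainComplex A₀ ℤ, Nonempty (DerivedCategory.Q.obj K ≅ Y) :=
    ⟨_, ⟨DerivedCategory.Q.objObjPreimageIso Y⟩⟩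
  obtain ⟨E, f, hE, hf⟩ := hres₀ K
  haveI : IsIso (DerivedCategory.Q.map f) := by
    rw [DerivedCategory.isIso_Q_map_iff_quasiIso]; exact hf
  exact ⟨E, hE, ⟨(DerivedCategory.quotientCompQhIso A₀).app E ≪≫
    asIso (DerivedCategory.Q.map f) ≪≫ e⟩⟩

include hzero hshift hcone hres₀ hΦ₀ in
/-- a functor with a counit which is invertible on the adapted complexes is a left derived
functor -/
theorem isLeftDerivedFunctor_of_adapted (G : DerivedCategory A₀ ⥤ H)
    (β : DerivedCategory.Qh ⋙ G ⟶ Φ)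
    (hβ : ∀ E : CochainComplex A₀ ℤ, P₀ E → IsIso (β.app ((quotient _ _).obj E))) :
    G.IsLeftDerivedFunctor β (HomotopyCategory.quasiIso A₀ (ComplexShape.up ℤ)) := by
  haveI := hasLeftDerivedFunctor_Qh P₀ hzero hshift hcone hres₀ Φ hΦ₀
  refine isLeftDerivedFunctor_of_isIso DerivedCategory.Qh _ Φ
    (Φ.totalLeftDerived DerivedCategory.Qh (HomotopyCategory.quasiIso A₀ (ComplexShape.up ℤ)))
    (Φ.totalLeftDerivedCounit DerivedCategory.Qh
      (HomotopyCategory.quasiIso A₀ (ComplexShape.up ℤ))) G β ?_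
  intro Y
  obtain ⟨E, hE, he⟩ := exists_adapted_iso P₀ hres₀ Y
  exact ⟨(quotient _ _).obj E, he,
    isIso_counit_app_quotient_obj P₀ hzero hshift hcone hres₀ Φ hΦ₀ _ _ E hE, hβ E hE⟩

end Complexes

section Adjunction

open HomotopyCategory Groth.Agent.Lib.Helper25.LDerAdapted

variable {A₁ : Type u₁} [Category.{v₁} A₁] [Abelian A₁] [HasDerivedCategory.{w₁} A₁]
  {A₂ : Type u₂} [Category.{v₂} A₂] [Abelian A₂] [HasDerivedCategory.{w₂} A₂]
  {G₀ : A₁ ⥤ A₂} {F₀ : A₂ ⥤ A₁} [G₀.Additive] [F₀.Additive]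
  [PreservesFiniteLimits F₀] [PreservesFiniteColimits F₀] (adj₀ : G₀ ⊣ F₀)
  (P₀ : ObjectProperty (CochainComplex A₁ ℤ))
  (hzero : ∃ Z : CochainComplex A₁ ℤ, IsZero Z ∧ P₀ Z)
  (hshift : ∀ (E : CochainComplex A₁ ℤ) (n : ℤ), P₀ E → P₀ (E⟦n⟧))
  (hcone : ∀ {E E' : CochainComplex A₁ ℤ} (f : E ⟶ E'), P₀ E → P₀ E' →
    P₀ (CochainComplex.mappingCone f))
  (hres₀ : ∀ E : CochainComplex A₁ ℤ, ∃ (E' : CochainComplex A₁ ℤ) (f : E' ⟶ E),
    P₀ E' ∧ QuasiIso f)
  (hΦ₀ : ∀ {E E' : CochainComplex A₁ ℤ} (f : E ⟶ E'), P₀ E → P₀ E' → QuasiIso f →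
    QuasiIso ((G₀.mapHomologicalComplex (ComplexShape.up ℤ)).map f))

include hΦ₀ in
lemma isIso_map_of_adapted {E E' : CochainComplex A₁ ℤ} (f : E ⟶ E') (hE : P₀ E) (hE' : P₀ E')
    (hf : QuasiIso f) :
    IsIso ((G₀.mapHomotopyCategory (ComplexShape.up ℤ) ⋙ DerivedCategory.Qh).map
      ((quotient _ _).map f)) := by
  have h := hΦ₀ f hE hE' hf
  have h1 : IsIso (DerivedCategory.Q.map ((G₀.mapHomologicalComplex (ComplexShape.up ℤ)).map f)) := by
    rw [DerivedCategory.isIso_Q_map_iff_quasiIso]; exact h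
  have h2 : (G₀.mapHomotopyCategory (ComplexShape.up ℤ)).map ((quotient _ _).map f) =
      (quotient _ _).map ((G₀.mapHomologicalComplex (ComplexShape.up ℤ)).map f) := rfl
  rw [Functor.comp_map, h2]
  exact (NatIso.isIso_map_iff (DerivedCategory.quotientCompQhIso A₂) _).2 h1

/-- the natural transformation `β` making `F₀.mapDerivedCategory` a right derived functor -/
noncomputable abbrev βR : F₀.mapHomotopyCategory (ComplexShape.up ℤ) ⋙ DerivedCategory.Qh ⟶
    DerivedCategory.Qh ⋙ F₀.mapDerivedCategory :=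
  F₀.mapDerivedCategoryFactorsh.inv

instance : F₀.mapDerivedCategory.IsRightDerivedFunctor (βR (F₀ := F₀))
    (HomotopyCategory.quasiIso A₂ (ComplexShape.up ℤ)) :=
  Functor.isRightDerivedFunctor_of_inverts _ _ F₀.mapDerivedCategoryFactorsh

include adj₀ hzero hshift hcone hres₀ hΦ₀ in
/-- **Derived adjunction.** -/
theorem nonempty_adjunction_of_adapted
    (G' : DerivedCategory A₁ ⥤ DerivedCategory A₂)
    (α : DerivedCategory.Qh ⋙ G' ⟶
      G₀.mapHomotopyCategory (ComplexShape.up ℤ) ⋙ DerivedCategory.Qh)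
    [G'.IsLeftDerivedFunctor α (HomotopyCategory.quasiIso A₁ (ComplexShape.up ℤ))] :
    ∃ adj : G' ⊣ F₀.mapDerivedCategory, ∀ X : HomotopyCategory A₁ (ComplexShape.up ℤ),
      adj.unit.app (DerivedCategory.Qh.obj X) ≫ F₀.mapDerivedCategory.map (α.app X) =
        DerivedCategory.Qh.map
          ((Groth.Agent.Lib.Helper25.DerAdjK.adjK adj₀ (ComplexShape.up ℤ)).unit.app X) ≫
          (βR (F₀ := F₀)).app ((G₀.mapHomotopyCategory (ComplexShape.up ℤ)).obj X) := by
  let adjK := Groth.Agent.Lib.Helper25.DerAdjK.adjK adj₀ (ComplexShape.up ℤ)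
  let Φ := G₀.mapHomotopyCategory (ComplexShape.up ℤ) ⋙ DerivedCategory.Qh (C := A₂)
  have hΦ : ∀ {E E' : CochainComplex A₁ ℤ} (f : E ⟶ E'), P₀ E → P₀ E' → QuasiIso f →
      IsIso (Φ.map ((quotient _ _).map f)) := fun f hE hE' hf =>
    isIso_map_of_adapted P₀ hΦ₀ f hE hE' hf
  have hα : ∀ E : CochainComplex A₁ ℤ, P₀ E → IsIso (α.app ((quotient _ _).obj E)) :=
    fun E hE => isIso_counit_app_quotient_obj P₀ hzero hshift hcone hres₀ Φ hΦ G' α E hE
  -- the composite is a left derived functor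
  haveI h3 : (G' ⋙ F₀.mapDerivedCategory).IsLeftDerivedFunctor
      ((Functor.associator _ _ _).inv ≫ Functor.whiskerRight α F₀.mapDerivedCategory)
      (HomotopyCategory.quasiIso A₁ (ComplexShape.up ℤ)) := by
    refine isLeftDerivedFunctor_of_adapted P₀ hzero hshift hcone hres₀
      (Φ ⋙ F₀.mapDerivedCategory) ?_ _ _ ?_
    · intro E E' f hE hE' hf
      haveI := hΦ f hE hE' hf
      rw [Functor.comp_map]
      infer_instance
    · intro E hE
      haveI := hα E hE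
      simp only [NatTrans.comp_app, Functor.associator_inv_app, Functor.whiskerRight_app,
        Category.id_comp]
      infer_instance
  haveI h4 : (F₀.mapDerivedCategory ⋙ G').IsRightDerivedFunctor
      (Functor.whiskerRight (βR (F₀ := F₀)) G' ≫ (Functor.associator _ _ _).hom)
      (HomotopyCategory.quasiIso A₂ (ComplexShape.up ℤ)) := by
    rw [Functor.isRightDerivedFunctor_iff_of_inverts]
    · infer_instance
    · have h5 : (HomotopyCategory.quasiIso A₂ (ComplexShape.up ℤ)).IsInvertedBy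
          (F₀.mapHomotopyCategory (ComplexShape.up ℤ) ⋙ DerivedCategory.Qh) :=
        (MorphismProperty.IsInvertedBy.iff_of_iso _ F₀.mapDerivedCategoryFactorsh).1
          ((Localization.inverts DerivedCategory.Qh _).of_comp _ _ _)
      exact h5.of_comp _ _ _
  refine ⟨adjK.derived (HomotopyCategory.quasiIso A₁ (ComplexShape.up ℤ))
    (HomotopyCategory.quasiIso A₂ (ComplexShape.up ℤ)) α (βR (F₀ := F₀)), fun X => ?_⟩
  exact adjK.derivedη_fac_app (HomotopyCategory.quasiIso A₁ (ComplexShape.up ℤ)) α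
    (βR (F₀ := F₀)) X

end Adjunction

end Groth.Agent.Lib.helper13.DerAdjL
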