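import Mathlib

/-!
# K-flat complexes, part 1 (helper13): total complexes and short exact sequences

For a bifunctor `F : C₁ ⥤ C₂ ⥤ D` additive in each variable and a fixed cochain complex `L`,
the functor `Φ = Tot(F(L, -))` on cochain complexes sends a short exact sequence of complexes
`S` to a short exact sequence as soon as every `F(L^p, S^q)` is short exact and coproducts
of monomorphisms in `D` are monomorphisms (AB4).
-/

open CategoryTheory Limits HomologicalComplex

namespace Groth.Agent.Lib.helper13.KFlat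

universe w

section AB4

variable {D : Type*} [Category D]

/-- coproducts (indexed by `J`) of monomorphisms are monomorphisms, in cocone form -/
def MonoCoprod (D : Type*) [Category D] (J : Type w) : Prop :=
  ∀ (X Y : J → D) (f : ∀ j, X j ⟶ Y j) (cX : Cofan X) (cY : Cofan Y) (_ : IsColimit cX)
    (_ : IsColimit cY) (φ : cX.pt ⟶ cY.pt), (∀ j, cX.inj j ≫ φ = f j ≫ cY.inj j) →
    (∀ j, Mono (f j)) → Mono φ

lemma monoCoprod_of_hasExactColimitsOfShape (J : Type w) [HasColimitsOfShape (Discrete J) D]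
    [HasExactColimitsOfShape (Discrete J) D] : MonoCoprod D J := by
  intro X Y f cX cY hX hY φ hφ hf
  let α : Discrete.functor X ⟶ Discrete.functor Y := Discrete.natTrans (fun ⟨j⟩ => f j)
  haveI : ∀ j, Mono (α.app j) := fun ⟨j⟩ => hf j
  haveI : Mono α := NatTrans.mono_of_mono_app α
  exact colim.map_mono' α hX hY φ (fun ⟨j⟩ => hφ j)

end AB4

variable {C₁ C₂ D : Type*} [Category C₁] [Category C₂] [Category D]
  [Preadditive C₁] [Preadditive C₂] [Abelian D]
  (F : C₁ ⥤ C₂ ⥤ D) [F.Additive] [∀ X₁, (F.obj X₁).Additive]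
  (L : CochainComplex C₁ ℤ)
  [∀ K : CochainComplex C₂ ℤ, HasMapBifunctor L K F (ComplexShape.up ℤ)]

/-- the functor `K ↦ Tot(F(L, K))` -/
@[simps]
noncomputable def Φ : CochainComplex C₂ ℤ ⥤ CochainComplex D ℤ where
  obj K := mapBifunctor L K F (ComplexShape.up ℤ)
  map g := mapBifunctorMap (𝟙 L) g F (ComplexShape.up ℤ)
  map_id K := by
    ext n p q h
    simp
  map_comp f g := by
    ext n p q h
    simp

@[reassoc (attr := simp)]
lemma ι_Φ_map {K K' : CochainComplex C₂ ℤ} (g : K ⟶ K') (p q n : ℤ)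
    (h : ComplexShape.π (ComplexShape.up ℤ) (ComplexShape.up ℤ) (ComplexShape.up ℤ) (p, q) = n) :
    ιMapBifunctor L K F (ComplexShape.up ℤ) p q n h ≫ ((Φ F L).map g).f n =
      (F.obj (L.X p)).map (g.f q) ≫ ιMapBifunctor L K' F (ComplexShape.up ℤ) p q n h := by
  simp [Φ]

instance : (Φ F L).PreservesZeroMorphisms where
  map_zero K K' := by
    ext n
    apply mapBifunctor.hom_ext (K₁ := L) (K₂ := K) (F := F) (c := ComplexShape.up ℤ)
    intro p q h
    change _ ≫ (mapBifunctorMap (𝟙 L) (0 : K ⟶ K') F (ComplexShape.up ℤ)).f n = _ ≫ 0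
    simp

instance : (Φ F L).Additive where
  map_add {K K' f g} := by
    ext n
    apply mapBifunctor.hom_ext (K₁ := L) (K₂ := K) (F := F) (c := ComplexShape.up ℤ)
    intro p q h
    change _ ≫ (mapBifunctorMap (𝟙 L) (f + g) F (ComplexShape.up ℤ)).f n =
      _ ≫ ((mapBifunctorMap (𝟙 L) f F (ComplexShape.up ℤ)).f n +
        (mapBifunctorMap (𝟙 L) g F (ComplexShape.up ℤ)).f n)
    simp

/-- the index type of the summands of `Tot^n` -/
abbrev Idx (n : ℤ) : Type :=
  ↥((ComplexShape.π (ComplexShape.up ℤ) (ComplexShape.up ℤ) (ComplexShape.up ℤ)) ⁻¹' {n})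

/-- the cofan of the summands of `Tot^n(F(L, K))` -/
noncomputable def totCofan (K : CochainComplex C₂ ℤ) (n : ℤ) :
    Cofan (fun i : Idx n => (F.obj (L.X i.1.1)).obj (K.X i.1.2)) :=
  Cofan.mk ((mapBifunctor L K F (ComplexShape.up ℤ)).X n)
    (fun i => ιMapBifunctor L K F (ComplexShape.up ℤ) i.1.1 i.1.2 n i.2)

/-- it is a colimit -/
noncomputable def isColimitTotCofan (K : CochainComplex C₂ ℤ) (n : ℤ) :
    IsColimit (totCofan F L K n) :=
  mkCofanColimit _
    (fun s => mapBifunctorDesc (fun p q h => s.inj ⟨(p, q), h⟩))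
    (fun s i => by
      obtain ⟨⟨p, q⟩, h⟩ := i
      exact ι_mapBifunctorDesc _ p q h)
    (fun s m hm => by
      apply mapBifunctor.hom_ext (K₁ := L) (K₂ := K) (F := F) (c := ComplexShape.up ℤ)
      intro p q h
      rw [ι_mapBifunctorDesc]
      exact hm ⟨(p, q), h⟩)

variable {F L}

/-- a coproduct of short exact sequences is short exact (given AB4 for the index type) -/
theorem shortExact_of_cofans {D : Type*} [Category D] [Abelian D] {J : Type w}
    (hmono : MonoCoprod D J)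
    {X₁ X₂ X₃ : J → D} (f : ∀ j, X₁ j ⟶ X₂ j) (g : ∀ j, X₂ j ⟶ X₃ j)
    (w : ∀ j, f j ≫ g j = 0) (hj : ∀ j, (ShortComplex.mk (f j) (g j) (w j)).ShortExact)
    (c₁ : Cofan X₁) (c₂ : Cofan X₂) (c₃ : Cofan X₃)
    (h₁ : IsColimit c₁) (h₂ : IsColimit c₂) (h₃ : IsColimit c₃)
    (φ : c₁.pt ⟶ c₂.pt) (ψ : c₂.pt ⟶ c₃.pt)
    (hφ : ∀ j, c₁.inj j ≫ φ = f j ≫ c₂.inj j) (hψ : ∀ j, c₂.inj j ≫ ψ = g j ≫ c₃.inj j)
    (w' : φ ≫ ψ = 0) : (ShortComplex.mk φ ψ w').ShortExact := by
  haveI : Mono φ := hmono _ _ f c₁ c₂ h₁ h₂ φ hφ (fun j => (hj j).mono_f)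
  haveI : Epi ψ := by
    constructor
    intro Z a b hab
    refine Cofan.IsColimit.hom_ext h₃ _ _ (fun j => ?_)
    have hepi : Epi (g j) := (hj j).epi_g
    rw [← cancel_epi (g j), ← Category.assoc, ← hψ j, Category.assoc, hab, ← Category.assoc,
      hψ j, Category.assoc]
  have hdesc : ∀ {Z' : D} (g' : c₂.pt ⟶ Z') (_ : φ ≫ g' = 0) (j : J),
      f j ≫ c₂.inj j ≫ g' = 0 := by
    intro Z' g' hg' j
    rw [← Category.assoc, ← hφ j, Category.assoc, hg', comp_zero]
  have key : IsColimit (CokernelCofork.ofπ ψ w') :=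
    CokernelCofork.IsColimit.ofπ ψ w'
      (fun {Z'} (g' : c₂.pt ⟶ Z') (hg' : φ ≫ g' = 0) => Cofan.IsColimit.desc h₃ (fun j =>
        (hj j).gIsCokernel.desc (CokernelCofork.ofπ (c₂.inj j ≫ g') (hdesc g' hg' j))))
      (fun {Z'} (g' : c₂.pt ⟶ Z') (hg' : φ ≫ g' = 0) => by
        refine Cofan.IsColimit.hom_ext h₂ _ _ (fun j => ?_)
        rw [← Category.assoc, hψ j, Category.assoc, Cofan.IsColimit.fac]
        exact Cofork.IsColimit.π_desc (hj j).gIsCokernel)
      (fun {Z'} (g' : c₂.pt ⟶ Z') (hg' : φ ≫ g' = 0) (m : c₃.pt ⟶ Z') (hm : ψ ≫ m = g') => by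
        refine Cofan.IsColimit.hom_ext h₃ _ _ (fun j => ?_)
        rw [Cofan.IsColimit.fac]
        apply Cofork.IsColimit.hom_ext (hj j).gIsCokernel
        have e := Cofork.IsColimit.π_desc (hj j).gIsCokernel
          (t := CokernelCofork.ofπ (c₂.inj j ≫ g') (hdesc g' hg' j))
        refine Eq.trans ?_ e.symm
        change g j ≫ c₃.inj j ≫ m = c₂.inj j ≫ g'
        rw [← Category.assoc, ← hψ j, Category.assoc, hm])
  have hex : (ShortComplex.mk φ ψ w').Exact := ShortComplex.exact_of_g_is_cokernel _ key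
  exact { exact := hex }

theorem shortExact_map_Φ_eval (S : ShortComplex (CochainComplex C₂ ℤ)) (n : ℤ)
    (h : ∀ p q : ℤ, ((S.map (eval _ _ q)).map (F.obj (L.X p))).ShortExact)
    (hmono : MonoCoprod D (Idx n)) :
    ((S.map (Φ F L)).map (eval _ _ n)).ShortExact :=
  shortExact_of_cofans hmono
    (fun i : Idx n => (F.obj (L.X i.1.1)).map (S.f.f i.1.2))
    (fun i : Idx n => (F.obj (L.X i.1.1)).map (S.g.f i.1.2))
    (fun i => ((S.map (eval _ _ i.1.2)).map (F.obj (L.X i.1.1))).zero)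
    (fun i => h i.1.1 i.1.2)
    (totCofan F L S.X₁ n) (totCofan F L S.X₂ n) (totCofan F L S.X₃ n)
    (isColimitTotCofan F L S.X₁ n) (isColimitTotCofan F L S.X₂ n) (isColimitTotCofan F L S.X₃ n)
    (((Φ F L).map S.f).f n) (((Φ F L).map S.g).f n)
    (fun i => ι_Φ_map F L S.f i.1.1 i.1.2 n i.2)
    (fun i => ι_Φ_map F L S.g i.1.1 i.1.2 n i.2)
    ((S.map (Φ F L)).map (eval _ _ n)).zero

theorem shortExact_map_Φ (S : ShortComplex (CochainComplex C₂ ℤ))
    (h : ∀ p q : ℤ, ((S.map (eval _ _ q)).map (F.obj (L.X p))).ShortExact)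
    (hmono : ∀ n : ℤ, MonoCoprod D (Idx n)) :
    (S.map (Φ F L)).ShortExact :=
  shortExact_of_degreewise_shortExact _ (fun n => shortExact_map_Φ_eval S n h (hmono n))

/-- acyclicity: two out of three in a short exact sequence of complexes -/
theorem acyclic_two_of_three (T : ShortComplex (CochainComplex D ℤ)) (hT : T.ShortExact) :
    (T.X₁.Acyclic → T.X₂.Acyclic → T.X₃.Acyclic) ∧
    (T.X₁.Acyclic → T.X₃.Acyclic → T.X₂.Acyclic) ∧
    (T.X₂.Acyclic → T.X₃.Acyclic → T.X₁.Acyclic) := by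
  refine ⟨fun h1 h2 i => ?_, fun h1 h3 i => ?_, fun h2 h3 i => ?_⟩
  · rw [exactAt_iff_isZero_homology]
    have e := hT.homology_exact₃ i (i + 1) (by simp)
    refine e.isZero_of_both_zeros (IsZero.eq_of_src ?_ _ _) (IsZero.eq_of_tgt ?_ _ _)
    · exact (exactAt_iff_isZero_homology _ _).1 (h2 i)
    · exact (exactAt_iff_isZero_homology _ _).1 (h1 (i + 1))
  · rw [exactAt_iff_isZero_homology]
    have e := hT.homology_exact₂ i
    refine e.isZero_of_both_zeros (IsZero.eq_of_src ?_ _ _) (IsZero.eq_of_tgt ?_ _ _)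
    · exact (exactAt_iff_isZero_homology _ _).1 (h1 i)
    · exact (exactAt_iff_isZero_homology _ _).1 (h3 i)
  · rw [exactAt_iff_isZero_homology]
    have e := hT.homology_exact₁ (i - 1) i (by simp)
    refine e.isZero_of_both_zeros (IsZero.eq_of_src ?_ _ _) (IsZero.eq_of_tgt ?_ _ _)
    · exact (exactAt_iff_isZero_homology _ _).1 (h3 (i - 1))
    · exact (exactAt_iff_isZero_homology _ _).1 (h2 i)

end Groth.Agent.Lib.helper13.KFlat
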