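import Mathlib
import Groth.Prelude.Def_KFlatSite
import Groth.Agent.Lib.Helper13.KFlat1

/-!
# K-flat complexes, part 3 (helper13): complexes of modules over a ring, short exact sequences
-/

set_option autoImplicit false
universe u
open CategoryTheory Limits HomologicalComplex MonoidalCategory

namespace Groth.Agent.Lib.helper13.KFlat

variable (R : Type u) [CommRing R]

/-- AB4 for `ModuleCat R`, for index types in `Type` -/
theorem monoCoprod_moduleCat (I : Type) : MonoCoprod (ModuleCat.{u} R) I := by
  haveI : HasExactColimitsOfShape (Discrete (ULift.{u} I)) (ModuleCat.{u} R) :=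
    AB4OfSize.ofShape _
  haveI : HasExactColimitsOfShape (Discrete I) (ModuleCat.{u} R) :=
    HasExactColimitsOfShape.of_domain_equivalence (ModuleCat.{u} R)
      (Discrete.equivalence (Equiv.ulift.{u} (α := I)))
  exact monoCoprod_of_hasExactColimitsOfShape I

variable {R}

/-- `M ⊗ -` applied to a short exact sequence with flat cokernel is short exact -/
theorem shortExact_map_tensorLeft (S : ShortComplex (ModuleCat.{u} R)) (hS : S.ShortExact)
    (hF : Module.Flat R S.X₃) (M : ModuleCat.{u} R) :
    (S.map ((curriedTensor (ModuleCat.{u} R)).obj M)).ShortExact := by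
  have hex : Function.Exact S.f.hom S.g.hom :=
    (ShortComplex.ShortExact.moduleCat_exact_iff_function_exact S).1 hS.exact
  have hinj : Function.Injective S.f.hom := (ModuleCat.mono_iff_injective S.f).1 hS.mono_f
  have hsurj : Function.Surjective S.g.hom := (ModuleCat.epi_iff_surjective S.g).1 hS.epi_g
  have h1 : Function.Exact (LinearMap.lTensor M S.f.hom) (LinearMap.lTensor M S.g.hom) :=
    lTensor_exact M hex hsurj
  have h2 : Function.Injective (LinearMap.lTensor M S.f.hom) :=
    LinearMap.lTensor_injective_of_exact_of_flat S.g.hom hsurj S.f.hom hinj hex M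
  have h3 : Function.Surjective (LinearMap.lTensor M S.g.hom) :=
    LinearMap.lTensor_surjective M hsurj
  haveI : Mono (S.map ((curriedTensor (ModuleCat.{u} R)).obj M)).f :=
    (ModuleCat.mono_iff_injective _).2 h2
  haveI : Epi (S.map ((curriedTensor (ModuleCat.{u} R)).obj M)).g :=
    (ModuleCat.epi_iff_surjective _).2 h3
  exact { exact := (ShortComplex.ShortExact.moduleCat_exact_iff_function_exact _).2 h1 }

/-- the K-flatness predicate of the `DRing` statements -/
def IsKFlatR (K : DRing.Cx R) : Prop :=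
  ∀ L : DRing.Cx R, (∀ i : ℤ, IsZero (L.homology i)) → ∀ i : ℤ, IsZero ((L ⊗ K).homology i)

lemma isKFlatR_iff (K : DRing.Cx R) :
    IsKFlatR K ↔ ∀ L : DRing.Cx R, L.Acyclic →
      ((Φ (curriedTensor (ModuleCat.{u} R)) L).obj K).Acyclic := by
  constructor
  · intro h L hL i
    rw [exactAt_iff_isZero_homology]
    exact h L (fun i => (exactAt_iff_isZero_homology _ _).1 (hL i)) i
  · intro h L hL i
    exact (exactAt_iff_isZero_homology _ _).1
      (h L (fun i => (exactAt_iff_isZero_homology _ _).2 (hL i)) i)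

theorem isKFlatR_two_of_three (S : ShortComplex (DRing.Cx R))
    (hS : S.ShortExact) (h3 : DRing.TermwiseFlat S.X₃) :
    (IsKFlatR S.X₁ → IsKFlatR S.X₂ → IsKFlatR S.X₃) ∧
    (IsKFlatR S.X₁ → IsKFlatR S.X₃ → IsKFlatR S.X₂) ∧
    (IsKFlatR S.X₂ → IsKFlatR S.X₃ → IsKFlatR S.X₁) := by
  have key : ∀ L : DRing.Cx R,
      (S.map (Φ (curriedTensor (ModuleCat.{u} R)) L)).ShortExact := by
    intro L
    refine shortExact_map_Φ S (fun p q => ?_) (fun n => monoCoprod_moduleCat R _)
    have hq : (S.map (eval _ _ q)).ShortExact := hS.map_of_exact (eval _ _ q)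
    exact shortExact_map_tensorLeft _ hq (h3 q) (L.X p)
  simp only [isKFlatR_iff]
  refine ⟨fun h1 h2 L hL => ?_, fun h1 h3 L hL => ?_, fun h2 h3 L hL => ?_⟩
  · exact (acyclic_two_of_three _ (key L)).1 (h1 L hL) (h2 L hL)
  · exact (acyclic_two_of_three _ (key L)).2.1 (h1 L hL) (h3 L hL)
  · exact (acyclic_two_of_three _ (key L)).2.2 (h2 L hL) (h3 L hL)

end Groth.Agent.Lib.helper13.KFlat
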