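import Mathlib
import Groth.Prelude.Def_KFlatSite
import Groth.Agent.Lib.Helper13.KFlat3
import Groth.Agent.Lib.Helper2.BifunctorCone

/-!
# K-flat complexes, part 12 (helper13): homotopy invariance and distinguished triangles (rings)
-/

set_option autoImplicit false
universe u
open CategoryTheory Limits HomologicalComplex MonoidalCategory

namespace Groth.Agent.Lib.helper13.KFlat

section general

variable {C₁ C₂ D : Type*} [Category C₁] [Category C₂] [Category D]
  [Preadditive C₁] [Preadditive C₂] [Abelian D]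
  (F : C₁ ⥤ C₂ ⥤ D) [F.Additive] [∀ X₁, (F.obj X₁).Additive]
  (L : CochainComplex C₁ ℤ)
  [∀ K : CochainComplex C₂ ℤ, HasMapBifunctor L K F (ComplexShape.up ℤ)]

/-- `Tot F(L, -)` preserves homotopies -/
noncomputable def homotopyΦ {K K' : CochainComplex C₂ ℤ} {f g : K ⟶ K'} (h : Homotopy f g) :
    Homotopy ((Φ F L).map f) ((Φ F L).map g) :=
  mapBifunctorMapHomotopy₂ (𝟙 L) h F (ComplexShape.up ℤ)

/-- if `K` is a homotopy retract of `K'` and `Tot F(L, K')` is acyclic, so is `Tot F(L, K)` -/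
theorem acyclic_Φ_of_homotopy_retract {K K' : CochainComplex C₂ ℤ} (f : K ⟶ K') (g : K' ⟶ K)
    (h : Homotopy (f ≫ g) (𝟙 K)) (hK' : ((Φ F L).obj K').Acyclic) :
    ((Φ F L).obj K).Acyclic := by
  intro i
  rw [exactAt_iff_isZero_homology, IsZero.iff_id_eq_zero]
  have h0 : IsZero (((Φ F L).obj K').homology i) := (exactAt_iff_isZero_homology _ _).1 (hK' i)
  have h1 := (homotopyΦ F L h).homologyMap_eq i
  rw [Functor.map_comp, homologyMap_comp, CategoryTheory.Functor.map_id, homologyMap_id] at h1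
  rw [← h1, h0.eq_of_tgt (homologyMap ((Φ F L).map f) i) 0, zero_comp]

end general

section ring

variable {R : Type u} [CommRing R]

theorem isKFlatR_of_homotopyEquiv {K K' : DRing.Cx R} (e : HomotopyEquiv K K')
    (h : IsKFlatR K') : IsKFlatR K := by
  rw [isKFlatR_iff] at h ⊢
  intro L hL
  exact acyclic_Φ_of_homotopy_retract _ L e.hom e.inv e.homotopyHomInvId (h L hL)

open Groth.Agent.Lib.helper2.BifunctorExact in
theorem isKFlatR_cone_two_of_three {K K' : DRing.Cx R} (φ : K ⟶ K') :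
    (IsKFlatR K → IsKFlatR K' → IsKFlatR (CochainComplex.mappingCone φ)) ∧
    (IsKFlatR K → IsKFlatR (CochainComplex.mappingCone φ) → IsKFlatR K') ∧
    (IsKFlatR K' → IsKFlatR (CochainComplex.mappingCone φ) → IsKFlatR K) := by
  simp only [isKFlatR_iff]
  refine ⟨fun h₁ h₂ L hL => ?_, fun h₁ h₃ L hL => ?_, fun h₂ h₃ L hL => ?_⟩
  · exact acyclic_cone₂ (curriedTensor (ModuleCat.{u} R)) L φ (h₁ L hL) (h₂ L hL)
  · exact acyclic_tgt₂ (curriedTensor (ModuleCat.{u} R)) L φ (h₁ L hL) (h₃ L hL)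
  · exact acyclic_src₂ (curriedTensor (ModuleCat.{u} R)) L φ (h₂ L hL) (h₃ L hL)

theorem isKFlatR_distTriang
    (T : Pretriangulated.Triangle (HomotopyCategory (ModuleCat.{u} R) (ComplexShape.up ℤ)))
    (hT : T ∈ Pretriangulated.distinguishedTriangles) :
    (IsKFlatR T.obj₁.as → IsKFlatR T.obj₂.as → IsKFlatR T.obj₃.as) ∧
    (IsKFlatR T.obj₁.as → IsKFlatR T.obj₃.as → IsKFlatR T.obj₂.as) ∧
    (IsKFlatR T.obj₂.as → IsKFlatR T.obj₃.as → IsKFlatR T.obj₁.as) := by
  obtain ⟨K, K', φ, ⟨e⟩⟩ := hT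
  have e1 : HomotopyEquiv T.obj₁.as K :=
    HomotopyCategory.homotopyEquivOfIso (Pretriangulated.Triangle.π₁.mapIso e)
  have e2 : HomotopyEquiv T.obj₂.as K' :=
    HomotopyCategory.homotopyEquivOfIso (Pretriangulated.Triangle.π₂.mapIso e)
  have e3 : HomotopyEquiv T.obj₃.as (CochainComplex.mappingCone φ) :=
    HomotopyCategory.homotopyEquivOfIso (Pretriangulated.Triangle.π₃.mapIso e)
  obtain ⟨c1, c2, c3⟩ := isKFlatR_cone_two_of_three φ
  refine ⟨fun h1 h2 => ?_, fun h1 h3 => ?_, fun h2 h3 => ?_⟩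
  · exact isKFlatR_of_homotopyEquiv e3 (c1 (isKFlatR_of_homotopyEquiv e1.symm h1)
      (isKFlatR_of_homotopyEquiv e2.symm h2))
  · exact isKFlatR_of_homotopyEquiv e2 (c2 (isKFlatR_of_homotopyEquiv e1.symm h1)
      (isKFlatR_of_homotopyEquiv e3.symm h3))
  · exact isKFlatR_of_homotopyEquiv e1 (c3 (isKFlatR_of_homotopyEquiv e2.symm h2)
      (isKFlatR_of_homotopyEquiv e3.symm h3))

end ring

end Groth.Agent.Lib.helper13.KFlat
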