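import Mathlib
import Groth.Agent.Lib.Helper2.BifunctorCone

/-!
# K-flat complexes, part 13 (helper13): functoriality of total complexes in the bifunctor,
symmetric K-flatness, tensoring a quasi-isomorphism between K-flat complexes
-/

set_option autoImplicit false
open CategoryTheory Limits HomologicalComplex

namespace Groth.Agent.Lib.helper13.KFlat

section NatTrans

variable {C₁ C₂ D : Type*} [Category C₁] [Category C₂] [Category D]
  {I₁ I₂ J : Type*} {c₁ : ComplexShape I₁} {c₂ : ComplexShape I₂}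
  [HasZeroMorphisms C₁] [HasZeroMorphisms C₂] [Preadditive D]
  (K₁ L₁ : HomologicalComplex C₁ c₁) (K₂ L₂ : HomologicalComplex C₂ c₂)
  {F F' F'' : C₁ ⥤ C₂ ⥤ D} [F.PreservesZeroMorphisms] [∀ X₁, (F.obj X₁).PreservesZeroMorphisms]
  [F'.PreservesZeroMorphisms] [∀ X₁, (F'.obj X₁).PreservesZeroMorphisms]
  [F''.PreservesZeroMorphisms] [∀ X₁, (F''.obj X₁).PreservesZeroMorphisms]
  (τ : F ⟶ F') (τ' : F' ⟶ F'')

/-- the morphism of bicomplexes induced by a natural transformation of bifunctors -/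
def bicomplexNatTrans :
    ((F.mapBifunctorHomologicalComplex c₁ c₂).obj K₁).obj K₂ ⟶
      ((F'.mapBifunctorHomologicalComplex c₁ c₂).obj K₁).obj K₂ :=
  HomologicalComplex₂.homMk (fun ⟨i₁, i₂⟩ => (τ.app (K₁.X i₁)).app (K₂.X i₂))
    (fun i₁ i₁' i₂ _ => by
      dsimp
      exact (NatTrans.naturality_app τ _ _).symm)
    (fun i₁ i₂ i₂' _ => by
      dsimp
      exact ((τ.app (K₁.X i₁)).naturality _).symm)

@[simp]
lemma bicomplexNatTrans_f_f (i₁ : I₁) (i₂ : I₂) :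
    ((bicomplexNatTrans K₁ K₂ τ).f i₁).f i₂ = (τ.app (K₁.X i₁)).app (K₂.X i₂) := rfl

variable (c : ComplexShape J) [TotalComplexShape c₁ c₂ c] [DecidableEq J]
  [HasMapBifunctor K₁ K₂ F c] [HasMapBifunctor K₁ K₂ F' c] [HasMapBifunctor K₁ K₂ F'' c]
  [HasMapBifunctor L₁ L₂ F c] [HasMapBifunctor L₁ L₂ F' c]

/-- the morphism of total complexes induced by a natural transformation of bifunctors -/
noncomputable def mapBifunctorNatTrans : mapBifunctor K₁ K₂ F c ⟶ mapBifunctor K₁ K₂ F' c :=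
  HomologicalComplex₂.total.map (bicomplexNatTrans K₁ K₂ τ) c

@[reassoc (attr := simp)]
lemma ι_mapBifunctorNatTrans (i₁ : I₁) (i₂ : I₂) (j : J)
    (h : ComplexShape.π c₁ c₂ c (i₁, i₂) = j) :
    ιMapBifunctor K₁ K₂ F c i₁ i₂ j h ≫ (mapBifunctorNatTrans K₁ K₂ τ c).f j =
      (τ.app (K₁.X i₁)).app (K₂.X i₂) ≫ ιMapBifunctor K₁ K₂ F' c i₁ i₂ j h := by
  exact HomologicalComplex₂.ιTotal_map _ _ (bicomplexNatTrans K₁ K₂ τ) c i₁ i₂ j h

lemma mapBifunctorNatTrans_id :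
    mapBifunctorNatTrans K₁ K₂ (𝟙 F) c = 𝟙 _ := by
  ext n i₁ i₂ h
  simp

lemma mapBifunctorNatTrans_comp :
    mapBifunctorNatTrans K₁ K₂ (τ ≫ τ') c =
      mapBifunctorNatTrans K₁ K₂ τ c ≫ mapBifunctorNatTrans K₁ K₂ τ' c := by
  ext n i₁ i₂ h
  simp

variable {K₁ L₁ K₂ L₂} in
lemma mapBifunctorNatTrans_naturality (φ₁ : K₁ ⟶ L₁) (φ₂ : K₂ ⟶ L₂) :
    mapBifunctorMap φ₁ φ₂ F c ≫ mapBifunctorNatTrans L₁ L₂ τ c =
      mapBifunctorNatTrans K₁ K₂ τ c ≫ mapBifunctorMap φ₁ φ₂ F' c := by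
  ext n i₁ i₂ h
  simp only [comp_f, ι_mapBifunctorMap_assoc, ι_mapBifunctorNatTrans,
    ι_mapBifunctorNatTrans_assoc, ι_mapBifunctorMap]
  rw [← Category.assoc, ← Category.assoc, ← Category.assoc, ← Category.assoc]
  congr 1
  rw [Category.assoc, (τ.app (L₁.X i₁)).naturality, ← Category.assoc,
    ← NatTrans.comp_app, ← NatTrans.comp_app, τ.naturality]

/-- the isomorphism of total complexes induced by an isomorphism of bifunctors -/
noncomputable def mapBifunctorNatIso (e : F ≅ F') :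
    mapBifunctor K₁ K₂ F c ≅ mapBifunctor K₁ K₂ F' c where
  hom := mapBifunctorNatTrans K₁ K₂ e.hom c
  inv := mapBifunctorNatTrans K₁ K₂ e.inv c
  hom_inv_id := by rw [← mapBifunctorNatTrans_comp, e.hom_inv_id, mapBifunctorNatTrans_id]
  inv_hom_id := by rw [← mapBifunctorNatTrans_comp, e.inv_hom_id, mapBifunctorNatTrans_id]

end NatTrans

section Q2

open Groth.Agent.Lib.helper2.BifunctorExact

variable {A₁ A₂ B : Type*} [Category A₁] [Category A₂] [Category B]
  [Preadditive A₁] [Abelian A₂] [Abelian B]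
  (T : A₁ ⥤ A₂ ⥤ B) [T.Additive] [∀ X₁, (T.obj X₁).Additive]
  (L : CochainComplex A₁ ℤ)
  [∀ K : CochainComplex A₂ ℤ, HasMapBifunctor L K T (ComplexShape.up ℤ)]

/-- if `Tot T(L, -)` preserves acyclic complexes, it preserves quasi-isomorphisms -/
theorem quasiIso_mapBifunctorMap_right
    (hL : ∀ K : CochainComplex A₂ ℤ, K.Acyclic →
      (mapBifunctor L K T (ComplexShape.up ℤ)).Acyclic)
    {P Q : CochainComplex A₂ ℤ} (α : P ⟶ Q) [QuasiIso α] :
    QuasiIso (mapBifunctorMap (𝟙 L) α T (ComplexShape.up ℤ)) := by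
  have h1 : QuasiIso (mapBifunctorMap α (𝟙 L) T.flip (ComplexShape.up ℤ)) :=
    quasiIso_Ψ_map T.flip L (fun K hK => (acyclic_flip_iff T L K).2 (hL K hK)) α
  have e : mapBifunctorMap (𝟙 L) α T (ComplexShape.up ℤ) =
      (mapBifunctorFlipIso L P T (ComplexShape.up ℤ)).inv ≫
        mapBifunctorMap α (𝟙 L) T.flip (ComplexShape.up ℤ) ≫
          (mapBifunctorFlipIso L Q T (ComplexShape.up ℤ)).hom := by
    rw [mapBifunctorFlipIso_hom_naturality, Iso.inv_hom_id_assoc]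
  rw [e]
  infer_instance

end Q2

section Sym

open Groth.Agent.Lib.helper2.BifunctorExact

variable {A : Type*} [Category A] [Abelian A]
  (T : A ⥤ A ⥤ A) [T.Additive] [∀ X₁, (T.obj X₁).Additive]
  [∀ K L : CochainComplex A ℤ, HasMapBifunctor K L T (ComplexShape.up ℤ)]
  (β : T ≅ T.flip)

include β in
/-- for a symmetric bifunctor, K-flatness does not depend on the side -/
theorem acyclic_symm (K : CochainComplex A ℤ)
    (hK : ∀ L : CochainComplex A ℤ, L.Acyclic →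
      (mapBifunctor L K T (ComplexShape.up ℤ)).Acyclic)
    (L : CochainComplex A ℤ) (hL : L.Acyclic) :
    (mapBifunctor K L T (ComplexShape.up ℤ)).Acyclic :=
  acyclic_of_iso ((mapBifunctorFlipIso L K T (ComplexShape.up ℤ)).symm ≪≫
    (mapBifunctorNatIso K L (ComplexShape.up ℤ) β).symm) (hK L hL)

include β in
/-- **Tensoring a quasi-isomorphism between K-flat complexes with any complex is a
quasi-isomorphism**, provided K-flat resolutions exist. -/
theorem quasiIso_mapBifunctorMap_of_kFlat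
    (hres : ∀ F : CochainComplex A ℤ, ∃ (F' : CochainComplex A ℤ) (r : F' ⟶ F),
      (∀ L : CochainComplex A ℤ, L.Acyclic →
        (mapBifunctor L F' T (ComplexShape.up ℤ)).Acyclic) ∧ QuasiIso r)
    {P Q : CochainComplex A ℤ}
    (hP : ∀ L : CochainComplex A ℤ, L.Acyclic →
      (mapBifunctor L P T (ComplexShape.up ℤ)).Acyclic)
    (hQ : ∀ L : CochainComplex A ℤ, L.Acyclic →
      (mapBifunctor L Q T (ComplexShape.up ℤ)).Acyclic)
    (α : P ⟶ Q) [QuasiIso α] (F : CochainComplex A ℤ) :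
    QuasiIso (mapBifunctorMap (𝟙 F) α T (ComplexShape.up ℤ)) := by
  obtain ⟨F', r, hF', hr⟩ := hres F
  have h1 : QuasiIso (mapBifunctorMap r (𝟙 P) T (ComplexShape.up ℤ)) :=
    quasiIso_Ψ_map T P hP r
  have h2 : QuasiIso (mapBifunctorMap r (𝟙 Q) T (ComplexShape.up ℤ)) :=
    quasiIso_Ψ_map T Q hQ r
  have h3 : QuasiIso (mapBifunctorMap (𝟙 F') α T (ComplexShape.up ℤ)) :=
    quasiIso_mapBifunctorMap_right T F' (acyclic_symm T β F' hF') α
  have sq : mapBifunctorMap r (𝟙 P) T (ComplexShape.up ℤ) ≫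
      mapBifunctorMap (𝟙 F) α T (ComplexShape.up ℤ) =
      mapBifunctorMap (𝟙 F') α T (ComplexShape.up ℤ) ≫
        mapBifunctorMap r (𝟙 Q) T (ComplexShape.up ℤ) := by
    ext n i₁ i₂ h
    simp
  have h4 : QuasiIso (mapBifunctorMap r (𝟙 P) T (ComplexShape.up ℤ) ≫
      mapBifunctorMap (𝟙 F) α T (ComplexShape.up ℤ)) := by
    rw [sq]
    infer_instance
  exact quasiIso_of_comp_left (mapBifunctorMap r (𝟙 P) T (ComplexShape.up ℤ)) _

end Sym

end Groth.Agent.Lib.helper13.KFlat
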