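import Mathlib
import Groth.Prelude.Def_KFlatSite
import Groth.Agent.Lib.Helper13.KFlat1
import Groth.Agent.Lib.Helper21.FlatSES
import Groth.Agent.Lib.Helper21.ModGroth

/-!
# K-flat complexes, part 2 (helper13): ringed sites, short exact sequences (Stacks 06YB-type)
-/

set_option autoImplicit false
universe u
open CategoryTheory Limits HomologicalComplex

namespace Groth.Agent.Lib.helper13.KFlat

open Groth.Agent.Lib.Helper21.TensorW Groth.Agent.Lib.Helper21.TensorAdj
  Groth.Agent.Lib.Helper21.TensorMon Groth.Agent.Lib.Helper21.FlatSES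

variable {C : Type u} [SmallCategory C] {J : GrothendieckTopology C} (O : Sheaf J CommRingCat.{u})

/-- AB4 for `Mod O`, for index types in `Type` -/
theorem monoCoprod_mod (I : Type) : MonoCoprod (ModSite.Mod O) I := by
  haveI : AB5OfSize.{u, u} (ModSite.Mod O) :=
    Groth.Agent.Lib.Helper21.ModGroth.ab5_mod (ModSite.ringSh O)
  haveI : HasFiniteBiproducts (ModSite.Mod O) := Abelian.hasFiniteBiproducts
  haveI : AB4OfSize.{u} (ModSite.Mod O) := AB4.of_AB5 _
  haveI : HasExactColimitsOfShape (Discrete (ULift.{u} I)) (ModSite.Mod O) :=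
    AB4OfSize.ofShape _
  haveI : HasExactColimitsOfShape (Discrete I) (ModSite.Mod O) :=
    HasExactColimitsOfShape.of_domain_equivalence (ModSite.Mod O)
      (Discrete.equivalence (Equiv.ulift.{u} (α := I)))
  exact monoCoprod_of_hasExactColimitsOfShape I

variable {O}

/-- `G ⊗ -` applied to a short exact sequence with flat cokernel is short exact -/
theorem shortExact_map_tensL (S : ShortComplex (ModSite.Mod O)) (hS : S.ShortExact)
    (hF : ModSite.IsFlat S.X₃) (G : ModSite.Mod O) :
    (S.map (tensL O G)).ShortExact := by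
  have := hS.mono_f
  have := hS.epi_g
  haveI := isLeftAdjoint_tensL O G
  have hex : (S.map (tensL O G)).Exact :=
    hS.exact.map_of_epi_of_preservesCokernel (tensL O G) inferInstance inferInstance
  haveI : Mono (S.map (tensL O G)).f := mono_tensL_map S hS hF G
  haveI : Epi (S.map (tensL O G)).g := (tensL O G).map_epi S.g
  exact { exact := hex }

lemma isKFlat_iff (K : CochainComplex (ModSite.Mod O) ℤ) :
    ModSite.IsKFlat K ↔ ∀ L : CochainComplex (ModSite.Mod O) ℤ, L.Acyclic →
      ((Φ (ModSite.tensorBi O) L).obj K).Acyclic := by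
  constructor
  · intro h L hL i
    rw [exactAt_iff_isZero_homology]
    exact h L (fun i => (exactAt_iff_isZero_homology _ _).1 (hL i)) i
  · intro h L hL i
    exact (exactAt_iff_isZero_homology _ _).1
      (h L (fun i => (exactAt_iff_isZero_homology _ _).2 (hL i)) i)

/-- Stacks 06YB for ringed sites: K-flatness, two out of three in a short exact sequence of
complexes with termwise flat third term. -/
theorem isKFlat_two_of_three (S : ShortComplex (CochainComplex (ModSite.Mod O) ℤ))
    (hS : S.ShortExact) (h3 : ∀ n : ℤ, ModSite.IsFlat (S.X₃.X n)) :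
    (ModSite.IsKFlat S.X₁ → ModSite.IsKFlat S.X₂ → ModSite.IsKFlat S.X₃) ∧
    (ModSite.IsKFlat S.X₁ → ModSite.IsKFlat S.X₃ → ModSite.IsKFlat S.X₂) ∧
    (ModSite.IsKFlat S.X₂ → ModSite.IsKFlat S.X₃ → ModSite.IsKFlat S.X₁) := by
  have key : ∀ L : CochainComplex (ModSite.Mod O) ℤ,
      (S.map (Φ (ModSite.tensorBi O) L)).ShortExact := by
    intro L
    refine shortExact_map_Φ S (fun p q => ?_) (fun n => monoCoprod_mod O _)
    have hq : (S.map (eval _ _ q)).ShortExact := hS.map_of_exact (eval _ _ q)
    exact shortExact_map_tensL _ hq (h3 q) (L.X p)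
  simp only [isKFlat_iff]
  refine ⟨fun h1 h2 L hL => ?_, fun h1 h3 L hL => ?_, fun h2 h3 L hL => ?_⟩
  · exact (acyclic_two_of_three _ (key L)).1 (h1 L hL) (h2 L hL)
  · exact (acyclic_two_of_three _ (key L)).2.1 (h1 L hL) (h3 L hL)
  · exact (acyclic_two_of_three _ (key L)).2.2 (h2 L hL) (h3 L hL)

end Groth.Agent.Lib.helper13.KFlat
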