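import Mathlib
import Groth.Agent.Lib.Helper13.KFlat1

/-!
# K-flat complexes, part 4 (helper13): total complexes and colimits

* `isColimitEvalΦ`: `Tot(F(L, -))` preserves (degreewise) colimits of shape `J` if every `F(L^p, -)` does.
* `acyclic_of_isColimit`: a filtered colimit of acyclic complexes is acyclic (AB5).
-/

open CategoryTheory Limits HomologicalComplex

namespace Groth.Agent.Lib.helper13.KFlat

section functorCategory

variable {J : Type*} [Category J] {D : Type*} [Category D] [Abelian D]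

/-- exactness in a functor category can be checked objectwise -/
theorem exact_of_evaluation (T : ShortComplex (J ⥤ D))
    (h : ∀ j, (T.map ((evaluation J D).obj j)).Exact) : T.Exact := by
  rw [ShortComplex.exact_iff_isZero_homology]
  apply Functor.isZero
  intro j
  have e := T.mapHomologyIso ((evaluation J D).obj j)
  exact IsZero.of_iso ((ShortComplex.exact_iff_isZero_homology _).1 (h j)) e.symm

end functorCategory

section colim

variable {C₁ C₂ D : Type*} [Category C₁] [Category C₂] [Category D]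
  [Preadditive C₁] [Preadditive C₂] [Abelian D]
  (F : C₁ ⥤ C₂ ⥤ D) [F.Additive] [∀ X₁, (F.obj X₁).Additive]
  (L : CochainComplex C₁ ℤ)
  [∀ K : CochainComplex C₂ ℤ, HasMapBifunctor L K F (ComplexShape.up ℤ)]
  {J : Type*} [Category J]

theorem ι_Φ_map_assoc' {K K' : CochainComplex C₂ ℤ} (g : K ⟶ K') (p q n : ℤ)
    (h : ComplexShape.π (ComplexShape.up ℤ) (ComplexShape.up ℤ) (ComplexShape.up ℤ) (p, q) = n)
    {Z : D} (t : ((Φ F L).obj K').X n ⟶ Z) :
    ιMapBifunctor L K F (ComplexShape.up ℤ) p q n h ≫ ((Φ F L).map g).f n ≫ t =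
      (F.obj (L.X p)).map (g.f q) ≫ ιMapBifunctor L K' F (ComplexShape.up ℤ) p q n h ≫ t := by
  have h1 := ι_Φ_map F L g p q n h
  rw [← Category.assoc, h1]
  exact Category.assoc _ _ _

/-- the cocone used to define the descent on the `(p, q)` summand -/
noncomputable def summandCocone (G : J ⥤ CochainComplex C₂ ℤ) (n p q : ℤ)
    (h : ComplexShape.π (ComplexShape.up ℤ) (ComplexShape.up ℤ) (ComplexShape.up ℤ) (p, q) = n)
    (s : Cocone (G ⋙ Φ F L ⋙ HomologicalComplex.eval _ _ n)) :
    Cocone ((G ⋙ HomologicalComplex.eval _ _ q) ⋙ F.obj (L.X p)) where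
  pt := s.pt
  ι :=
    { app := fun j => ιMapBifunctor L (G.obj j) F (ComplexShape.up ℤ) p q n h ≫ s.ι.app j
      naturality := by
        intro j j' φ
        have h2 : ((Φ F L).map (G.map φ)).f n ≫ s.ι.app j' = s.ι.app j := s.w φ
        change (F.obj (L.X p)).map ((G.map φ).f q) ≫
          ιMapBifunctor L (G.obj j') F (ComplexShape.up ℤ) p q n h ≫ s.ι.app j' =
          (ιMapBifunctor L (G.obj j) F (ComplexShape.up ℤ) p q n h ≫ s.ι.app j) ≫ 𝟙 _
        rw [Category.comp_id]
        exact (ι_Φ_map_assoc' F L (G.map φ) p q n h (s.ι.app j')).symm.trans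
          (congrArg (ιMapBifunctor L (G.obj j) F (ComplexShape.up ℤ) p q n h ≫ ·) h2) }

/-- `Tot(F(L, -))` preserves degreewise colimits of shape `J` -/
noncomputable def isColimitEvalΦ [∀ p, PreservesColimitsOfShape J (F.obj (L.X p))]
    (G : J ⥤ CochainComplex C₂ ℤ) (c : Cocone G)
    (hc : ∀ q, IsColimit ((HomologicalComplex.eval _ _ q).mapCocone c)) (n : ℤ) :
    IsColimit ((HomologicalComplex.eval _ _ n).mapCocone ((Φ F L).mapCocone c)) where
  desc s := mapBifunctorDesc (fun p q h =>
    (isColimitOfPreserves (F.obj (L.X p)) (hc q)).desc (summandCocone F L G n p q h s))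
  fac s j := by
    apply mapBifunctor.hom_ext (K₁ := L) (K₂ := G.obj j) (F := F) (c := ComplexShape.up ℤ)
    intro p q h
    have h2 : (F.obj (L.X p)).map ((c.ι.app j).f q) ≫
        (isColimitOfPreserves (F.obj (L.X p)) (hc q)).desc (summandCocone F L G n p q h s) =
        ιMapBifunctor L (G.obj j) F (ComplexShape.up ℤ) p q n h ≫ s.ι.app j :=
      (isColimitOfPreserves (F.obj (L.X p)) (hc q)).fac (summandCocone F L G n p q h s) j
    change ιMapBifunctor L (G.obj j) F (ComplexShape.up ℤ) p q n h ≫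
      ((Φ F L).map (c.ι.app j)).f n ≫ mapBifunctorDesc (K₁ := L) (K₂ := c.pt) (F := F)
        (c := ComplexShape.up ℤ) (fun p q h =>
        (isColimitOfPreserves (F.obj (L.X p)) (hc q)).desc (summandCocone F L G n p q h s)) =
      ιMapBifunctor L (G.obj j) F (ComplexShape.up ℤ) p q n h ≫ s.ι.app j
    refine (ι_Φ_map_assoc' F L (c.ι.app j) p q n h _).trans ?_
    refine Eq.trans ?_ h2
    exact congrArg ((F.obj (L.X p)).map ((c.ι.app j).f q) ≫ ·) (ι_mapBifunctorDesc _ p q h)
  uniq s m hm := by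
    apply mapBifunctor.hom_ext (K₁ := L) (K₂ := c.pt) (F := F) (c := ComplexShape.up ℤ)
    intro p q h
    refine Eq.trans ?_ (ι_mapBifunctorDesc _ p q h).symm
    apply (isColimitOfPreserves (F.obj (L.X p)) (hc q)).hom_ext
    intro j
    refine Eq.trans ?_
      ((isColimitOfPreserves (F.obj (L.X p)) (hc q)).fac (summandCocone F L G n p q h s) j).symm
    have h2 : ((Φ F L).map (c.ι.app j)).f n ≫ m = s.ι.app j := hm j
    change (F.obj (L.X p)).map ((c.ι.app j).f q) ≫
      ιMapBifunctor L c.pt F (ComplexShape.up ℤ) p q n h ≫ m =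
      ιMapBifunctor L (G.obj j) F (ComplexShape.up ℤ) p q n h ≫ s.ι.app j
    exact (ι_Φ_map_assoc' F L (c.ι.app j) p q n h m).symm.trans
      (congrArg (ιMapBifunctor L (G.obj j) F (ComplexShape.up ℤ) p q n h ≫ ·) h2)

end colim

section AB5

variable {D : Type*} [Category D] [Abelian D] {J : Type*} [Category J]
  [HasColimitsOfShape J D] [HasExactColimitsOfShape J D]

/-- the differential as a natural transformation -/
@[simps]
def δNat (G : J ⥤ CochainComplex D ℤ) (i j : ℤ) : G ⋙ HomologicalComplex.eval _ _ i ⟶ G ⋙ HomologicalComplex.eval _ _ j where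
  app k := (G.obj k).d i j
  naturality k k' φ := by
    dsimp
    exact ((G.map φ).comm i j)

/-- a colimit (with exact colimits of shape `J`) of acyclic complexes is acyclic -/
theorem acyclic_of_isColimit (G : J ⥤ CochainComplex D ℤ) (c : Cocone G)
    (hc : ∀ i, IsColimit ((HomologicalComplex.eval _ _ i).mapCocone c)) (hG : ∀ j, (G.obj j).Acyclic) :
    c.pt.Acyclic := by
  intro n
  rw [exactAt_iff' _ (n - 1) n (n + 1) (by simp) (by simp)]
  let T : ShortComplex (J ⥤ D) :=
    ShortComplex.mk (δNat G (n - 1) n) (δNat G n (n + 1)) (by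
      ext k
      exact (G.obj k).d_comp_d _ _ _)
  have hT : T.Exact := by
    apply exact_of_evaluation
    intro k
    exact (exactAt_iff' _ (n - 1) n (n + 1) (by simp) (by simp)).1 (hG k n)
  haveI : PreservesFiniteLimits (colim : (J ⥤ D) ⥤ D) :=
    HasExactColimitsOfShape.preservesFiniteLimits
  have hT' : (T.map (colim : (J ⥤ D) ⥤ D)).Exact := hT.map _
  let e : ∀ i : ℤ, colimit (G ⋙ HomologicalComplex.eval D (ComplexShape.up ℤ) i) ≅ c.pt.X i :=
    fun i => (colimit.isColimit (G ⋙ HomologicalComplex.eval D (ComplexShape.up ℤ) i)).coconePointUniqueUpToIso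
      (hc i)
  have he : ∀ (i : ℤ) (k : J), colimit.ι (G ⋙ HomologicalComplex.eval _ _ i) k ≫ (e i).hom = (c.ι.app k).f i :=
    fun i k => (colimit.isColimit (G ⋙ HomologicalComplex.eval _ _ i)).comp_coconePointUniqueUpToIso_hom (hc i) k
  have hcomm : ∀ i j : ℤ, colimMap (δNat G i j) ≫ (e j).hom = (e i).hom ≫ c.pt.d i j := by
    intro i j
    apply colimit.hom_ext
    intro k
    rw [ι_colimMap_assoc, he, reassoc_of% (he i k)]
    exact ((c.ι.app k).comm i j).symm
  refine ShortComplex.exact_of_iso (ShortComplex.isoMk (e (n - 1)) (e n) (e (n + 1)) ?_ ?_) hT'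
  · exact (hcomm (n - 1) n).symm
  · exact (hcomm n (n + 1)).symm

end AB5

section combined

variable {C₁ C₂ D : Type*} [Category C₁] [Category C₂] [Category D]
  [Preadditive C₁] [Preadditive C₂] [Abelian D]
  (F : C₁ ⥤ C₂ ⥤ D) [F.Additive] [∀ X₁, (F.obj X₁).Additive]
  (L : CochainComplex C₁ ℤ)
  [∀ K : CochainComplex C₂ ℤ, HasMapBifunctor L K F (ComplexShape.up ℤ)]
  {J : Type*} [Category J] [HasColimitsOfShape J D] [HasExactColimitsOfShape J D]

/-- if `Tot F(L, G j)` is acyclic for all `j`, and `c` is a degreewise colimit cocone of `G`,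
then `Tot F(L, c.pt)` is acyclic. -/
theorem acyclic_Φ_of_isColimit [∀ p, PreservesColimitsOfShape J (F.obj (L.X p))]
    (G : J ⥤ CochainComplex C₂ ℤ) (c : Cocone G)
    (hc : ∀ q, IsColimit ((HomologicalComplex.eval _ _ q).mapCocone c))
    (hG : ∀ j, ((Φ F L).obj (G.obj j)).Acyclic) : ((Φ F L).obj c.pt).Acyclic :=
  acyclic_of_isColimit (G ⋙ Φ F L) ((Φ F L).mapCocone c)
    (fun n => isColimitEvalΦ F L G c hc n) hG

end combined

end Groth.Agent.Lib.helper13.KFlat
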