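import Mathlib
import Groth.Prelude.Def_KFlatSite
import Groth.Agent.Lib.Helper13.KFlat2
import Groth.Agent.Lib.Helper13.KFlat4

/-!
# K-flat complexes, part 6 (helper13): filtered colimits of K-flat complexes on a ringed site
-/

set_option autoImplicit false
universe u
open CategoryTheory Limits HomologicalComplex

namespace Groth.Agent.Lib.helper13.KFlat

open Groth.Agent.Lib.Helper21.TensorW Groth.Agent.Lib.Helper21.TensorAdj
  Groth.Agent.Lib.Helper21.TensorMon Groth.Agent.Lib.Helper21.FlatSES

variable {C : Type u} [SmallCategory C] {J : GrothendieckTopology C} {O : Sheaf J CommRingCat.{u}}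

instance preservesColimitsOfShape_tensorBi_obj (M : ModSite.Mod O) (J' : Type*) [Category J'] :
    PreservesColimitsOfShape J' ((ModSite.tensorBi O).obj M) := by
  haveI : ((ModSite.tensorBi O).obj M).IsLeftAdjoint := isLeftAdjoint_tensL O M
  infer_instance

/-- exact filtered colimits of shape `ℕ` in `Mod O` -/
instance hasExactColimitsOfShape_nat : HasExactColimitsOfShape ℕ (ModSite.Mod O) := by
  haveI : AB5OfSize.{u, u} (ModSite.Mod O) :=
    Groth.Agent.Lib.Helper21.ModGroth.ab5_mod (ModSite.ringSh O)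
  haveI : IsFiltered (ULiftHom.{u} (ULift.{u} ℕ)) :=
    IsFiltered.of_equivalence (ULiftHomULiftCategory.equiv.{u, u} ℕ)
  haveI : HasExactColimitsOfShape (ULiftHom.{u} (ULift.{u} ℕ)) (ModSite.Mod O) :=
    AB5OfSize.ofShape _
  exact HasExactColimitsOfShape.of_domain_equivalence (ModSite.Mod O)
    (ULiftHomULiftCategory.equiv.{u, u} ℕ).symm

/-- a (degreewise) colimit, of a shape with exact colimits, of K-flat complexes is K-flat -/
theorem isKFlat_of_isColimit {J' : Type*} [Category J']
    [HasColimitsOfShape J' (ModSite.Mod O)] [HasExactColimitsOfShape J' (ModSite.Mod O)]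
    (G : J' ⥤ CochainComplex (ModSite.Mod O) ℤ) (c : Cocone G)
    (hc : ∀ q, IsColimit ((HomologicalComplex.eval _ _ q).mapCocone c))
    (hG : ∀ j, ModSite.IsKFlat (G.obj j)) : ModSite.IsKFlat c.pt := by
  rw [isKFlat_iff]
  intro L hL
  exact acyclic_Φ_of_isColimit (ModSite.tensorBi O) L G c hc
    (fun j => (isKFlat_iff _).1 (hG j) L hL)

theorem isKFlat_colimit_nat (G : ℕ ⥤ CochainComplex (ModSite.Mod O) ℤ)
    (hG : ∀ j, ModSite.IsKFlat (G.obj j)) : ModSite.IsKFlat (colimit G) :=
  isKFlat_of_isColimit G (colimit.cocone G)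
    (fun q => isColimitOfPreserves _ (colimit.isColimit G)) hG

end Groth.Agent.Lib.helper13.KFlat
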