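import Mathlib
import Groth.Agent.Lib.Helper13.KFlat1

/-!
# K-flat complexes, part 7 (helper13): the total complex against a complex concentrated in one degree
-/

open CategoryTheory Limits HomologicalComplex

namespace Groth.Agent.Lib.helper13.KFlat

section single

variable {C₁ C₂ D : Type*} [Category C₁] [Category C₂] [Category D]
  [Preadditive C₁] [Preadditive C₂] [Abelian D]
  (F : C₁ ⥤ C₂ ⥤ D) [F.Additive] [∀ X₁, (F.obj X₁).Additive]
  (L : CochainComplex C₁ ℤ)

lemma map_d_comp_d (M : C₂) (p p' p'' : ℤ) :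
    (F.map (L.d p p')).app M ≫ (F.map (L.d p' p'')).app M = 0 := by
  rw [← NatTrans.comp_app, ← F.map_comp, L.d_comp_d, F.map_zero]
  rfl

/-- the column `F(L^{p-1}, M) ⟶ F(L^p, M) ⟶ F(L^{p+1}, M)` -/
@[simps]
def colSC (M : C₂) (p : ℤ) : ShortComplex D :=
  ShortComplex.mk ((F.map (L.d (p - 1) p)).app M) ((F.map (L.d p (p + 1))).app M)
    (map_d_comp_d F L M _ _ _)

variable (K : CochainComplex C₂ ℤ) [HasMapBifunctor L K F (ComplexShape.up ℤ)]

/-- the differential of the total complex on a summand whose second differential vanishes -/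
lemma ι_d_of_d_eq_zero (p p' q n n' : ℤ) (hp : p + 1 = p')
    (h : ComplexShape.π (ComplexShape.up ℤ) (ComplexShape.up ℤ) (ComplexShape.up ℤ) (p, q) = n)
    (h' : ComplexShape.π (ComplexShape.up ℤ) (ComplexShape.up ℤ) (ComplexShape.up ℤ) (p', q) = n')
    (hK : K.d q (q + 1) = 0) :
    ιMapBifunctor L K F (ComplexShape.up ℤ) p q n h ≫
        (mapBifunctor L K F (ComplexShape.up ℤ)).d n n' =
      (F.map (L.d p p')).app (K.X q) ≫ ιMapBifunctor L K F (ComplexShape.up ℤ) p' q n' h' := by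
  have h2 : ComplexShape.π (ComplexShape.up ℤ) (ComplexShape.up ℤ) (ComplexShape.up ℤ)
      (p, q + 1) = n' := by
    have h1 : p' + q = n' := h'
    change p + (q + 1) = n'
    omega
  rw [mapBifunctor.d_eq, Preadditive.comp_add, mapBifunctor.ι_D₁, mapBifunctor.ι_D₂,
    mapBifunctor.d₁_eq L K F (ComplexShape.up ℤ)
      (show (ComplexShape.up ℤ).Rel p p' from hp) q n' h',
    mapBifunctor.d₂_eq L K F (ComplexShape.up ℤ) p
      (show (ComplexShape.up ℤ).Rel q (q + 1) from rfl) n' h2,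
    hK, Functor.map_zero, zero_comp, smul_zero, add_zero]
  simp

/-- if `K` is concentrated in degree `q₀`, the inclusion of the summand `(p, q₀)` is an iso -/
lemma isIso_ι_of_isZero (p q₀ n : ℤ)
    (h : ComplexShape.π (ComplexShape.up ℤ) (ComplexShape.up ℤ) (ComplexShape.up ℤ) (p, q₀) = n)
    (hK : ∀ q, q ≠ q₀ → IsZero (K.X q)) :
    IsIso (ιMapBifunctor L K F (ComplexShape.up ℤ) p q₀ n h) := by
  classical
  have hpq : p + q₀ = n := h
  refine ⟨mapBifunctorDesc (K₁ := L) (K₂ := K) (F := F) (c := ComplexShape.up ℤ)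
    (fun p' q' h' => if hq : q' = q₀ then eqToHom (by
      have h1 : p' + q' = n := h'
      have hp : p' = p := by omega
      rw [hq, hp]) else 0), ?_, ?_⟩
  · rw [ι_mapBifunctorDesc, dif_pos rfl]
    simp
  · apply mapBifunctor.hom_ext (K₁ := L) (K₂ := K) (F := F) (c := ComplexShape.up ℤ)
    intro p' q' h'
    rw [ι_mapBifunctorDesc_assoc, Category.comp_id]
    by_cases hq : q' = q₀
    · subst hq
      have h1 : p' + q' = n := h'
      have hp : p' = p := by omega
      subst hp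
      simp
    · apply IsZero.eq_of_src
      exact Functor.map_isZero (F.obj (L.X p')) (hK q' hq)

/-- if `K` is concentrated in degree `q₀` and the columns `F(L, K^{q₀})` are exact,
then `Tot F(L, K)` is acyclic -/
theorem acyclic_of_single (q₀ : ℤ) (hK : ∀ q, q ≠ q₀ → IsZero (K.X q))
    (hex : ∀ p : ℤ, (colSC F L (K.X q₀) p).Exact) :
    (mapBifunctor L K F (ComplexShape.up ℤ)).Acyclic := by
  intro n
  rw [exactAt_iff' _ (n - 1) n (n + 1) (by simp) (by simp)]
  have hd : K.d q₀ (q₀ + 1) = 0 := (hK (q₀ + 1) (by omega)).eq_of_tgt _ _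
  have h1 : ComplexShape.π (ComplexShape.up ℤ) (ComplexShape.up ℤ) (ComplexShape.up ℤ)
      (n - q₀ - 1, q₀) = n - 1 := by
    change n - q₀ - 1 + q₀ = n - 1
    omega
  have h2 : ComplexShape.π (ComplexShape.up ℤ) (ComplexShape.up ℤ) (ComplexShape.up ℤ)
      (n - q₀, q₀) = n := by
    change n - q₀ + q₀ = n
    omega
  have h3 : ComplexShape.π (ComplexShape.up ℤ) (ComplexShape.up ℤ) (ComplexShape.up ℤ)
      (n - q₀ + 1, q₀) = n + 1 := by
    change n - q₀ + 1 + q₀ = n + 1
    omega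
  have i1 := isIso_ι_of_isZero F L K (n - q₀ - 1) q₀ (n - 1) h1 hK
  have i2 := isIso_ι_of_isZero F L K (n - q₀) q₀ n h2 hK
  have i3 := isIso_ι_of_isZero F L K (n - q₀ + 1) q₀ (n + 1) h3 hK
  refine ShortComplex.exact_of_iso (ShortComplex.isoMk
    (@asIso _ _ _ _ (ιMapBifunctor L K F (ComplexShape.up ℤ) (n - q₀ - 1) q₀ (n - 1) h1) i1)
    (@asIso _ _ _ _ (ιMapBifunctor L K F (ComplexShape.up ℤ) (n - q₀) q₀ n h2) i2)
    (@asIso _ _ _ _ (ιMapBifunctor L K F (ComplexShape.up ℤ) (n - q₀ + 1) q₀ (n + 1) h3) i3)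
    ?_ ?_) (hex (n - q₀))
  · exact ι_d_of_d_eq_zero F L K (n - q₀ - 1) (n - q₀) q₀ (n - 1) n (by omega) h1 h2 hd
  · exact ι_d_of_d_eq_zero F L K (n - q₀) (n - q₀ + 1) q₀ n (n + 1) (by omega) h2 h3 hd

end single

end Groth.Agent.Lib.helper13.KFlat
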