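import Mathlib
import Groth.Agent.Lib.Helper25.SigmaGE

/-!
# K-flat complexes, part 8 (helper13): dévissage of bounded above complexes by brutal truncations

`of_bounded_above`: a property `P` of cochain complexes which holds for complexes concentrated
in one degree with `flat` term, is stable under extensions by termwise flat quotients and under
sequential (degreewise) colimits, holds for all bounded above complexes with `flat` terms.
-/

open CategoryTheory Limits HomologicalComplex

namespace Groth.Agent.Lib.helper13.KFlat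

open Groth.Agent.Lib.helper25.SigmaGE

section devissage

variable {A : Type*} [Category A] [Abelian A]

instance mono_sigmaGEι (K : CochainComplex A ℤ) (a : ℤ) : Mono (sigmaGEι K a) := by
  apply HomologicalComplex.mono_of_mono_f
  intro i
  by_cases h : a ≤ i
  · haveI := isIso_sigmaGEι_f K a i h
    infer_instance
  · exact (isZero_sigmaGE_X K a i (by omega)).mono _

/-- the short exact sequence `0 → σ_{≥ a} K → K → K / σ_{≥ a} K → 0` -/
noncomputable def sigmaSC (K : CochainComplex A ℤ) (a : ℤ) : ShortComplex (CochainComplex A ℤ) :=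
  ShortComplex.mk (sigmaGEι K a) (cokernel.π (sigmaGEι K a)) (cokernel.condition _)

instance mono_sigmaSC_f (K : CochainComplex A ℤ) (a : ℤ) : Mono (sigmaSC K a).f :=
  mono_sigmaGEι K a

lemma sigmaSC_shortExact (K : CochainComplex A ℤ) (a : ℤ) : (sigmaSC K a).ShortExact where
  exact := ShortComplex.exact_cokernel _
  mono_f := mono_sigmaGEι K a
  epi_g := by dsimp [sigmaSC]; infer_instance

lemma sigmaSC_eval_shortExact (K : CochainComplex A ℤ) (a q : ℤ) :
    ((sigmaSC K a).map (HomologicalComplex.eval _ _ q)).ShortExact :=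
  (sigmaSC_shortExact K a).map_of_exact _

/-- the quotient `K / σ_{≥ a} K` vanishes in degrees `≥ a` -/
lemma isZero_sigmaSC_X₃_of_le (K : CochainComplex A ℤ) (a q : ℤ) (h : a ≤ q) :
    IsZero ((sigmaSC K a).X₃.X q) := by
  have hS := sigmaSC_eval_shortExact K a q
  have : IsIso ((sigmaSC K a).map (HomologicalComplex.eval _ _ q)).f :=
    isIso_sigmaGEι_f K a q h
  exact hS.isIso_f_iff.1 this

/-- the quotient `K / σ_{≥ a} K` agrees with `K` in degrees `< a` -/
lemma isIso_sigmaSC_g_of_lt (K : CochainComplex A ℤ) (a q : ℤ) (h : q < a) :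
    IsIso ((sigmaSC K a).g.f q) := by
  have hS := sigmaSC_eval_shortExact K a q
  exact hS.isIso_g_iff.2 (isZero_sigmaGE_X K a q h)

/-- the transition map `σ_{≥ a'} K ⟶ σ_{≥ a} K` for `a ≤ a'` -/
noncomputable def sigmaGEMap (K : CochainComplex A ℤ) (a a' : ℤ) (h : a ≤ a') :
    sigmaGE K a' ⟶ sigmaGE K a :=
  (sigmaSC_shortExact K a).exact.lift (sigmaGEι K a') (by
    ext q
    by_cases hq : a' ≤ q
    · exact (isZero_sigmaSC_X₃_of_le K a q (by omega)).eq_of_tgt _ _
    · exact (isZero_sigmaGE_X K a' q (by omega)).eq_of_src _ _)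

@[reassoc (attr := simp)]
lemma sigmaGEMap_ι (K : CochainComplex A ℤ) (a a' : ℤ) (h : a ≤ a') :
    sigmaGEMap K a a' h ≫ sigmaGEι K a = sigmaGEι K a' := by
  exact (sigmaSC_shortExact K a).exact.lift_f _ _

variable (flat : A → Prop) (P : CochainComplex A ℤ → Prop)

include flat P in
/-- bounded case -/
theorem of_bounded
    (flat_iso : ∀ M N : A, (M ≅ N) → flat M → flat N) (flat_zero : ∀ M : A, IsZero M → flat M)
    (h_single : ∀ (K : CochainComplex A ℤ) (q₀ : ℤ), (∀ q, q ≠ q₀ → IsZero (K.X q)) →
      flat (K.X q₀) → P K)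
    (h_ext : ∀ S : ShortComplex (CochainComplex A ℤ), S.ShortExact →
      (∀ n, flat (S.X₃.X n)) → P S.X₁ → P S.X₃ → P S.X₂)
    (n : ℕ) : ∀ (K : CochainComplex A ℤ) (a : ℤ), (∀ q, q < a → IsZero (K.X q)) →
      (∀ q, a + n ≤ q → IsZero (K.X q)) → (∀ q, flat (K.X q)) → P K := by
  induction n with
  | zero =>
    intro K a h1 h2 hK
    refine h_single K 0 (fun q _ => ?_) (hK 0)
    by_cases hq : q < a
    · exact h1 q hq
    · exact h2 q (by simp; omega)
  | succ n ih =>
    intro K a h1 h2 hK
    have hS := sigmaSC_shortExact K (a + 1)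
    have hflat3 : ∀ q, flat ((sigmaSC K (a + 1)).X₃.X q) := by
      intro q
      by_cases hq : a + 1 ≤ q
      · exact flat_zero _ (isZero_sigmaSC_X₃_of_le K (a + 1) q hq)
      · haveI := isIso_sigmaSC_g_of_lt K (a + 1) q (by omega)
        exact flat_iso _ _ (asIso ((sigmaSC K (a + 1)).g.f q)) (hK q)
    refine h_ext _ hS hflat3 ?_ ?_
    · -- the truncation
      refine ih (sigmaGE K (a + 1)) (a + 1) (fun q hq => isZero_sigmaGE_X K (a + 1) q hq)
        (fun q hq => ?_) (fun q => ?_)
      · haveI := isIso_sigmaGEι_f K (a + 1) q (by omega)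
        exact (h2 q (by push_cast; omega)).of_iso (asIso ((sigmaGEι K (a + 1)).f q))
      · by_cases hq : a + 1 ≤ q
        · haveI := isIso_sigmaGEι_f K (a + 1) q hq
          exact flat_iso _ _ (asIso ((sigmaGEι K (a + 1)).f q)).symm (hK q)
        · exact flat_zero _ (isZero_sigmaGE_X K (a + 1) q (by omega))
    · -- the quotient, concentrated in degree `a`
      refine h_single _ a (fun q hq => ?_) (hflat3 a)
      by_cases hq' : a + 1 ≤ q
      · exact isZero_sigmaSC_X₃_of_le K (a + 1) q hq'
      · haveI := isIso_sigmaSC_g_of_lt K (a + 1) q (by omega)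
        exact (h1 q (by omega)).of_iso (asIso ((sigmaSC K (a + 1)).g.f q)).symm

section seq

variable (K : CochainComplex A ℤ) (b : ℤ)

/-- the exhaustion of `K` by the brutal truncations `σ_{≥ b - n} K` -/
noncomputable def sigmaSeq : ℕ ⥤ CochainComplex A ℤ :=
  Functor.ofSequence (X := fun n : ℕ => sigmaGE K (b - n))
    (fun n => sigmaGEMap K (b - ((n + 1 : ℕ) : ℤ)) (b - n) (by push_cast; omega))

/-- the cocone of inclusions `σ_{≥ b - n} K ⟶ K` -/
noncomputable def sigmaCocone : Cocone (sigmaSeq K b) where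
  pt := K
  ι := NatTrans.ofSequence (fun n => sigmaGEι K (b - n)) (by
    intro n
    have h1 : (sigmaSeq K b).map (homOfLE (n.le_add_right 1)) =
        sigmaGEMap K (b - ((n + 1 : ℕ) : ℤ)) (b - n) (by push_cast; omega) :=
      Functor.ofSequence_map_homOfLE_succ _ n
    rw [h1]
    refine (sigmaGEMap_ι K _ _ _).trans ?_
    exact (Category.comp_id _).symm)

lemma sigmaCocone_ι_app (n : ℕ) : (sigmaCocone K b).ι.app n = sigmaGEι K (b - n) := rfl

/-- the cocone of inclusions is a colimit cocone in each degree -/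
noncomputable def isColimitSigmaCocone (q : ℤ) :
    IsColimit ((HomologicalComplex.eval _ _ q).mapCocone (sigmaCocone K b)) := by
  have hiso : ∀ n : ℕ, (b - q).toNat ≤ n →
      IsIso (((HomologicalComplex.eval _ _ q).mapCocone (sigmaCocone K b)).ι.app n) := by
    intro n hn
    exact isIso_sigmaGEι_f K (b - n) q (by omega)
  have h : (sigmaSeq K b ⋙ HomologicalComplex.eval _ _ q).IsEventuallyConstantFrom
      (b - q).toNat := by
    intro j f
    have h1 := hiso j (leOfHom f)
    have h2 := hiso _ le_rfl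
    have hw := ((HomologicalComplex.eval _ _ q).mapCocone (sigmaCocone K b)).w f
    rw [← hw] at h2
    exact IsIso.of_isIso_comp_right _
      (((HomologicalComplex.eval _ _ q).mapCocone (sigmaCocone K b)).ι.app j)
  haveI := hiso _ le_rfl
  exact h.isColimitOfIsIso _

end seq


include flat P in
/-- bounded above case -/
theorem of_bounded_above
    (flat_iso : ∀ M N : A, (M ≅ N) → flat M → flat N) (flat_zero : ∀ M : A, IsZero M → flat M)
    (h_single : ∀ (K : CochainComplex A ℤ) (q₀ : ℤ), (∀ q, q ≠ q₀ → IsZero (K.X q)) →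
      flat (K.X q₀) → P K)
    (h_ext : ∀ S : ShortComplex (CochainComplex A ℤ), S.ShortExact →
      (∀ n, flat (S.X₃.X n)) → P S.X₁ → P S.X₃ → P S.X₂)
    (h_colim : ∀ (G : ℕ ⥤ CochainComplex A ℤ) (c : Cocone G),
      (∀ q, Nonempty (IsColimit ((HomologicalComplex.eval _ _ q).mapCocone c))) →
      (∀ n, P (G.obj n)) → P c.pt)
    (K : CochainComplex A ℤ) (b : ℤ) (hb : ∀ q, b < q → IsZero (K.X q))
    (hK : ∀ q, flat (K.X q)) : P K := by
  refine h_colim (sigmaSeq K b) (sigmaCocone K b) (fun q => ⟨isColimitSigmaCocone K b q⟩)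
    (fun n => ?_)
  change P (sigmaGE K (b - n))
  refine of_bounded flat P flat_iso flat_zero h_single h_ext (n + 1) (sigmaGE K (b - n)) (b - n)
    (fun q hq => isZero_sigmaGE_X K (b - n) q hq) (fun q hq => ?_) (fun q => ?_)
  · haveI := isIso_sigmaGEι_f K (b - n) q (by push_cast at hq; omega)
    exact (hb q (by push_cast at hq; omega)).of_iso (asIso ((sigmaGEι K (b - n)).f q))
  · by_cases hq : b - n ≤ q
    · haveI := isIso_sigmaGEι_f K (b - n) q hq
      exact flat_iso _ _ (asIso ((sigmaGEι K (b - n)).f q)).symm (hK q)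
    · exact flat_zero _ (isZero_sigmaGE_X K (b - n) q (by omega))

end devissage

end Groth.Agent.Lib.helper13.KFlat
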