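import Mathlib
import Groth.Prelude.Def_KFlatSite
import Groth.Agent.Lib.Helper13.KFlat6
import Groth.Agent.Lib.Helper13.KFlat7
import Groth.Agent.Lib.Helper13.KFlat8

/-!
# K-flat complexes, part 10 (helper13): bounded above complexes of flat modules on a ringed site
are K-flat
-/

set_option autoImplicit false
universe u
open CategoryTheory Limits HomologicalComplex

namespace Groth.Agent.Lib.helper13.KFlat

open Groth.Agent.Lib.Helper21.TensorW Groth.Agent.Lib.Helper21.TensorAdj
  Groth.Agent.Lib.Helper21.TensorMon Groth.Agent.Lib.Helper21.FlatSES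

variable {C : Type u} [SmallCategory C] {J : GrothendieckTopology C} {O : Sheaf J CommRingCat.{u}}

theorem isFlat_of_iso {M N : ModSite.Mod O} (e : M ≅ N) (hM : ModSite.IsFlat M) :
    ModSite.IsFlat N := by
  obtain ⟨h1, h2⟩ := hM
  exact ⟨preservesFiniteLimits_of_natIso ((ModSite.tensorBi O).flip.mapIso e),
    preservesFiniteColimits_of_natIso ((ModSite.tensorBi O).flip.mapIso e)⟩

/-- the columns `L ⊗ M` of an acyclic complex `L` with `M` flat are exact -/
lemma colSC_exact_of_isFlat (L : CochainComplex (ModSite.Mod O) ℤ) (hL : L.Acyclic)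
    (M : ModSite.Mod O) (hM : ModSite.IsFlat M) (p : ℤ) :
    (colSC (ModSite.tensorBi O) L M p).Exact := by
  have h1 : (L.sc' (p - 1) p (p + 1)).Exact :=
    (exactAt_iff' _ (p - 1) p (p + 1) (by simp) (by simp)).1 (hL p)
  obtain ⟨i1, i2⟩ := hM
  haveI : ((ModSite.tensorBi O).flip.obj M).Additive := additive_tens M
  haveI := Functor.preservesHomologyOfExact ((ModSite.tensorBi O).flip.obj M)
  exact h1.map ((ModSite.tensorBi O).flip.obj M)

theorem isKFlat_of_bounded_above (K : CochainComplex (ModSite.Mod O) ℤ) (b : ℤ)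
    (hb : ∀ q, b < q → IsZero (K.X q)) (hflat : ∀ n : ℤ, ModSite.IsFlat (K.X n)) :
    ModSite.IsKFlat K := by
  rw [isKFlat_iff]
  intro L hL
  refine of_bounded_above (fun M : ModSite.Mod O => ModSite.IsFlat M)
    (fun K => ((Φ (ModSite.tensorBi O) L).obj K).Acyclic)
    ?_ ?_ ?_ ?_ ?_ K b hb hflat
  · intro M N e hM
    exact isFlat_of_iso e hM
  · intro M hM
    exact isFlat_of_isZero M hM
  · intro K q₀ hK hflat
    exact acyclic_of_single (ModSite.tensorBi O) L K q₀ hK
      (fun p => colSC_exact_of_isFlat L hL (K.X q₀) hflat p)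
  · intro S hS h3 h1 h3'
    have key : (S.map (Φ (ModSite.tensorBi O) L)).ShortExact := by
      refine shortExact_map_Φ S (fun p q => ?_) (fun n => monoCoprod_mod O _)
      have hq : (S.map (eval _ _ q)).ShortExact := hS.map_of_exact (eval _ _ q)
      exact shortExact_map_tensL _ hq (h3 q) (L.X p)
    exact (acyclic_two_of_three _ key).2.1 h1 h3'
  · intro G c hc hG
    exact acyclic_Φ_of_isColimit (ModSite.tensorBi O) L G c
      (fun q => (hc q).some) hG

end Groth.Agent.Lib.helper13.KFlat
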