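import Mathlib
import Groth.Prelude.Def_KFlatSite
import Groth.Prelude.Def_DCoh4
import Groth.Prelude.Def_FlatMod2
import Groth.Agent.Lib.Helper13.StalkCmp
import Groth.Agent.Lib.Helper13.KFlat2
import Groth.Agent.Lib.Helper13.KFlat10

/-!
# K-flat complexes, part 11 (helper13): schemes

`DCoh.IsKFlat` is definitionally `ModSite.IsKFlat (O := X.sheaf)`; stalkwise flat modules
(`FlatMod.IsFlat`) are flat in the sense of `ModSite.IsFlat`.
-/

set_option autoImplicit false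
universe u
open CategoryTheory CategoryTheory.Limits AlgebraicGeometry

namespace Groth.Agent.Lib.helper13.KFlat

theorem isFlat_of_flatMod {X : Scheme.{u}} (M : X.Modules) (h : FlatMod.IsFlat M) :
    ModSite.IsFlat (O := X.sheaf) M := by
  refine Groth.Agent.Lib.helper13.StalkCmp.isFlat_of_flat_top_stalks X.sheaf M ?_
  intro x
  exact h x

theorem dcoh_isKFlat_iff {X : Scheme.{u}} (K : CochainComplex X.Modules ℤ) :
    DCoh.IsKFlat K ↔ ModSite.IsKFlat (O := X.sheaf) K := Iff.rfl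

theorem dcoh_isKFlat_two_of_three {X : Scheme.{u}} (S : ShortComplex (CochainComplex X.Modules ℤ))
    (hS : S.ShortExact) (h3 : ∀ n : ℤ, FlatMod.IsFlat (S.X₃.X n)) :
    (DCoh.IsKFlat S.X₁ → DCoh.IsKFlat S.X₂ → DCoh.IsKFlat S.X₃) ∧
    (DCoh.IsKFlat S.X₁ → DCoh.IsKFlat S.X₃ → DCoh.IsKFlat S.X₂) ∧
    (DCoh.IsKFlat S.X₂ → DCoh.IsKFlat S.X₃ → DCoh.IsKFlat S.X₁) :=
  isKFlat_two_of_three (O := X.sheaf) S hS (fun n => isFlat_of_flatMod _ (h3 n))

theorem dcoh_isKFlat_of_bounded_above {X : Scheme.{u}} (K : CochainComplex X.Modules ℤ) (b : ℤ)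
    (hb : ∀ q, b < q → IsZero (K.X q)) (hflat : ∀ n : ℤ, FlatMod.IsFlat (K.X n)) :
    DCoh.IsKFlat K :=
  isKFlat_of_bounded_above (O := X.sheaf) K b hb (fun n => isFlat_of_flatMod _ (hflat n))

end Groth.Agent.Lib.helper13.KFlat
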