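import Mathlib
import Groth.Agent.Lib.Helper23.OpRes

/-!
# K-flat resolutions, part 1 (helper13): homological preliminaries
-/

set_option autoImplicit false
universe v u
open CategoryTheory Limits HomologicalComplex CochainComplex ZeroObject

namespace Groth.Agent.Lib.helper13.KRes

variable {A : Type u} [Category.{v} A] [Abelian A]

section cone

attribute [local instance] HasDerivedCategory.standard

/-- the map between mapping cones induced by a commutative square of quasi-isomorphisms is a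
quasi-isomorphism -/
theorem quasiIso_mappingCone_map {K₁ L₁ K₂ L₂ : CochainComplex A ℤ} (φ₁ : K₁ ⟶ L₁)
    (φ₂ : K₂ ⟶ L₂) (a : K₁ ⟶ K₂) (b : L₁ ⟶ L₂) (comm : φ₁ ≫ b = a ≫ φ₂)
    [QuasiIso a] [QuasiIso b] : QuasiIso (mappingCone.map φ₁ φ₂ a b comm) := by
  rw [← DerivedCategory.isIso_Q_map_iff_quasiIso]
  let ψ := (DerivedCategory.Q (C := A)).mapTriangle.map (mappingCone.triangleMap φ₁ φ₂ a b comm)
  have h1 : IsIso ψ.hom₁ := by
    change IsIso (DerivedCategory.Q.map a)
    infer_instance
  have h2 : IsIso ψ.hom₂ := by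
    change IsIso (DerivedCategory.Q.map b)
    infer_instance
  exact Pretriangulated.isIso₃_of_isIso₁₂ ψ
    (DerivedCategory.mappingCone_triangle_distinguished φ₁)
    (DerivedCategory.mappingCone_triangle_distinguished φ₂) h1 h2

end cone

section factorization

variable (flat : A → Prop)

/-- the hypotheses on a class of "flat" objects -/
structure FlatClass : Prop where
  iso : ∀ M N : A, (M ≅ N) → flat M → flat N
  zero : ∀ M : A, IsZero M → flat M
  biprod : ∀ M N : A, flat M → flat N → flat (M ⊞ N)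
  cover : ∀ X : A, ∃ (Y : A) (π : Y ⟶ X), flat Y ∧ Epi π

variable {flat} (hfl : FlatClass flat)

include hfl in
/-- bounded above complexes have bounded above flat resolutions (helper23) -/
theorem exists_flat_resolution (G : CochainComplex A ℤ) (a : ℤ) [G.IsStrictlyLE a] :
    ∃ (Q : CochainComplex A ℤ) (α : Q ⟶ G), Q.IsStrictlyLE a ∧ (∀ n, flat (Q.X n)) ∧
      (∀ n, Epi (α.f n)) ∧ QuasiIso α :=
  Groth.Agent.Lib.helper23.OpRes.exists_leftResolution flat
    ⟨0, isZero_zero A, hfl.zero _ (isZero_zero A)⟩ hfl.cover G a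

include hfl in
/-- factorization: a map from a bounded above flat complex to a bounded above complex factors
through a bounded above flat resolution of the target -/
theorem exists_factorization (K G : CochainComplex A ℤ) (a : ℤ) [K.IsStrictlyLE a]
    [G.IsStrictlyLE a] (hK : ∀ n, flat (K.X n)) (u : K ⟶ G) :
    ∃ (K' : CochainComplex A ℤ) (j : K ⟶ K') (q : K' ⟶ G), K'.IsStrictlyLE a ∧
      (∀ n, flat (K'.X n)) ∧ j ≫ q = u ∧ QuasiIso q ∧ ∀ n, Epi (q.f n) := by
  obtain ⟨Q, qQ, hQle, hQflat, hQepi, hQqis⟩ := exists_flat_resolution hfl G a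
  -- the biproduct `K ⊞ Q`
  let u₁ : K ⊞ Q ⟶ G := biprod.desc u qQ
  have hK1z : ∀ n, a < n → IsZero ((K ⊞ Q).X n) := by
    intro n hn
    refine IsZero.of_iso ?_ (biprodXIso K Q n)
    rw [biprod_isZero_iff]
    exact ⟨K.isZero_of_isStrictlyLE a n hn, Q.isZero_of_isStrictlyLE a n hn⟩
  have hK1flat : ∀ n, flat ((K ⊞ Q).X n) := fun n =>
    hfl.iso _ _ (biprodXIso K Q n).symm (hfl.biprod _ _ (hK n) (hQflat n))
  have hu₁epi : ∀ n, Epi (u₁.f n) := by
    intro n
    have h1 : (biprod.inr : Q ⟶ K ⊞ Q).f n ≫ u₁.f n = qQ.f n := by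
      rw [← comp_f, biprod.inr_desc]
    haveI := hQepi n
    exact epi_of_epi_fac h1
  haveI : Epi u₁ := epi_of_epi_f _ hu₁epi
  -- the kernel
  let S₂ : ShortComplex (CochainComplex A ℤ) :=
    ShortComplex.mk (kernel.ι u₁) u₁ (kernel.condition u₁)
  have hS₂ : S₂.ShortExact :=
    { exact := ShortComplex.exact_of_f_is_kernel _ (kernelIsKernel u₁) }
  haveI : (kernel u₁).IsStrictlyLE a := by
    rw [isStrictlyLE_iff]
    intro n hn
    exact IsZero.of_mono ((kernel.ι u₁).f n) (hK1z n hn)
  obtain ⟨R, r, hRle, hRflat, hRepi, hRqis⟩ := exists_flat_resolution hfl (kernel u₁) a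
  let S₁ : ShortComplex (CochainComplex A ℤ) :=
    ShortComplex.mk (r ≫ kernel.ι u₁) u₁ (by rw [Category.assoc, kernel.condition, comp_zero])
  let f : S₁ ⟶ S₂ :=
    { τ₁ := r
      τ₂ := 𝟙 _
      τ₃ := 𝟙 _
      comm₁₂ := by dsimp [S₁, S₂]; rw [Category.comp_id]
      comm₂₃ := by dsimp [S₁, S₂]; rw [Category.comp_id, Category.id_comp] }
  have hq : mappingCone.descShortComplex S₁ =
      mappingCone.map S₁.f S₂.f r (𝟙 _) f.comm₁₂.symm ≫ mappingCone.descShortComplex S₂ := by
    have := mappingCone.map_descShortComplex S₁ S₂ f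
    rw [this]
    exact (Category.comp_id _).symm
  haveI : QuasiIso (mappingCone.map S₁.f S₂.f r (𝟙 _) f.comm₁₂.symm) :=
    quasiIso_mappingCone_map _ _ _ _ _
  haveI : QuasiIso (mappingCone.descShortComplex S₂) := mappingCone.quasiIso_descShortComplex hS₂
  refine ⟨mappingCone S₁.f, biprod.inl ≫ mappingCone.inr S₁.f, mappingCone.descShortComplex S₁,
    ?_, ?_, ?_, ?_, ?_⟩
  · rw [isStrictlyLE_iff]
    intro n hn
    rw [mappingCone.isZero_X_iff]
    exact ⟨R.isZero_of_isStrictlyLE a (n + 1) (by omega), hK1z n hn⟩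
  · intro n
    exact hfl.iso _ _ (homotopyCofiber.XIsoBiprod S₁.f n (n + 1) rfl).symm
      (hfl.biprod _ _ (hRflat (n + 1)) (hK1flat n))
  · rw [Category.assoc, mappingCone.inr_descShortComplex]
    exact biprod.inl_desc u qQ
  · rw [hq]
    infer_instance
  · intro n
    haveI := hu₁epi n
    exact epi_of_epi_fac (mappingCone.inr_f_descShortComplex_f S₁ n)

end factorization

end Groth.Agent.Lib.helper13.KRes
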