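import Mathlib
import Groth.Agent.Lib.Helper25.KInjKL

/-!
# K-flat resolutions, part 2 (helper13): exhaustion of a complex by canonical truncations

`tr G n` is the subcomplex of `G` with terms `G^m` for `m < n`, `ker d` for `m = n`, `0` for
`m > n` (built with helper25's `subCx`), with inclusions `trι G n : tr G n ⟶ G` and transition maps.
The cocone `trCocone G` over `trSeq G : ℕ ⥤ CochainComplex A ℤ` is a colimit cocone.
-/

set_option autoImplicit false
universe v u
open CategoryTheory Limits HomologicalComplex

namespace Groth.Agent.Lib.helper13.KRes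

open Groth.Agent.Lib.Helper25.KInjKL

variable {A : Type u} [Category.{v} A] [Abelian A] (G : CochainComplex A ℤ)

open Classical in
/-- the family of subobjects defining the canonical truncation `τ_{≤ n}` -/
noncomputable def trFam (n m : ℤ) : Subobject (G.X m) :=
  if m < n then ⊤ else if m = n then kernelSubobject (G.d m (m + 1)) else ⊥

lemma trFam_of_lt (n m : ℤ) (h : m < n) : trFam G n m = ⊤ := by
  simp [trFam, h]

lemma trFam_self (n : ℤ) : trFam G n n = kernelSubobject (G.d n (n + 1)) := by
  simp [trFam]

lemma trFam_of_gt (n m : ℤ) (h : n < m) : trFam G n m = ⊥ := by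
  have h1 : ¬ m < n := by omega
  have h2 : ¬ m = n := by omega
  simp [trFam, h1, h2]

lemma trFam_factors (n m : ℤ) :
    (trFam G n (m + 1)).Factors ((trFam G n m).arrow ≫ G.d m (m + 1)) := by
  by_cases h1 : m + 1 < n
  · rw [trFam_of_lt G n (m + 1) h1]
    exact Subobject.top_factors _
  · by_cases h2 : m + 1 = n
    · subst h2
      rw [trFam_self]
      apply kernelSubobject_factors
      rw [Category.assoc, G.d_comp_d, comp_zero]
    · rw [trFam_of_gt G n (m + 1) (by omega), Subobject.bot_factors_iff_zero]
      by_cases h3 : m = n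
      · subst h3
        rw [trFam_self, kernelSubobject_arrow_comp]
      · rw [trFam_of_gt G n m (by omega), Subobject.bot_arrow, zero_comp]

lemma trFam_mono (n n' m : ℤ) (h : n ≤ n') : trFam G n m ≤ trFam G n' m := by
  by_cases h1 : m < n
  · rw [trFam_of_lt G n m h1, trFam_of_lt G n' m (by omega)]
  · by_cases h2 : m = n
    · subst h2
      by_cases h3 : m = n'
      · subst h3
        exact le_rfl
      · rw [trFam_of_lt G n' m (by omega)]
        exact le_top
    · rw [trFam_of_gt G n m (by omega)]
      exact bot_le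

/-- the canonical truncation `τ_{≤ n} G` as a subcomplex of `G` -/
noncomputable abbrev tr (n : ℤ) : CochainComplex A ℤ := subCx G (trFam G n) (trFam_factors G n)

/-- the inclusion `τ_{≤ n} G ⟶ G` -/
noncomputable abbrev trι (n : ℤ) : tr G n ⟶ G := subCxι G (trFam G n) (trFam_factors G n)

lemma isZero_tr_X (n m : ℤ) (h : n < m) : IsZero ((tr G n).X m) := by
  change IsZero ((trFam G n m : Subobject (G.X m)) : A)
  rw [trFam_of_gt G n m h]
  exact IsZero.of_iso (isZero_zero A) Subobject.botCoeIsoZero

instance isStrictlyLE_tr (n : ℤ) : (tr G n).IsStrictlyLE n := by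
  rw [CochainComplex.isStrictlyLE_iff]
  intro m hm
  exact isZero_tr_X G n m hm

lemma isIso_trι_f (n m : ℤ) (h : m < n) : IsIso ((trι G n).f m) := by
  rw [subCxι_f, Subobject.isIso_arrow_iff_eq_top]
  exact trFam_of_lt G n m h

/-- the transition map `τ_{≤ n} G ⟶ τ_{≤ n'} G` for `n ≤ n'` -/
noncomputable def trMap (n n' : ℤ) (h : n ≤ n') : tr G n ⟶ tr G n' :=
  CochainComplex.ofHom (fun m => Subobject.ofLE _ _ (trFam_mono G n n' m h)) (fun m => by
    rw [← cancel_mono (trFam G n' (m + 1)).arrow]
    have h1 : (tr G n').d m (m + 1) ≫ (trFam G n' (m + 1)).arrow =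
        (trFam G n' m).arrow ≫ G.d m (m + 1) := ((trι G n').comm m (m + 1)).symm
    have h2 : (tr G n).d m (m + 1) ≫ (trFam G n (m + 1)).arrow =
        (trFam G n m).arrow ≫ G.d m (m + 1) := ((trι G n).comm m (m + 1)).symm
    rw [Category.assoc, Category.assoc, h1, Subobject.ofLE_arrow, Subobject.ofLE_arrow_assoc, h2])

@[reassoc (attr := simp)]
lemma trMap_ι (n n' : ℤ) (h : n ≤ n') : trMap G n n' h ≫ trι G n' = trι G n := by
  ext m
  change Subobject.ofLE _ _ (trFam_mono G n n' m h) ≫ (trFam G n' m).arrow = (trFam G n m).arrow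
  exact Subobject.ofLE_arrow _

/-- the sequence of canonical truncations `τ_{≤ 0} G ⟶ τ_{≤ 1} G ⟶ ...` -/
noncomputable def trSeq : ℕ ⥤ CochainComplex A ℤ :=
  Functor.ofSequence (X := fun n : ℕ => tr G (n : ℤ))
    (fun n => trMap G (n : ℤ) ((n + 1 : ℕ) : ℤ) (by push_cast; omega))

lemma trSeq_map_succ (n : ℕ) : (trSeq G).map (homOfLE (n.le_add_right 1)) =
    trMap G (n : ℤ) ((n + 1 : ℕ) : ℤ) (by push_cast; omega) :=
  Functor.ofSequence_map_homOfLE_succ _ n

/-- the cocone of inclusions `τ_{≤ n} G ⟶ G` -/
noncomputable def trCocone : Cocone (trSeq G) where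
  pt := G
  ι := NatTrans.ofSequence (fun n => trι G (n : ℤ)) (by
    intro n
    rw [trSeq_map_succ]
    refine (trMap_ι G _ _ _).trans ?_
    exact (Category.comp_id _).symm)

lemma trCocone_ι_app (n : ℕ) : (trCocone G).ι.app n = trι G (n : ℤ) := rfl

/-- the cocone of inclusions is a colimit cocone in each degree -/
noncomputable def isColimitTrCoconeEval (m : ℤ) :
    IsColimit ((HomologicalComplex.eval _ _ m).mapCocone (trCocone G)) := by
  have hiso : ∀ n : ℕ, (m + 1).toNat ≤ n →
      IsIso (((HomologicalComplex.eval _ _ m).mapCocone (trCocone G)).ι.app n) := by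
    intro n hn
    exact isIso_trι_f G (n : ℤ) m (by omega)
  have h : (trSeq G ⋙ HomologicalComplex.eval _ _ m).IsEventuallyConstantFrom
      (m + 1).toNat := by
    intro j f
    have h1 := hiso j (leOfHom f)
    have h2 := hiso _ le_rfl
    have hw := ((HomologicalComplex.eval _ _ m).mapCocone (trCocone G)).w f
    rw [← hw] at h2
    exact IsIso.of_isIso_comp_right _
      (((HomologicalComplex.eval _ _ m).mapCocone (trCocone G)).ι.app j)
  haveI := hiso _ le_rfl
  exact h.isColimitOfIsIso _

/-- the cocone of inclusions is a colimit cocone -/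
noncomputable def isColimitTrCocone : IsColimit (trCocone G) :=
  HomologicalComplex.isColimitOfEval _ _ (fun m => isColimitTrCoconeEval G m)

end Groth.Agent.Lib.helper13.KRes
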