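import Mathlib
import Groth.Agent.Lib.Helper13.KRes1
import Groth.Agent.Lib.Helper13.KRes2
import Groth.Agent.Lib.Helper25.KInjW

/-!
# K-flat resolutions, part 3 (helper13): the abstract existence theorem

`exists_resolution`: in an abelian category `A` with exact colimits of shape `ℕ`, let `flat` be a
class of objects (`FlatClass`: iso-closed, contains `0`, closed under `⊞`, every object is a quotient
of a flat one) closed under colimits of shape `ℕ`, and `P` a property of cochain complexes which
holds for bounded above complexes with flat terms and is closed under degreewise colimits of shape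
`ℕ`.  Then every complex `G` admits a degreewise epimorphic quasi-isomorphism `K ⟶ G` with `P K` and
all `K^n` flat.
-/

set_option autoImplicit false
universe v u
open CategoryTheory Limits HomologicalComplex

namespace Groth.Agent.Lib.helper13.KRes

variable {A : Type u} [Category.{v} A] [Abelian A] {flat : A → Prop} (hfl : FlatClass flat)
  (G : CochainComplex A ℤ)

variable (flat) in
/-- a bounded above flat resolution of the `n`-th canonical truncation -/
structure Stage (n : ℕ) where
  /-- the resolution -/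
  K : CochainComplex A ℤ
  /-- the quasi-isomorphism -/
  q : K ⟶ tr G (n : ℤ)
  le : K.IsStrictlyLE (n : ℤ)
  hflat : ∀ m, flat (K.X m)
  qis : QuasiIso q
  epi : ∀ m, Epi (q.f m)

include hfl in
lemma exists_stage_zero : Nonempty (Stage flat G 0) := by
  obtain ⟨Q, α, h1, h2, h3, h4⟩ := exists_flat_resolution hfl (tr G ((0 : ℕ) : ℤ)) ((0 : ℕ) : ℤ)
  exact ⟨⟨Q, α, h1, h2, h4, h3⟩⟩

include hfl in
lemma exists_stage_succ (n : ℕ) (s : Stage flat G n) :
    ∃ (s' : Stage flat G (n + 1)) (j : s.K ⟶ s'.K),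
      j ≫ s'.q = s.q ≫ trMap G (n : ℤ) ((n + 1 : ℕ) : ℤ) (by push_cast; omega) := by
  haveI := s.le
  haveI : s.K.IsStrictlyLE ((n + 1 : ℕ) : ℤ) :=
    s.K.isStrictlyLE_of_le (n : ℤ) _ (by push_cast; omega)
  obtain ⟨K', j, q, h1, h2, h3, h4, h5⟩ := exists_factorization hfl s.K
    (tr G ((n + 1 : ℕ) : ℤ)) ((n + 1 : ℕ) : ℤ) s.hflat
    (s.q ≫ trMap G (n : ℤ) ((n + 1 : ℕ) : ℤ) (by push_cast; omega))
  exact ⟨⟨K', q, h1, h2, h4, h5⟩, j, h3⟩

/-- the chosen sequence of stages -/
noncomputable def stage : ∀ n : ℕ, Stage flat G n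
  | 0 => (exists_stage_zero hfl G).some
  | n + 1 => (exists_stage_succ hfl G n (stage n)).choose

/-- the transition maps between the stages -/
noncomputable def stageMap (n : ℕ) : (stage hfl G n).K ⟶ (stage hfl G (n + 1)).K :=
  (exists_stage_succ hfl G n (stage hfl G n)).choose_spec.choose

lemma stageMap_q (n : ℕ) : stageMap hfl G n ≫ (stage hfl G (n + 1)).q =
    (stage hfl G n).q ≫ trMap G (n : ℤ) ((n + 1 : ℕ) : ℤ) (by push_cast; omega) :=
  (exists_stage_succ hfl G n (stage hfl G n)).choose_spec.choose_spec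

/-- the sequence of resolutions -/
noncomputable def resSeq : ℕ ⥤ CochainComplex A ℤ :=
  Functor.ofSequence (X := fun n : ℕ => (stage hfl G n).K) (stageMap hfl G)

lemma resSeq_map_succ (n : ℕ) : (resSeq hfl G).map (homOfLE (n.le_add_right 1)) =
    stageMap hfl G n :=
  Functor.ofSequence_map_homOfLE_succ _ n

/-- the natural transformation to the sequence of truncations -/
noncomputable def resNat : resSeq hfl G ⟶ trSeq G :=
  NatTrans.ofSequence (fun n => (stage hfl G n).q) (by
    intro n
    rw [resSeq_map_succ, trSeq_map_succ]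
    exact stageMap_q hfl G n)

lemma resNat_app (n : ℕ) : (resNat hfl G).app n = (stage hfl G n).q := rfl

section main

variable [HasColimitsOfShape ℕ A] [HasExactColimitsOfShape ℕ A]

include hfl in
/-- existence of "K-flat" resolutions, abstract form -/
theorem exists_resolution
    (flat_colim : ∀ (D : ℕ ⥤ A) (c : Cocone D), IsColimit c → (∀ n, flat (D.obj n)) → flat c.pt)
    (P : CochainComplex A ℤ → Prop)
    (hP_bdd : ∀ (K : CochainComplex A ℤ) (b : ℤ), (∀ q, b < q → IsZero (K.X q)) →
      (∀ q, flat (K.X q)) → P K)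
    (hP_colim : ∀ (F : ℕ ⥤ CochainComplex A ℤ) (c : Cocone F),
      (∀ q, Nonempty (IsColimit ((HomologicalComplex.eval _ _ q).mapCocone c))) →
      (∀ n, P (F.obj n)) → P c.pt) :
    ∃ (K : CochainComplex A ℤ) (q : K ⟶ G), P K ∧ (∀ n, flat (K.X n)) ∧ QuasiIso q ∧
      ∀ n, Epi (q.f n) := by
  let c₁ : Cocone (resSeq hfl G) := colimit.cocone (resSeq hfl G)
  have h₁ : IsColimit c₁ := colimit.isColimit _
  let s : Cocone (resSeq hfl G) :=
    { pt := G
      ι := resNat hfl G ≫ (trCocone G).ι }
  let φ : c₁.pt ⟶ G := h₁.desc s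
  have hφ : ∀ n, c₁.ι.app n ≫ φ = (resNat hfl G).app n ≫ (trCocone G).ι.app n :=
    fun n => h₁.fac s n
  have hev : ∀ m, IsColimit ((HomologicalComplex.eval _ _ m).mapCocone c₁) :=
    fun m => isColimitOfPreserves _ h₁
  refine ⟨c₁.pt, φ, ?_, ?_, ?_, ?_⟩
  · refine hP_colim (resSeq hfl G) c₁ (fun m => ⟨hev m⟩) (fun n => ?_)
    haveI := (stage hfl G n).le
    exact hP_bdd _ (n : ℤ) (fun q hq => (stage hfl G n).K.isZero_of_isStrictlyLE (n : ℤ) q hq)
      (stage hfl G n).hflat
  · intro m
    exact flat_colim _ _ (hev m) (fun n => (stage hfl G n).hflat m)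
  · refine Groth.Agent.Lib.Helper25.KInjW.quasiIso_of_isColimit c₁ (trCocone G) h₁
      (isColimitTrCocone G) (resNat hfl G) (fun n => (stage hfl G n).qis) φ hφ
  · intro m
    have h1 := congrArg (fun f => f.f m) (hφ (m + 1).toNat)
    simp only [comp_f] at h1
    have e1 : Epi (((resNat hfl G).app (m + 1).toNat).f m) := (stage hfl G (m + 1).toNat).epi m
    have e2 : IsIso (((trCocone G).ι.app (m + 1).toNat).f m) :=
      isIso_trι_f G _ m (by omega)
    haveI : Epi ((c₁.ι.app (m + 1).toNat).f m ≫ φ.f m) := by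
      rw [h1]
      have e3 : Epi (((trCocone G).ι.app (m + 1).toNat).f m) := @IsIso.epi_of_iso _ _ _ _ _ e2
      exact @epi_comp _ _ _ _ _ _ e1 _ e3
    exact epi_of_epi ((c₁.ι.app (m + 1).toNat).f m) (φ.f m)

end main

end Groth.Agent.Lib.helper13.KRes
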