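import Mathlib
import Groth.Prelude.Def_KFlatSite
import Groth.Agent.Lib.Helper13.KRes3
import Groth.Agent.Lib.Helper13.KFlat10
import Groth.Agent.Lib.Helper21.TensorColim

/-!
# K-flat resolutions, part 4 (helper13): ringed sites (Stacks 06YF)
-/

set_option autoImplicit false
universe u
open CategoryTheory Limits HomologicalComplex

namespace Groth.Agent.Lib.helper13.KRes

open Groth.Agent.Lib.helper13.KFlat
open Groth.Agent.Lib.Helper21.TensorW Groth.Agent.Lib.Helper21.TensorAdj
  Groth.Agent.Lib.Helper21.TensorMon Groth.Agent.Lib.Helper21.FlatSES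

variable {C : Type u} [SmallCategory C] {J : GrothendieckTopology C} {O : Sheaf J CommRingCat.{u}}

theorem isFlat_biprod (M N : ModSite.Mod O) (hM : ModSite.IsFlat M) (hN : ModSite.IsFlat N) :
    ModSite.IsFlat (M ⊞ N) := by
  let S : ShortComplex (ModSite.Mod O) :=
    ShortComplex.mk (biprod.inl : M ⟶ M ⊞ N) biprod.snd biprod.inl_snd
  have hS : S.ShortExact := (ShortComplex.Splitting.ofHasBinaryBiproduct M N).shortExact
  exact isFlat_mid S hS hM hN

theorem flatClass_isFlat : FlatClass (fun M : ModSite.Mod O => ModSite.IsFlat M) where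
  iso _ _ e h := isFlat_of_iso e h
  zero M h := isFlat_of_isZero M h
  biprod M N hM hN := isFlat_biprod M N hM hN
  cover X := exists_flat_cover O X

/-- a colimit of a sequence of flat modules is flat -/
theorem isFlat_of_isColimit_nat (D : ℕ ⥤ ModSite.Mod O) (c : Cocone D) (hc : IsColimit c)
    (hD : ∀ n, ModSite.IsFlat (D.obj n)) : ModSite.IsFlat c.pt := by
  let e := ULiftHomULiftCategory.equiv.{u, u} ℕ
  haveI : AB5OfSize.{u, u} (ModSite.Mod O) :=
    Groth.Agent.Lib.Helper21.ModGroth.ab5_mod (ModSite.ringSh O)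
  haveI : IsFiltered (ULiftHom.{u} (ULift.{u} ℕ)) := IsFiltered.of_equivalence e
  haveI : HasExactColimitsOfShape (ULiftHom.{u} (ULift.{u} ℕ)) (ModSite.Mod O) :=
    AB5OfSize.ofShape _
  exact Groth.Agent.Lib.Helper21.TensorColim.isFlat_of_isColimit (e.inverse ⋙ D)
    (c.whisker e.inverse) ((Functor.Final.isColimitWhiskerEquiv e.inverse c).symm hc)
    (fun k => hD _)

/-- Stacks 06YF: K-flat resolutions on a ringed site -/
theorem exists_isKFlat_resolution (G : CochainComplex (ModSite.Mod O) ℤ) :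
    ∃ (K : CochainComplex (ModSite.Mod O) ℤ) (q : K ⟶ G), ModSite.IsKFlat K ∧
      (∀ n : ℤ, ModSite.IsFlat (K.X n)) ∧ QuasiIso q ∧ ∀ n : ℤ, Epi (q.f n) :=
  exists_resolution flatClass_isFlat G isFlat_of_isColimit_nat
    (fun K => ModSite.IsKFlat K)
    (fun K b hb hK => isKFlat_of_bounded_above K b hb hK)
    (fun F c hc hF => isKFlat_of_isColimit F c (fun q => (hc q).some) hF)

end Groth.Agent.Lib.helper13.KRes
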