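import Mathlib
import Groth.Prelude.Def_KFlatSite
import Groth.Prelude.Def_DCoh4
import Groth.Prelude.Def_FlatMod2
import Groth.Agent.Lib.Helper13.KFlat11
import Groth.Agent.Lib.Helper13.KRes4

/-!
# K-flat resolutions, part 5 (helper13): schemes
-/

set_option autoImplicit false
universe u
open CategoryTheory CategoryTheory.Limits AlgebraicGeometry

namespace Groth.Agent.Lib.helper13.KRes

theorem flatMod_of_isFlat {X : Scheme.{u}} (M : X.Modules) (h : ModSite.IsFlat (O := X.sheaf) M) :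
    FlatMod.IsFlat M := by
  intro x
  exact Groth.Agent.Lib.helper13.StalkCmp.flat_top_stalks_of_isFlat X.sheaf M h x

theorem flatMod_iff_isFlat {X : Scheme.{u}} (M : X.Modules) :
    FlatMod.IsFlat M ↔ ModSite.IsFlat (O := X.sheaf) M :=
  ⟨Groth.Agent.Lib.helper13.KFlat.isFlat_of_flatMod M, flatMod_of_isFlat M⟩

theorem dcoh_exists_kFlat_resolution {X : Scheme.{u}} (G : CochainComplex X.Modules ℤ) :
    ∃ (K : CochainComplex X.Modules ℤ) (q : K ⟶ G), DCoh.IsKFlat K ∧
      (∀ n : ℤ, FlatMod.IsFlat (K.X n)) ∧ QuasiIso q ∧ ∀ n : ℤ, Epi (q.f n) := by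
  obtain ⟨K, q, h1, h2, h3, h4⟩ := exists_isKFlat_resolution (O := X.sheaf) G
  exact ⟨K, q, h1, fun n => flatMod_of_isFlat _ (h2 n), h3, h4⟩

end Groth.Agent.Lib.helper13.KRes
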