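import Mathlib
import Groth.Prelude.Def_KFlatSite
import Groth.Agent.Lib.Helper13.KFlat3
import Groth.Agent.Lib.Helper13.KFlat4

/-!
# K-flat complexes, part 5 (helper13): filtered colimits of K-flat complexes of modules over a ring
-/

set_option autoImplicit false
universe u
open CategoryTheory Limits HomologicalComplex MonoidalCategory

namespace Groth.Agent.Lib.helper13.KFlat

variable {R : Type u} [CommRing R]

instance (M : ModuleCat.{u} R) :
    PreservesColimits ((curriedTensor (ModuleCat.{u} R)).obj M) :=
  inferInstanceAs (PreservesColimits (tensorLeft M))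

/-- a (degreewise) filtered colimit of K-flat complexes is K-flat -/
theorem isKFlatR_of_isColimit {J : Type*} [Category J]
    [HasColimitsOfShape J (ModuleCat.{u} R)] [HasExactColimitsOfShape J (ModuleCat.{u} R)]
    (G : J ⥤ DRing.Cx R) (c : Cocone G)
    (hc : ∀ q, IsColimit ((HomologicalComplex.eval _ _ q).mapCocone c))
    (hG : ∀ j, IsKFlatR (G.obj j)) : IsKFlatR c.pt := by
  rw [isKFlatR_iff]
  intro L hL
  exact acyclic_Φ_of_isColimit (curriedTensor (ModuleCat.{u} R)) L G c hc
    (fun j => (isKFlatR_iff _).1 (hG j) L hL)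

theorem isKFlatR_colimit {J : Type u} [SmallCategory J] [IsFiltered J]
    (G : J ⥤ DRing.Cx R) (hG : ∀ j, IsKFlatR (G.obj j)) : IsKFlatR (colimit G) :=
  isKFlatR_of_isColimit G (colimit.cocone G)
    (fun q => isColimitOfPreserves _ (colimit.isColimit G)) hG

end Groth.Agent.Lib.helper13.KFlat
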