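import Mathlib
import Groth.Prelude.Def_KFlatSite
import Groth.Agent.Lib.Helper13.KFlat5
import Groth.Agent.Lib.Helper13.KFlat7
import Groth.Agent.Lib.Helper13.KFlat8

/-!
# K-flat complexes, part 9 (helper13): bounded above complexes of flat modules over a ring are K-flat
-/

set_option autoImplicit false
universe u
open CategoryTheory Limits HomologicalComplex MonoidalCategory

namespace Groth.Agent.Lib.helper13.KFlat

variable {R : Type u} [CommRing R]

instance hasExactColimitsOfShape_nat_moduleCat :
    HasExactColimitsOfShape ℕ (ModuleCat.{u} R) := by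
  haveI : IsFiltered (ULiftHom.{u} (ULift.{u} ℕ)) :=
    IsFiltered.of_equivalence (ULiftHomULiftCategory.equiv.{u, u} ℕ)
  haveI : HasExactColimitsOfShape (ULiftHom.{u} (ULift.{u} ℕ)) (ModuleCat.{u} R) :=
    AB5OfSize.ofShape _
  exact HasExactColimitsOfShape.of_domain_equivalence (ModuleCat.{u} R)
    (ULiftHomULiftCategory.equiv.{u, u} ℕ).symm

/-- the columns `L ⊗ M` of an acyclic complex `L` with `M` flat are exact -/
lemma colSC_exact_of_flat (L : DRing.Cx R) (hL : L.Acyclic) (M : ModuleCat.{u} R)
    [Module.Flat R M] (p : ℤ) : (colSC (curriedTensor (ModuleCat.{u} R)) L M p).Exact := by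
  have h1 : (L.sc' (p - 1) p (p + 1)).Exact :=
    (exactAt_iff' _ (p - 1) p (p + 1) (by simp) (by simp)).1 (hL p)
  have h2 : Function.Exact (L.d (p - 1) p).hom (L.d p (p + 1)).hom :=
    (ShortComplex.ShortExact.moduleCat_exact_iff_function_exact _).1 h1
  have h3 := Module.Flat.rTensor_exact M h2
  exact (ShortComplex.ShortExact.moduleCat_exact_iff_function_exact _).2 h3

theorem isKFlatR_of_bounded_above (P : DRing.Cx R) (b : ℤ)
    (hb : DRing.VanishesAbove P b) (hP : DRing.TermwiseFlat P) : IsKFlatR P := by
  rw [isKFlatR_iff]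
  intro L hL
  refine of_bounded_above (fun M : ModuleCat.{u} R => Module.Flat R M)
    (fun K => ((Φ (curriedTensor (ModuleCat.{u} R)) L).obj K).Acyclic)
    ?_ ?_ ?_ ?_ ?_ P b hb hP
  · intro M N e hM
    haveI := hM
    exact Module.Flat.of_linearEquiv e.symm.toLinearEquiv
  · intro M hM
    haveI := ModuleCat.subsingleton_of_isZero hM
    infer_instance
  · intro K q₀ hK hflat
    haveI := hflat
    exact acyclic_of_single (curriedTensor (ModuleCat.{u} R)) L K q₀ hK
      (fun p => colSC_exact_of_flat L hL (K.X q₀) p)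
  · intro S hS h3 h1 h3'
    have key : (S.map (Φ (curriedTensor (ModuleCat.{u} R)) L)).ShortExact := by
      refine shortExact_map_Φ S (fun p q => ?_) (fun n => monoCoprod_moduleCat R _)
      have hq : (S.map (eval _ _ q)).ShortExact := hS.map_of_exact (eval _ _ q)
      exact shortExact_map_tensorLeft _ hq (h3 q) (L.X p)
    exact (acyclic_two_of_three _ key).2.1 h1 h3'
  · intro G c hc hG
    exact acyclic_Φ_of_isColimit (curriedTensor (ModuleCat.{u} R)) L G c
      (fun q => (hc q).some) hG

end Groth.Agent.Lib.helper13.KFlat
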