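import Mathlib
import Groth.Prelude.Def_KFlatSite
import Groth.Agent.Lib.Helper13.KRes3
import Groth.Agent.Lib.Helper13.KFlat9
import Groth.Agent.Lib.Helper2.FlatCone

/-!
# K-flat resolutions, part 6 (helper13): modules over a ring
-/

set_option autoImplicit false
universe u
open CategoryTheory Limits HomologicalComplex MonoidalCategory

namespace Groth.Agent.Lib.helper13.KRes

open Groth.Agent.Lib.helper13.KFlat

variable {R : Type u} [CommRing R]

instance preservesColimitsOfShape_nat_forget :
    PreservesColimitsOfShape ℕ (forget (ModuleCat.{u} R)) := by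
  haveI : PreservesFilteredColimitsOfSize.{0, 0} (forget (ModuleCat.{u} R)) :=
    preservesFilteredColimitsOfSize_shrink.{0, u, 0, u} _
  exact PreservesFilteredColimitsOfSize.preserves_filtered_colimits ℕ

/-- a colimit of a sequence of flat modules is flat -/
theorem flat_of_isColimit_nat (D : ℕ ⥤ ModuleCat.{u} R) (c : Cocone D) (hc : IsColimit c)
    (hD : ∀ n, Module.Flat R (D.obj n)) : Module.Flat R c.pt := by
  apply Module.Flat.of_forall_isTrivialRelation
  intro l f x hrel
  have h1 : ∀ i, ∃ (n : ℕ) (y : D.obj n), c.ι.app n y = x i :=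
    fun i => Concrete.isColimit_exists_rep D hc (x i)
  choose n y hy using h1
  let N := Finset.univ.sup n
  have hn : ∀ i, n i ≤ N := fun i => Finset.le_sup (Finset.mem_univ i)
  let y' : Fin l → D.obj N := fun i => D.map (homOfLE (hn i)) (y i)
  have hy' : ∀ i, c.ι.app N (y' i) = x i := by
    intro i
    rw [← hy i]
    exact ConcreteCategory.congr_hom (c.w (homOfLE (hn i))) (y i)
  have hz : c.ι.app N (∑ i, f i • y' i) = c.ι.app N 0 := by
    rw [map_sum, map_zero]
    simp_rw [map_smul, hy']
    exact hrel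
  obtain ⟨k, g, g', hk⟩ := Concrete.isColimit_exists_of_rep_eq D hc _ _ hz
  have hrel' : ∑ i, f i • (D.map g (y' i)) = 0 := by
    rw [map_sum, map_zero] at hk
    simpa [map_smul] using hk
  haveI := hD k
  obtain ⟨κ, a, w, h2, h3⟩ := Module.Flat.isTrivialRelation_of_sum_smul_eq_zero hrel'
  refine ⟨κ, a, fun j => c.ι.app k (w j), ?_, h3⟩
  intro i
  rw [← hy' i]
  have h4 : c.ι.app N (y' i) = c.ι.app k (D.map g (y' i)) :=
    (ConcreteCategory.congr_hom (c.w g) (y' i)).symm
  have h5 : D.map g (y' i) = ∑ j, a i j • w j := h2 i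
  rw [h4, h5, map_sum]
  simp_rw [map_smul]

theorem flatClass_flat : FlatClass (fun M : ModuleCat.{u} R => Module.Flat R M) where
  iso M N e hM := by
    haveI := hM
    exact Module.Flat.of_linearEquiv e.symm.toLinearEquiv
  zero M hM := by
    haveI := ModuleCat.subsingleton_of_isZero hM
    infer_instance
  biprod M N hM hN :=
    Groth.Agent.Lib.helper2.FlatCyc.flat_of_iso_biprod (M ⊞ N) M N (Iso.refl _) hM hN
  cover X := by
    refine ⟨ModuleCat.of R (X →₀ R), ModuleCat.ofHom (Finsupp.linearCombination R id), ?_, ?_⟩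
    · change Module.Flat R (X →₀ R)
      infer_instance
    · rw [ModuleCat.epi_iff_surjective]
      intro x
      exact ⟨Finsupp.single x 1, by simp⟩

/-- K-flat resolutions of complexes of modules over a ring -/
theorem exists_isKFlatR_resolution (M : DRing.Cx R) :
    ∃ (K : DRing.Cx R) (f : K ⟶ M), IsKFlatR K ∧ DRing.TermwiseFlat K ∧ QuasiIso f ∧
      ∀ i : ℤ, Function.Surjective (f.f i) := by
  obtain ⟨K, q, h1, h2, h3, h4⟩ := exists_resolution (flatClass_flat (R := R)) M
    flat_of_isColimit_nat (fun K => IsKFlatR K)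
    (fun K b hb hK => isKFlatR_of_bounded_above K b hb hK)
    (fun F c hc hF => isKFlatR_of_isColimit F c (fun q => (hc q).some) hF)
  exact ⟨K, q, h1, h2, h3, fun i => (ModuleCat.epi_iff_surjective _).1 (h4 i)⟩

end Groth.Agent.Lib.helper13.KRes
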