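import Mathlib
import Groth.Prelude.Def_KFlatSite
import Groth.Prelude.Def_DCoh4
import Groth.Agent.Lib.Helper13.KFlat13
import Groth.Agent.Lib.Helper13.KRes5
import Groth.Agent.Lib.Helper13.KRes6
import Groth.Agent.Lib.Helper21.TensorMon

/-!
# K-flat complexes, part 14 (helper13): tensoring a quasi-isomorphism between K-flat complexes
(ringed sites, schemes, rings)
-/

set_option autoImplicit false
universe u
open CategoryTheory Limits HomologicalComplex MonoidalCategory

namespace Groth.Agent.Lib.helper13.KFlat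

section Site

variable {C : Type u} [SmallCategory C] {J : GrothendieckTopology C} (O : Sheaf J CommRingCat.{u})

open Groth.Agent.Lib.Helper21.TensorMon Groth.Agent.Lib.Helper21.TensorAdj
  Groth.Agent.Lib.Helper21.TensorW

/-- the symmetry of the tensor product of sheaves of modules, as an isomorphism of bifunctors -/
noncomputable def tensorBiBraiding : ModSite.tensorBi O ≅ (ModSite.tensorBi O).flip :=
  NatIso.ofComponents (fun L => braidIso O L) (by
    intro L L' ψ
    apply NatTrans.ext
    funext M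
    change (tens O M).map ψ ≫ (shf O).map (β_ (pv L') (pv M)).hom =
      (shf O).map (β_ (pv L) (pv M)).hom ≫ (tensL O M).map ψ
    rw [tens_map, tensL_map]
    exact ((shf O).map_comp _ _).symm.trans
      ((congrArg (shf O).map (BraidedCategory.braiding_naturality_left (pvMap ψ) (pv M))).trans
        ((shf O).map_comp _ _)))

/-- symmetric K-flatness on a ringed site -/
theorem isKFlat_symm (K : CochainComplex (ModSite.Mod O) ℤ) (hK : ModSite.IsKFlat K)
    (L : CochainComplex (ModSite.Mod O) ℤ) (hL : L.Acyclic) :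
    (mapBifunctor K L (ModSite.tensorBi O) (ComplexShape.up ℤ)).Acyclic :=
  acyclic_symm (ModSite.tensorBi O) (tensorBiBraiding O) K ((isKFlat_iff K).1 hK) L hL

/-- tensoring a quasi-isomorphism between K-flat complexes with any complex is a
quasi-isomorphism (ringed sites) -/
theorem quasiIso_tensor_of_isKFlat {P Q : CochainComplex (ModSite.Mod O) ℤ}
    (hP : ModSite.IsKFlat P) (hQ : ModSite.IsKFlat Q) (α : P ⟶ Q) [QuasiIso α]
    (F : CochainComplex (ModSite.Mod O) ℤ) :
    QuasiIso (mapBifunctorMap (𝟙 F) α (ModSite.tensorBi O) (ComplexShape.up ℤ)) := by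
  refine quasiIso_mapBifunctorMap_of_kFlat (ModSite.tensorBi O) (tensorBiBraiding O)
    (fun G => ?_) ((isKFlat_iff P).1 hP) ((isKFlat_iff Q).1 hQ) α F
  obtain ⟨K, q, h1, -, h3, -⟩ := Groth.Agent.Lib.helper13.KRes.exists_isKFlat_resolution G
  exact ⟨K, q, (isKFlat_iff K).1 h1, h3⟩

end Site

section Scheme

open AlgebraicGeometry

/-- tensoring a quasi-isomorphism between K-flat complexes with any complex is a
quasi-isomorphism (schemes) -/
theorem dcoh_quasiIso_tensor_of_isKFlat {X : Scheme.{u}} {P Q : CochainComplex X.Modules ℤ}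
    (hP : DCoh.IsKFlat P) (hQ : DCoh.IsKFlat Q) (α : P ⟶ Q) [hα : QuasiIso α]
    (F : CochainComplex X.Modules ℤ) :
    QuasiIso ((DCoh.tensorCx.obj F).map α) :=
  @quasiIso_tensor_of_isKFlat _ _ _ X.sheaf P Q hP hQ α hα F

/-- symmetric K-flatness on a scheme -/
theorem dcoh_isKFlat_symm {X : Scheme.{u}} (K : CochainComplex X.Modules ℤ) (hK : DCoh.IsKFlat K)
    (L : CochainComplex X.Modules ℤ) (hL : L.Acyclic) :
    ((DCoh.tensorCx.obj K).obj L).Acyclic :=
  isKFlat_symm X.sheaf K hK L hL

end Scheme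

section Ring

variable {R : Type u} [CommRing R]

open Groth.Agent.Lib.helper2.BifunctorExact

/-- `- ⊗ K` preserves quasi-isomorphisms for `K` K-flat (rings) -/
theorem quasiIso_whiskerRight_of_isKFlatR (K : DRing.Cx R) (hK : IsKFlatR K)
    {L₁ L₂ : DRing.Cx R} (f : L₁ ⟶ L₂) [QuasiIso f] : QuasiIso (f ▷ K) :=
  quasiIso_Ψ_map (curriedTensor (ModuleCat.{u} R)) K ((isKFlatR_iff K).1 hK) f

/-- symmetric K-flatness (rings) -/
theorem isKFlatR_symm (K : DRing.Cx R) (hK : IsKFlatR K) (L : DRing.Cx R) (hL : L.Acyclic) :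
    (K ⊗ L).Acyclic :=
  acyclic_symm (curriedTensor (ModuleCat.{u} R))
    (BraidedCategory.curriedBraidingNatIso (ModuleCat.{u} R)) K ((isKFlatR_iff K).1 hK) L hL

/-- tensoring a quasi-isomorphism between K-flat complexes with any complex is a
quasi-isomorphism (rings) -/
theorem quasiIso_whiskerLeft_of_isKFlatR {P Q : DRing.Cx R} (hP : IsKFlatR P) (hQ : IsKFlatR Q)
    (α : P ⟶ Q) [QuasiIso α] (L : DRing.Cx R) : QuasiIso (L ◁ α) := by
  refine quasiIso_mapBifunctorMap_of_kFlat (curriedTensor (ModuleCat.{u} R))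
    (BraidedCategory.curriedBraidingNatIso (ModuleCat.{u} R))
    (fun G => ?_) ((isKFlatR_iff P).1 hP) ((isKFlatR_iff Q).1 hQ) α L
  obtain ⟨K, q, h1, -, h3, -⟩ := Groth.Agent.Lib.helper13.KRes.exists_isKFlatR_resolution G
  exact ⟨K, q, (isKFlatR_iff K).1 h1, h3⟩

end Ring

end Groth.Agent.Lib.helper13.KFlat
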