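import Mathlib
import Groth.Prelude.Def_KFlatSite
import Groth.Prelude.Def_DDual2
import Groth.Agent.Lib.Helper13.KFlat12
import Groth.Agent.Lib.Helper13.KFlat14
import Groth.Agent.Lib.Helper13.KRes6
import Groth.Agent.Lib.Helper25.TotSingle
import Groth.Agent.Lib.Helper25.KFlatTri

/-!
# K-flat complexes over rings as an adapted class (helper13)

* `isKFlatR_of_isZero`, `isKFlatR_shift`, `isKFlatR_mappingCone`, `exists_res`: the class of K-flat
  complexes of `R`-modules contains zero, is stable under shifts and cones, and every complex has a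
  K-flat resolution.
* `quasiIso_tensorLeft_map`: `M ⊗ -` (termwise) sends quasi-isomorphisms between K-flat complexes to
  quasi-isomorphisms.
* `extResIso φ : extendScalars φ ⋙ restrictScalars φ ≅ (A as R-module) ⊗ -`.
* `quasiIso_extendScalars_map`: termwise extension of scalars sends quasi-isomorphisms between K-flat
  complexes to quasi-isomorphisms.
-/

set_option autoImplicit false
universe u
open CategoryTheory Limits HomologicalComplex MonoidalCategory

namespace Groth.Agent.Lib.helper13.RKF

open Groth.Agent.Lib.helper13.KFlat Groth.Agent.Lib.Helper25.KFlatTri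
  Groth.Agent.Lib.Helper25.TotSingle

section Ring

variable {R : Type u} [CommRing R]

theorem isKFlatR_of_isZero (K : DRing.Cx R) (h : IsZero K) : IsKFlatR K := by
  rw [isKFlatR_iff]
  intro L _ i
  have hz : IsZero ((Φ (curriedTensor (ModuleCat.{u} R)) L).obj K) := Functor.map_isZero _ h
  exact HomologicalComplex.ExactAt.of_isZero
    ((HomologicalComplex.eval _ _ i).map_isZero hz)

theorem isKFlatR_shift (K : DRing.Cx R) (n : ℤ) (h : IsKFlatR K) : IsKFlatR (K⟦n⟧) := by
  rw [isKFlatR_iff] at h ⊢
  intro L hL
  exact acyclic_of_iso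
    (CochainComplex.mapBifunctorShift₂Iso L K (curriedTensor (ModuleCat.{u} R)) n).symm
    (acyclic_shift _ n (h L hL))

theorem isKFlatR_mappingCone {K K' : DRing.Cx R} (f : K ⟶ K') (h : IsKFlatR K)
    (h' : IsKFlatR K') : IsKFlatR (CochainComplex.mappingCone f) :=
  (isKFlatR_cone_two_of_three f).1 h h'

theorem exists_res (E : DRing.Cx R) :
    ∃ (E' : DRing.Cx R) (f : E' ⟶ E), IsKFlatR E' ∧ QuasiIso f := by
  obtain ⟨K, f, h1, -, h3, -⟩ := Groth.Agent.Lib.helper13.KRes.exists_isKFlatR_resolution E
  exact ⟨K, f, h1, h3⟩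

/-- `M ⊗ -` (termwise) sends quasi-isomorphisms between K-flat complexes to quasi-isomorphisms -/
theorem quasiIso_tensorLeft_map (M : ModuleCat.{u} R) {P Q : DRing.Cx R} (hP : IsKFlatR P)
    (hQ : IsKFlatR Q) (f : P ⟶ Q) [QuasiIso f] :
    QuasiIso ((((curriedTensor (ModuleCat.{u} R)).obj M).mapHomologicalComplex
      (ComplexShape.up ℤ)).map f) := by
  let S : DRing.Cx R := (HomologicalComplex.single (ModuleCat.{u} R) (ComplexShape.up ℤ) 0).obj M
  have hS : ∀ p : ℤ, p ≠ 0 → IsZero (S.X p) := fun p hp =>
    HomologicalComplex.isZero_single_obj_X _ _ _ _ hp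
  have h1 : QuasiIso (S ◁ f) := quasiIso_whiskerLeft_of_isKFlatR hP hQ f S
  have h2 : QuasiIso ((((curriedTensor (ModuleCat.{u} R)).obj (S.X 0)).mapHomologicalComplex
      (ComplexShape.up ℤ)).map f) :=
    (quasiIso_map_iff (curriedTensor (ModuleCat.{u} R)) S hS f).2 h1
  let e : (curriedTensor (ModuleCat.{u} R)).obj (S.X 0) ≅ (curriedTensor (ModuleCat.{u} R)).obj M :=
    (curriedTensor (ModuleCat.{u} R)).mapIso
      (HomologicalComplex.singleObjXSelf (ComplexShape.up ℤ) 0 M)
  exact (quasiIso_map_iff_of_natIso e f).1 h2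

end Ring

section BaseChange

variable {R A : Type u} [CommRing R] [CommRing A] (φ : R →+* A)

/-- `A` as an `R`-module -/
noncomputable abbrev AR : ModuleCat.{u} R := (ModuleCat.restrictScalars.{u} φ).obj (ModuleCat.of A A)

/-- the identity, from the tensor product to extension-then-restriction of scalars -/
def ofT (M : ModuleCat.{u} R) (x : TensorProduct R (AR φ) M) :
    ((ModuleCat.restrictScalars.{u} φ).obj ((ModuleCat.extendScalars.{u, u, u} φ).obj M)) := x

/-- the identity, in the other direction -/
def toT (M : ModuleCat.{u} R)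
    (x : ((ModuleCat.restrictScalars.{u} φ).obj ((ModuleCat.extendScalars.{u, u, u} φ).obj M))) :
    TensorProduct R (AR φ) M := x

lemma ofT_add (M : ModuleCat.{u} R) (x y : TensorProduct R (AR φ) M) :
    ofT φ M (x + y) = ofT φ M x + ofT φ M y := rfl

lemma toT_add (M : ModuleCat.{u} R)
    (x y : ((ModuleCat.restrictScalars.{u} φ).obj ((ModuleCat.extendScalars.{u, u, u} φ).obj M))) :
    toT φ M (x + y) = toT φ M x + toT φ M y := rfl

lemma smul_eq (M : ModuleCat.{u} R) (r : R) (x : TensorProduct R (AR φ) M) :
    toT φ M (r • ofT φ M x) = r • x := by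
  induction x using TensorProduct.induction_on with
  | zero =>
    have h : ofT φ M 0 = 0 := rfl
    rw [h, smul_zero, smul_zero]
    rfl
  | tmul a m => rfl
  | add x y hx hy =>
    rw [ofT_add, smul_add, toT_add, hx, hy, smul_add]

/-- the identity as a linear equivalence -/
noncomputable def extResLE (M : ModuleCat.{u} R) :
    ((ModuleCat.restrictScalars.{u} φ).obj ((ModuleCat.extendScalars.{u, u, u} φ).obj M)) ≃ₗ[R]
      TensorProduct R (AR φ) M where
  toFun := toT φ M
  invFun := ofT φ M
  map_add' := fun _ _ => rfl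
  map_smul' := fun r x => smul_eq φ M r x
  left_inv := fun _ => rfl
  right_inv := fun _ => rfl

/-- extension followed by restriction of scalars is `A ⊗_R -` -/
noncomputable def extResIso :
    ModuleCat.extendScalars.{u, u, u} φ ⋙ ModuleCat.restrictScalars.{u} φ ≅
      (curriedTensor (ModuleCat.{u} R)).obj (AR φ) :=
  NatIso.ofComponents
    (fun M => (extResLE φ M).toModuleIso)
    (by
      intro M N f
      ext x
      rfl)

/-- termwise extension of scalars sends quasi-isomorphisms between K-flat complexes to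
quasi-isomorphisms -/
theorem quasiIso_extendScalars_map {P Q : DRing.Cx R} (hP : IsKFlatR P) (hQ : IsKFlatR Q)
    (f : P ⟶ Q) [QuasiIso f] :
    QuasiIso (((ModuleCat.extendScalars.{u, u, u} φ).mapHomologicalComplex
      (ComplexShape.up ℤ)).map f) := by
  have h1 := quasiIso_tensorLeft_map (AR φ) hP hQ f
  have h2 : QuasiIso (((ModuleCat.extendScalars.{u, u, u} φ ⋙
      ModuleCat.restrictScalars.{u} φ).mapHomologicalComplex (ComplexShape.up ℤ)).map f) :=
    (quasiIso_map_iff_of_natIso (extResIso φ) f).2 h1
  have h3 : QuasiIso (((ModuleCat.restrictScalars.{u} φ).mapHomologicalComplex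
      (ComplexShape.up ℤ)).map (((ModuleCat.extendScalars.{u, u, u} φ).mapHomologicalComplex
      (ComplexShape.up ℤ)).map f)) := h2
  exact (HomologicalComplex.quasiIso_map_iff_of_preservesHomology _
    (ModuleCat.restrictScalars.{u} φ)).1 h3

end BaseChange

end Groth.Agent.Lib.helper13.RKF
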