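import Mathlib
import Groth.Prelude.Def_DTen4
import Groth.Agent.Lib.Helper13.DerAdjL
import Groth.Agent.Lib.Helper13.RKF1

/-!
# Derived base change over rings, computed on K-flat complexes (helper13)

* `hasLBaseChange φ : DRing.HasLBaseChange φ` (existence, from K-flat resolutions).
* `isIso_counit φ K hK`: the counit of `DRing.LBaseChange φ` is invertible at K-flat complexes.
* `exists_adjunction φ`: `DRing.LBaseChange φ ⊣ DRing.restrictD φ` with its unit formula.
* `hasLBase φ : DTen.HasLBase φ`; `isIso_baseCmp φ K hK`: `DTen.baseCmp φ` is invertible at K-flat `K`.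
-/

set_option autoImplicit false
universe u
open CategoryTheory Limits HomologicalComplex

attribute [local instance] HasDerivedCategory.standard

namespace Groth.Agent.Lib.helper13.RKF

open Groth.Agent.Lib.helper13.KFlat Groth.Agent.Lib.helper13.DerAdjL
  Groth.Agent.Lib.Helper25.LDerAdapted

variable {R A : Type u} [CommRing R] [CommRing A] (φ : R →+* A)

lemma hzeroR : ∃ Z : DRing.Cx R, IsZero Z ∧ IsKFlatR Z :=
  ⟨(HomologicalComplex.zero : DRing.Cx R), HomologicalComplex.isZero_zero,
    isKFlatR_of_isZero _ HomologicalComplex.isZero_zero⟩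

lemma isIso_baseChangeKh_map {E E' : DRing.Cx R} (f : E ⟶ E') (hE : IsKFlatR E)
    (hE' : IsKFlatR E') (hf : QuasiIso f) :
    IsIso ((DRing.baseChangeKh φ).map ((HomotopyCategory.quotient _ _).map f)) :=
  isIso_map_of_adapted (G₀ := ModuleCat.extendScalars.{u, u, u} φ)
    (fun K : DRing.Cx R => IsKFlatR K)
    (fun f hE hE' hf => quasiIso_extendScalars_map φ hE hE' f) f hE hE' hf

theorem hasLBaseChange : DRing.HasLBaseChange φ :=
  hasLeftDerivedFunctor_Qh (fun K : DRing.Cx R => IsKFlatR K) hzeroR isKFlatR_shift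
    (fun f h h' => isKFlatR_mappingCone f h h') exists_res (DRing.baseChangeKh φ)
    (fun f hE hE' hf => isIso_baseChangeKh_map φ f hE hE' hf)

/-- the counit of derived base change is invertible at K-flat complexes -/
theorem isIso_counit [DRing.HasLBaseChange φ] (K : DRing.Cx R) (hK : IsKFlatR K) :
    IsIso (((DRing.baseChangeKh φ).totalLeftDerivedCounit DerivedCategory.Qh
      (HomotopyCategory.quasiIso (ModuleCat.{u} R) (ComplexShape.up ℤ))).app
        ((HomotopyCategory.quotient _ _).obj K)) :=
  isIso_counit_app_quotient_obj (fun K : DRing.Cx R => IsKFlatR K) hzeroR isKFlatR_shift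
    (fun f h h' => isKFlatR_mappingCone f h h') exists_res (DRing.baseChangeKh φ)
    (fun f hE hE' hf => isIso_baseChangeKh_map φ f hE hE' hf) _ _ K hK

theorem exists_adjunction [DRing.HasLBaseChange φ] :
    ∃ adj : DRing.LBaseChange φ ⊣ DRing.restrictD φ,
      ∀ X : HomotopyCategory (ModuleCat.{u} R) (ComplexShape.up ℤ),
      adj.unit.app (DerivedCategory.Qh.obj X) ≫ (DRing.restrictD φ).map
        (((DRing.baseChangeKh φ).totalLeftDerivedCounit DerivedCategory.Qh
          (HomotopyCategory.quasiIso (ModuleCat.{u} R) (ComplexShape.up ℤ))).app X) =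
        DerivedCategory.Qh.map
          ((Groth.Agent.Lib.Helper25.DerAdjK.adjK (ModuleCat.extendRestrictScalarsAdj.{u, u, u} φ)
            (ComplexShape.up ℤ)).unit.app X) ≫
          (ModuleCat.restrictScalars.{u} φ).mapDerivedCategoryFactorsh.inv.app
            (((ModuleCat.extendScalars.{u, u, u} φ).mapHomotopyCategory (ComplexShape.up ℤ)).obj X) :=
  nonempty_adjunction_of_adapted
    (ModuleCat.extendRestrictScalarsAdj.{u, u, u} φ)
    (fun K : DRing.Cx R => IsKFlatR K) hzeroR isKFlatR_shift
    (fun f h h' => isKFlatR_mappingCone f h h') exists_res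
    (fun f hE hE' hf => quasiIso_extendScalars_map φ hE hE' f)
    (DRing.LBaseChange φ)
    ((DRing.baseChangeKh φ).totalLeftDerivedCounit DerivedCategory.Qh
      (HomotopyCategory.quasiIso (ModuleCat.{u} R) (ComplexShape.up ℤ)))

theorem hasLBase : DTen.HasLBase φ := by
  haveI := hasLBaseChange φ
  obtain ⟨adj, -⟩ := exists_adjunction φ
  exact ⟨adj.isRightAdjoint⟩

section BaseCmp

open DTen

/-- `DTen.baseCmp φ` is invertible at K-flat complexes. -/
theorem isIso_baseCmp [DTen.HasLBase φ] (K : DRing.Cx R) (hK : IsKFlatR K) :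
    IsIso ((DTen.baseCmp φ).app K) := by
  haveI := hasLBaseChange φ
  obtain ⟨adj, hadj⟩ := exists_adjunction φ
  let α := (DRing.baseChangeKh φ).totalLeftDerivedCounit DerivedCategory.Qh
      (HomotopyCategory.quasiIso (ModuleCat.{u} R) (ComplexShape.up ℤ))
  haveI hα : IsIso (α.app ((HomotopyCategory.quotient _ _).obj K)) := isIso_counit φ K hK
  let θ := (DTen.baseAdj φ).leftAdjointUniq adj
  let ιR := DerivedCategory.quotientCompQhIso (ModuleCat.{u} R)
  let ιA := DerivedCategory.quotientCompQhIso (ModuleCat.{u} A)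
  let g' : (DTen.LBase φ).obj (DerivedCategory.Q.obj K) ⟶
      DerivedCategory.Q.obj ((DTen.extCx φ).obj K) :=
    θ.hom.app (DerivedCategory.Q.obj K) ≫ (DRing.LBaseChange φ).map (ιR.inv.app K) ≫
      α.app ((HomotopyCategory.quotient _ _).obj K) ≫ ιA.hom.app ((DTen.extCx φ).obj K)
  have hg' : IsIso g' := by
    haveI i1 : IsIso (θ.hom.app (DerivedCategory.Q.obj K)) := inferInstance
    haveI i2 : IsIso ((DRing.LBaseChange φ).map (ιR.inv.app K)) := inferInstance
    haveI i3 : IsIso (ιA.hom.app ((DTen.extCx φ).obj K)) := inferInstance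
    exact IsIso.comp_isIso' i1 (IsIso.comp_isIso' i2 (IsIso.comp_isIso' hα i3))
  suffices h : (DTen.baseCmp φ).app K = g' by rw [h]; exact hg'
  apply ((DTen.baseAdj φ).homEquiv _ _).injective
  rw [Adjunction.homEquiv_unit, Adjunction.homEquiv_unit, DTen.baseCmp_fac]
  dsimp only [g']
  simp only [Functor.map_comp]
  have h1 := Adjunction.unit_leftAdjointUniq_hom_app (DTen.baseAdj φ) adj (DerivedCategory.Q.obj K)
  rw [reassoc_of% h1]
  have h2 := adj.unit.naturality (ιR.inv.app K)
  simp only [Functor.id_obj, Functor.id_map, Functor.comp_obj, Functor.comp_map] at h2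
  rw [← reassoc_of% h2]
  have h3 := hadj ((HomotopyCategory.quotient _ _).obj K)
  rw [reassoc_of% h3]
  have h4 : (ModuleCat.restrictScalars.{u} φ).mapDerivedCategoryFactorsh.inv.app
      ((HomotopyCategory.quotient _ _).obj ((DTen.extCx φ).obj K)) ≫
        (DRing.restrictD φ).map (ιA.hom.app ((DTen.extCx φ).obj K)) =
      ιR.hom.app ((DTen.resCx φ).obj ((DTen.extCx φ).obj K)) ≫
        (DTen.resFactors φ).inv.app ((DTen.extCx φ).obj K) := by
    rw [← Iso.app_inv, Iso.inv_comp_eq, Iso.app_hom,
      Functor.mapDerivedCategoryFactorsh_hom_app]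
    simp only [Functor.mapHomotopyCategoryFactors, Quotient.lift.isLift_inv,
      Category.assoc]
    have key : (DTen.resFactors φ).hom.app ((DTen.extCx φ).obj K) ≫
        ιR.inv.app ((DTen.resCx φ).obj ((DTen.extCx φ).obj K)) ≫
        DerivedCategory.Qh.map (𝟙 ((HomotopyCategory.quotient _ _).obj
          ((DTen.resCx φ).obj ((DTen.extCx φ).obj K)))) ≫
        ιR.hom.app ((DTen.resCx φ).obj ((DTen.extCx φ).obj K)) ≫
        (DTen.resFactors φ).inv.app ((DTen.extCx φ).obj K) = 𝟙 _ := by
      simp
    erw [key]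
    exact (Category.comp_id _).symm
  have h6 : (Groth.Agent.Lib.Helper25.DerAdjK.adjK (ModuleCat.extendRestrictScalarsAdj.{u, u, u} φ)
      (ComplexShape.up ℤ)).unit.app ((HomotopyCategory.quotient _ _).obj K) =
      (HomotopyCategory.quotient _ _).map ((DTen.unitCx φ).app K) := rfl
  erw [h4]
  rw [h6]
  erw [DerivedCategory.quotientCompQhIso_hom_naturality_assoc]
  erw [Iso.inv_hom_id_app_assoc]
  rfl

end BaseCmp

end Groth.Agent.Lib.helper13.RKF
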