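import Mathlib
import Groth.Prelude.Def_TotMap
import Groth.Prelude.Def_KFlatSite
import Groth.Prelude.Def_DTen5
import Groth.Agent.Lib.Helper13.KFlat3

/-!
# Termwise extension of scalars of a K-flat complex is K-flat (helper13)

* `cbcIso φ X Y : (X ⊗_{R'} (R' ⊗_R Y))|_R ≅ X|_R ⊗_R Y`, natural in both variables.
* `resTenExtIso φ L K : resCx (L ⊗ extCx K) ≅ resCx L ⊗ K` (complexes).
* `isKFlatR_extCx φ K hK : IsKFlatR (extCx K)`.
-/

set_option autoImplicit false
universe u
open CategoryTheory CategoryTheory.Limits MonoidalCategory TensorProduct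

namespace Groth.Agent.Lib.helper13.ExtKFlat

variable {R R' : Type u} [CommRing R] [CommRing R'] (φ : R →+* R')

noncomputable def cbcLE (X : ModuleCat.{u} R') (Y : ModuleCat.{u} R) :
    ((ModuleCat.restrictScalars.{u} φ).obj (X ⊗ (ModuleCat.extendScalars.{u,u,u} φ).obj Y)) ≃ₗ[R]
      (((ModuleCat.restrictScalars.{u} φ).obj X) ⊗ Y : ModuleCat.{u} R) := by
  letI := φ.toAlgebra
  letI : Module R X := Module.compHom X φ
  haveI : IsScalarTower R R' X := IsScalarTower.of_algebraMap_smul (fun r x => rfl)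
  exact ((TensorProduct.AlgebraTensorModule.cancelBaseChange R R' R' X Y).restrictScalars R)

/-- pure tensors `x ⊗ (a ⊗ y)` in `X ⊗_{R'} (R' ⊗_R Y)` -/
noncomputable def tm (X : ModuleCat.{u} R') (Y : ModuleCat.{u} R) (x : X) (a : R') (y : Y) :
    ((ModuleCat.restrictScalars.{u} φ).obj (X ⊗ (ModuleCat.extendScalars.{u,u,u} φ).obj Y)) :=
  (x ⊗ₜ[R'] ((a ⊗ₜ[R] y : (ModuleCat.extendScalars.{u,u,u} φ).obj Y)) :
    (X ⊗ (ModuleCat.extendScalars.{u,u,u} φ).obj Y : ModuleCat.{u} R'))

/-- pure tensors in `X|_R ⊗_R Y` -/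
noncomputable def tm' (X : ModuleCat.{u} R') (Y : ModuleCat.{u} R) (x : X) (y : Y) :
    (((ModuleCat.restrictScalars.{u} φ).obj X) ⊗ Y : ModuleCat.{u} R) :=
  ((x : (ModuleCat.restrictScalars.{u} φ).obj X) ⊗ₜ[R] y)

lemma cbcLE_tm (X : ModuleCat.{u} R') (Y : ModuleCat.{u} R) (x : X) (a : R') (y : Y) :
    cbcLE φ X Y (tm φ X Y x a y) = tm' φ X Y (a • x) y := rfl

lemma ext_tm {X : ModuleCat.{u} R'} {Y : ModuleCat.{u} R} {M : Type*} [AddCommMonoid M]
    (g h : ((ModuleCat.restrictScalars.{u} φ).obj (X ⊗ (ModuleCat.extendScalars.{u,u,u} φ).obj Y)) →+ M)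
    (H : ∀ x a y, g (tm φ X Y x a y) = h (tm φ X Y x a y)) : g = h := by
  apply AddMonoidHom.ext
  intro t
  change (X ⊗ (ModuleCat.extendScalars.{u,u,u} φ).obj Y : ModuleCat.{u} R') at t
  induction t using TensorProduct.induction_on with
  | zero => exact (map_zero g).trans (map_zero h).symm
  | tmul x z =>
    let T := (X ⊗ (ModuleCat.extendScalars.{u,u,u} φ).obj Y : ModuleCat.{u} R')
    let E := (ModuleCat.extendScalars.{u,u,u} φ).obj Y
    let toE : TensorProduct R ((ModuleCat.restrictScalars.{u} φ).obj (ModuleCat.of R' R')) Y → E :=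
      fun z => z
    have key : ∀ z : E, g ((x ⊗ₜ[R'] z : T)) = h ((x ⊗ₜ[R'] z : T)) := by
      intro z
      refine TensorProduct.induction_on (motive := fun z => g ((x ⊗ₜ[R'] (toE z) : T)) =
        h ((x ⊗ₜ[R'] (toE z) : T))) z ?_ ?_ ?_
      · have e : (x ⊗ₜ[R'] (0 : E) : T) = 0 := TensorProduct.tmul_zero _ _
        exact ((congrArg g e).trans (map_zero g)).trans ((congrArg h e).trans (map_zero h)).symm
      · intro a y
        exact H x a y
      · intro z z' hz hz'
        have e : (x ⊗ₜ[R'] (toE z + toE z') : T) = x ⊗ₜ[R'] (toE z) + x ⊗ₜ[R'] (toE z') :=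
          TensorProduct.tmul_add _ _ _
        exact ((congrArg g e).trans (map_add g _ _)).trans
          ((congrArg₂ (· + ·) hz hz').trans ((congrArg h e).trans (map_add h _ _)).symm)
    exact key z
  | add x y hx hy => exact (map_add g x y).trans ((congrArg₂ (· + ·) hx hy).trans (map_add h x y).symm)

noncomputable def cbcIso (X : ModuleCat.{u} R') (Y : ModuleCat.{u} R) :
    ((ModuleCat.restrictScalars.{u} φ).obj (X ⊗ (ModuleCat.extendScalars.{u,u,u} φ).obj Y)) ≅
      (((ModuleCat.restrictScalars.{u} φ).obj X) ⊗ Y : ModuleCat.{u} R) :=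
  (cbcLE φ X Y).toModuleIso

lemma hom_ext_tm {X : ModuleCat.{u} R'} {Y : ModuleCat.{u} R} {M : ModuleCat.{u} R}
    (g h : ((ModuleCat.restrictScalars.{u} φ).obj (X ⊗ (ModuleCat.extendScalars.{u,u,u} φ).obj Y)) ⟶ M)
    (H : ∀ x a y, g.hom (tm φ X Y x a y) = h.hom (tm φ X Y x a y)) : g = h := by
  apply ModuleCat.hom_ext
  apply LinearMap.toAddMonoidHom_injective
  exact ext_tm φ _ _ H

lemma cbcIso_naturality_left {X X' : ModuleCat.{u} R'} (f : X ⟶ X') (Y : ModuleCat.{u} R) :
    (ModuleCat.restrictScalars.{u} φ).map (f ▷ (ModuleCat.extendScalars.{u,u,u} φ).obj Y) ≫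
      (cbcIso φ X' Y).hom =
    (cbcIso φ X Y).hom ≫ ((ModuleCat.restrictScalars.{u} φ).map f ▷ Y) := by
  apply hom_ext_tm
  intro x a y
  change cbcLE φ X' Y (tm φ X' Y (f.hom x) a y) =
    ((ModuleCat.restrictScalars.{u} φ).map f ▷ Y).hom (tm' φ X Y (a • x) y)
  rw [cbcLE_tm]
  change tm' φ X' Y (a • f.hom x) y = tm' φ X' Y (f.hom (a • x)) y
  rw [map_smul]

lemma cbcIso_naturality_right (X : ModuleCat.{u} R') {Y Y' : ModuleCat.{u} R} (g : Y ⟶ Y') :
    (ModuleCat.restrictScalars.{u} φ).map (X ◁ (ModuleCat.extendScalars.{u,u,u} φ).map g) ≫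
      (cbcIso φ X Y').hom =
    (cbcIso φ X Y).hom ≫ (((ModuleCat.restrictScalars.{u} φ).obj X) ◁ g) := by
  apply hom_ext_tm
  intro x a y
  change cbcLE φ X Y' (tm φ X Y' x a (g.hom y)) =
    (((ModuleCat.restrictScalars.{u} φ).obj X) ◁ g).hom (tm' φ X Y (a • x) y)
  rw [cbcLE_tm]
  rfl

section Complex

open HomologicalComplex

variable (L : DRing.Cx R') (K : DRing.Cx R)

/-- the termwise extension of scalars of a complex -/
noncomputable abbrev extCx : DRing.Cx R ⥤ DRing.Cx R' :=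
  (ModuleCat.extendScalars.{u, u, u} φ).mapHomologicalComplex (ComplexShape.up ℤ)

/-- the termwise restriction of scalars of a complex -/
noncomputable abbrev resCx : DRing.Cx R' ⥤ DRing.Cx R :=
  (ModuleCat.restrictScalars.{u} φ).mapHomologicalComplex (ComplexShape.up ℤ)

/-- The isomorphism of bicomplexes `res (L^p ⊗_{R'} ext K^q) ≅ res L^p ⊗_R K^q`. -/
noncomputable def bicxIso :
    (TotMap.map₂ (ModuleCat.restrictScalars.{u} φ) (ComplexShape.up ℤ) (ComplexShape.up ℤ)).obj
      (DTen.tenBicx L ((extCx φ).obj K)) ≅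
    DTen.tenBicx ((resCx φ).obj L) K :=
  HomologicalComplex.Hom.isoOfComponents
    (fun p => HomologicalComplex.Hom.isoOfComponents (fun q => cbcIso φ (L.X p) (K.X q))
      (fun q q' _ => (cbcIso_naturality_right φ (L.X p) (K.d q q')).symm))
    (fun p p' _ => HomologicalComplex.hom_ext _ _ (fun q =>
      (cbcIso_naturality_left φ (L.d p p') (K.X q)).symm))

/-- `(L ⊗_{R'} (K ⊗_R R'))|_R ≅ L|_R ⊗_R K` for complexes. -/
noncomputable def resTenExtIso :
    (resCx φ).obj (L ⊗ (extCx φ).obj K) ≅ (resCx φ).obj L ⊗ K :=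
  TotMap.mapTotalIso (ModuleCat.restrictScalars.{u} φ) (DTen.tenBicx L ((extCx φ).obj K))
      (ComplexShape.up ℤ) ≪≫
    HomologicalComplex₂.total.mapIso (bicxIso φ L K) (ComplexShape.up ℤ)

lemma isZero_homology_map_iff {C D : Type*} [Category C] [Category D] [Abelian C] [Abelian D]
    (F : C ⥤ D) [F.Additive] [F.PreservesHomology] [F.Faithful]
    (M : CochainComplex C ℤ) (i : ℤ) :
    IsZero (((F.mapHomologicalComplex (ComplexShape.up ℤ)).obj M).homology i) ↔
      IsZero (M.homology i) := by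
  rw [← HomologicalComplex.exactAt_iff_isZero_homology,
    ← HomologicalComplex.exactAt_iff_isZero_homology]
  exact ShortComplex.exact_map_iff_of_faithful (M.sc i) F

open Groth.Agent.Lib.helper13.KFlat in
/-- Termwise extension of scalars of a K-flat complex is K-flat. -/
theorem isKFlatR_extCx (hK : IsKFlatR K) : IsKFlatR ((extCx φ).obj K) := by
  intro L hL i
  have h1 : ∀ i, IsZero (((resCx φ).obj L).homology i) := fun i =>
    (isZero_homology_map_iff (ModuleCat.restrictScalars.{u} φ) L i).2 (hL i)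
  have h2 := hK ((resCx φ).obj L) h1 i
  have h3 : IsZero (((resCx φ).obj (L ⊗ (extCx φ).obj K)).homology i) :=
    h2.of_iso ((HomologicalComplex.homologyFunctor _ _ i).mapIso (resTenExtIso φ L K))
  exact (isZero_homology_map_iff (ModuleCat.restrictScalars.{u} φ) _ i).1 h3

end Complex

end Groth.Agent.Lib.helper13.ExtKFlat
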