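import Mathlib
import Groth.Agent.Lib.Helper25.PullKFlat

set_option autoImplicit false
universe u
open CategoryTheory CategoryTheory.Limits AlgebraicGeometry Opposite TopologicalSpace MonoidalCategory

/-!
# The stalk of `M^~` and K-flatness of `K^~` (helper13)

* `φ R x : R →+* O_{Spec R, x}`.
* `skyΓIso R x : sky x ⋙ moduleSpecΓFunctor ≅ restrictScalars (φ R x)` (global sections of a skyscraper).
* `tildeStalkAdj`, `tildeStalkIso R x : tilde.functor R ⋙ stalkFunctor (Spec R) x ≅ extendScalars (φ R x)`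
  (uniqueness of left adjoints, using helper25's `stalkSkyAdj`).
* `stalkCxTildeIso`, `isKFlat_tilde` (= S1121).
-/

namespace Groth.Agent.Lib.helper13.TildeStalk
open Groth.Agent.Lib.Helper25.StalkSky Groth.Agent.Lib.Helper25.StalkKFlat
  Groth.Agent.Lib.Helper25.StalkTensorCx Groth.Agent.Lib.Helper25.PullKFlat

variable (R : CommRingCat.{u}) (x : Spec R)

/-- `R → O_{Spec R, x}` -/
noncomputable def φ : R →+* (Spec R).presheaf.stalk x :=
  ((Scheme.ΓSpecIso R).inv ≫ (Spec R).presheaf.germ ⊤ x trivial).hom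

variable (N : ModuleCat.{u} ((Spec R).presheaf.stalk x))

lemma smul_def (r : R) (s : ↑(moduleSpecΓFunctor.obj ((sky x).obj N))) :
    (r • s : ↑(moduleSpecΓFunctor.obj ((sky x).obj N))) =
      (show Γ((sky x).obj N, ⊤) from
        (((Spec R).presheaf.map (⊤ : (Spec R).Opens).leTop.op ((Scheme.ΓSpecIso R).inv r)) •
          (show Γ((sky x).obj N, ⊤) from s))) := rfl

lemma smul_apply (r : R) (s : ↑(moduleSpecΓFunctor.obj ((sky x).obj N))) (h : PLift (x ∈ (⊤ : (Spec R).Opens))) :
    ((show Γ((sky x).obj N, ⊤) from (r • s)) : PLift (x ∈ (⊤ : (Spec R).Opens)) → N) h =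
      φ R x r • ((show Γ((sky x).obj N, ⊤) from s) : PLift (x ∈ (⊤ : (Spec R).Opens)) → N) h := by
  rw [smul_def]
  have e1 : (Spec R).presheaf.map (⊤ : (Spec R).Opens).leTop.op = 𝟙 _ :=
    (Spec R).presheaf.map_id _
  rw [e1]
  rfl

/-- `Γ(Spec R, sky_x N) ≃ N` as `R`-modules -/
noncomputable def skyΓEquiv :
    ↑(moduleSpecΓFunctor.obj ((sky x).obj N)) ≃ₗ[R] ↑((ModuleCat.restrictScalars (φ R x)).obj N) where
  toFun s := ((show Γ((sky x).obj N, ⊤) from s) : PLift (x ∈ (⊤ : (Spec R).Opens)) → N) ⟨trivial⟩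
  map_add' _ _ := rfl
  map_smul' r s := smul_apply R x N r s ⟨trivial⟩
  invFun n := (show Γ((sky x).obj N, ⊤) from (fun _ => n : PLift (x ∈ (⊤ : (Spec R).Opens)) → N))
  left_inv s := by
    funext h
    rfl
  right_inv n := rfl

noncomputable def skyΓIso :
    sky x ⋙ moduleSpecΓFunctor ≅ ModuleCat.restrictScalars (φ R x) :=
  NatIso.ofComponents (fun N => (skyΓEquiv R x N).toModuleIso) (by
    intro N N' g
    ext s
    rfl)

/-- the adjunction `tilde ⋙ stalk_x ⊣ restrictScalars` -/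
noncomputable def tildeStalkAdj :
    tilde.functor R ⋙ DerSch.stalkFunctor (Spec R) x ⊣ ModuleCat.restrictScalars (φ R x) :=
  ((tilde.adjunction (R := R)).comp (stalkSkyAdj x)).ofNatIsoRight (skyΓIso R x)

/-- the stalk of `M^~` at `x` is the extension of scalars of `M` to `O_{Spec R, x}`, naturally in `M` -/
noncomputable def tildeStalkIso :
    tilde.functor R ⋙ DerSch.stalkFunctor (Spec R) x ≅ ModuleCat.extendScalars.{u, u, u} (φ R x) :=
  (tildeStalkAdj R x).leftAdjointUniq (ModuleCat.extendRestrictScalarsAdj.{u, u, u} (φ R x))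

/-- the complex of stalks of `K^~` -/
noncomputable def stalkCxTildeIso (K : DRing.Cx R) :
    (stalkCx x).obj (((tilde.functor R).mapHomologicalComplex (ComplexShape.up ℤ)).obj K) ≅
      (Groth.Agent.Lib.helper13.ExtKFlat.extCx (φ R x)).obj K :=
  (NatIso.mapHomologicalComplex (tildeStalkIso R x) (ComplexShape.up ℤ)).app K

theorem isKFlat_tilde (K : DRing.Cx R) (hK : DRing.IsKFlat R K) :
    DCoh.IsKFlat (((tilde.functor R).mapHomologicalComplex (ComplexShape.up ℤ)).obj K) := by
  apply isKFlat_of_forall_stalk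
  intro x
  have h2 := Groth.Agent.Lib.helper13.ExtKFlat.isKFlatR_extCx (φ R x) _ hK
  exact isKFlat_of_iso (stalkCxTildeIso R x K).symm h2

end Groth.Agent.Lib.helper13.TildeStalk
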