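import Mathlib

/-!
# K-flat complexes, part 15 (helper13): cycles of universally acyclic complexes of flat objects

Abstract form of Stacks 0E8F-type statements: let `T : A ⥤ A ⥤ A` be a bifunctor, right exact in
each variable, and `K` an acyclic complex such that `T(M, K)` is acyclic for every object `M` and
`T(-, K^i)` preserves monomorphisms for every `i`.  Then `T(-, Z^n K)` preserves monomorphisms.
-/

set_option autoImplicit false
open CategoryTheory Limits HomologicalComplex

namespace Groth.Agent.Lib.helper13.KFlat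

variable {A : Type*} [Category A] [Abelian A]

section cycles

variable (K : CochainComplex A ℤ)

lemma iCycles_toCycles (n : ℤ) : K.iCycles n ≫ K.toCycles n (n + 1) = 0 := by
  rw [← cancel_mono (K.iCycles (n + 1)), Category.assoc, toCycles_i, iCycles_d, zero_comp]

/-- the short complex `Z^n ⟶ K^n ⟶ Z^{n+1}` -/
@[simps]
noncomputable def cyclesSC (n : ℤ) : ShortComplex A :=
  ShortComplex.mk (K.iCycles n) (K.toCycles n (n + 1)) (iCycles_toCycles K n)

lemma cyclesSC_exact (n : ℤ) : (cyclesSC K n).Exact := by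
  rw [ShortComplex.exact_iff_exact_up_to_refinements]
  intro B (y : B ⟶ K.X n) hy
  have hy' : y ≫ K.d n (n + 1) = 0 := by
    have : y ≫ K.toCycles n (n + 1) = 0 := hy
    rw [← toCycles_i K n (n + 1), ← Category.assoc, this, zero_comp]
  exact ⟨B, 𝟙 B, inferInstance, K.liftCycles y (n + 1) (by simp) hy', by
    rw [Category.id_comp]
    exact (K.liftCycles_i y (n + 1) (by simp) hy').symm⟩

variable {K} in
lemma epi_toCycles_of_acyclic (hac : K.Acyclic) (n : ℤ) : Epi (K.toCycles n (n + 1)) := by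
  rw [epi_iff_surjective_up_to_refinements]
  intro B z
  have hex := hac (n + 1)
  rw [exactAt_iff' K n (n + 1) (n + 1 + 1) (by simp) (by simp),
    ShortComplex.exact_iff_exact_up_to_refinements] at hex
  obtain ⟨B', π, hπ, y, hy⟩ := hex (z ≫ K.iCycles (n + 1)) (by
    change (z ≫ K.iCycles (n + 1)) ≫ K.d (n + 1) (n + 1 + 1) = 0
    rw [Category.assoc, iCycles_d, comp_zero])
  refine ⟨B', π, hπ, y, ?_⟩
  rw [← cancel_mono (K.iCycles (n + 1)), Category.assoc, Category.assoc, toCycles_i]
  exact hy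

variable {K} in
lemma epi_toCycles_of_acyclic' (hac : K.Acyclic) (m n : ℤ) (h : m + 1 = n) :
    Epi (K.toCycles m n) := by
  subst h
  exact epi_toCycles_of_acyclic hac m

variable {K} in
lemma cyclesSC_shortExact (hac : K.Acyclic) (n : ℤ) : (cyclesSC K n).ShortExact where
  exact := cyclesSC_exact K n
  mono_f := inferInstanceAs (Mono (K.iCycles n))
  epi_g := epi_toCycles_of_acyclic hac n

end cycles

section main

variable (T : A ⥤ A ⥤ A) [T.Additive] [∀ X, (T.obj X).Additive]
  [∀ M, PreservesFiniteColimits (T.obj M)] [∀ X, PreservesFiniteColimits (T.flip.obj X)]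
  (K : CochainComplex A ℤ) (hac : K.Acyclic)
  (h1 : ∀ M, (((T.obj M).mapHomologicalComplex (ComplexShape.up ℤ)).obj K).Acyclic)
  (h2 : ∀ i, (T.flip.obj (K.X i)).PreservesMonomorphisms)

include hac h1 in
/-- Claim A: `T(M, Z^{n+1}) ⟶ T(M, K^{n+1})` is a monomorphism -/
theorem mono_map_iCycles' (M : A) (m n : ℤ) (h : m + 1 = n) :
    Mono ((T.obj M).map (K.iCycles n)) := by
  apply Preadditive.mono_of_cancel_zero
  intro B x hx
  haveI := epi_toCycles_of_acyclic' hac m n h
  haveI : Epi ((T.obj M).map (K.toCycles m n)) := inferInstance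
  obtain ⟨B₁, π₁, hπ₁, y, hy⟩ := surjective_up_to_refinements_of_epi
    ((T.obj M).map (K.toCycles m n)) x
  have hyd : y ≫ (T.obj M).map (K.d m n) = 0 := by
    rw [← toCycles_i K m n, Functor.map_comp, ← Category.assoc, ← hy, Category.assoc, hx,
      comp_zero]
  have hex := h1 M m
  rw [exactAt_iff' _ (m - 1) m n (by simp) (by simp; omega),
    ShortComplex.exact_iff_exact_up_to_refinements] at hex
  obtain ⟨B₂, π₂, hπ₂, (z : B₂ ⟶ (T.obj M).obj (K.X (m - 1))), hz⟩ := hex y hyd
  have hz' : π₂ ≫ y = z ≫ (T.obj M).map (K.d (m - 1) m) := hz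
  have hfin : (π₂ ≫ π₁) ≫ x = 0 := by
    rw [Category.assoc, hy, ← Category.assoc, hz', Category.assoc, ← Functor.map_comp,
      d_toCycles, Functor.map_zero, comp_zero]
  haveI : Epi (π₂ ≫ π₁) := epi_comp _ _
  have h0 : (π₂ ≫ π₁) ≫ x = (π₂ ≫ π₁) ≫ 0 := by rw [hfin, comp_zero]
  exact (cancel_epi (π₂ ≫ π₁)).1 h0

include hac h1 in
theorem mono_map_iCycles (M : A) (n : ℤ) : Mono ((T.obj M).map (K.iCycles n)) :=
  mono_map_iCycles' T K hac h1 M (n - 1) n (by omega)

include hac h1 h2 in
/-- Claim B: `T(-, Z^{n+1})` preserves monomorphisms -/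
theorem preservesMono_flip_cycles (n : ℤ) :
    (T.flip.obj (K.cycles (n + 1))).PreservesMonomorphisms := by
  refine ⟨fun {M' M} j hj => ?_⟩
  apply Preadditive.mono_of_cancel_zero
  intro B (x : B ⟶ (T.obj M').obj (K.cycles (n + 1))) hx
  have hx' : x ≫ (T.map j).app (K.cycles (n + 1)) = 0 := hx
  -- step 1
  haveI := epi_toCycles_of_acyclic hac n
  haveI : Epi ((T.obj M').map (K.toCycles n (n + 1))) := inferInstance
  obtain ⟨B₁, π₁, hπ₁, y, hy⟩ := surjective_up_to_refinements_of_epi
    ((T.obj M').map (K.toCycles n (n + 1))) x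
  -- step 2
  have hy' : (y ≫ (T.map j).app (K.X n)) ≫ (T.obj M).map (K.toCycles n (n + 1)) = 0 := by
    rw [Category.assoc, ← (T.map j).naturality, ← Category.assoc, ← hy, Category.assoc, hx',
      comp_zero]
  -- step 3
  have hSM : ((cyclesSC K n).map (T.obj M)).Exact :=
    (cyclesSC_shortExact hac n).exact.map_of_epi_of_preservesCokernel (T.obj M)
      (cyclesSC_shortExact hac n).epi_g inferInstance
  rw [ShortComplex.exact_iff_exact_up_to_refinements] at hSM
  obtain ⟨B₂, π₂, hπ₂, (w : B₂ ⟶ (T.obj M).obj (K.cycles n)), hw⟩ :=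
    hSM (y ≫ (T.map j).app (K.X n)) hy'
  have hw' : π₂ ≫ y ≫ (T.map j).app (K.X n) = w ≫ (T.obj M).map (K.iCycles n) := hw
  -- step 4
  let c := cokernel.π j
  have hwc : w ≫ (T.map c).app (K.cycles n) = 0 := by
    haveI := mono_map_iCycles T K hac h1 (cokernel j) n
    have hjc : (T.map j).app (K.X n) ≫ (T.map c).app (K.X n) = 0 := by
      rw [← NatTrans.comp_app, ← T.map_comp, cokernel.condition, T.map_zero]
      rfl
    rw [← cancel_mono ((T.obj (cokernel j)).map (K.iCycles n)), Category.assoc, zero_comp,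
      ← (T.map c).naturality, ← Category.assoc, ← hw', Category.assoc, Category.assoc, hjc,
      comp_zero, comp_zero]
  -- step 5
  have hS₀ : ((ShortComplex.mk j c (cokernel.condition j)).map
      (T.flip.obj (K.cycles n))).Exact :=
    (ShortComplex.exact_cokernel j).map_of_epi_of_preservesCokernel (T.flip.obj (K.cycles n))
      (by dsimp; infer_instance) inferInstance
  rw [ShortComplex.exact_iff_exact_up_to_refinements] at hS₀
  obtain ⟨B₃, π₃, hπ₃, (w' : B₃ ⟶ (T.obj M').obj (K.cycles n)), hw₃⟩ := hS₀ w hwc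
  have hw₃' : π₃ ≫ w = w' ≫ (T.map j).app (K.cycles n) := hw₃
  -- step 6
  have h6 : π₃ ≫ π₂ ≫ y = w' ≫ (T.obj M').map (K.iCycles n) := by
    haveI : Mono ((T.map j).app (K.X n)) := (h2 n).preserves j
    have e1 : (π₃ ≫ π₂ ≫ y) ≫ (T.map j).app (K.X n) =
        w' ≫ (T.map j).app (K.cycles n) ≫ (T.obj M).map (K.iCycles n) := by
      rw [Category.assoc, Category.assoc, hw', ← Category.assoc, hw₃', Category.assoc]
    have e2 : (w' ≫ (T.obj M').map (K.iCycles n)) ≫ (T.map j).app (K.X n) =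
        w' ≫ (T.map j).app (K.cycles n) ≫ (T.obj M).map (K.iCycles n) := by
      rw [Category.assoc, (T.map j).naturality]
    rw [← cancel_mono ((T.map j).app (K.X n)), e1, e2]
  -- step 7
  have hfin : (π₃ ≫ π₂ ≫ π₁) ≫ x = 0 := by
    rw [Category.assoc, Category.assoc, hy, ← Category.assoc, ← Category.assoc,
      Category.assoc π₃, h6, Category.assoc, ← Functor.map_comp, iCycles_toCycles,
      Functor.map_zero, comp_zero]
  haveI : Epi (π₃ ≫ π₂ ≫ π₁) := epi_comp _ _
  have h0 : (π₃ ≫ π₂ ≫ π₁) ≫ x = (π₃ ≫ π₂ ≫ π₁) ≫ 0 := by rw [hfin, comp_zero]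
  exact (cancel_epi (π₃ ≫ π₂ ≫ π₁)).1 h0

end main

end Groth.Agent.Lib.helper13.KFlat
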