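import Mathlib
import Groth.Prelude.Def_KFlatSite
import Groth.Agent.Lib.Helper13.KFlat14
import Groth.Agent.Lib.Helper13.KFlat15
import Groth.Agent.Lib.Helper25.TotSingle

/-!
# K-flat complexes, part 16 (helper13): an acyclic K-flat complex is universally acyclic;
its cycles are flat when its terms are (ringed sites)
-/

set_option autoImplicit false
universe u
open CategoryTheory Limits HomologicalComplex

namespace Groth.Agent.Lib.helper13.KFlat

open Groth.Agent.Lib.helper2.BifunctorExact
open Groth.Agent.Lib.Helper21.TensorMon Groth.Agent.Lib.Helper21.TensorAdj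
  Groth.Agent.Lib.Helper21.TensorW

variable {C : Type u} [SmallCategory C] {J : GrothendieckTopology C} (O : Sheaf J CommRingCat.{u})

/-- an acyclic K-flat complex stays acyclic after tensoring with any complex concentrated in
degree `0` -/
theorem acyclic_tensor_of_isKFlat_of_acyclic (K : CochainComplex (ModSite.Mod O) ℤ)
    (hK : ModSite.IsKFlat K) (hac : K.Acyclic) (L : CochainComplex (ModSite.Mod O) ℤ) :
    (mapBifunctor L K (ModSite.tensorBi O) (ComplexShape.up ℤ)).Acyclic := by
  obtain ⟨F, q, hF, -, hq, -⟩ := Groth.Agent.Lib.helper13.KRes.exists_isKFlat_resolution L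
  have h1 : (mapBifunctor F K (ModSite.tensorBi O) (ComplexShape.up ℤ)).Acyclic :=
    isKFlat_symm O F hF K hac
  have hq' : QuasiIso ((Ψ (ModSite.tensorBi O) K).map q) :=
    quasiIso_Ψ_map (ModSite.tensorBi O) K ((isKFlat_iff K).1 hK) q
  intro i
  rw [exactAt_iff_isZero_homology]
  haveI : IsIso (homologyMap ((Ψ (ModSite.tensorBi O) K).map q) i) :=
    (quasiIsoAt_iff_isIso_homologyMap _ i).1 (hq'.quasiIsoAt i)
  exact ((exactAt_iff_isZero_homology _ _).1 (h1 i)).of_iso
    (asIso (homologyMap ((Ψ (ModSite.tensorBi O) K).map q) i)).symm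

/-- an acyclic K-flat complex stays acyclic after tensoring with any module -/
theorem acyclic_tensL_of_isKFlat_of_acyclic (K : CochainComplex (ModSite.Mod O) ℤ)
    (hK : ModSite.IsKFlat K) (hac : K.Acyclic) (M : ModSite.Mod O) :
    ((((ModSite.tensorBi O).obj M).mapHomologicalComplex (ComplexShape.up ℤ)).obj K).Acyclic := by
  let L : CochainComplex (ModSite.Mod O) ℤ := (CochainComplex.singleFunctor (ModSite.Mod O) 0).obj M
  have hL : ∀ p : ℤ, p ≠ 0 → IsZero (L.X p) := fun p hp =>
    isZero_single_obj_X (ComplexShape.up ℤ) 0 M p hp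
  have h1 := acyclic_tensor_of_isKFlat_of_acyclic O K hK hac L
  have h2 : ((((ModSite.tensorBi O).obj (L.X 0)).mapHomologicalComplex
      (ComplexShape.up ℤ)).obj K).Acyclic :=
    acyclic_of_iso (Groth.Agent.Lib.Helper25.TotSingle.totIso (ModSite.tensorBi O) L hL K).symm h1
  let e : L.X 0 ≅ M := singleObjXSelf (ComplexShape.up ℤ) 0 M
  exact acyclic_of_iso ((NatIso.mapHomologicalComplex ((ModSite.tensorBi O).mapIso e)
    (ComplexShape.up ℤ)).app K) h2

instance (M : ModSite.Mod O) : PreservesFiniteColimits ((ModSite.tensorBi O).obj M) :=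
  have := preservesColimits_tensL O M
  PreservesColimitsOfSize.preservesFiniteColimits _

instance (X : ModSite.Mod O) : PreservesFiniteColimits ((ModSite.tensorBi O).flip.obj X) :=
  have := preservesColimits_tens O X
  PreservesColimitsOfSize.preservesFiniteColimits _

/-- Stacks 0E8F-type: the cycles of an acyclic K-flat complex with flat terms are flat -/
theorem isFlat_cycles_of_isKFlat_of_acyclic (K : CochainComplex (ModSite.Mod O) ℤ)
    (hK : ModSite.IsKFlat K) (hac : K.Acyclic) (hfl : ∀ i : ℤ, ModSite.IsFlat (K.X i)) (n : ℤ) :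
    ModSite.IsFlat (K.cycles n) := by
  obtain ⟨m, rfl⟩ : ∃ m, n = m + 1 := ⟨n - 1, by omega⟩
  have h2 : ∀ i, ((ModSite.tensorBi O).flip.obj (K.X i)).PreservesMonomorphisms := by
    intro i
    haveI : PreservesFiniteLimits ((ModSite.tensorBi O).flip.obj (K.X i)) := (hfl i).1
    infer_instance
  haveI := preservesMono_flip_cycles (ModSite.tensorBi O) K hac
    (acyclic_tensL_of_isKFlat_of_acyclic O K hK hac) h2 m
  rw [Groth.Agent.Lib.Helper21.TensorMon.isFlat_iff_preservesFiniteLimits]
  haveI : (tens O (K.cycles (m + 1))).PreservesHomology :=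
    Functor.preservesHomology_of_preservesMonos_and_cokernels _
  exact Functor.preservesFiniteLimits_of_preservesHomology _

end Groth.Agent.Lib.helper13.KFlat
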