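import Mathlib
import Groth.Prelude.Def_DDual2
import Groth.Prelude.Def_DCoh2
import Groth.Agent.Lib.Helper13.RKF2
import Groth.Agent.Lib.Helper13.TildeStalk
import Groth.Agent.Lib.Helper16.QCohPullback
import Groth.Agent.Lib.Helper25.LpullAdapted
import Groth.Agent.Lib.Helper25.LTensorComp
import Groth.Agent.Lib.Helper25.StalkPullFlat

set_option autoImplicit false
universe u
open CategoryTheory CategoryTheory.Limits AlgebraicGeometry Opposite
open ZeroObject

attribute [local instance] HasDerivedCategory.standard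

/-!
# `Lf^* (M^~) ≅ (M ⊗^L_A B)^~` for `f = Spec φ` (helper13)

* `PA A`: K-flat complexes of `A`-modules with flat terms (adapted class; `hzeroA`, `hshiftA`, `hconeA`, `hresA`).
* `isFlat_tilde M`: `M^~` is stalkwise flat for flat `M`; `P₀_tilde`: `K^~` is in helper25's adapted class for `Lf^*`.
* `τh φ`: `tilde ⋙ f^* ≅ (- ⊗_A B) ⋙ tilde` on homotopy categories.
* `main φ : Nonempty (LBaseChange φ ⋙ tildeD B ≅ tildeD A ⋙ Lpull (Spec φ))` (= S1055), by recognising both
  sides as the left derived functor of `K ↦ (K ⊗_A B)^~` (helper25's `isoOfAdapted`).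
-/

namespace Groth.Agent.Lib.helper13.TildeLpull
open Groth.Agent.Lib.helper13.KFlat Groth.Agent.Lib.helper13.RKF
  Groth.Agent.Lib.Helper25.LDerAdapted Groth.Agent.Lib.Helper25.LTensorComp

variable {A B : Type u} [CommRing A] [CommRing B] (φ : A →+* B)

/-- the adapted class: K-flat complexes with flat terms -/
def PA (A : Type u) [CommRing A] : ObjectProperty (DRing.Cx A) :=
  fun K => IsKFlatR K ∧ ∀ n : ℤ, Module.Flat A (K.X n)

lemma hzeroA : ∃ Z : DRing.Cx A, IsZero Z ∧ PA A Z :=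
  ⟨(0 : DRing.Cx A), isZero_zero _,
    isKFlatR_of_isZero _ (isZero_zero _), fun n => by
      have : IsZero ((0 : DRing.Cx A).X n) :=
        (HomologicalComplex.eval (ModuleCat.{u} A) (ComplexShape.up ℤ) n).map_isZero (isZero_zero _)
      haveI := ModuleCat.subsingleton_of_isZero this
      infer_instance⟩

lemma hshiftA (E : DRing.Cx A) (n : ℤ) (h : PA A E) : PA A (E⟦n⟧) :=
  ⟨isKFlatR_shift E n h.1, fun _ => h.2 _⟩

lemma hconeA {E E' : DRing.Cx A} (g : E ⟶ E') (h : PA A E) (h' : PA A E') :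
    PA A (CochainComplex.mappingCone g) :=
  ⟨isKFlatR_mappingCone g h.1 h'.1, fun n => by
    exact (Groth.Agent.Lib.helper13.KRes.flatClass_flat (R := A)).iso _ _
      (HomologicalComplex.homotopyCofiber.XIsoBiprod g n (n + 1) rfl).symm
      ((Groth.Agent.Lib.helper13.KRes.flatClass_flat (R := A)).biprod _ _ (h.2 (n + 1)) (h'.2 n))⟩

lemma hresA (E : DRing.Cx A) :
    ∃ (E' : DRing.Cx A) (g : E' ⟶ E), PA A E' ∧ QuasiIso g := by
  obtain ⟨K, q, h1, h2, h3, -⟩ := Groth.Agent.Lib.helper13.KRes.exists_isKFlatR_resolution E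
  exact ⟨K, q, ⟨h1, h2⟩, h3⟩

variable [PreservesFiniteLimits (tilde.functor (CommRingCat.of A))]
  [PreservesFiniteLimits (tilde.functor (CommRingCat.of B))]

/-- the functor being derived: `K ↦ (K ⊗_A B)^~` -/
noncomputable abbrev F :
    HomotopyCategory (ModuleCat.{u} A) (ComplexShape.up ℤ) ⥤ DCoh.D (Spec (CommRingCat.of B)) :=
  DRing.baseChangeKh φ ⋙ DCoh.tildeD (CommRingCat.of B)

lemma hΦ₀ {E E' : DRing.Cx A} (g : E ⟶ E') (h : PA A E) (h' : PA A E') (hg : QuasiIso g) :
    IsIso ((F φ).map ((HomotopyCategory.quotient _ _).map g)) := by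
  haveI := isIso_baseChangeKh_map φ g h.1 h'.1 hg
  exact Functor.map_isIso (DCoh.tildeD (CommRingCat.of B)) _

lemma hasLF : (F φ).HasLeftDerivedFunctor
    (HomotopyCategory.quasiIso (ModuleCat.{u} A) (ComplexShape.up ℤ)) :=
  hasLeftDerivedFunctor_Qh (PA A) hzeroA hshiftA (fun g h h' => hconeA g h h') hresA (F φ)
    (fun g h h' hg => hΦ₀ φ g h h' hg)

/-- the class of objects of the homotopy category represented by complexes in `PA` -/
def PA' (A : Type u) [CommRing A] (X : HomotopyCategory (ModuleCat.{u} A) (ComplexShape.up ℤ)) : Prop :=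
  ∃ K : DRing.Cx A, PA A K ∧ X = (HomotopyCategory.quotient _ _).obj K

lemma hres' (X : HomotopyCategory (ModuleCat.{u} A) (ComplexShape.up ℤ)) :
    ∃ (P : HomotopyCategory (ModuleCat.{u} A) (ComplexShape.up ℤ)) (s : P ⟶ X),
      PA' A P ∧ HomotopyCategory.quasiIso (ModuleCat.{u} A) (ComplexShape.up ℤ) s := by
  obtain ⟨K, rfl⟩ := X.quotient_obj_surjective
  obtain ⟨E', f, hE', hf⟩ := hresA K
  refine ⟨(HomotopyCategory.quotient _ _).obj E', (HomotopyCategory.quotient _ _).map f,
    ⟨E', hE', rfl⟩, ?_⟩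
  rw [HomotopyCategory.quotient_map_mem_quasiIso_iff, HomologicalComplex.mem_quasiIso_iff]
  exact hf

variable [DRing.HasLBaseChange φ] [DCoh.HasLpull (Spec.map (CommRingCat.ofHom φ))]

noncomputable def β₁ :
    DerivedCategory.Qh ⋙ (DRing.LBaseChange φ ⋙ DCoh.tildeD (CommRingCat.of B)) ⟶ F φ :=
  (Functor.associator _ _ _).inv ≫
    Functor.whiskerRight ((DRing.baseChangeKh φ).totalLeftDerivedCounit DerivedCategory.Qh
      (HomotopyCategory.quasiIso (ModuleCat.{u} A) (ComplexShape.up ℤ))) (DCoh.tildeD (CommRingCat.of B))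

lemma hβ₁ (P : HomotopyCategory (ModuleCat.{u} A) (ComplexShape.up ℤ)) (hP : PA' A P) :
    IsIso ((β₁ φ).app P) := by
  obtain ⟨K, hK, rfl⟩ := hP
  haveI := isIso_counit φ K hK.1
  dsimp only [β₁, NatTrans.comp_app, Functor.associator_inv_app, Functor.whiskerRight_app]
  infer_instance

noncomputable abbrev tA (A : Type u) [CommRing A] := tilde.functor (CommRingCat.of A)

instance instAdditiveTA (A : Type u) [CommRing A] : (tA A).Additive :=
  AlgebraicGeometry.instAdditiveModuleCatCarrierModulesSpecOfFunctor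

instance instIsLeftAdjointTA (A : Type u) [CommRing A] : (tA A).IsLeftAdjoint :=
  AlgebraicGeometry.instIsLeftAdjointModuleCatCarrierModulesSpecOfFunctor

/-- `(tilde K) pulled back ≅ tilde (K ⊗ B)` on homotopy categories -/
noncomputable def τh :
    (tA A).mapHomotopyCategory (ComplexShape.up ℤ) ⋙
      (Scheme.Modules.pullback (Spec.map (CommRingCat.ofHom φ))).mapHomotopyCategory (ComplexShape.up ℤ) ≅
    (ModuleCat.extendScalars.{u, u, u} φ).mapHomotopyCategory (ComplexShape.up ℤ) ⋙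
      (tA B).mapHomotopyCategory (ComplexShape.up ℤ) :=
  Functor.mapHomotopyCategoryCompIso
    (Groth.Agent.Lib.helper16.QCohPullback.tildePullbackIso (CommRingCat.ofHom φ)) (ComplexShape.up ℤ) ≪≫
  (Functor.mapHomotopyCategoryCompIso (Iso.refl (ModuleCat.extendScalars.{u, u, u} φ ⋙ tA B))
    (ComplexShape.up ℤ)).symm

noncomputable def β₂ :
    DerivedCategory.Qh ⋙ (DCoh.tildeD (CommRingCat.of A) ⋙
      DCoh.Lpull (Spec.map (CommRingCat.ofHom φ))) ⟶ F φ :=
  (Functor.associator _ _ _).inv ≫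
  Functor.whiskerRight (tA A).mapDerivedCategoryFactorsh.hom
    (DCoh.Lpull (Spec.map (CommRingCat.ofHom φ))) ≫
  (Functor.associator _ _ _).hom ≫
  Functor.whiskerLeft ((tA A).mapHomotopyCategory (ComplexShape.up ℤ))
    ((DCoh.pullKh (Spec.map (CommRingCat.ofHom φ))).totalLeftDerivedCounit DerivedCategory.Qh
      (HomotopyCategory.quasiIso _ (ComplexShape.up ℤ))) ≫
  (Functor.associator _ _ _).inv ≫
  Functor.whiskerRight (τh φ).hom DerivedCategory.Qh ≫
  (Functor.associator _ _ _).hom ≫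
  Functor.whiskerLeft ((ModuleCat.extendScalars.{u, u, u} φ).mapHomotopyCategory (ComplexShape.up ℤ))
    (tA B).mapDerivedCategoryFactorsh.inv ≫
  (Functor.associator _ _ _).inv

omit [PreservesFiniteLimits (tilde.functor (CommRingCat.of A))] in
/-- `M^~` is (stalkwise) flat for a flat module `M` -/
theorem isFlat_tilde (M : ModuleCat.{u} A) [Module.Flat A M] :
    FlatMod.IsFlat ((tA A).obj M) := by
  intro x
  have h := Groth.Agent.Lib.Helper25.StalkPullFlat.flat_extendScalars
    (Groth.Agent.Lib.helper13.TildeStalk.φ (CommRingCat.of A) x) M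
  exact (Module.Flat.equiv_iff
    ((Groth.Agent.Lib.helper13.TildeStalk.tildeStalkIso (CommRingCat.of A) x).app M).toLinearEquiv).2 h

omit [PreservesFiniteLimits (tilde.functor (CommRingCat.of A))] in
lemma P₀_tilde (K : DRing.Cx A) (hK : PA A K) :
    Groth.Agent.Lib.Helper25.LpullAdapted.P₀ (Spec (CommRingCat.of A))
      (((tA A).mapHomologicalComplex (ComplexShape.up ℤ)).obj K) :=
  ⟨Groth.Agent.Lib.helper13.TildeStalk.isKFlat_tilde (CommRingCat.of A) K hK.1, fun n => by
    haveI := hK.2 n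
    exact isFlat_tilde (K.X n)⟩

lemma hβ₂ (P : HomotopyCategory (ModuleCat.{u} A) (ComplexShape.up ℤ)) (hP : PA' A P) :
    IsIso ((β₂ φ).app P) := by
  obtain ⟨K, hK, rfl⟩ := hP
  haveI h1 : IsIso (((DCoh.pullKh (Spec.map (CommRingCat.ofHom φ))).totalLeftDerivedCounit
      DerivedCategory.Qh
      (HomotopyCategory.quasiIso (Spec (CommRingCat.of A)).Modules (ComplexShape.up ℤ))).app
      (((tA A).mapHomotopyCategory (ComplexShape.up ℤ)).obj
        ((HomotopyCategory.quotient (ModuleCat A) (ComplexShape.up ℤ)).obj K))) :=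
    Groth.Agent.Lib.Helper25.LDerAdapted.isIso_counit_app_quotient_obj
    (Groth.Agent.Lib.Helper25.LpullAdapted.P₀ (Spec (CommRingCat.of A)))
    (Groth.Agent.Lib.Helper25.LpullAdapted.hzero _) Groth.Agent.Lib.Helper25.LpullAdapted.hshift
    (fun g h h' => Groth.Agent.Lib.Helper25.LpullAdapted.hcone g h h')
    Groth.Agent.Lib.Helper25.LpullAdapted.hres₀
    (DCoh.pullKh (Spec.map (CommRingCat.ofHom φ)))
    (fun g h h' hg => Groth.Agent.Lib.Helper25.LpullAdapted.hΦ₀ (Spec.map (CommRingCat.ofHom φ)) g h h' hg) _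
    ((DCoh.pullKh (Spec.map (CommRingCat.ofHom φ))).totalLeftDerivedCounit DerivedCategory.Qh
      (HomotopyCategory.quasiIso _ (ComplexShape.up ℤ))) _ (P₀_tilde K hK)
  dsimp only [β₂, NatTrans.comp_app, Functor.associator_inv_app, Functor.associator_hom_app,
    Functor.whiskerRight_app, Functor.whiskerLeft_app]
  simp only [Category.id_comp, Category.comp_id]
  infer_instance

theorem main : Nonempty (DRing.LBaseChange φ ⋙ DCoh.tildeD (CommRingCat.of B) ≅
      DCoh.tildeD (CommRingCat.of A) ⋙ DCoh.Lpull (Spec.map (CommRingCat.ofHom φ))) := by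
  haveI := hasLF φ
  let LF := (F φ).totalLeftDerived DerivedCategory.Qh
    (HomotopyCategory.quasiIso (ModuleCat.{u} A) (ComplexShape.up ℤ))
  let α := (F φ).totalLeftDerivedCounit DerivedCategory.Qh
    (HomotopyCategory.quasiIso (ModuleCat.{u} A) (ComplexShape.up ℤ))
  have hα : ∀ P, PA' A P → IsIso (α.app P) := by
    rintro P ⟨K, hK, rfl⟩
    exact isIso_counit_app_quotient_obj (PA A) hzeroA hshiftA (fun g h h' => hconeA g h h') hresA
      (F φ) (fun g h h' hg => hΦ₀ φ g h h' hg) LF α K hK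
  let e₁ := isoOfAdapted DerivedCategory.Qh
    (HomotopyCategory.quasiIso (ModuleCat.{u} A) (ComplexShape.up ℤ)) (F φ) LF α
    (DRing.LBaseChange φ ⋙ DCoh.tildeD (CommRingCat.of B)) (β₁ φ) (PA' A) hres' hα (hβ₁ φ)
  let e₂ := isoOfAdapted DerivedCategory.Qh
    (HomotopyCategory.quasiIso (ModuleCat.{u} A) (ComplexShape.up ℤ)) (F φ) LF α
    (DCoh.tildeD (CommRingCat.of A) ⋙ DCoh.Lpull (Spec.map (CommRingCat.ofHom φ))) (β₂ φ) (PA' A)
    hres' hα (hβ₂ φ)
  exact ⟨e₁ ≪≫ e₂.symm⟩

end Groth.Agent.Lib.helper13.TildeLpull
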