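import Mathlib
import Groth.Agent.Lib.Helper25.LpullComp
import Groth.Agent.Lib.Helper13.TildeLpull
import Groth.Agent.Lib.Helper18.HHLoc1
import Groth.Agent.S0997
import Groth.Agent.S9498
import Groth.Agent.Lib.Helper23.NCFree
import Groth.Agent.Lib.Helper16.QCohFibre

set_option autoImplicit false
universe u
open CategoryTheory CategoryTheory.Limits AlgebraicGeometry Opposite

attribute [local instance] HasDerivedCategory.standard

/-!
# `Lf^*` preserves `D_QCoh` (helper13)

* `exists_P₀_rep K`: every object of `D(O_X)` is represented by a K-flat complex with flat terms.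
* `preservesFiniteLimits_pullback_of_isOpenImmersion j`.
* `HDtoDIso`, `nonempty_HD_Lpull_iso h P hP i : H^i(Lh^* Q P) ≅ h^* H^i(P)` for `h^*` exact, `P` K-flat with flat terms.
* `nonempty_Lpull_congr`.
* `local_tilde`: on affine charts `Spec B → Y`, `Spec A → X` the cohomology sheaves of `f^* P` are of the form `N^~`
  (helper25 `nonempty_Lpull_comp`, helper1 S0997, helper13 `TildeLpull.main`).
* `main f K hK : IsQCohD (Lf^* K)` (= S1054).
-/

namespace Groth.Agent.Lib.helper13.LpullQCoh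
open Groth.Agent.Lib.Helper25.LpullAdapted Groth.Agent.Lib.Helper25.LpullComp
  Groth.Agent.Lib.Helper25.StalkPullFlat

variable {X Y : Scheme.{u}}

/-- every object of `D(O_X)` is represented by a K-flat complex with flat terms -/
lemma exists_P₀_rep (K : DCoh.D X) :
    ∃ P : CochainComplex X.Modules ℤ, P₀ X P ∧ Nonempty (DCoh.toD X P ≅ K) := by
  obtain ⟨P, q, hP, hq⟩ := hres₀ (DerivedCategory.Q.objPreimage K)
  haveI : IsIso (DerivedCategory.Q.map q) :=
    Localization.inverts DerivedCategory.Q (HomologicalComplex.quasiIso X.Modules (ComplexShape.up ℤ)) q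
      ((HomologicalComplex.mem_quasiIso_iff q).2 hq)
  exact ⟨P, hP, ⟨asIso (DerivedCategory.Q.map q) ≪≫ DerivedCategory.Q.objObjPreimageIso K⟩⟩

/-- pullback along an open immersion preserves finite limits -/
lemma preservesFiniteLimits_pullback_of_isOpenImmersion (j : Y ⟶ X) [IsOpenImmersion j] :
    PreservesFiniteLimits (Scheme.Modules.pullback j) := by
  haveI := Groth.Agent.Lib.Helper18.HHLoc.preservesLimits_restrictFunctor j
  haveI : PreservesFiniteLimits (Scheme.Modules.restrictFunctor j) :=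
    (PreservesLimitsOfSize.preservesFiniteLimits.{u, u} (Scheme.Modules.restrictFunctor j) :)
  exact preservesFiniteLimits_of_natIso (Scheme.Modules.restrictFunctorIsoPullback j)

/-- cohomology sheaves of `Q (h^* P)` for `h^*` exact -/
noncomputable def HDtoDIso (h : Y ⟶ X) [PreservesFiniteLimits (Scheme.Modules.pullback h)]
    (P : CochainComplex X.Modules ℤ) (i : ℤ) :
    DCoh.HD (DCoh.toD Y (((Scheme.Modules.pullback h).mapHomologicalComplex
      (ComplexShape.up ℤ)).obj P)) i ≅ (Scheme.Modules.pullback h).obj (P.homology i) :=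
  (DerivedCategory.homologyFunctorFactors _ i).app _ ≪≫
    (P.sc i).mapHomologyIso (Scheme.Modules.pullback h)

/-- cohomology sheaves of `Lh^*` on K-flat complexes with flat terms, for `h^*` exact -/
lemma nonempty_HD_Lpull_iso (h : Y ⟶ X) [DCoh.HasLpull h]
    [PreservesFiniteLimits (Scheme.Modules.pullback h)]
    (P : CochainComplex X.Modules ℤ) (hP : P₀ X P) (i : ℤ) :
    Nonempty (DCoh.HD ((DCoh.Lpull h).obj (DCoh.toD X P)) i ≅
      (Scheme.Modules.pullback h).obj (P.homology i)) := by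
  obtain ⟨e⟩ := nonempty_Lpull_iso h P hP
  exact ⟨(DerivedCategory.homologyFunctor _ i).mapIso e ≪≫ HDtoDIso h P i⟩

lemma nonempty_Lpull_congr {h h' : Y ⟶ X} (e : h = h') [DCoh.HasLpull h] [DCoh.HasLpull h'] :
    Nonempty (DCoh.Lpull h ≅ DCoh.Lpull h') := by
  subst e
  exact ⟨Iso.refl _⟩

/-- the local computation: on affine charts the cohomology sheaves of `f^* P` are of the form `N^~` -/
lemma local_tilde (f : Y ⟶ X) {A B : Type u} [CommRing A] [CommRing B] (φ : A →+* B)
    (j : Spec (CommRingCat.of A) ⟶ X) [IsOpenImmersion j]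
    (j' : Spec (CommRingCat.of B) ⟶ Y) [IsOpenImmersion j']
    (comm : j' ≫ f = Spec.map (CommRingCat.ofHom φ) ≫ j)
    (P : CochainComplex X.Modules ℤ) (hP : P₀ X P)
    (hq : ∀ i, (P.homology i).IsQuasicoherent) (i : ℤ) :
    ∃ N : ModuleCat.{u} B, Nonempty ((Scheme.Modules.pullback j').obj
      ((((Scheme.Modules.pullback f).mapHomologicalComplex (ComplexShape.up ℤ)).obj P).homology i) ≅
        tilde (R := CommRingCat.of B) N) := by
  haveI := hasLpull f
  haveI := hasLpull j
  haveI := hasLpull j'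
  haveI := hasLpull (Spec.map (CommRingCat.ofHom φ))
  haveI := hasLpull (j' ≫ f)
  haveI := hasLpull (Spec.map (CommRingCat.ofHom φ) ≫ j)
  haveI := preservesFiniteLimits_pullback_of_isOpenImmersion j
  haveI := preservesFiniteLimits_pullback_of_isOpenImmersion j'
  haveI := Groth.Agent.S9498.preservesFiniteLimits_tilde (CommRingCat.of A)
  haveI := Groth.Agent.S9498.preservesFiniteLimits_tilde (CommRingCat.of B)
  haveI := Groth.Agent.Lib.helper13.RKF.hasLBaseChange φ
  have hfP := P₀_pullback f P hP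
  obtain ⟨a⟩ := nonempty_HD_Lpull_iso j' _ hfP i
  obtain ⟨b⟩ := nonempty_Lpull_iso f P hP
  obtain ⟨c⟩ := nonempty_Lpull_comp j' f
  obtain ⟨d⟩ := nonempty_Lpull_comp (Spec.map (CommRingCat.ofHom φ)) j
  obtain ⟨e⟩ := nonempty_Lpull_congr comm
  obtain ⟨f1⟩ := nonempty_Lpull_iso j P hP
  -- `Q (j^* P)` has quasi-coherent cohomology
  have hqc : DCoh.IsQCohD (DCoh.toD _
      (((Scheme.Modules.pullback j).mapHomologicalComplex (ComplexShape.up ℤ)).obj P)) := by
    intro k
    haveI := hq k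
    haveI : ((Scheme.Modules.pullback j).obj (P.homology k)).IsQuasicoherent :=
      Groth.Agent.Lib.helper16.QCohPullback.isQuasicoherent_pullback j (P.homology k)
    exact Groth.Agent.Lib.helper16.QCohFibre.isQuasicoherent_of_iso (HDtoDIso j P k).symm
  obtain ⟨M, ⟨m⟩⟩ := ((Groth.Agent.S0997.result (CommRingCat.of A)).2.2 _).1 hqc
  obtain ⟨t⟩ := Groth.Agent.Lib.helper13.TildeLpull.main φ
  refine ⟨(DerivedCategory.homologyFunctor _ i).obj ((DRing.LBaseChange φ).obj M), ⟨?_⟩⟩
  refine a.symm ≪≫ (DerivedCategory.homologyFunctor _ i).mapIso ?_ ≪≫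
    Groth.Agent.Lib.helper23.NCFree.homologyMapDerivedCategoryIso
      (tilde.functor (CommRingCat.of B)) ((DRing.LBaseChange φ).obj M) i
  exact (DCoh.Lpull j').mapIso b.symm ≪≫ c.app _ ≪≫ e.app _ ≪≫ (d.app _).symm ≪≫
    (DCoh.Lpull (Spec.map (CommRingCat.ofHom φ))).mapIso (f1 ≪≫ m.symm) ≪≫ (t.app M).symm

/-- **`Lf^*` preserves `D_QCoh`.** -/
theorem main (f : Y ⟶ X) [DCoh.HasLpull f] (K : DCoh.D X) (hK : DCoh.IsQCohD K) :
    DCoh.IsQCohD ((DCoh.Lpull f).obj K) := by
  obtain ⟨P, hP, ⟨e⟩⟩ := exists_P₀_rep K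
  have hq : ∀ i, (P.homology i).IsQuasicoherent := by
    intro i
    haveI := hK i
    exact Groth.Agent.Lib.helper16.QCohFibre.isQuasicoherent_of_iso
      ((DerivedCategory.homologyFunctor _ i).mapIso e.symm ≪≫
        (DerivedCategory.homologyFunctorFactors _ i).app P)
  intro i
  obtain ⟨b⟩ := nonempty_Lpull_iso f P hP
  let F := (((Scheme.Modules.pullback f).mapHomologicalComplex (ComplexShape.up ℤ)).obj P).homology i
  have hF : F.IsQuasicoherent := by
    let ι := {p : Y.affineOpens × X.affineOpens // p.1.1 ≤ f ⁻¹ᵁ p.2.1}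
    refine Groth.Agent.Lib.helper16.QCohPullback.isQuasicoherent_of_cover _
      (fun p : ι => p.1.1.1) ?_ (fun p => ?_)
    · rw [eq_top_iff]
      intro y _
      obtain ⟨U, hU, hyU, -⟩ := TopologicalSpace.Opens.isBasis_iff_nbhd.mp X.isBasis_affineOpens
        (show f y ∈ (⊤ : X.Opens) from trivial)
      obtain ⟨V, hV, hyV, hVU⟩ := TopologicalSpace.Opens.isBasis_iff_nbhd.mp Y.isBasis_affineOpens
        (show y ∈ f ⁻¹ᵁ U from hyU)
      exact TopologicalSpace.Opens.mem_iSup.mpr ⟨⟨(⟨V, hV⟩, ⟨U, hU⟩), hVU⟩, hyV⟩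
    · obtain ⟨N, ⟨n⟩⟩ := local_tilde f (f.appLE p.1.2.1 p.1.1.1 p.2).hom p.1.2.2.fromSpec
        p.1.1.2.fromSpec (IsAffineOpen.SpecMap_appLE_fromSpec f p.1.2.2 p.1.1.2 p.2).symm P hP hq i
      exact Groth.Agent.Lib.helper16.QCohPullback.nonempty_presentation_restrict_of_iso_tilde _
        p.1.1.2 N ((Scheme.Modules.restrictFunctorIsoPullback p.1.1.2.fromSpec).app _ ≪≫ n)
  haveI := hF
  exact Groth.Agent.Lib.helper16.QCohFibre.isQuasicoherent_of_iso (A := F)
    ((DerivedCategory.homologyFunctor _ i).mapIso ((DCoh.Lpull f).mapIso e.symm ≪≫ b) ≪≫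
      (DerivedCategory.homologyFunctorFactors _ i).app _).symm

end Groth.Agent.Lib.helper13.LpullQCoh
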