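import Mathlib
import Groth.Prelude.Def_Coh
import Groth.Agent.Lib.Helper16.FLF5

set_option autoImplicit false
universe u
open CategoryTheory CategoryTheory.Limits AlgebraicGeometry Opposite TopologicalSpace

namespace Groth.Agent.Lib.helper13.PointRank
open Groth.Agent.Lib.helper16.FLF Groth.Agent.Lib.helper11.InvMod

variable {Z V : Scheme.{u}}

/-- a trivialisation of `M` on `U` of rank `r` pulls back to a trivialisation of `g^* M` on `g⁻¹ U` -/
lemma nonempty_pullback_restrict_iso (g : Z ⟶ V) (M : V.Modules) (U : V.Opens) (r : ℕ)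
    (e : M.restrict U.ι ≅ FlatMod.freeMod (↑U) r) :
    Nonempty (((Scheme.Modules.pullback g).obj M).restrict (g ⁻¹ᵁ U).ι ≅ FlatMod.freeMod (↑(g ⁻¹ᵁ U)) r) :=
  ⟨pullbackRestrictIso g M U ≪≫ (Scheme.Modules.pullback (g ∣_ U)).mapIso e ≪≫
    pullbackFreeModIso (g ∣_ U) r⟩

/-- on a one-point affine scheme, a module locally free of rank `r` has an `r`-dimensional space of global sections -/
lemma finrank_of_restrict_iso [IsAffine Z] [Subsingleton Z] (hK : IsField (Coh.Γtop Z)) (z : Z) (N : Z.Modules) (U : Z.Opens) (hz : z ∈ U)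
    (r : ℕ) (e : N.restrict U.ι ≅ FlatMod.freeMod (↑U) r) :
    Module.Finite (Coh.Γtop Z) (N.val.obj (op ⊤)) ∧ Module.finrank (Coh.Γtop Z) (N.val.obj (op ⊤)) = r := by
  have hU : U = ⊤ := by
    ext y
    simp only [Opens.coe_top, Set.mem_univ, iff_true]
    rw [Subsingleton.elim y z]
    exact hz
  subst hU
  obtain ⟨l⟩ := sections_of_restrict_iso_freeMod N (isAffineOpen_top Z) r e
  letI := hK.toField
  have l' : (N.val.obj (op ⊤)) ≃ₗ[Coh.Γtop Z] (Fin r → Coh.Γtop Z) := l
  exact ⟨Module.Finite.equiv l'.symm, by rw [l'.finrank_eq]; exact Module.finrank_fin_fun _⟩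

end Groth.Agent.Lib.helper13.PointRank
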