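import Mathlib
import Groth.Prelude.Def_DCoh4
import Groth.Prelude.Def_CxOX
import Groth.Agent.Lib.Helper21.SchShriek
import Groth.Agent.Lib.Helper13.RestrKFlat1

/-!
# The restriction of a K-flat complex to an open subscheme is K-flat (helper13)

* `isIso_unit_shriek`, `resShriekIso W : j_! ⋙ j^* ≅ 𝟭` (adjoint triple `j_! ⊣ j^* ⊣ j_*`).
* `isZero_homology_map`: exact functors preserve acyclicity.
* `dcoh_isKFlat_restrict W L hL : DCoh.IsKFlat (L|_W)`.
-/

set_option autoImplicit false
set_option backward.isDefEq.respectTransparency false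
universe u
open CategoryTheory CategoryTheory.Limits AlgebraicGeometry
open Scheme.Modules

namespace Groth.Agent.Lib.helper13.RestrKFlat

open Groth.Agent.Lib.helper21.SchShriek

lemma isZero_homology_map {C D : Type*} [Category C] [Category D] [Abelian C] [Abelian D]
    (F : C ⥤ D) [F.Additive] [F.PreservesHomology]
    (M : CochainComplex C ℤ) (i : ℤ) (h : IsZero (M.homology i)) :
    IsZero (((F.mapHomologicalComplex (ComplexShape.up ℤ)).obj M).homology i) := by
  rw [← HomologicalComplex.exactAt_iff_isZero_homology] at h ⊢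
  exact ShortComplex.Exact.map h F

variable {X : Scheme.{u}} (W : X.Opens)

instance isIso_unit_shriek : IsIso (adj W).unit :=
  (Adjunction.Triple.mk (adj W) (restrictAdjunction W.ι)).isIso_unit_iff_isIso_counit.2
    inferInstance

/-- `j^* j_! ≅ id` -/
noncomputable def resShriekIso : shriek W ⋙ restrictFunctor W.ι ≅ 𝟭 _ :=
  (asIso (adj W).unit).symm

instance additive_shriek : (shriek W).Additive := (adj W).left_adjoint_additive

instance preservesFiniteColimits_shriek : PreservesFiniteColimits (shriek W) :=
  haveI := (adj W).leftAdjoint_preservesColimits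
  inferInstance

/-- termwise `j_!` of complexes -/
noncomputable abbrev shriekCx :
    CochainComplex (W : Scheme.{u}).Modules ℤ ⥤ CochainComplex X.Modules ℤ :=
  (shriek W).mapHomologicalComplex (ComplexShape.up ℤ)

/-- `(j_! M)|_W ≅ M` for complexes -/
noncomputable def resShriekCxIso (M : CochainComplex (W : Scheme.{u}).Modules ℤ) :
    (resCx W.ι).obj ((shriekCx W).obj M) ≅ M :=
  HomologicalComplex.Hom.isoOfComponents (fun n => (resShriekIso W).app (M.X n))
    (fun i j _ => ((resShriekIso W).hom.naturality (M.d i j)).symm)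

/-- The restriction of a K-flat complex to an open subscheme is K-flat. -/
theorem dcoh_isKFlat_restrict (L : CochainComplex X.Modules ℤ) (hL : DCoh.IsKFlat L) :
    DCoh.IsKFlat ((resCx W.ι).obj L) := by
  intro M hM i
  have h1 : ∀ i, IsZero (((shriekCx W).obj M).homology i) := fun i =>
    isZero_homology_map (shriek W) M i (hM i)
  have h2 := hL ((shriekCx W).obj M) h1
  have h3 : IsZero (((resCx W.ι).obj
      (((DCoh.tensorCx (X := X)).obj ((shriekCx W).obj M)).obj L)).homology i) :=
    isZero_homology_map (restrictFunctor W.ι) _ i (h2 i)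
  let e1 := resTensorCxIso W.ι ((shriekCx W).obj M) L
  let e3 := ((DCoh.tensorCx (X := (W : Scheme.{u}))).mapIso (resShriekCxIso W M)).app
    ((resCx W.ι).obj L)
  exact h3.of_iso ((HomologicalComplex.homologyFunctor _ _ i).mapIso (e1 ≪≫ e3).symm)

end Groth.Agent.Lib.helper13.RestrKFlat
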