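import Mathlib
import Groth.Prelude.Def_PerfD
import Groth.Agent.Lib.Helper13.PointGamma
import Groth.Agent.Lib.Helper13.PointRank
import Groth.Agent.Lib.Helper13.LpullQCoh
import Groth.Agent.Lib.Helper25.LpullPerfect

set_option autoImplicit false
universe u
open CategoryTheory CategoryTheory.Limits AlgebraicGeometry Opposite TopologicalSpace

attribute [local instance] HasDerivedCategory.standard

/-!
# The Euler characteristic of a perfect object is locally constant (helper13; = S1059)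

* `nonempty_Lpull_iso_of_model`: `Lf^* E ≅ Q (g^* S)` for `f = g ≫ V.ι` and `S` a strictly perfect model of `E|_V`.
* `Zy y = Spec κ(y)` is a one-point scheme, `isField_Γtop y`.
* `eulerChar_eq`: `χ_E(y) = Σ (-1)^i dim Γ(G^i)` for a bounded model `G` of `L i_y^* E` (helper22's Euler formula for the
  additive invariant `dim Γ(Spec κ(y), -)`).
* `main`.
-/

namespace Groth.Agent.Lib.helper13.EulerLocConst
open Groth.Agent.Lib.Helper25.LpullAdapted Groth.Agent.Lib.Helper25.LpullComp
  Groth.Agent.Lib.Helper25.StalkPullFlat Groth.Agent.Lib.Helper25.LpullPerfect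
  Groth.Agent.Lib.helper13.LpullQCoh Groth.Agent.Lib.helper13.PointGamma
  Groth.Agent.Lib.helper13.PointRank

variable {X : Scheme.{u}}

/-- termwise pullback of complexes -/
noncomputable abbrev pullCx {Y X : Scheme.{u}} (f : Y ⟶ X) :
    CochainComplex X.Modules ℤ ⥤ CochainComplex Y.Modules ℤ :=
  (Scheme.Modules.pullback f).mapHomologicalComplex (ComplexShape.up ℤ)

/-- `Lf^* E` for `f = (g ≫ V.ι)`, computed through a strictly perfect model of `E` on `V` -/
lemma nonempty_Lpull_iso_of_model {Z : Scheme.{u}} (f : Z ⟶ X) [DCoh.HasLpull f] (V : X.Opens)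
    (g : Z ⟶ (V : Scheme.{u})) (hg : g ≫ V.ι = f)
    (E : DCoh.D X) (P : CochainComplex X.Modules ℤ) (hP : P₀ X P) (eP : DCoh.toD X P ≅ E)
    (S : CochainComplex (V : Scheme.{u}).Modules ℤ) (hS : DCoh.IsStrictlyPerfect S)
    (eS : DerivedCategory.Q.obj ((DCoh.restrictCx V).obj P) ≅ DerivedCategory.Q.obj S) :
    Nonempty ((DCoh.Lpull f).obj E ≅ DCoh.toD Z ((pullCx g).obj S)) := by
  haveI := hasLpull g
  haveI := hasLpull V.ι
  haveI := hasLpull (g ≫ V.ι)
  obtain ⟨c⟩ := nonempty_Lpull_comp g V.ι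
  obtain ⟨e⟩ := nonempty_Lpull_congr hg
  obtain ⟨f1⟩ := nonempty_Lpull_iso V.ι P hP
  obtain ⟨f2⟩ := nonempty_Lpull_iso g S (P₀_of_isStrictlyPerfect S hS)
  refine ⟨(DCoh.Lpull f).mapIso eP.symm ≪≫ (e.app _).symm ≪≫ (c.app _).symm ≪≫
    (DCoh.Lpull g).mapIso (f1 ≪≫ DerivedCategory.Q.mapIso ?_ ≪≫ eS) ≪≫ f2⟩
  exact ((NatIso.mapHomologicalComplex (Scheme.Modules.restrictFunctorIsoPullback V.ι)
    (ComplexShape.up ℤ)).app P).symm


section Euler

variable (y : X)

/-- the one-point scheme `Spec κ(y)` -/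
noncomputable abbrev Zy : Scheme.{u} := Spec (X.residueField y)

instance : Subsingleton (Zy y) :=
  inferInstanceAs (Subsingleton (PrimeSpectrum (X.residueField y)))

instance : Nonempty (Zy y) :=
  inferInstanceAs (Nonempty (PrimeSpectrum (X.residueField y)))

lemma isField_Γtop : IsField (Coh.Γtop (Zy y)) := by
  have e : Γ(Spec (X.residueField y), ⊤) ≃+* (X.residueField y) :=
    (Scheme.ΓSpecIso (X.residueField y)).commRingCatIsoToRingEquiv
  exact MulEquiv.isField (Field.toIsField _) e.toMulEquiv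

open Groth.Agent.Lib.helper22.EulerChar in
/-- Euler characteristic at `y` through a model of `L i_y^* E` -/
lemma eulerChar_eq [DCoh.HasLpull (X.fromSpecResidueField y)] (E : DCoh.D X) (G : CochainComplex (Zy y).Modules ℤ)
    (e : (DCoh.Lpull (X.fromSpecResidueField y)).obj E ≅ DCoh.toD _ G) (a b : ℤ)
    (hG : DCoh.VanishesOutside G a b) (hfin : ∀ i, P (Zy y) (G.X i)) :
    PerfD.eulerChar E y = ∑ i ∈ Finset.Icc a b, (i.negOnePow : ℤ) * φ (Zy y) (G.X i) := by
  have hadd := isAdditiveOn (Zy y) (isField_Γtop y)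
  have hb : ∀ i : ℤ, (PerfD.betti E y i : ℤ) = φ (Zy y) (G.homology i) := by
    intro i
    exact hadd.iso ((DerivedCategory.homologyFunctor _ i).mapIso e ≪≫
      (DerivedCategory.homologyFunctorFactors _ i).app G)
  have hz : ∀ i : ℤ, i ∉ Finset.Icc a b → IsZero (G.X i) := by
    intro i hi
    apply hG i
    simp only [Finset.mem_Icc, not_and_or, not_le] at hi
    exact hi
  have hE := hadd.euler G (Finset.Icc a b) hz hfin (fun i => (i.negOnePow : ℤ))
    (fun i => by rw [Int.negOnePow_succ]; simp)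
  simp only [smul_eq_mul] at hE
  rw [hE]
  unfold PerfD.eulerChar
  rw [finsum_eq_sum_of_support_subset]
  · exact Finset.sum_congr rfl (fun i _ => by rw [hb])
  · intro i hi
    by_contra hni
    apply hi
    have h0 : IsZero (G.homology i) := by
      have hx := hz i hni
      exact (G.exactAt_iff_isZero_homology i).1
        (ShortComplex.exact_of_isZero_X₂ _ hx)
    show (i.negOnePow : ℤ) * (PerfD.betti E y i : ℤ) = 0
    rw [hb, hadd.zero _ h0, mul_zero]

end Euler

open Groth.Agent.Lib.helper22.EulerChar in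
/-- **The Euler characteristic of a perfect object is locally constant.** -/
theorem main (X : Scheme.{u}) [∀ x : X, DCoh.HasLpull (X.fromSpecResidueField x)]
    (E : DCoh.D X) (hE : DCoh.IsPerfect E) :
    IsLocallyConstant (fun x : X => PerfD.eulerChar E x) := by
  rw [IsLocallyConstant.iff_exists_open]
  intro x₀
  obtain ⟨V, hx₀V, hV⟩ := hE x₀
  obtain ⟨F, hF, ⟨eF⟩⟩ := Groth.Agent.Lib.helper13.LpullQCoh.exists_P₀_rep E
  obtain ⟨S, hS, ⟨eS⟩⟩ := hV F ⟨eF⟩
  obtain ⟨⟨a, b, hab⟩, hf⟩ := id hS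
  choose U r hU using fun i => hf i ⟨x₀, hx₀V⟩
  let W' : Set (V : Scheme.{u}) := ⋂ i ∈ Finset.Icc a b, (U i : Set (V : Scheme.{u}))
  have hW'open : IsOpen W' := isOpen_biInter_finset (fun i _ => (U i).isOpen)
  have hx₀W' : (⟨x₀, hx₀V⟩ : (V : Scheme.{u})) ∈ W' := by
    show _ ∈ ⋂ i ∈ Finset.Icc a b, (U i : Set (V : Scheme.{u}))
    rw [Set.mem_iInter₂]
    exact fun i _ => (hU i).1
  suffices key : ∀ y' : (V : Scheme.{u}), y' ∈ W' →
      PerfD.eulerChar E (V.ι y') = ∑ i ∈ Finset.Icc a b, (i.negOnePow : ℤ) * (r i : ℤ) by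
    refine ⟨V.ι '' W', V.ι.isOpenEmbedding.isOpenMap _ hW'open, ⟨⟨x₀, hx₀V⟩, hx₀W', rfl⟩, ?_⟩
    rintro _ ⟨y', hy', rfl⟩
    exact (key y' hy').trans (key ⟨x₀, hx₀V⟩ hx₀W').symm
  intro y' hy'
  have hy'U : ∀ i ∈ Finset.Icc a b, y' ∈ U i := by
    have hy'' : y' ∈ ⋂ i ∈ Finset.Icc a b, (U i : Set (V : Scheme.{u})) := hy'
    rw [Set.mem_iInter₂] at hy''
    exact hy''
  let f := X.fromSpecResidueField (V.ι y')
  have hrange : Set.range f ⊆ Set.range V.ι := by
    rw [Scheme.range_fromSpecResidueField]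
    rintro _ rfl
    exact ⟨y', rfl⟩
  let g := IsOpenImmersion.lift V.ι f hrange
  have hg : g ≫ V.ι = f := IsOpenImmersion.lift_fac _ _ _
  obtain ⟨e⟩ := nonempty_Lpull_iso_of_model f V g hg E F hF eF S hS eS
  obtain ⟨z⟩ := (inferInstance : Nonempty (Zy (V.ι y')))
  have hgz : g z = y' := by
    apply V.ι.isOpenEmbedding.injective
    have := congrArg (fun φ : Zy (V.ι y') ⟶ X => φ z) hg
    exact this.trans (Scheme.fromSpecResidueField_apply _ z)
  have hGvan : DCoh.VanishesOutside ((pullCx g).obj S) a b :=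
    fun i hi => (Scheme.Modules.pullback g).map_isZero (hab i hi)
  have hrank : ∀ i ∈ Finset.Icc a b, P (Zy (V.ι y')) (((pullCx g).obj S).X i) ∧
      φ (Zy (V.ι y')) (((pullCx g).obj S).X i) = r i := by
    intro i hi
    obtain ⟨iso⟩ := (hU i).2
    obtain ⟨iso'⟩ := nonempty_pullback_restrict_iso g (S.X i) (U i) (r i) iso
    have hz : z ∈ g ⁻¹ᵁ U i := by
      show g z ∈ U i
      rw [hgz]
      exact hy'U i hi
    obtain ⟨h1, h2⟩ := finrank_of_restrict_iso (isField_Γtop (V.ι y')) z _ _ hz (r i) iso'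
    exact ⟨h1, by simp only [φ]; exact_mod_cast h2⟩
  have hfin : ∀ i, P (Zy (V.ι y')) (((pullCx g).obj S).X i) := by
    intro i
    by_cases hi : i ∈ Finset.Icc a b
    · exact (hrank i hi).1
    · have h0 : IsZero (((pullCx g).obj S).X i) := by
        apply hGvan i
        simp only [Finset.mem_Icc, not_and_or, not_le] at hi
        exact hi
      have h1 : IsZero ((ΓZ (Zy (V.ι y'))).obj (((pullCx g).obj S).X i)) :=
        (ΓZ (Zy (V.ι y'))).map_isZero h0
      haveI := ModuleCat.subsingleton_of_isZero h1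
      show Module.Finite _ _
      infer_instance
  rw [eulerChar_eq (V.ι y') E _ e a b hGvan hfin]
  exact Finset.sum_congr rfl (fun i hi => by rw [(hrank i hi).2])

end Groth.Agent.Lib.helper13.EulerLocConst
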