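import Mathlib
import Groth.Prelude.Def_PerfD
import Groth.Agent.Lib.Helper13.EulerLocConst
import Groth.Agent.Lib.Helper25.LpullPC

set_option autoImplicit false
universe u
open CategoryTheory CategoryTheory.Limits AlgebraicGeometry Opposite TopologicalSpace

attribute [local instance] HasDerivedCategory.standard

/-!
# Fibres of a pseudo-coherent object through a strictly perfect model (helper13)

* `nonempty_Lpull_iso_restrict`: `Lf^* E ≅ Q (g^* (P|_V))` for `f = g ≫ V.ι` and `P` a K-flat model of `E` with flat terms.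
* `exists_model_homology`: for `E` `m`-pseudo-coherent, near any point there is a strictly perfect complex `S` on an open `V`
  with `H^i(Lf^* E) ≅ H^i(g^* S)` for all `i > m` and all `f = g ≫ V.ι`.
-/

namespace Groth.Agent.Lib.helper13.BettiPC
open Groth.Agent.Lib.Helper25.LpullAdapted Groth.Agent.Lib.Helper25.LpullComp
  Groth.Agent.Lib.Helper25.StalkPullFlat Groth.Agent.Lib.Helper25.LpullPerfect
  Groth.Agent.Lib.helper13.LpullQCoh Groth.Agent.Lib.helper13.EulerLocConst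
  Groth.Agent.Lib.helper25.IsoAbove Groth.Agent.Lib.Helper25.LpullPC

variable {X : Scheme.{u}}

/-- `Lf^* E` for `f = (g ≫ V.ι)`, computed through the restriction to `V` of a K-flat model with flat terms -/
lemma nonempty_Lpull_iso_restrict {Z : Scheme.{u}} (f : Z ⟶ X) [DCoh.HasLpull f] (V : X.Opens)
    (g : Z ⟶ (V : Scheme.{u})) (hg : g ≫ V.ι = f)
    (E : DCoh.D X) (P : CochainComplex X.Modules ℤ) (hP : P₀ X P) (eP : DCoh.toD X P ≅ E) :
    Nonempty ((DCoh.Lpull f).obj E ≅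
      DCoh.toD Z ((EulerLocConst.pullCx g).obj ((DCoh.restrictCx V).obj P))) := by
  haveI := hasLpull g
  haveI := hasLpull V.ι
  haveI := hasLpull (g ≫ V.ι)
  obtain ⟨c⟩ := nonempty_Lpull_comp g V.ι
  obtain ⟨e⟩ := nonempty_Lpull_congr hg
  obtain ⟨f1⟩ := nonempty_Lpull_iso V.ι P hP
  obtain ⟨f2⟩ := nonempty_Lpull_iso g ((DCoh.restrictCx V).obj P) (P₀_restrict V P hP)
  refine ⟨(DCoh.Lpull f).mapIso eP.symm ≪≫ (e.app _).symm ≪≫ (c.app _).symm ≪≫
    (DCoh.Lpull g).mapIso (f1 ≪≫ DerivedCategory.Q.mapIso ?_) ≪≫ f2⟩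
  exact ((NatIso.mapHomologicalComplex (Scheme.Modules.restrictFunctorIsoPullback V.ι)
    (ComplexShape.up ℤ)).app P).symm

/-- the fibres of an `m`-pseudo-coherent object in degrees `> m` through a strictly perfect local model -/
theorem exists_model_homology (E : DCoh.D X) (m : ℤ) (hE : DCoh.IsPseudoCoherentD m E) (x₀ : X) :
    ∃ (V : X.Opens), x₀ ∈ V ∧ ∃ S : CochainComplex (V : Scheme.{u}).Modules ℤ, DCoh.IsStrictlyPerfect S ∧
      ∀ {Z : Scheme.{u}} (f : Z ⟶ X) [DCoh.HasLpull f] (g : Z ⟶ (V : Scheme.{u})), g ≫ V.ι = f →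
        ∀ i : ℤ, m < i → Nonempty (DCoh.HD ((DCoh.Lpull f).obj E) i ≅
          ((EulerLocConst.pullCx g).obj S).homology i) := by
  obtain ⟨V, hx₀V, hV⟩ := hE x₀
  obtain ⟨P, hP, ⟨eP⟩⟩ := Groth.Agent.Lib.helper13.LpullQCoh.exists_P₀_rep E
  obtain ⟨S, α, hS, hα1, hα2⟩ := hV P ⟨eP⟩
  refine ⟨V, hx₀V, S, hS, ?_⟩
  intro Z f _ g hg i hi
  have hα : IsoAbove m α := ⟨hα1, hα2⟩
  obtain ⟨A', s, hs, g', rfl⟩ := DerivedCategory.right_fac α
  obtain ⟨A'', r, hA'', hr⟩ := hres₀ A'
  have hSP := P₀_of_isStrictlyPerfect S hS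
  have hBP := P₀_restrict V P hP
  have hr' : IsIso (DerivedCategory.Q.map r) := by
    rw [DerivedCategory.isIso_Q_map_iff_quasiIso]; exact hr
  have hs' : IsIso (DerivedCategory.Q.map (r ≫ s)) := by
    rw [Functor.map_comp]; infer_instance
  have hqs : QuasiIso (r ≫ s) := by
    rw [← DerivedCategory.isIso_Q_map_iff_quasiIso]; exact hs'
  have hg'' : IsoAbove m (DerivedCategory.Q.map (r ≫ g')) := by
    have : DerivedCategory.Q.map (r ≫ g') =
        DerivedCategory.Q.map (r ≫ s) ≫ (inv (DerivedCategory.Q.map s) ≫ DerivedCategory.Q.map g') := by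
      rw [Functor.map_comp, Functor.map_comp, Category.assoc, IsIso.hom_inv_id_assoc]
    rw [this]
    exact hα.iso_comp _
  have h1 := isoAbove_Q_map_pullCx g (r ≫ g') hA'' hBP m hg''
  have h2 : QuasiIso ((Groth.Agent.Lib.Helper25.LpullPC.pullCx g).map (r ≫ s)) :=
    quasiIso_pullback_map g (r ≫ s) hA'' hSP hqs
  obtain ⟨e⟩ := nonempty_Lpull_iso_restrict f V g hg E P hP eP
  have h1' := ((isoAbove_Q_map_iff _ m).1 h1).1 i hi
  have h2' : IsIso (HomologicalComplex.homologyMap ((Groth.Agent.Lib.Helper25.LpullPC.pullCx g).map (r ≫ s)) i) :=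
    (quasiIsoAt_iff_isIso_homologyMap _ i).1 inferInstance
  exact ⟨(DerivedCategory.homologyFunctor _ i).mapIso e ≪≫
    (DerivedCategory.homologyFunctorFactors _ i).app _ ≪≫
    (asIso (HomologicalComplex.homologyMap ((Groth.Agent.Lib.Helper25.LpullPC.pullCx g).map (r ≫ g')) i)).symm ≪≫
    asIso (HomologicalComplex.homologyMap ((Groth.Agent.Lib.Helper25.LpullPC.pullCx g).map (r ≫ s)) i)⟩

end Groth.Agent.Lib.helper13.BettiPC
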