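import Mathlib
import Groth.Prelude.Def_PerfD
import Groth.Agent.Lib.Helper13.BettiPC
import Groth.Agent.Lib.Helper13.BettiFormula
import Groth.Agent.Lib.Helper16.FLF7
import Groth.Agent.Lib.Helper7.CohKer

set_option autoImplicit false
universe u
open CategoryTheory CategoryTheory.Limits AlgebraicGeometry Opposite TopologicalSpace

attribute [local instance] HasDerivedCategory.standard

/-!
# Upper semicontinuity of the fibre dimensions of a pseudo-coherent object (helper13; = S6199, S1060)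
-/

namespace Groth.Agent.Lib.helper13.BettiUSC
open Groth.Agent.Lib.Helper25.LpullAdapted Groth.Agent.Lib.Helper25.LpullPerfect
  Groth.Agent.Lib.helper13.EulerLocConst Groth.Agent.Lib.helper13.PointGamma
  Groth.Agent.Lib.helper13.PointRank Groth.Agent.Lib.helper13.FibreNu
  Groth.Agent.Lib.helper13.BettiPC Groth.Agent.Lib.helper13.BettiFormula
  Groth.Agent.Lib.helper22.EulerChar

variable {X : Scheme.{u}}

section point

variable (V : X.Opens) (y' : (V : Scheme.{u}))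

lemma range_subset : Set.range (X.fromSpecResidueField (V.ι y')) ⊆ Set.range V.ι := by
  rw [Scheme.range_fromSpecResidueField]
  rintro _ rfl
  exact ⟨y', rfl⟩

/-- the point `Spec κ(y) ⟶ V` -/
noncomputable def gy : Zy (V.ι y') ⟶ (V : Scheme.{u}) :=
  IsOpenImmersion.lift V.ι (X.fromSpecResidueField (V.ι y')) (range_subset V y')

lemma gy_fac : gy V y' ≫ V.ι = X.fromSpecResidueField (V.ι y') := IsOpenImmersion.lift_fac _ _ _

lemma gy_apply (z : Zy (V.ι y')) : gy V y' z = y' := by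
  apply V.ι.isOpenEmbedding.injective
  have := congrArg (fun φ : Zy (V.ι y') ⟶ X => φ z) (gy_fac V y')
  exact this.trans (Scheme.fromSpecResidueField_apply _ z)

/-- finiteness of the fibre of a finite locally free module -/
lemma P_pullback_of_isFinLocFree (M : (V : Scheme.{u}).Modules) (hM : FlatMod.IsFinLocFree M) :
    P (Zy (V.ι y')) ((Scheme.Modules.pullback (gy V y')).obj M) := by
  obtain ⟨U, r, hU, ⟨iso⟩⟩ := hM y'
  obtain ⟨iso'⟩ := nonempty_pullback_restrict_iso (gy V y') M U r iso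
  obtain ⟨z⟩ := (inferInstance : Nonempty (Zy (V.ι y')))
  have hz : z ∈ (gy V y') ⁻¹ᵁ U := by
    show gy V y' z ∈ U
    rw [gy_apply]
    exact hU
  exact (finrank_of_restrict_iso (isField_Γtop (V.ι y')) z _ _ hz r iso').1

/-- the fibre dimension of a module which is free of rank `r` near the point -/
lemma φ_pullback_of_restrict_iso (M : (V : Scheme.{u}).Modules) (U : (V : Scheme.{u}).Opens) (hU : y' ∈ U)
    (r : ℕ) (iso : M.restrict U.ι ≅ FlatMod.freeMod (↑U) r) :
    φ (Zy (V.ι y')) ((Scheme.Modules.pullback (gy V y')).obj M) = r := by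
  obtain ⟨iso'⟩ := nonempty_pullback_restrict_iso (gy V y') M U r iso
  obtain ⟨z⟩ := (inferInstance : Nonempty (Zy (V.ι y')))
  have hz : z ∈ (gy V y') ⁻¹ᵁ U := by
    show gy V y' z ∈ U
    rw [gy_apply]
    exact hU
  have h2 := (finrank_of_restrict_iso (isField_Γtop (V.ι y')) z _ _ hz r iso').2
  simp only [φ]
  exact_mod_cast h2

end point

/-- **Upper semicontinuity of `β_p` for a `(p-1)`-pseudo-coherent object.** -/
theorem main (X : Scheme.{u}) [∀ x : X, DCoh.HasLpull (X.fromSpecResidueField x)]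
    (E : DCoh.D X) (p : ℤ) (hE : DCoh.IsPseudoCoherentD (p - 1) E) (n : ℕ) :
    IsOpen {x : X | PerfD.betti E x p < n} := by
  rw [isOpen_iff_forall_mem_open]
  intro x₀ hx₀
  obtain ⟨V, hx₀V, S, hS, hmodel⟩ := exists_model_homology E (p - 1) hE x₀
  obtain ⟨-, hf⟩ := id hS
  let x₀' : (V : Scheme.{u}) := ⟨x₀, hx₀V⟩
  obtain ⟨U, r, hx₀U, ⟨iso⟩⟩ := hf (p + 1) x₀'
  -- the two cokernels
  let N₁ := cokernel (S.d (p - 1) p)
  let N₂ := cokernel (S.d p (p + 1))
  haveI hq : ∀ i, (S.X i).IsQuasicoherent := fun i =>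
    Groth.Agent.Lib.helper16.FLF.isQuasicoherent_of_isFinLocFree _ (hf i)
  haveI : N₁.IsQuasicoherent := Groth.Agent.Lib.helper7.CohKer.isQuasicoherent_cokernel _
  haveI : N₂.IsQuasicoherent := Groth.Agent.Lib.helper7.CohKer.isQuasicoherent_cokernel _
  have hft₁ : SheafOfModules.IsFiniteType (R := (V : Scheme.{u}).ringCatSheaf) N₁ :=
    Groth.Agent.Lib.helper7.CohKer.isFiniteType_of_epi (cokernel.π _)
      (Groth.Agent.Lib.helper16.FLF.isFiniteType_of_isFinLocFree _ (hf p))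
  have hft₂ : SheafOfModules.IsFiniteType (R := (V : Scheme.{u}).ringCatSheaf) N₂ :=
    Groth.Agent.Lib.helper7.CohKer.isFiniteType_of_epi (cokernel.π _)
      (Groth.Agent.Lib.helper16.FLF.isFiniteType_of_isFinLocFree _ (hf (p + 1)))
  -- the formula at every point of `U`
  have key : ∀ y' : (V : Scheme.{u}), y' ∈ U →
      (PerfD.betti E (V.ι y') p : ℤ) + r = (nu N₁ (gy V y') : ℤ) + (nu N₂ (gy V y') : ℤ) := by
    intro y' hy'
    obtain ⟨e⟩ := hmodel (X.fromSpecResidueField (V.ι y')) (gy V y') (gy_fac V y') p (by omega)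
    have hadd := isAdditiveOn (Zy (V.ι y')) (isField_Γtop (V.ι y'))
    have h1 : (PerfD.betti E (V.ι y') p : ℤ) =
        φ (Zy (V.ι y')) (((EulerLocConst.pullCx (gy V y')).obj S).homology p) := hadd.iso e
    have h2 := phi_homology_pullCx (isField_Γtop (V.ι y')) (gy V y') S p
      (P_pullback_of_isFinLocFree V y' _ (hf p)) (P_pullback_of_isFinLocFree V y' _ (hf (p + 1)))
    rw [φ_pullback_of_restrict_iso V y' _ U hy' r iso] at h2
    rw [h1]
    exact h2
  obtain ⟨z₀⟩ := (inferInstance : Nonempty (Zy (V.ι x₀')))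
  obtain ⟨W₁, hW₁, hle₁⟩ := exists_nhd_nu_le N₁ hft₁ (isField_Γtop (V.ι x₀')) (gy V x₀') z₀
  obtain ⟨W₂, hW₂, hle₂⟩ := exists_nhd_nu_le N₂ hft₂ (isField_Γtop (V.ι x₀')) (gy V x₀') z₀
  rw [gy_apply] at hW₁ hW₂
  refine ⟨V.ι '' ((U ⊓ W₁ ⊓ W₂ : (V : Scheme.{u}).Opens) : Set (V : Scheme.{u})), ?_,
    V.ι.isOpenEmbedding.isOpenMap _ (U ⊓ W₁ ⊓ W₂).isOpen, ⟨x₀', ⟨⟨hx₀U, hW₁⟩, hW₂⟩, rfl⟩⟩
  rintro _ ⟨y', ⟨⟨hy'U, hy'W₁⟩, hy'W₂⟩, rfl⟩
  have k1 := key y' hy'U
  have k0 := key x₀' hx₀U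
  have l1 := hle₁ (isField_Γtop (V.ι y')) (gy V y') (fun z => by rw [gy_apply]; exact hy'W₁)
  have l2 := hle₂ (isField_Γtop (V.ι y')) (gy V y') (fun z => by rw [gy_apply]; exact hy'W₂)
  have hx₀n : PerfD.betti E (V.ι x₀') p < n := hx₀
  show PerfD.betti E (V.ι y') p < n
  omega

end Groth.Agent.Lib.helper13.BettiUSC
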