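import Mathlib

/-!
# Splitting off a contractible quotient complex (helper13, towards S12098)

Mathlib only, `C` preadditive with binary biproducts, cochain complexes indexed by `ℤ`.
* `nonempty_iso_biprod`: a degreewise split short exact sequence `0 → B → Y → Z → 0` of complexes
  (given by chain maps `i`, `p` and degree `0` cochains `r`, `σ`) with `Z` contractible splits:
  `Y ≅ B ⊞ Z`.
* `nonempty_cone_iso_biprod`: for `ι : M ⟶ W` and a biproduct decomposition `W = X₁ ⊕ X₂`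
  (`a₁ a₂ b₁ b₂`) such that the cone of `ι ≫ b₁ : M ⟶ X₁` is contractible,
  `cone ι ≅ X₂ ⊞ cone (ι ≫ b₁)`.
* `homotopyConeId`: the cone of the identity is contractible.
* `nonempty_biprod_cone_iso`: for `α : M ⟶ N` with contractible cone,
  `M ⊞ cone α ≅ N ⊞ cone (𝟙 M)`.
-/

set_option autoImplicit false
universe v u
open CategoryTheory CategoryTheory.Limits CochainComplex HomComplex

namespace Groth.Agent.Lib.helper13.BiTriv

variable {C : Type u} [Category.{v} C] [Preadditive C] [HasBinaryBiproducts C]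

section Split

variable {B Y Z : CochainComplex C ℤ} (i : B ⟶ Y) (p : Y ⟶ Z) (w : i ≫ p = 0)
  (r : Cochain Y B 0) (σ : Cochain Z Y 0)
  (h1 : (Cochain.ofHom i).comp r (zero_add 0) = Cochain.ofHom (𝟙 B))
  (h2 : σ.comp (Cochain.ofHom p) (zero_add 0) = Cochain.ofHom (𝟙 Z))
  (h3 : r.comp (Cochain.ofHom i) (zero_add 0) + (Cochain.ofHom p).comp σ (zero_add 0) =
    Cochain.ofHom (𝟙 Y))
  (hZ : Homotopy (𝟙 Z) 0)

include w h1 h2 h3 hZ in
theorem nonempty_iso_biprod : Nonempty (Y ≅ B ⊞ Z) := by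
  obtain ⟨s, hs⟩ := Cochain.equivHomotopy _ _ hZ
  have hs' : δ (-1) 0 s = Cochain.ofHom (𝟙 Z) := by
    rw [hs, Cochain.ofHom_zero, add_zero]
  -- the section `τ`
  let t : Cochain Z Y (-1) := s.comp σ (add_zero (-1))
  let τc : Cocycle Z Y 0 := Cocycle.mk (δ (-1) 0 t) 1 (zero_add 1) (δ_δ _ _ _ _)
  let τ : Z ⟶ Y := Cocycle.homOf τc
  have hτ : Cochain.ofHom τ = δ (-1) 0 t := Cocycle.cochain_ofHom_homOf_eq_coe τc
  have hτp : τ ≫ p = 𝟙 Z := by
    apply Cochain.ofHom_injective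
    rw [Cochain.ofHom_comp, hτ, ← δ_comp_ofHom]
    dsimp only [t]
    rw [Cochain.comp_assoc_of_third_is_zero_cochain, h2, Cochain.comp_id, hs']
  -- the idempotent `e = 𝟙 - p ≫ τ`
  let e : Y ⟶ Y := 𝟙 Y - p ≫ τ
  have hep : e ≫ p = 0 := by
    dsimp only [e]
    rw [Preadditive.sub_comp, Category.assoc, hτp, Category.id_comp, Category.comp_id, sub_self]
  have hie : i ≫ e = i := by
    dsimp only [e]
    rw [Preadditive.comp_sub, Category.comp_id, reassoc_of% w, zero_comp, sub_zero]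
  have hτe : τ ≫ e = 0 := by
    dsimp only [e]
    rw [Preadditive.comp_sub, Category.comp_id, reassoc_of% hτp, sub_self]
  -- the retraction `ρ`
  let ρ0 : Cochain Y B 0 := (Cochain.ofHom e).comp r (zero_add 0)
  have hρ0i : ρ0.comp (Cochain.ofHom i) (zero_add 0) = Cochain.ofHom e := by
    dsimp only [ρ0]
    rw [Cochain.comp_assoc_of_first_is_zero_cochain, eq_sub_of_add_eq h3, Cochain.comp_sub,
      Cochain.comp_id, ← Cochain.comp_assoc_of_first_is_zero_cochain, ← Cochain.ofHom_comp, hep,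
      Cochain.ofHom_zero, Cochain.zero_comp, sub_zero]
  have hcancel : ∀ {n : ℤ} (x : Cochain Y B n), x.comp (Cochain.ofHom i) (add_zero n) = 0 →
      x = 0 := by
    intro n x hx
    have := congrArg (fun y => y.comp r (add_zero n)) hx
    simp only [Cochain.comp_assoc_of_third_is_zero_cochain, h1, Cochain.comp_id,
      Cochain.zero_comp] at this
    exact this
  have hδρ0 : δ 0 1 ρ0 = 0 := by
    apply hcancel
    rw [← δ_comp_ofHom, hρ0i, δ_ofHom]
  let ρ : Y ⟶ B := Cocycle.homOf (Cocycle.mk ρ0 1 (zero_add 1) hδρ0)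
  have hρ : Cochain.ofHom ρ = ρ0 := Cocycle.cochain_ofHom_homOf_eq_coe _
  have hρi : ρ ≫ i = e := by
    apply Cochain.ofHom_injective
    rw [Cochain.ofHom_comp, hρ, hρ0i]
  have hiρ : i ≫ ρ = 𝟙 B := by
    apply Cochain.ofHom_injective
    rw [Cochain.ofHom_comp, hρ]
    dsimp only [ρ0]
    rw [← Cochain.comp_assoc_of_first_is_zero_cochain, ← Cochain.ofHom_comp, hie, h1]
  have hτρ : τ ≫ ρ = 0 := by
    apply Cochain.ofHom_injective
    rw [Cochain.ofHom_comp, hρ]
    dsimp only [ρ0]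
    rw [← Cochain.comp_assoc_of_first_is_zero_cochain, ← Cochain.ofHom_comp, hτe,
      Cochain.ofHom_zero, Cochain.zero_comp, Cochain.ofHom_zero]
  let bc : BinaryBicone B Z :=
    { pt := Y
      fst := ρ
      snd := p
      inl := i
      inr := τ
      inl_fst := hiρ
      inl_snd := w
      inr_fst := hτρ
      inr_snd := hτp }
  have hb : bc.IsBilimit := isBinaryBilimitOfTotal bc (by
    change ρ ≫ i + p ≫ τ = 𝟙 Y
    rw [hρi]
    dsimp only [e]
    abel)
  exact ⟨biprod.uniqueUpToIso B Z hb⟩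

end Split

section Cone

open mappingCone

variable {M W X₁ X₂ : CochainComplex C ℤ} (ι : M ⟶ W)
  (a₁ : X₁ ⟶ W) (a₂ : X₂ ⟶ W) (b₁ : W ⟶ X₁) (b₂ : W ⟶ X₂)

/-- the projection `cone ι ⟶ cone (ι ≫ b₁)` -/
noncomputable def coneProj : mappingCone ι ⟶ mappingCone (ι ≫ b₁) :=
  lift (ι ≫ b₁) (fst ι) ((snd ι).comp (Cochain.ofHom b₁) (add_zero 0)) (by
    rw [δ_comp_ofHom, δ_snd, Cochain.neg_comp, Cochain.comp_assoc_of_third_is_zero_cochain,
      ← Cochain.ofHom_comp, neg_add_cancel])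

lemma coneProj_fst :
    (Cochain.ofHom (coneProj ι b₁)).comp (fst (ι ≫ b₁)).1 (zero_add 1) = (fst ι).1 :=
  lift_fst _ _ _ _

lemma coneProj_snd :
    (Cochain.ofHom (coneProj ι b₁)).comp (snd (ι ≫ b₁)) (zero_add 0) =
      (snd ι).comp (Cochain.ofHom b₁) (add_zero 0) :=
  lift_snd _ _ _ _

lemma inr_coneProj : inr ι ≫ coneProj ι b₁ = b₁ ≫ inr (ι ≫ b₁) := by
  apply Cochain.ofHom_injective
  rw [ext_cochain_to_iff _ 0 1 (zero_add 1)]
  constructor
  · rw [Cochain.ofHom_comp, Cochain.comp_assoc_of_first_is_zero_cochain, coneProj_fst, inr_fst,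
      Cochain.ofHom_comp, Cochain.comp_assoc_of_first_is_zero_cochain, inr_fst, Cochain.comp_zero]
  · rw [Cochain.ofHom_comp, Cochain.comp_assoc_of_first_is_zero_cochain, coneProj_snd,
      ← Cochain.comp_assoc_of_first_is_zero_cochain, inr_snd, Cochain.id_comp, Cochain.ofHom_comp,
      Cochain.comp_assoc_of_first_is_zero_cochain, inr_snd, Cochain.comp_id]

lemma inl_coneProj :
    (inl ι).comp (Cochain.ofHom (coneProj ι b₁)) (add_zero (-1)) = inl (ι ≫ b₁) := by
  rw [ext_cochain_to_iff _ (-1) 0 (neg_add_cancel 1)]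
  constructor
  · rw [Cochain.comp_assoc_of_second_is_zero_cochain, coneProj_fst, inl_fst, inl_fst]
  · rw [Cochain.comp_assoc_of_second_is_zero_cochain, coneProj_snd,
      ← Cochain.comp_assoc_of_third_is_zero_cochain, inl_snd, Cochain.zero_comp, inl_snd]

variable (h11 : a₁ ≫ b₁ = 𝟙 X₁) (h22 : a₂ ≫ b₂ = 𝟙 X₂) (h21 : a₂ ≫ b₁ = 0)
  (htot : b₁ ≫ a₁ + b₂ ≫ a₂ = 𝟙 W)
  (hZ : Homotopy (𝟙 (mappingCone (ι ≫ b₁))) 0)

include h11 h22 h21 htot hZ in
theorem nonempty_cone_iso_biprod : Nonempty (mappingCone ι ≅ X₂ ⊞ mappingCone (ι ≫ b₁)) := by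
  refine nonempty_iso_biprod (a₂ ≫ inr ι) (coneProj ι b₁) ?_
    ((snd ι).comp (Cochain.ofHom b₂) (add_zero 0))
    ((fst (ι ≫ b₁)).1.comp (inl ι) (add_neg_cancel 1) +
      (snd (ι ≫ b₁)).comp (Cochain.ofHom (a₁ ≫ inr ι)) (add_zero 0)) ?_ ?_ ?_ hZ
  · rw [Category.assoc, inr_coneProj, reassoc_of% h21, zero_comp]
  · rw [Cochain.ofHom_comp, Cochain.comp_assoc_of_first_is_zero_cochain,
      ← Cochain.comp_assoc_of_first_is_zero_cochain (Cochain.ofHom (inr ι)), inr_snd,
      Cochain.id_comp, ← Cochain.ofHom_comp, h22]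
  · rw [Cochain.add_comp, Cochain.comp_assoc_of_third_is_zero_cochain, inl_coneProj,
      Cochain.comp_assoc_of_first_is_zero_cochain, ← Cochain.ofHom_comp, Category.assoc,
      inr_coneProj, reassoc_of% h11]
    exact mappingCone.id (ι ≫ b₁)
  · rw [Cochain.comp_add, ← Cochain.comp_assoc_of_first_is_zero_cochain,
      ← Cochain.comp_assoc_of_first_is_zero_cochain, coneProj_snd, coneProj_fst,
      Cochain.comp_assoc_of_third_is_zero_cochain, Cochain.comp_assoc_of_third_is_zero_cochain,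
      ← Cochain.ofHom_comp, ← Cochain.ofHom_comp, add_left_comm, ← Cochain.comp_add,
      ← Cochain.ofHom_add, ← Category.assoc, ← Category.assoc, ← Preadditive.add_comp,
      add_comm (b₂ ≫ a₂), htot, Category.id_comp]
    exact mappingCone.id ι

include h11 h22 h21 htot in
theorem nonempty_cone_iso_biprod' (φ' : M ⟶ X₁) (hφ : ι ≫ b₁ = φ')
    (hZ' : Homotopy (𝟙 (mappingCone φ')) 0) : Nonempty (mappingCone ι ≅ X₂ ⊞ mappingCone φ') := by
  subst hφ
  exact nonempty_cone_iso_biprod ι a₁ a₂ b₁ b₂ h11 h22 h21 htot hZ'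

end Cone

section Main

open mappingCone

/-- the cone of the identity is contractible -/
noncomputable def homotopyConeId (M : CochainComplex C ℤ) :
    Homotopy (𝟙 (mappingCone (𝟙 M))) 0 :=
  (Cochain.equivHomotopy _ _).symm ⟨(snd (𝟙 M)).comp (inl (𝟙 M)) (zero_add (-1)), by
    rw [δ_zero_cochain_comp _ _ _ (neg_add_cancel 1), δ_inl, δ_snd, Cochain.ofHom_zero, add_zero,
      Category.id_comp, Cochain.neg_comp, Int.negOnePow_neg, Int.negOnePow_one, Units.neg_smul,
      one_smul, neg_neg, Cochain.comp_id, add_comm]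
    exact (mappingCone.id (𝟙 M)).symm⟩

theorem nonempty_biprod_cone_iso {M N : CochainComplex C ℤ} (α : M ⟶ N)
    (hα : Homotopy (𝟙 (mappingCone α)) 0) :
    Nonempty (M ⊞ mappingCone α ≅ N ⊞ mappingCone (𝟙 M)) := by
  obtain ⟨e₁⟩ := nonempty_cone_iso_biprod' (biprod.lift (𝟙 M) α) (biprod.inr : N ⟶ M ⊞ N)
    biprod.inl biprod.snd biprod.fst (by simp) (by simp) (by simp)
    (by rw [add_comm]; exact biprod.total) α (by simp) hα
  obtain ⟨e₂⟩ := nonempty_cone_iso_biprod' (biprod.lift (𝟙 M) α) (biprod.inl : M ⟶ M ⊞ N)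
    biprod.inr biprod.fst biprod.snd (by simp) (by simp) (by simp)
    biprod.total (𝟙 M) (by simp) (homotopyConeId M)
  exact ⟨e₁.symm ≪≫ e₂⟩

end Main

end Groth.Agent.Lib.helper13.BiTriv
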