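import Mathlib

/-!
# Making finitely many finite projective modules free on a principal open (helper13, S12098)

Mathlib only.
* `free_away_of_dvd`: `E_f` free and `f ∣ g` imply `E_g` free (modules in the form
  `Localization.Away g ⊗[R] E`).
* `exists_free_away_single`: a finite projective module becomes free on a principal open
  neighbourhood of a given prime.
* `exists_free_away_finset`, `exists_free_away_int`: finite families (persistent form:
  `∃ f ∉ p, ∀ g, f ∣ g → …`).
-/

set_option autoImplicit false
universe u
open TensorProduct

namespace Groth.Agent.Lib.helper13.BiTriv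

variable {R : Type u} [CommRing R]

theorem free_away_of_dvd (E : Type u) [AddCommGroup E] [Module R E] (f g : R) (hfg : f ∣ g)
    (h : Module.Free (Localization.Away f) (Localization.Away f ⊗[R] E)) :
    Module.Free (Localization.Away g) (Localization.Away g ⊗[R] E) := by
  have hu : IsUnit (algebraMap R (Localization.Away g) f) :=
    isUnit_of_dvd_unit (map_dvd (algebraMap R (Localization.Away g)) hfg)
      (IsLocalization.Away.algebraMap_isUnit g)
  let φ : Localization.Away f →+* Localization.Away g :=
    IsLocalization.Away.lift (S := Localization.Away f) f hu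
  letI : Algebra (Localization.Away f) (Localization.Away g) := φ.toAlgebra
  haveI : IsScalarTower R (Localization.Away f) (Localization.Away g) :=
    IsScalarTower.of_algebraMap_eq (fun x => by
      change _ = φ (algebraMap R (Localization.Away f) x)
      exact (IsLocalization.Away.lift_eq (S := Localization.Away f) f hu x).symm)
  exact Module.Free.of_equiv
    (TensorProduct.AlgebraTensorModule.cancelBaseChange R (Localization.Away f)
      (Localization.Away g) (Localization.Away g) E)

theorem exists_free_away_single (p : Ideal R) [p.IsPrime] (E : Type u) [AddCommGroup E]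
    [Module R E] [Module.Finite R E] [Module.Projective R E] :
    ∃ f : R, f ∉ p ∧ Module.Free (Localization.Away f) (Localization.Away f ⊗[R] E) := by
  haveI : Module.FinitePresentation R E := Module.finitePresentation_of_projective R E
  haveI hfree : Module.Free (Localization.AtPrime p) (LocalizedModule p.primeCompl E) := by
    have h := Module.freeLocus_eq_univ (R := R) (M := E)
    exact (Set.eq_univ_iff_forall.1 h) ⟨p, inferInstance⟩
  obtain ⟨r, hr, hr', _⟩ := Module.FinitePresentation.exists_free_localizedModule_powers
    p.primeCompl (LocalizedModule.mkLinearMap p.primeCompl E) (Localization.AtPrime p)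
  refine ⟨r, hr, ?_⟩
  have hb : IsBaseChange (Localization.Away r) (LocalizedModule.mkLinearMap (.powers r) E) :=
    IsLocalizedModule.isBaseChange (.powers r) (Localization.Away r) _
  haveI := hr'
  exact Module.Free.of_equiv hb.equiv.symm

theorem exists_free_away_finset (p : Ideal R) [p.IsPrime] {ι : Type*} (s : Finset ι)
    (E : ι → Type u) [∀ i, AddCommGroup (E i)] [∀ i, Module R (E i)]
    (hfp : ∀ i ∈ s, Module.Finite R (E i) ∧ Module.Projective R (E i)) :
    ∃ f : R, f ∉ p ∧ ∀ g : R, f ∣ g → ∀ i ∈ s,
      Module.Free (Localization.Away g) (Localization.Away g ⊗[R] E i) := by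
  classical
  induction s using Finset.induction_on with
  | empty => exact ⟨1, fun h => (Ideal.ne_top_iff_one p).1 (Ideal.IsPrime.ne_top inferInstance) h,
      fun g _ i hi => absurd hi (Finset.notMem_empty i)⟩
  | insert a s ha ih =>
    obtain ⟨f₁, hf₁, h₁⟩ := ih (fun i hi => hfp i (Finset.mem_insert_of_mem hi))
    obtain ⟨hfin, hproj⟩ := hfp a (Finset.mem_insert_self a s)
    obtain ⟨f₂, hf₂, h₂⟩ := exists_free_away_single p (E a)
    refine ⟨f₁ * f₂, fun h => ?_, fun g hg i hi => ?_⟩
    · rcases Ideal.IsPrime.mem_or_mem inferInstance h with h | h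
      · exact hf₁ h
      · exact hf₂ h
    · rcases Finset.mem_insert.1 hi with rfl | hi
      · exact free_away_of_dvd _ f₂ g (dvd_trans (dvd_mul_left f₂ f₁) hg) h₂
      · exact h₁ g (dvd_trans (dvd_mul_right f₁ f₂) hg) i hi

theorem exists_free_away_int (p : Ideal R) [p.IsPrime] (E : ℤ → Type u)
    [∀ i, AddCommGroup (E i)] [∀ i, Module R (E i)] (a b : ℤ)
    (h0 : ∀ i, i < a ∨ b < i → Subsingleton (E i))
    (hfp : ∀ i, Module.Finite R (E i) ∧ Module.Projective R (E i)) :
    ∃ f : R, f ∉ p ∧ ∀ g : R, f ∣ g → ∀ i,
      Module.Free (Localization.Away g) (Localization.Away g ⊗[R] E i) := by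
  obtain ⟨f, hf, h⟩ := exists_free_away_finset p (Finset.Icc a b) E (fun i _ => hfp i)
  refine ⟨f, hf, fun g hg i => ?_⟩
  by_cases hi : i ∈ Finset.Icc a b
  · exact h g hg i hi
  · haveI : Subsingleton (E i) := h0 i (by
      rw [Finset.mem_Icc] at hi
      omega)
    haveI : Subsingleton (Localization.Away g ⊗[R] E i) := inferInstance
    exact Module.Free.of_subsingleton _ _

end Groth.Agent.Lib.helper13.BiTriv
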