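import Mathlib
import Groth.Prelude.Def_DRing2
import Groth.Agent.Lib.Helper13.BiTriv2

/-!
# Base change of a contractible bounded complex of finite projectives (helper13, S12098)

* `extendObjEquiv`: `(extendScalars (algebraMap R S)).obj X ≃ₗ[S] S ⊗[R] X` (as in helper23 `ExtSc2`).
* `rangeExtendEquiv`: for `S` flat, the image of `S ⊗ g` is `S ⊗ (image of g)`.
* `finProj_range_d`: boundaries of a contractible complex of finite projectives are finite
  projective.
* `exists_free_away_cx`: a principal open neighbourhood of `p` on which all terms and boundaries of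
  such a bounded complex become free.
* `trivial_extend`: the base changed complex is bounded, termwise finite free, with free
  boundaries and contractible.
-/

set_option autoImplicit false
universe u
open CategoryTheory CategoryTheory.Limits TensorProduct

namespace Groth.Agent.Lib.helper13.BiTriv

section Equiv

variable {A B : Type u} [CommRing A] [CommRing B] [Algebra A B]

/-- `B` with its restricted module structure is `B`. -/
noncomputable def e₀ :
    ((ModuleCat.restrictScalars.{u} (algebraMap A B)).obj (ModuleCat.of B B)) ≃ₗ[A] B :=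
  { toFun := fun x => x
    invFun := fun x => x
    map_add' := fun _ _ => rfl
    map_smul' := fun a (x : B) => (Algebra.smul_def a x).symm
    left_inv := fun _ => rfl
    right_inv := fun _ => rfl }

noncomputable def T (M : ModuleCat.{u} A) :
    (((ModuleCat.restrictScalars.{u} (algebraMap A B)).obj (ModuleCat.of B B)) ⊗[A] M) ≃ₗ[A]
      (B ⊗[A] M) :=
  TensorProduct.congr (e₀ (A := A) (B := B)) (LinearEquiv.refl A M)

set_option backward.isDefEq.respectTransparency false in
lemma T_smul (M : ModuleCat.{u} A) (b : B)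
    (z : ((ModuleCat.extendScalars.{u, u, u} (algebraMap A B)).obj M)) :
    T M (b • z) = b • T M z := by
  letI m1 : Module A B := Module.compHom B (algebraMap A B)
  induction z using TensorProduct.induction_on with
  | zero => rw [smul_zero, map_zero, smul_zero]
  | tmul y m => rfl
  | add x y hx hy => rw [smul_add, map_add, hx, hy, map_add, smul_add]

/-- the object of `extendScalars` is the usual base change. -/
noncomputable def extendObjEquiv (M : ModuleCat.{u} A) :
    ((ModuleCat.extendScalars.{u, u, u} (algebraMap A B)).obj M) ≃ₗ[B] (B ⊗[A] M) :=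
  { toFun := fun z => T M z
    invFun := fun z => (T M).symm z
    map_add' := fun x y => map_add (T M) x y
    map_smul' := fun b z => T_smul M b z
    left_inv := (T M).left_inv
    right_inv := (T M).right_inv }

lemma free_extend (M : ModuleCat.{u} A) (h : Module.Free B (B ⊗[A] M)) :
    Module.Free B ((ModuleCat.extendScalars.{u, u, u} (algebraMap A B)).obj M) :=
  Module.Free.of_equiv (extendObjEquiv (B := B) M).symm

lemma finite_extend (M : ModuleCat.{u} A) [Module.Finite A M] :
    Module.Finite B ((ModuleCat.extendScalars.{u, u, u} (algebraMap A B)).obj M) :=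
  Module.Finite.equiv (extendObjEquiv (B := B) M).symm

variable [Module.Flat A B]

/-- for `B` flat over `A`, the image of `B ⊗ g` is `B ⊗ (image of g)` -/
lemma nonempty_rangeExtendEquiv {X Y : ModuleCat.{u} A} (g : X ⟶ Y) :
    Nonempty (((ModuleCat.extendScalars.{u, u, u} (algebraMap A B)).obj
      (ModuleCat.of A (LinearMap.range g.hom))) ≃ₗ[B]
        LinearMap.range ((ModuleCat.extendScalars.{u, u, u} (algebraMap A B)).map g).hom) := by
  let F := ModuleCat.extendScalars.{u, u, u} (algebraMap A B)
  let q : X ⟶ ModuleCat.of A (LinearMap.range g.hom) := ModuleCat.ofHom g.hom.rangeRestrict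
  let j : ModuleCat.of A (LinearMap.range g.hom) ⟶ Y :=
    ModuleCat.ofHom (LinearMap.range g.hom).subtype
  have hqj : q ≫ j = g := by
    ext x
    rfl
  haveI : Epi q := (ModuleCat.epi_iff_surjective q).2 (LinearMap.surjective_rangeRestrict g.hom)
  haveI : Mono j := (ModuleCat.mono_iff_injective j).2 (Submodule.injective_subtype _)
  have hflat : (algebraMap A B).Flat := by
    rw [RingHom.flat_algebraMap_iff]
    infer_instance
  haveI := ModuleCat.preservesFiniteLimits_extendScalars_of_flat hflat
  haveI := (ModuleCat.extendRestrictScalarsAdj.{u, u, u} (algebraMap A B)).leftAdjoint_preservesColimits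
  haveI : Epi (F.map q) := inferInstance
  haveI : Mono (F.map j) := inferInstance
  have hs : Function.Surjective (F.map q).hom := (ModuleCat.epi_iff_surjective _).1 inferInstance
  have hi : Function.Injective (F.map j).hom := (ModuleCat.mono_iff_injective _).1 inferInstance
  have hr : LinearMap.range (F.map g).hom = LinearMap.range (F.map j).hom := by
    have h1 : (F.map g).hom = (F.map j).hom ∘ₗ (F.map q).hom := by
      rw [← ModuleCat.hom_comp, ← F.map_comp, hqj]
    rw [h1]
    exact LinearMap.range_comp_of_range_eq_top _ (LinearMap.range_eq_top.2 hs)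
  exact ⟨(LinearEquiv.ofInjective (F.map j).hom hi).trans (LinearEquiv.ofEq _ _ hr.symm)⟩

lemma free_range_extend {X Y : ModuleCat.{u} A} (g : X ⟶ Y)
    (h : Module.Free B (B ⊗[A] LinearMap.range g.hom)) :
    Module.Free B
      (LinearMap.range ((ModuleCat.extendScalars.{u, u, u} (algebraMap A B)).map g).hom) := by
  obtain ⟨e⟩ := nonempty_rangeExtendEquiv (B := B) g
  haveI := free_extend (B := B) (ModuleCat.of A (LinearMap.range g.hom)) h
  exact Module.Free.of_equiv e

end Equiv

section Cx

variable {R : Type u} [CommRing R]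

/-- in a contractible complex, `d s d = d` -/
lemma d_s_d (Z : DRing.Cx R) (hc : Homotopy (𝟙 Z) 0) (i : ℤ) (x : Z.X i) :
    (Z.d i (i + 1)).hom ((hc.hom (i + 1) i).hom ((Z.d i (i + 1)).hom x)) =
      (Z.d i (i + 1)).hom x := by
  have h := hc.comm i
  rw [dNext_eq hc.hom (show (ComplexShape.up ℤ).Rel i (i + 1) from rfl),
    prevD_eq hc.hom (show (ComplexShape.up ℤ).Rel (i - 1) i from by simp)] at h
  have h' := congrArg (fun φ => (Z.d i (i + 1)).hom (φ.hom x)) h
  simp only [HomologicalComplex.id_f, ModuleCat.hom_id, LinearMap.id_coe, id_eq,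
    HomologicalComplex.zero_f, add_zero, ModuleCat.hom_add, ModuleCat.hom_comp,
    LinearMap.add_apply, LinearMap.coe_comp, Function.comp_apply, map_add] at h'
  have h0 : (Z.d i (i + 1)).hom ((Z.d (i - 1) i).hom ((hc.hom i (i - 1)).hom x)) = 0 := by
    rw [← LinearMap.comp_apply, ← ModuleCat.hom_comp, Z.d_comp_d, ModuleCat.hom_zero,
      LinearMap.zero_apply]
  rw [h0, add_zero] at h'
  exact h'.symm

/-- boundaries of a contractible complex of finite projectives are finite projective -/
lemma finProj_range_d (Z : DRing.Cx R) (hc : Homotopy (𝟙 Z) 0)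
    (hfp : DRing.TermwiseFiniteProjective Z) (i : ℤ) :
    Module.Finite R (LinearMap.range (Z.d i (i + 1)).hom) ∧
      Module.Projective R (LinearMap.range (Z.d i (i + 1)).hom) := by
  obtain ⟨hfin, hproj⟩ := hfp (i + 1)
  let d := (Z.d i (i + 1)).hom
  let s := (hc.hom (i + 1) i).hom
  let r : Z.X (i + 1) →ₗ[R] LinearMap.range d :=
    (d ∘ₗ s).codRestrict (LinearMap.range d) (fun y => ⟨s y, rfl⟩)
  have hr : r ∘ₗ (LinearMap.range d).subtype = LinearMap.id := by
    ext ⟨y, x, rfl⟩
    exact d_s_d Z hc i x
  have hsurj : Function.Surjective r := fun y => ⟨y.1, LinearMap.congr_fun hr y⟩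
  exact ⟨Module.Finite.of_surjective r hsurj, Module.Projective.of_split _ r hr⟩

theorem exists_free_away_cx (p : Ideal R) [p.IsPrime] (Z : DRing.Cx R) (a b : ℤ)
    (hZ : DRing.VanishesOutside Z a b) (hfp : DRing.TermwiseFiniteProjective Z)
    (hc : Homotopy (𝟙 Z) 0) :
    ∃ f : R, f ∉ p ∧ ∀ g : R, f ∣ g →
      (∀ i, Module.Free (Localization.Away g) (Localization.Away g ⊗[R] Z.X i)) ∧
      (∀ i, Module.Free (Localization.Away g)
        (Localization.Away g ⊗[R] LinearMap.range (Z.d i (i + 1)).hom)) := by
  obtain ⟨f₁, hf₁, h₁⟩ := exists_free_away_int p (fun i => Z.X i) a b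
    (fun i hi => ModuleCat.subsingleton_of_isZero (hZ i hi)) hfp
  obtain ⟨f₂, hf₂, h₂⟩ := exists_free_away_int p
    (fun i => LinearMap.range (Z.d i (i + 1)).hom) (a - 1) b
    (fun i hi => by
      haveI : Subsingleton (Z.X (i + 1)) :=
        ModuleCat.subsingleton_of_isZero (hZ (i + 1) (by omega))
      infer_instance) (finProj_range_d Z hc hfp)
  refine ⟨f₁ * f₂, fun h => ?_, fun g hg => ⟨h₁ g (dvd_trans (dvd_mul_right f₁ f₂) hg),
    h₂ g (dvd_trans (dvd_mul_left f₂ f₁) hg)⟩⟩
  rcases Ideal.IsPrime.mem_or_mem inferInstance h with h | h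
  · exact hf₁ h
  · exact hf₂ h

open DRing in
theorem trivial_extend {S : Type u} [CommRing S] [Algebra R S] [Module.Flat R S] (Z : DRing.Cx R)
    (a b : ℤ) (hZ : DRing.VanishesOutside Z a b) (hfp : DRing.TermwiseFiniteProjective Z)
    (hc : Homotopy (𝟙 Z) 0)
    (hX : ∀ i, Module.Free S (S ⊗[R] Z.X i))
    (hB : ∀ i, Module.Free S (S ⊗[R] LinearMap.range (Z.d i (i + 1)).hom)) :
    (∃ a' b' : ℤ, DRing.VanishesOutside (((ModuleCat.extendScalars (algebraMap R S)).mapHomologicalComplex
      (ComplexShape.up ℤ)).obj Z) a' b') ∧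
    DRing.TermwiseFiniteFree (((ModuleCat.extendScalars (algebraMap R S)).mapHomologicalComplex
      (ComplexShape.up ℤ)).obj Z) ∧
    (∀ i : ℤ, Module.Free S (LinearMap.range
      ((((ModuleCat.extendScalars (algebraMap R S)).mapHomologicalComplex
        (ComplexShape.up ℤ)).obj Z).d i (i + 1)).hom)) ∧
    Nonempty (Homotopy (𝟙 (((ModuleCat.extendScalars (algebraMap R S)).mapHomologicalComplex
      (ComplexShape.up ℤ)).obj Z)) 0) := by
  haveI : (ModuleCat.extendScalars.{u, u, u} (algebraMap R S)).Additive :=
    (ModuleCat.extendRestrictScalarsAdj.{u, u, u} (algebraMap R S)).left_adjoint_additive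
  refine ⟨⟨a, b, fun i hi => ?_⟩, fun i => ⟨?_, ?_⟩, fun i => ?_, ⟨?_⟩⟩
  · exact Functor.map_isZero (ModuleCat.extendScalars (algebraMap R S)) (hZ i hi)
  · haveI := (hfp i).1
    exact finite_extend (B := S) (Z.X i)
  · exact free_extend (B := S) (Z.X i) (hX i)
  · exact free_range_extend (B := S) (Z.d i (i + 1)) (hB i)
  · exact (Homotopy.ofEq (by simp)).trans
      (((ModuleCat.extendScalars (algebraMap R S)).mapHomotopy hc).trans (Homotopy.ofEq (by simp)))

end Cx

end Groth.Agent.Lib.helper13.BiTriv
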