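import Mathlib

/-!
# Cardinality of a sigma type as an infinite sum in `ℕ∞`
-/

set_option autoImplicit false

namespace Groth.Agent.Lib.helper13.Br

universe u v

open Set

/-- In `ℕ∞` every family is summable, with sum the supremum of the finite partial sums. -/
lemma enat_hasSum {ι : Type*} (f : ι → ℕ∞) :
    HasSum f (⨆ s : Finset ι, ∑ i ∈ s, f i) :=
  hasSum_of_isLUB _ (isLUB_iSup)

lemma enat_tsum_eq_iSup {ι : Type*} (f : ι → ℕ∞) :
    ∑' i, f i = ⨆ s : Finset ι, ∑ i ∈ s, f i :=
  (enat_hasSum f).tsum_eq

lemma encard_sigma_finset {ι : Type u} {β : ι → Type v} (s : Finset ι) :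
    ({a : Σ i, β i | a.1 ∈ s} : Set (Σ i, β i)).encard = ∑ i ∈ s, ENat.card (β i) := by
  classical
  have h1 : ({a : Σ i, β i | a.1 ∈ s} : Set (Σ i, β i)) =
      ⋃ i ∈ (s : Set ι), Set.range (Sigma.mk i : β i → Σ i, β i) := by
    ext ⟨i, b⟩
    simp only [Set.mem_setOf_eq, Set.mem_iUnion, Set.mem_range, Finset.mem_coe, exists_prop]
    constructor
    · intro h
      exact ⟨i, h, b, rfl⟩
    · rintro ⟨i', hi', b', hb'⟩
      cases hb'
      exact hi'
  rw [h1, s.finite_toSet.encard_biUnion]
  · rw [finsum_mem_coe_finset]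
    refine Finset.sum_congr rfl fun i _ => ?_
    rw [← Set.image_univ, Function.Injective.encard_image sigma_mk_injective, Set.encard_univ]
  · intro i _ i' _ hne
    rw [Function.onFun, Set.disjoint_left]
    rintro _ ⟨b, rfl⟩ ⟨b', hb'⟩
    apply hne
    exact (congrArg Sigma.fst hb').symm

/-- The cardinality of a sigma type is the sum of the cardinalities of the fibres. -/
theorem card_sigma {ι : Type u} (β : ι → Type v) :
    ENat.card (Σ i, β i) = ∑' i, ENat.card (β i) := by
  classical
  rw [enat_tsum_eq_iSup]
  apply le_antisymm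
  · -- every finite subset of the sigma type lies over a finite set of indices
    rw [← Set.encard_univ]
    by_cases hfin : (Set.univ : Set (Σ i, β i)).Finite
    · have : (Set.univ : Set (Σ i, β i)) ⊆
          {a : Σ i, β i | a.1 ∈ hfin.toFinset.image Sigma.fst} := by
        intro a _
        simp only [Set.mem_setOf_eq, Finset.mem_image, Set.Finite.mem_toFinset, Set.mem_univ,
          true_and]
        exact ⟨a, rfl⟩
      calc (Set.univ : Set (Σ i, β i)).encard
          ≤ ({a : Σ i, β i | a.1 ∈ hfin.toFinset.image Sigma.fst} : Set _).encard :=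
            Set.encard_le_encard this
        _ = ∑ i ∈ hfin.toFinset.image Sigma.fst, ENat.card (β i) := encard_sigma_finset _
        _ ≤ _ := le_iSup (fun s : Finset ι => ∑ i ∈ s, ENat.card (β i)) _
    · -- infinite: partial sums are unbounded
      rw [Set.Infinite.encard_eq hfin, top_le_iff, ENat.eq_top_iff_forall_ge]
      intro n
      obtain ⟨t, -, htc⟩ := Set.Infinite.exists_subset_card_eq hfin n
      have : (t : Set (Σ i, β i)) ⊆ {a : Σ i, β i | a.1 ∈ t.image Sigma.fst} := by
        intro a ha
        simp only [Set.mem_setOf_eq, Finset.mem_image]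
        exact ⟨a, ha, rfl⟩
      calc (n : ℕ∞) = (t : Set (Σ i, β i)).encard := by
            rw [Set.encard_coe_eq_coe_finsetCard, htc]
        _ ≤ ({a : Σ i, β i | a.1 ∈ t.image Sigma.fst} : Set _).encard :=
            Set.encard_le_encard this
        _ = ∑ i ∈ t.image Sigma.fst, ENat.card (β i) := encard_sigma_finset _
        _ ≤ _ := le_iSup (fun s : Finset ι => ∑ i ∈ s, ENat.card (β i)) _
  · refine iSup_le fun s => ?_
    rw [← encard_sigma_finset, ← Set.encard_univ]
    exact Set.encard_le_encard (Set.subset_univ _)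

end Groth.Agent.Lib.helper13.Br
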