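import Mathlib
import Groth.Prelude.Def_Brnch

/-!
# The normalization of the reduction of a localization of a domain
-/

set_option autoImplicit false

namespace Groth.Agent.Lib.helper13.Br

universe u

open Polynomial

/-- The canonical map `A → A_red → normRed A`. -/
noncomputable def toNormRed (A : Type u) [CommRing A] : A →+* CAlg2.normRed A :=
  (algebraMap (CAlg2.red A) (CAlg2.normRed A)).comp (Ideal.Quotient.mk (nilradical A))

lemma toNormRed_isIntegral (A : Type u) [CommRing A] : (toNormRed A).IsIntegral := by
  unfold toNormRed
  refine RingHom.IsIntegral.trans _ _ (RingHom.isIntegral_of_surjective _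
    Ideal.Quotient.mk_surjective) ?_
  exact algebraMap_isIntegral_iff.mpr inferInstance

section

variable {R A : Type u} [CommRing R] [IsDomain R] [CommRing A] [Algebra R A] (p : Ideal R)
  [p.IsPrime] [IsLocalization.AtPrime A p]

include p in
lemma isDomain_of_atPrime : IsDomain A :=
  IsLocalization.isDomain_of_le_nonZeroDivisors (M := p.primeCompl) A
    (fun x hx => mem_nonZeroDivisors_of_ne_zero (fun h => hx (h ▸ p.zero_mem)))

include p in
lemma nilradical_isPrime_of_atPrime : (nilradical A).IsPrime := by
  haveI := isDomain_of_atPrime (A := A) p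
  rw [nilradical_eq_zero]
  exact Ideal.isPrime_bot

include p in
lemma mk_nilradical_bijective : Function.Bijective (Ideal.Quotient.mk (nilradical A)) := by
  haveI := isDomain_of_atPrime (A := A) p
  refine ⟨?_, Ideal.Quotient.mk_surjective⟩
  rw [injective_iff_map_eq_zero]
  intro a ha
  rw [Ideal.Quotient.eq_zero_iff_mem, nilradical_eq_zero] at ha
  exact ha

include p in
lemma isLocalization_red : IsLocalization p.primeCompl (CAlg2.red A) := by
  let e : A ≃ₐ[R] CAlg2.red A :=
    AlgEquiv.ofBijective (Ideal.Quotient.mkₐ R (nilradical A)) (mk_nilradical_bijective p)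
  exact IsLocalization.isLocalization_of_algEquiv p.primeCompl e

end

section

variable {R A : Type u} [CommRing R] [IsDomain R] [CommRing A] [Algebra R A] (p : Ideal R)
  [p.IsPrime] [IsLocalization.AtPrime A p]

include p in
lemma algebraMap_fractionRing_red_injective :
    Function.Injective (algebraMap R (FractionRing (CAlg2.red A))) := by
  haveI := isDomain_of_atPrime (A := A) p
  haveI := nilradical_isPrime_of_atPrime (A := A) p
  haveI := isLocalization_red (A := A) p
  rw [IsScalarTower.algebraMap_eq R (CAlg2.red A) (FractionRing (CAlg2.red A))]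
  have h1 : Function.Injective (algebraMap (CAlg2.red A) (FractionRing (CAlg2.red A))) :=
    IsFractionRing.injective (CAlg2.red A) (FractionRing (CAlg2.red A))
  have h2 : Function.Injective (algebraMap R (CAlg2.red A)) :=
    IsLocalization.injective (M := p.primeCompl) (CAlg2.red A)
      (fun x hx => mem_nonZeroDivisors_of_ne_zero (fun h => hx (h ▸ p.zero_mem)))
  exact h1.comp h2

include p in
lemma isFractionRing_fractionRing_red : IsFractionRing R (FractionRing (CAlg2.red A)) := by
  haveI := isDomain_of_atPrime (A := A) p
  haveI := nilradical_isPrime_of_atPrime (A := A) p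
  haveI := isLocalization_red (A := A) p
  haveI : FaithfulSMul R (FractionRing (CAlg2.red A)) :=
    (faithfulSMul_iff_algebraMap_injective _ _).mpr (algebraMap_fractionRing_red_injective p)
  apply IsFractionRing.of_field
  intro z
  obtain ⟨a, b, hb, rfl⟩ := IsFractionRing.div_surjective (A := CAlg2.red A) z
  obtain ⟨⟨r1, s1⟩, h1⟩ := IsLocalization.surj p.primeCompl a
  obtain ⟨⟨r2, s2⟩, h2⟩ := IsLocalization.surj p.primeCompl b
  refine ⟨r1 * s2, r2 * s1, ?_⟩
  have hs1 : algebraMap R (FractionRing (CAlg2.red A)) s1 ≠ 0 := by
    intro h0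
    rw [← map_zero (algebraMap R (FractionRing (CAlg2.red A)))] at h0
    exact s1.2 (algebraMap_fractionRing_red_injective (A := A) p h0 ▸ p.zero_mem)
  have hs2 : algebraMap R (FractionRing (CAlg2.red A)) s2 ≠ 0 := by
    intro h0
    rw [← map_zero (algebraMap R (FractionRing (CAlg2.red A)))] at h0
    exact s2.2 (algebraMap_fractionRing_red_injective (A := A) p h0 ▸ p.zero_mem)
  have hb' : algebraMap (CAlg2.red A) (FractionRing (CAlg2.red A)) b ≠ 0 := by
    intro h0
    rw [← map_zero (algebraMap (CAlg2.red A) (FractionRing (CAlg2.red A)))] at h0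
    exact nonZeroDivisors.ne_zero hb (IsFractionRing.injective _ _ h0)
  have e1 := congrArg (algebraMap (CAlg2.red A) (FractionRing (CAlg2.red A))) h1
  have e2 := congrArg (algebraMap (CAlg2.red A) (FractionRing (CAlg2.red A))) h2
  simp only [map_mul, ← IsScalarTower.algebraMap_apply] at e1 e2
  have hr2 : algebraMap R (FractionRing (CAlg2.red A)) r2 ≠ 0 := by
    rw [← e2]
    exact mul_ne_zero hb' hs2
  rw [map_mul, map_mul, ← e1, ← e2]
  field_simp

include p in
theorem exists_isLocalization_normRed :
    ∃ j : integralClosure R (FractionRing (CAlg2.red A)) →+* CAlg2.normRed A,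
      (∀ r : R, j (algebraMap R _ r) = toNormRed A (algebraMap R A r)) ∧
      (∀ y, (j y : FractionRing (CAlg2.red A)) = y) ∧
      (letI := j.toAlgebra
       IsLocalization (Algebra.algebraMapSubmonoid
          (integralClosure R (FractionRing (CAlg2.red A))) p.primeCompl) (CAlg2.normRed A)) := by
  haveI := isDomain_of_atPrime (A := A) p
  haveI := nilradical_isPrime_of_atPrime (A := A) p
  haveI := isLocalization_red (A := A) p
  let j : integralClosure R (FractionRing (CAlg2.red A)) →+* CAlg2.normRed A :=
    ((integralClosure R (FractionRing (CAlg2.red A))).val.toRingHom).codRestrict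
      (integralClosure (CAlg2.red A) (FractionRing (CAlg2.red A))) (fun y => y.2.tower_top)
  refine ⟨j, ?_, fun y => rfl, ?_⟩
  · intro r
    apply Subtype.ext
    rfl
  · letI := j.toAlgebra
    haveI : IsScalarTower (integralClosure R (FractionRing (CAlg2.red A))) (CAlg2.normRed A)
        (FractionRing (CAlg2.red A)) := IsScalarTower.of_algebraMap_eq (fun x => rfl)
    haveI : IsScalarTower R (integralClosure R (FractionRing (CAlg2.red A))) (CAlg2.normRed A) :=
      IsScalarTower.of_algebraMap_eq (fun x => Subtype.ext rfl)
    have hinj : Function.Injective (algebraMap R (FractionRing (CAlg2.red A))) := by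
      rw [IsScalarTower.algebraMap_eq R (CAlg2.red A) (FractionRing (CAlg2.red A))]
      have h1 : Function.Injective (algebraMap (CAlg2.red A) (FractionRing (CAlg2.red A))) :=
        IsFractionRing.injective (CAlg2.red A) (FractionRing (CAlg2.red A))
      have h2 : Function.Injective (algebraMap R (CAlg2.red A)) :=
        IsLocalization.injective (M := p.primeCompl) (CAlg2.red A)
          (fun x hx => mem_nonZeroDivisors_of_ne_zero (fun h => hx (h ▸ p.zero_mem)))
      exact h1.comp h2
    haveI : IsLocalization (Algebra.algebraMapSubmonoid (FractionRing (CAlg2.red A)) p.primeCompl)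
        (FractionRing (CAlg2.red A)) := by
      apply IsLocalization.at_units
      rintro _ ⟨m, hm, rfl⟩
      refine IsUnit.mk0 _ ?_
      intro h0
      rw [← map_zero (algebraMap R (FractionRing (CAlg2.red A)))] at h0
      exact hm (hinj h0 ▸ p.zero_mem)
    exact IsLocalization.integralClosure (R := R) (S := FractionRing (CAlg2.red A))
      (Rf := CAlg2.red A) (Sf := FractionRing (CAlg2.red A)) p.primeCompl

end

end Groth.Agent.Lib.helper13.Br
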