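import Mathlib

/-!
# Maximal ideals of a localized integral extension of a local ring

`R` a ring, `p` a prime, `A = R_p`; `R₁` an `R`-algebra, `B = (R ∖ p)⁻¹ R₁`, with a compatible
integral map `A → B`.  Maximal ideals of `B` correspond to primes of `R₁` lying over `p`.
-/

set_option autoImplicit false

namespace Groth.Agent.Lib.helper13.Br

universe u

section

variable {R A R₁ B : Type u} [CommRing R] [CommRing A] [Algebra R A] (p : Ideal R) [p.IsPrime]
  [IsLocalization.AtPrime A p] [CommRing R₁] [Algebra R R₁] [CommRing B] [Algebra R₁ B]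
  [IsLocalization (Algebra.algebraMapSubmonoid R₁ p.primeCompl) B]
  (ιA : A →+* B) (hιA : ιA.IsIntegral)
  (hcompat : ∀ r : R, algebraMap R₁ B (algebraMap R R₁ r) = ιA (algebraMap R A r))

include p in
omit [IsLocalization.AtPrime A p] in
/-- Ideals of `B` are determined by their contractions to `R₁`. -/
lemma eq_of_comap_eq (I J : Ideal B)
    (h : I.comap (algebraMap R₁ B) = J.comap (algebraMap R₁ B)) : I = J := by
  have hI := IsLocalization.map_comap (Algebra.algebraMapSubmonoid R₁ p.primeCompl) B I
  have hJ := IsLocalization.map_comap (Algebra.algebraMapSubmonoid R₁ p.primeCompl) B J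
  rw [Ideal.under_def] at hI hJ
  rw [← hI, ← hJ, h]

/-- An ideal of `A = R_p` contracting to `p` is the maximal ideal. -/
lemma eq_maximalIdeal_of_comap_eq (I : Ideal A) (h : I.comap (algebraMap R A) = p) :
    haveI := IsLocalization.AtPrime.isLocalRing A p
    I = IsLocalRing.maximalIdeal A := by
  haveI := IsLocalization.AtPrime.isLocalRing A p
  have hI := IsLocalization.map_comap p.primeCompl A I
  rw [Ideal.under_def, h] at hI
  rw [← hI, IsLocalization.AtPrime.map_eq_maximalIdeal p A]

include hιA hcompat in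
/-- The contraction of a maximal ideal of `B` to `R` is `p`. -/
lemma comap_comap_of_isMaximal (m' : Ideal B) [m'.IsMaximal] :
    (m'.comap (algebraMap R₁ B)).comap (algebraMap R R₁) = p := by
  haveI := IsLocalization.AtPrime.isLocalRing A p
  letI := ιA.toAlgebra
  haveI : Algebra.IsIntegral A B := ⟨hιA⟩
  have hmax : (m'.comap (algebraMap A B)).IsMaximal :=
    Ideal.isMaximal_comap_of_isIntegral_of_isMaximal m'
  have h1 : m'.comap (algebraMap A B) = IsLocalRing.maximalIdeal A :=
    IsLocalRing.eq_maximalIdeal hmax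
  have h2 : (m'.comap (algebraMap R₁ B)).comap (algebraMap R R₁) =
      (m'.comap (algebraMap A B)).comap (algebraMap R A) := by
    ext r
    simp only [Ideal.mem_comap]
    rw [hcompat]
    rfl
  rw [h2, h1]
  exact IsLocalization.AtPrime.comap_maximalIdeal A p

include hιA hcompat in
/-- The lift to `B` of a map `φ : R₁ → L` to a field with kernel a prime `q` over `p`. -/
theorem exists_lift (q : Ideal R₁) (hq : q.comap (algebraMap R R₁) = p)
    {L : Type u} [Field L] (φ : R₁ →+* L) (hφ : RingHom.ker φ = q) :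
    ∃ θ : B →+* L, (∀ y, θ (algebraMap R₁ B y) = φ y) ∧ (RingHom.ker θ).IsMaximal ∧
      (RingHom.ker θ).comap (algebraMap R₁ B) = q ∧
      ((∀ z : L, ∃ a b : R₁, φ b ≠ 0 ∧ z * φ b = φ a) → Function.Surjective θ) := by
  haveI := IsLocalization.AtPrime.isLocalRing A p
  have hunit : ∀ y : Algebra.algebraMapSubmonoid R₁ p.primeCompl, IsUnit (φ y) := by
    rintro ⟨_, s, hs, rfl⟩
    refine IsUnit.mk0 _ ?_
    intro h0
    apply hs
    have : s ∈ q.comap (algebraMap R R₁) := by
      rw [Ideal.mem_comap, ← hφ, RingHom.mem_ker]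
      exact h0
    rw [hq] at this
    exact this
  let θ : B →+* L := IsLocalization.lift hunit
  have hθ : ∀ y, θ (algebraMap R₁ B y) = φ y := fun y => IsLocalization.lift_eq hunit y
  have hcomap : (RingHom.ker θ).comap (algebraMap R₁ B) = q := by
    ext y
    rw [Ideal.mem_comap, RingHom.mem_ker, hθ, ← hφ, RingHom.mem_ker]
  have hmax : (RingHom.ker θ).IsMaximal := by
    letI := ιA.toAlgebra
    haveI : Algebra.IsIntegral A B := ⟨hιA⟩
    haveI : (RingHom.ker θ).IsPrime := RingHom.ker_isPrime θ
    apply Ideal.isMaximal_of_isIntegral_of_isMaximal_comap (R := A) (RingHom.ker θ)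
    have h1 : ((RingHom.ker θ).comap (algebraMap A B)).comap (algebraMap R A) = p := by
      rw [← hq, ← hcomap]
      ext r
      simp only [Ideal.mem_comap]
      rw [hcompat]
      rfl
    rw [eq_maximalIdeal_of_comap_eq p _ h1]
    exact IsLocalRing.maximalIdeal.isMaximal A
  refine ⟨θ, hθ, hmax, hcomap, fun hgen z => ?_⟩
  obtain ⟨a, b, hb, hz⟩ := hgen z
  have hb' : algebraMap R₁ B b ∉ RingHom.ker θ := by
    rw [RingHom.mem_ker, hθ]
    exact hb
  obtain ⟨c, i, hi, hci⟩ := hmax.exists_inv hb'
  refine ⟨algebraMap R₁ B a * c, ?_⟩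
  have h1 : θ c * φ b = 1 := by
    have := congrArg θ hci
    rw [map_add, map_mul, hθ, (RingHom.mem_ker).mp hi, add_zero, map_one] at this
    exact this
  rw [map_mul, hθ, ← hz]
  calc z * φ b * θ c = z * (θ c * φ b) := by ring
    _ = z := by rw [h1, mul_one]

end

end Groth.Agent.Lib.helper13.Br
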