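import Mathlib
import Groth.Prelude.Def_Brnch
import Groth.Agent.Lib.Helper13.Br2

/-!
# Counting residue field embeddings of a maximal ideal of `normRed A`
-/

set_option autoImplicit false

namespace Groth.Agent.Lib.helper13.Br

universe u

open Polynomial

section

variable (A : Type u) [CommRing A] [IsLocalRing A] (m' : MaximalSpectrum (CAlg2.normRed A))
  {L : Type u} [Field L] (θ : CAlg2.normRed A →+* L) (hθs : Function.Surjective θ)
  (hker : RingHom.ker θ = m'.asIdeal)
  (r : IsLocalRing.ResidueField A →+* L)
  (hr : θ.comp (toNormRed A) = r.comp (IsLocalRing.residue A))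

include hθs hr in
lemma isIntegral_of_theta :
    letI := r.toAlgebra
    Algebra.IsIntegral (IsLocalRing.ResidueField A) L := by
  letI := r.toAlgebra
  refine ⟨fun z => ?_⟩
  obtain ⟨b, rfl⟩ := hθs z
  obtain ⟨P, hP, hPb⟩ := toNormRed_isIntegral A b
  refine ⟨P.map (IsLocalRing.residue A), hP.map _, ?_⟩
  rw [Polynomial.eval₂_map]
  have : (algebraMap (IsLocalRing.ResidueField A) L).comp (IsLocalRing.residue A) =
      θ.comp (toNormRed A) := by
    rw [hr]
    rfl
  rw [this, ← Polynomial.hom_eval₂, hPb, map_zero]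

include hθs hker hr in
/-- The embeddings counted by `Brnch.Emb` are the embeddings of the residue field extension. -/
theorem card_emb :
    letI := r.toAlgebra
    ENat.card (Brnch.Emb A m') = ENat.card (Field.Emb (IsLocalRing.ResidueField A) L) := by
  letI := r.toAlgebra
  haveI : Algebra.IsIntegral (IsLocalRing.ResidueField A) L := isIntegral_of_theta A θ hθs r hr
  haveI : Algebra.IsAlgebraic (IsLocalRing.ResidueField A) L := Algebra.IsIntegral.isAlgebraic
  -- the isomorphism `normRed A ⧸ m' ≃ L`
  have hθ0 : ∀ a ∈ m'.asIdeal, θ a = 0 := fun a ha => by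
    rw [← hker] at ha
    exact ha
  let θbar : CAlg2.normRed A ⧸ m'.asIdeal →+* L := Ideal.Quotient.lift m'.asIdeal θ hθ0
  have hθbar : Function.Bijective θbar := by
    constructor
    · rw [injective_iff_map_eq_zero]
      intro a ha
      obtain ⟨b, rfl⟩ := Ideal.Quotient.mk_surjective a
      rw [Ideal.Quotient.lift_mk] at ha
      rw [Ideal.Quotient.eq_zero_iff_mem, ← hker]
      exact ha
    · intro z
      obtain ⟨b, rfl⟩ := hθs z
      exact ⟨Ideal.Quotient.mk m'.asIdeal b, Ideal.Quotient.lift_mk m'.asIdeal θ hθ0⟩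
  let E : (CAlg2.normRed A ⧸ m'.asIdeal) ≃+* L := RingEquiv.ofBijective θbar hθbar
  have hE : ∀ b, E (Ideal.Quotient.mk m'.asIdeal b) = θ b :=
    fun b => Ideal.Quotient.lift_mk m'.asIdeal θ hθ0
  have hres : ∀ a : A, E (Brnch.toResidue A m' a) = r (IsLocalRing.residue A a) := by
    intro a
    have h1 : Brnch.toResidue A m' a = Ideal.Quotient.mk m'.asIdeal (toNormRed A a) := rfl
    rw [h1, hE]
    exact congrFun (congrArg DFunLike.coe hr) a
  refine ENat.card_congr ?_
  refine Equiv.trans ?_ (Field.embEquivOfIsAlgClosed (IsLocalRing.ResidueField A) L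
    (AlgebraicClosure (IsLocalRing.ResidueField A))).symm
  refine
    { toFun := fun σ =>
        { toRingHom := σ.1.comp E.symm.toRingHom
          commutes' := ?_ }
      invFun := fun τ => ⟨τ.toRingHom.comp E.toRingHom, ?_⟩
      left_inv := ?_
      right_inv := ?_ }
  · intro c
    obtain ⟨a, rfl⟩ := IsLocalRing.residue_surjective c
    have h2 : algebraMap (IsLocalRing.ResidueField A) L (IsLocalRing.residue A a) =
        E (Brnch.toResidue A m' a) := (hres a).symm
    simp only [RingHom.toMonoidHom_eq_coe, RingEquiv.toRingHom_eq_coe, OneHom.toFun_eq_coe,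
      MonoidHom.toOneHom_coe, MonoidHom.coe_coe, RingHom.coe_comp, RingHom.coe_coe,
      Function.comp_apply]
    rw [h2, RingEquiv.symm_apply_apply]
    have := congrFun (congrArg DFunLike.coe σ.2) a
    simpa [Brnch.toClosure] using this
  · ext a
    simp only [RingHom.coe_comp, Function.comp_apply, RingEquiv.toRingHom_eq_coe, RingHom.coe_coe,
      AlgHom.toRingHom_eq_coe]
    rw [hres]
    exact τ.commutes (IsLocalRing.residue A a)
  · intro σ
    apply Subtype.ext
    ext b
    simp
  · intro τ
    ext z
    simp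

end

end Groth.Agent.Lib.helper13.Br
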