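import Mathlib
import Groth.Agent.Lib.Helper13.KrAk3

/-!
# Points, primes and closed points on integral schemes of dimension one
-/

set_option autoImplicit false

namespace Groth.Agent.Lib.helper13.KrAk

universe u

open AlgebraicGeometry CategoryTheory Limits Groth.Agent.Lib.helper13.UCA
  Groth.Agent.Lib.helper13.Normal

noncomputable section

lemma primeAt_eq_primeIdealOf {Y : Scheme.{u}} {V : Y.Opens} (hV : IsAffineOpen V) (y : Y)
    (hy : y ∈ V) : primeAt V y hy = (hV.primeIdealOf ⟨y, hy⟩).asIdeal := by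
  rw [hV.primeIdealOf_eq_map_closedPoint]
  rfl

/-- The prime of a closed point on an affine open is maximal. -/
lemma primeAt_isMaximal_of_isClosed {Y : Scheme.{u}} {V : Y.Opens} (hV : IsAffineOpen V) (y : Y)
    (hy : y ∈ V) (hcl : IsClosed ({y} : Set Y)) : (primeAt V y hy).IsMaximal := by
  rw [primeAt_eq_primeIdealOf hV]
  exact hV.primeIdealOf_isMaximal_of_isClosed ⟨y, hy⟩ hcl

/-- Points of an affine open with the same prime coincide. -/
lemma eq_of_primeAt_eq' {Y : Scheme.{u}} {V : Y.Opens} (hV : IsAffineOpen V) (y z : Y)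
    (hy : y ∈ V) (hz : z ∈ V) (h : primeAt V y hy = primeAt V z hz) : y = z :=
  ((specializes_of_primeAt_le hV y z hy hz h.le).antisymm
    (specializes_of_primeAt_le hV z y hz hy h.ge)).eq

/-- The prime of the generic point is zero. -/
lemma primeAt_genericPoint {Y : Scheme.{u}} [IsIntegral Y] (V : Y.Opens)
    (hη : genericPoint Y ∈ V) : primeAt V (genericPoint Y) hη = ⊥ := by
  rw [eq_bot_iff]
  intro s hs
  rw [mem_primeAt] at hs
  rw [Ideal.mem_bot]
  have hbot : Y.basicOpen s = ⊥ := by
    by_contra hne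
    apply hs
    apply ((genericPoint_spec Y).mem_open_set_iff (Y.basicOpen s).isOpen).mpr
    rw [Set.univ_inter]
    by_contra hemp
    apply hne
    ext p
    simp only [TopologicalSpace.Opens.coe_bot, Set.mem_empty_iff_false, iff_false]
    intro hp
    exact hemp ⟨p, hp⟩
  exact (AlgebraicGeometry.basicOpen_eq_bot_iff s).mp hbot

lemma primeAt_ne_bot {Y : Scheme.{u}} [IsIntegral Y] {V : Y.Opens} (hV : IsAffineOpen V) (y : Y)
    (hy : y ∈ V) (hne : y ≠ genericPoint Y) : primeAt V y hy ≠ ⊥ := by
  intro h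
  have hη : genericPoint Y ∈ V :=
    ((genericPoint_spec Y).mem_open_set_iff V.isOpen).mpr ⟨y, trivial, hy⟩
  apply hne
  apply eq_of_primeAt_eq' hV y _ hy hη
  rw [h, primeAt_genericPoint]

lemma ne_genericPoint_of_primeAt_ne_bot {Y : Scheme.{u}} [IsIntegral Y] {V : Y.Opens} (y : Y)
    (hy : y ∈ V) (hne : primeAt V y hy ≠ ⊥) : y ≠ genericPoint Y := by
  rintro rfl
  exact hne (primeAt_genericPoint V hy)

/-- On an integral scheme all of whose non-generic points are closed, nonzero primes of affine
coordinate rings are maximal. -/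
lemma isMaximal_of_ne_bot {Y : Scheme.{u}} [IsIntegral Y]
    (hcl : ∀ y : Y, y ≠ genericPoint Y → IsClosed ({y} : Set Y)) {V : Y.Opens}
    (hV : IsAffineOpen V) (p : Ideal Γ(Y, V)) (hp : p.IsPrime) (hne : p ≠ ⊥) : p.IsMaximal := by
  obtain ⟨y, hy, rfl⟩ := exists_primeAt_eq hV p
  exact primeAt_isMaximal_of_isClosed hV y hy
    (hcl y (ne_genericPoint_of_primeAt_ne_bot y hy hne))

/-- For an integral morphism `f : Y' ⟶ Y` of integral schemes mapping generic point to generic
point, if all non-generic points of `Y` are closed, so are those of `Y'`. -/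
lemma isClosed_singleton_of_isIntegralHom {Y' Y : Scheme.{u}} [IsIntegral Y'] [IsIntegral Y]
    (f : Y' ⟶ Y) [IsIntegralHom f] (hgen : f (genericPoint Y') = genericPoint Y)
    (hcl : ∀ y : Y, y ≠ genericPoint Y → IsClosed ({y} : Set Y)) (y' : Y')
    (hy' : y' ≠ genericPoint Y') : IsClosed ({y'} : Set Y') := by
  have hfy : f y' ≠ genericPoint Y := by
    intro h
    apply hy'
    have hsp : genericPoint Y' ⤳ y' := (genericPoint_spec Y').specializes trivial
    exact (eq_of_specializes_of_isIntegralHom f hsp (by rw [hgen, h])).symm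
  have hc : IsClosed (f ⁻¹' {f y'}) := (hcl _ hfy).preimage f.continuous
  have : closure ({y'} : Set Y') = {y'} := by
    apply Set.Subset.antisymm _ subset_closure
    intro z hz
    have hzf : z ∈ f ⁻¹' {f y'} :=
      (hc.closure_subset_iff.mpr (Set.singleton_subset_iff.mpr rfl)) hz
    have hsp : y' ⤳ z := specializes_iff_mem_closure.mpr hz
    exact (eq_of_specializes_of_isIntegralHom f hsp hzf.symm).symm
  rw [← this]
  exact isClosed_closure

/-- The evaluation map at a point of an affine open whose prime is maximal is surjective. -/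
lemma evaluation_surjective {Y : Scheme.{u}} {V : Y.Opens} (hV : IsAffineOpen V) (y : Y)
    (hy : y ∈ V) (hmax : (primeAt V y hy).IsMaximal) :
    Function.Surjective (Y.evaluation V y hy).hom := by
  intro k
  obtain ⟨t, rfl⟩ := Y.residue_surjective y k
  letI := Y.presheaf.algebra_section_stalk ⟨y, hy⟩
  haveI := hV.isLocalization_stalk ⟨y, hy⟩
  obtain ⟨⟨s, u⟩, hsu⟩ := IsLocalization.surj (hV.primeIdealOf ⟨y, hy⟩).asIdeal.primeCompl t
  have hu : (u : Γ(Y, V)) ∉ primeAt V y hy := by
    rw [primeAt_eq_primeIdealOf hV]; exact u.2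
  obtain ⟨v, i, hi, hvi⟩ := hmax.exists_inv hu
  refine ⟨s * v, ?_⟩
  have hev : ∀ w, (Y.evaluation V y hy).hom w =
      (Y.residue y).hom ((Y.presheaf.germ V y hy).hom w) := fun w => rfl
  have hi0 : (Y.evaluation V y hy).hom i = 0 := by
    rw [Scheme.evaluation_eq_zero_iff_notMem_basicOpen]
    exact (mem_primeAt i).mp hi
  have h1 : (Y.evaluation V y hy).hom (v * u) = 1 := by
    have := congrArg (Y.evaluation V y hy).hom hvi
    rw [map_add, hi0, add_zero, map_one] at this
    exact this
  have h2 : (Y.residue y).hom t * (Y.evaluation V y hy).hom u = (Y.evaluation V y hy).hom s := by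
    rw [hev, hev, ← map_mul]
    exact congrArg _ hsu
  show (Y.evaluation V y hy).hom (s * v) = (Y.residue y).hom t
  rw [map_mul, ← h2, mul_assoc, ← map_mul, mul_comm (u : Γ(Y, V)) v, h1, mul_one]

end

end Groth.Agent.Lib.helper13.KrAk
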