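import Mathlib
import Groth.Prelude.Def_Brnch
import Groth.Prelude.Def_Curv2
import Groth.Agent.Lib.Helper13.Br1
import Groth.Agent.Lib.Helper13.Br2
import Groth.Agent.Lib.Helper13.Br3
import Groth.Agent.Lib.Helper13.Br4
import Groth.Agent.Lib.Helper13.KrAk4

set_option autoImplicit false

namespace Groth.Agent.Lib.helper13.Br

universe u

open AlgebraicGeometry CategoryTheory Limits Groth.Agent.Lib.helper13.UCA
  Groth.Agent.Lib.helper13.KrAk Groth.Agent.Lib.helper13.Normal

noncomputable section

lemma isLocalization_atPrime_congr {R S : Type*} [CommRing R] [CommRing S] [Algebra R S]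
    {P Q : Ideal R} [P.IsPrime] [Q.IsPrime] (h : P = Q) [IsLocalization.AtPrime S P] :
    IsLocalization.AtPrime S Q := by
  subst h
  infer_instance

variable (X : Scheme.{u}) [IsIntegral X] [QuasiCompact (X.fromSpecStalk (genericPoint X))]
  [QuasiSeparated (X.fromSpecStalk (genericPoint X))]

theorem exists_loc (U : X.Opens) (hU : IsAffineOpen U) (x : X) (hx : x ∈ U) :
    letI : Algebra Γ(X, U) (X.presheaf.stalk x) := (X.presheaf.germ U x hx).hom.toAlgebra
    letI : Algebra Γ(X, U) Γ((X.fromSpecStalk (genericPoint X)).normalization,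
        (X.fromSpecStalk (genericPoint X)).fromNormalization ⁻¹ᵁ U) :=
      ((X.fromSpecStalk (genericPoint X)).fromNormalization.app U).hom.toAlgebra
    ∃ j : Γ((X.fromSpecStalk (genericPoint X)).normalization,
        (X.fromSpecStalk (genericPoint X)).fromNormalization ⁻¹ᵁ U) →+*
        CAlg2.normRed (X.presheaf.stalk x),
      (∀ r : Γ(X, U), j (((X.fromSpecStalk (genericPoint X)).fromNormalization.app U).hom r) =
        toNormRed _ ((X.presheaf.germ U x hx).hom r)) ∧
      (letI := j.toAlgebra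
       IsLocalization (Algebra.algebraMapSubmonoid
          Γ((X.fromSpecStalk (genericPoint X)).normalization,
            (X.fromSpecStalk (genericPoint X)).fromNormalization ⁻¹ᵁ U)
          (primeAt U x hx).primeCompl) (CAlg2.normRed (X.presheaf.stalk x))) := by
  set g := X.fromSpecStalk (genericPoint X) with hg
  letI algA : Algebra Γ(X, U) (X.presheaf.stalk x) := (X.presheaf.germ U x hx).hom.toAlgebra
  letI algN : Algebra Γ(X, U) Γ(g.normalization, g.fromNormalization ⁻¹ᵁ U) :=
    (g.fromNormalization.app U).hom.toAlgebra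
  haveI : Nonempty U := ⟨⟨x, hx⟩⟩
  have hp : (hU.primeIdealOf ⟨x, hx⟩).asIdeal = primeAt U x hx :=
    (primeAt_eq_primeIdealOf hU x hx).symm
  haveI hloc0 : IsLocalization.AtPrime (X.presheaf.stalk x) (hU.primeIdealOf ⟨x, hx⟩).asIdeal :=
    hU.isLocalization_stalk ⟨x, hx⟩
  haveI hloc : IsLocalization.AtPrime (X.presheaf.stalk x) (primeAt U x hx) :=
    isLocalization_atPrime_congr hp
  obtain ⟨j₀, hj₀, -, hj₀loc⟩ := exists_isLocalization_normRed (R := Γ(X, U))
    (A := X.presheaf.stalk x) (primeAt U x hx)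
  haveI hFR := isFractionRing_fractionRing_red (R := Γ(X, U)) (A := X.presheaf.stalk x)
    (primeAt U x hx)
  letI algKU : Algebra Γ(X, U) Γ(Spec X.functionField, g ⁻¹ᵁ U) := (g.app U).hom.toAlgebra
  haveI := functionField_isFractionRing_of_isAffineOpen X U hU
  obtain ⟨e, he⟩ := exists_ringEquiv_functionField X U
  obtain ⟨ι, hι⟩ := exists_ringEquiv_normalization X U hU
  let eK : X.functionField ≃ₐ[Γ(X, U)] Γ(Spec X.functionField, g ⁻¹ᵁ U) :=
    AlgEquiv.ofRingEquiv (f := e) he
  let eF : X.functionField ≃ₐ[Γ(X, U)] FractionRing (CAlg2.red (X.presheaf.stalk x)) :=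
    IsLocalization.algEquiv (nonZeroDivisors Γ(X, U)) _ _
  let eKF : Γ(Spec X.functionField, g ⁻¹ᵁ U) ≃ₐ[Γ(X, U)]
      FractionRing (CAlg2.red (X.presheaf.stalk x)) := eK.symm.trans eF
  let ε : Γ(g.normalization, g.fromNormalization ⁻¹ᵁ U) ≃+*
      integralClosure Γ(X, U) (FractionRing (CAlg2.red (X.presheaf.stalk x))) :=
    ι.trans eKF.mapIntegralClosure.toRingEquiv
  have hε : ∀ r, ε ((g.fromNormalization.app U).hom r) = algebraMap Γ(X, U) _ r := by
    intro r
    show eKF.mapIntegralClosure (ι _) = _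
    rw [hι]
    exact eKF.mapIntegralClosure.commutes r
  letI algj₀ : Algebra (integralClosure Γ(X, U) (FractionRing (CAlg2.red (X.presheaf.stalk x))))
      (CAlg2.normRed (X.presheaf.stalk x)) := j₀.toAlgebra
  refine ⟨(algebraMap (integralClosure Γ(X, U) (FractionRing (CAlg2.red (X.presheaf.stalk x))))
      (CAlg2.normRed (X.presheaf.stalk x))).comp ε.symm.symm.toRingHom, ?_, ?_⟩
  · intro r
    show j₀ (ε _) = _
    rw [hε, hj₀]
    rfl
  · have h1 := IsLocalization.isLocalization_of_base_ringEquiv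
      (Algebra.algebraMapSubmonoid (integralClosure Γ(X, U)
        (FractionRing (CAlg2.red (X.presheaf.stalk x)))) (primeAt U x hx).primeCompl)
      (CAlg2.normRed (X.presheaf.stalk x)) ε.symm
    have h2 : Submonoid.map ε.symm (Algebra.algebraMapSubmonoid (integralClosure Γ(X, U)
        (FractionRing (CAlg2.red (X.presheaf.stalk x)))) (primeAt U x hx).primeCompl) =
        Algebra.algebraMapSubmonoid Γ(g.normalization, g.fromNormalization ⁻¹ᵁ U)
          (primeAt U x hx).primeCompl := by
      ext y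
      constructor
      · rintro ⟨_, ⟨s, hs, rfl⟩, rfl⟩
        refine ⟨s, hs, ?_⟩
        rw [← hε]
        exact (ε.symm_apply_apply _).symm
      · rintro ⟨s, hs, rfl⟩
        refine ⟨_, ⟨s, hs, rfl⟩, ?_⟩
        rw [← hε]
        exact ε.symm_apply_apply _
    rw [h2] at h1
    exact h1

end

end Groth.Agent.Lib.helper13.Br
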