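import Mathlib
import Groth.Agent.Lib.Helper13.Br5

set_option autoImplicit false

namespace Groth.Agent.Lib.helper13.Br

universe u

open AlgebraicGeometry CategoryTheory Limits Groth.Agent.Lib.helper13.UCA
  Groth.Agent.Lib.helper13.KrAk Groth.Agent.Lib.helper13.Normal

noncomputable section

theorem exists_theta {Y X : Scheme.{u}} (ν : Y ⟶ X) [IsAffineHom ν] (x' : Y)
    (U : X.Opens) (hU : IsAffineOpen U) (hx : ν x' ∈ U)
    (j : Γ(Y, ν ⁻¹ᵁ U) →+* CAlg2.normRed (X.presheaf.stalk (ν x')))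
    (hj : ∀ r : Γ(X, U), j ((ν.app U).hom r) = toNormRed _ ((X.presheaf.germ U _ hx).hom r))
    (hjloc : letI := j.toAlgebra
      letI : Algebra Γ(X, U) Γ(Y, ν ⁻¹ᵁ U) := (ν.app U).hom.toAlgebra
      IsLocalization (Algebra.algebraMapSubmonoid Γ(Y, ν ⁻¹ᵁ U) (primeAt U _ hx).primeCompl)
        (CAlg2.normRed (X.presheaf.stalk (ν x')))) :
    ∃ θ : CAlg2.normRed (X.presheaf.stalk (ν x')) →+* Y.residueField x',
      Function.Surjective θ ∧ (RingHom.ker θ).IsMaximal ∧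
      (RingHom.ker θ).comap j = primeAt (ν ⁻¹ᵁ U) x' hx ∧
      θ.comp (toNormRed _) = (ν.residueFieldMap x').hom.comp (X.residue _).hom := by
  letI algA : Algebra Γ(X, U) (X.presheaf.stalk (ν x')) := (X.presheaf.germ U _ hx).hom.toAlgebra
  letI algN : Algebra Γ(X, U) Γ(Y, ν ⁻¹ᵁ U) := (ν.app U).hom.toAlgebra
  letI algj : Algebra Γ(Y, ν ⁻¹ᵁ U) (CAlg2.normRed (X.presheaf.stalk (ν x'))) :=
    j.toAlgebra
  have hp : (hU.primeIdealOf ⟨ν x', hx⟩).asIdeal = primeAt U (ν x') hx :=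
    (primeAt_eq_primeIdealOf hU (ν x') hx).symm
  haveI hloc0 : IsLocalization.AtPrime (X.presheaf.stalk (ν x'))
      (hU.primeIdealOf ⟨ν x', hx⟩).asIdeal := hU.isLocalization_stalk ⟨ν x', hx⟩
  haveI hloc : IsLocalization.AtPrime (X.presheaf.stalk (ν x')) (primeAt U (ν x') hx) :=
    isLocalization_atPrime_congr hp
  haveI : IsLocalization (Algebra.algebraMapSubmonoid Γ(Y, ν ⁻¹ᵁ U)
      (primeAt U (ν x') hx).primeCompl) (CAlg2.normRed (X.presheaf.stalk (ν x'))) := hjloc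
  have hV : IsAffineOpen (ν ⁻¹ᵁ U) := hU.preimage ν
  -- the evaluation map
  let φ : Γ(Y, ν ⁻¹ᵁ U) →+* Y.residueField x' := (Y.evaluation (ν ⁻¹ᵁ U) x' hx).hom
  have hφ : RingHom.ker φ = primeAt (ν ⁻¹ᵁ U) x' hx := by
    ext s
    rw [RingHom.mem_ker, primeAt, Ideal.mem_comap, ← IsLocalRing.residue_eq_zero_iff]
    rfl
  have hq : (primeAt (ν ⁻¹ᵁ U) x' hx).comap (algebraMap Γ(X, U) Γ(Y, ν ⁻¹ᵁ U)) =
      primeAt U (ν x') hx := by
    have := comap_primeAt ν U (ν ⁻¹ᵁ U) le_rfl x' hx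
    rw [← Scheme.Hom.app_eq_appLE] at this
    exact this
  obtain ⟨θ, hθ, hmax, hcomap, hsurj⟩ := exists_lift (R := Γ(X, U)) (A := X.presheaf.stalk (ν x'))
    (R₁ := Γ(Y, ν ⁻¹ᵁ U)) (B := CAlg2.normRed (X.presheaf.stalk (ν x')))
    (primeAt U (ν x') hx) (toNormRed _) (toNormRed_isIntegral _) hj
    (primeAt (ν ⁻¹ᵁ U) x' hx) hq φ hφ
  refine ⟨θ, hsurj ?_, hmax, hcomap, ?_⟩
  · intro z
    obtain ⟨w, rfl⟩ := IsLocalRing.residue_surjective z
    letI algS : Algebra Γ(Y, ν ⁻¹ᵁ U) (Y.presheaf.stalk x') :=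
      (Y.presheaf.germ (ν ⁻¹ᵁ U) x' hx).hom.toAlgebra
    haveI : IsLocalization.AtPrime (Y.presheaf.stalk x') (hV.primeIdealOf ⟨x', hx⟩).asIdeal :=
      hV.isLocalization_stalk ⟨x', hx⟩
    obtain ⟨⟨a, s⟩, has⟩ := IsLocalization.surj (hV.primeIdealOf ⟨x', hx⟩).asIdeal.primeCompl w
    refine ⟨a, s, ?_, ?_⟩
    · intro h0
      have : (s : Γ(Y, ν ⁻¹ᵁ U)) ∈ primeAt (ν ⁻¹ᵁ U) x' hx := by
        rw [← hφ, RingHom.mem_ker]
        exact h0
      rw [primeAt_eq_primeIdealOf hV] at this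
      exact s.2 this
    · have := congrArg (IsLocalRing.residue _) has
      rw [map_mul] at this
      exact this
  · apply IsLocalization.ringHom_ext (primeAt U (ν x') hx).primeCompl
    ext r
    show θ (toNormRed _ ((X.presheaf.germ U _ hx).hom r)) =
      (ν.residueFieldMap x').hom ((X.residue _).hom ((X.presheaf.germ U _ hx).hom r))
    rw [← hj]
    have h1 := hθ ((ν.app U).hom r)
    have h2 := Scheme.evaluation_naturality_apply ν x' hx r
    rw [show (algebraMap Γ(Y, ν ⁻¹ᵁ U) (CAlg2.normRed (X.presheaf.stalk (ν x'))))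
      ((ν.app U).hom r) = j ((ν.app U).hom r) from rfl] at h1
    rw [h1]
    exact h2.symm

end

end Groth.Agent.Lib.helper13.Br
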