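import Mathlib
import Groth.Agent.Lib.Helper13.Br6

set_option autoImplicit false

namespace Groth.Agent.Lib.helper13.Br

universe u

open AlgebraicGeometry CategoryTheory Limits Groth.Agent.Lib.helper13.UCA
  Groth.Agent.Lib.helper13.KrAk Groth.Agent.Lib.helper13.Normal

noncomputable section

variable (X : Scheme.{u}) [IsIntegral X] [QuasiCompact (X.fromSpecStalk (genericPoint X))]
  [QuasiSeparated (X.fromSpecStalk (genericPoint X))]

theorem exists_equiv_fibre (x : X) :
    ∃ Φ : {x' : (X.fromSpecStalk (genericPoint X)).normalization //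
          (X.fromSpecStalk (genericPoint X)).fromNormalization x' = x} ≃
        MaximalSpectrum (CAlg2.normRed (X.presheaf.stalk x)),
      ∀ (x' : (X.fromSpecStalk (genericPoint X)).normalization)
        (h : (X.fromSpecStalk (genericPoint X)).fromNormalization x' = x),
        ENat.card (Brnch.Emb (X.presheaf.stalk x) (Φ ⟨x', h⟩)) =
          (letI := ((X.fromSpecStalk (genericPoint X)).fromNormalization.residueFieldMap x').hom.toAlgebra
           ENat.card (Field.Emb
            (X.residueField ((X.fromSpecStalk (genericPoint X)).fromNormalization x'))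
            ((X.fromSpecStalk (genericPoint X)).normalization.residueField x'))) := by
  obtain ⟨_, ⟨U, hU : IsAffineOpen U, rfl⟩, hxU, -⟩ :=
    (X.isBasis_affineOpens).exists_subset_of_mem_open (Set.mem_univ x) isOpen_univ
  have hxU : x ∈ U := hxU
  obtain ⟨j, hj, hjloc⟩ := exists_loc X U hU x hxU
  have hV : IsAffineOpen ((X.fromSpecStalk (genericPoint X)).fromNormalization ⁻¹ᵁ U) :=
    hU.preimage _
  have key : ∀ (x' : (X.fromSpecStalk (genericPoint X)).normalization)
      (h : (X.fromSpecStalk (genericPoint X)).fromNormalization x' = x),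
      ∃ m : MaximalSpectrum (CAlg2.normRed (X.presheaf.stalk x)),
        m.asIdeal.comap j =
          primeAt ((X.fromSpecStalk (genericPoint X)).fromNormalization ⁻¹ᵁ U) x'
            (show (X.fromSpecStalk (genericPoint X)).fromNormalization x' ∈ U from h ▸ hxU) ∧
        ENat.card (Brnch.Emb (X.presheaf.stalk x) m) =
          (letI := ((X.fromSpecStalk (genericPoint X)).fromNormalization.residueFieldMap x').hom.toAlgebra
           ENat.card (Field.Emb
            (X.residueField ((X.fromSpecStalk (genericPoint X)).fromNormalization x'))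
            ((X.fromSpecStalk (genericPoint X)).normalization.residueField x'))) := by
    intro x' h
    subst h
    obtain ⟨θ, hs, hmax, hcomap, hcompat⟩ :=
      exists_theta (X.fromSpecStalk (genericPoint X)).fromNormalization x' U hU hxU j hj hjloc
    refine ⟨⟨RingHom.ker θ, hmax⟩, hcomap, ?_⟩
    exact card_emb (X.presheaf.stalk ((X.fromSpecStalk (genericPoint X)).fromNormalization x'))
      ⟨RingHom.ker θ, hmax⟩ θ hs rfl
      ((X.fromSpecStalk (genericPoint X)).fromNormalization.residueFieldMap x').hom hcompat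
  choose Φ hΦ1 hΦ2 using key
  -- instances for the ring-level lemmas
  letI algA : Algebra Γ(X, U) (X.presheaf.stalk x) := (X.presheaf.germ U x hxU).hom.toAlgebra
  letI algN : Algebra Γ(X, U) Γ((X.fromSpecStalk (genericPoint X)).normalization,
      (X.fromSpecStalk (genericPoint X)).fromNormalization ⁻¹ᵁ U) :=
    ((X.fromSpecStalk (genericPoint X)).fromNormalization.app U).hom.toAlgebra
  letI algj : Algebra Γ((X.fromSpecStalk (genericPoint X)).normalization,
      (X.fromSpecStalk (genericPoint X)).fromNormalization ⁻¹ᵁ U)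
      (CAlg2.normRed (X.presheaf.stalk x)) := j.toAlgebra
  have hp : (hU.primeIdealOf ⟨x, hxU⟩).asIdeal = primeAt U x hxU :=
    (primeAt_eq_primeIdealOf hU x hxU).symm
  haveI hloc0 : IsLocalization.AtPrime (X.presheaf.stalk x)
      (hU.primeIdealOf ⟨x, hxU⟩).asIdeal := hU.isLocalization_stalk ⟨x, hxU⟩
  haveI hloc : IsLocalization.AtPrime (X.presheaf.stalk x) (primeAt U x hxU) :=
    isLocalization_atPrime_congr hp
  haveI : IsLocalization (Algebra.algebraMapSubmonoid
      Γ((X.fromSpecStalk (genericPoint X)).normalization,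
        (X.fromSpecStalk (genericPoint X)).fromNormalization ⁻¹ᵁ U)
      (primeAt U x hxU).primeCompl) (CAlg2.normRed (X.presheaf.stalk x)) := hjloc
  refine ⟨Equiv.ofBijective (fun x' => Φ x'.1 x'.2) ⟨?_, ?_⟩, fun x' h => hΦ2 x' h⟩
  · rintro ⟨x', h⟩ ⟨x'', h'⟩ heq
    apply Subtype.ext
    have h1 := hΦ1 x' h
    have h2 := hΦ1 x'' h'
    have heq' : Φ x' h = Φ x'' h' := heq
    rw [heq'] at h1
    exact eq_of_primeAt_eq' hV x' x'' _ _ (h1.symm.trans h2)
  · intro m
    haveI : (m.asIdeal.comap j).IsPrime := Ideal.comap_isPrime j m.asIdeal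
    obtain ⟨x', hx'V, hx'q⟩ := exists_primeAt_eq hV (m.asIdeal.comap j)
    have hν : (X.fromSpecStalk (genericPoint X)).fromNormalization x' = x := by
      apply eq_of_primeAt_eq' hU _ x hx'V hxU
      have h1 := comap_primeAt (X.fromSpecStalk (genericPoint X)).fromNormalization U
        ((X.fromSpecStalk (genericPoint X)).fromNormalization ⁻¹ᵁ U) le_rfl x' hx'V
      rw [← Scheme.Hom.app_eq_appLE] at h1
      rw [← h1, hx'q]
      haveI := m.isMaximal
      exact comap_comap_of_isMaximal (R := Γ(X, U)) (A := X.presheaf.stalk x)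
        (primeAt U x hxU) (toNormRed _) (toNormRed_isIntegral _) hj m.asIdeal
    refine ⟨⟨x', hν⟩, ?_⟩
    apply MaximalSpectrum.ext
    apply eq_of_comap_eq (R := Γ(X, U))
      (R₁ := Γ((X.fromSpecStalk (genericPoint X)).normalization,
        (X.fromSpecStalk (genericPoint X)).fromNormalization ⁻¹ᵁ U)) (primeAt U x hxU)
    exact (hΦ1 x' hν).trans hx'q

end

end Groth.Agent.Lib.helper13.Br
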