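import Mathlib
import Groth.Agent.Lib.Helper13.Br7

set_option autoImplicit false

namespace Groth.Agent.Lib.helper13.Br

universe u

open AlgebraicGeometry CategoryTheory Limits Groth.Agent.Lib.helper13.UCA
  Groth.Agent.Lib.helper13.KrAk Groth.Agent.Lib.helper13.Normal

noncomputable section

/-- For a geometrically unibranch local ring, the residue field of `normRed A` is purely
inseparable over that of `A`. -/
theorem isPurelyInseparable_of_isGeomUnibranch (A : Type u) [CommRing A] [IsLocalRing A]
    (hA : CAlg2.IsGeomUnibranch A) {L : Type u} [Field L] (θ : CAlg2.normRed A →+* L)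
    (hθs : Function.Surjective θ) (hmax : (RingHom.ker θ).IsMaximal)
    (r : IsLocalRing.ResidueField A →+* L)
    (hr : θ.comp (toNormRed A) = r.comp (IsLocalRing.residue A)) :
    r.IsPurelyInseparable := by
  letI := r.toAlgebra
  rw [RingHom.IsPurelyInseparable,
    isPurelyInseparable_iff_pow_mem (IsLocalRing.ResidueField A)
      (ringExpChar (IsLocalRing.ResidueField A))]
  intro w
  obtain ⟨b, rfl⟩ := hθs w
  haveI := hmax
  obtain ⟨n, a, ha⟩ := hA.2 (RingHom.ker θ) (Ideal.Quotient.mk _ b)
  -- the exponential characteristics agree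
  have hθ0 : ∀ a ∈ RingHom.ker θ, θ a = 0 := fun a ha => ha
  let θbar : CAlg2.normRed A ⧸ RingHom.ker θ →+* L := Ideal.Quotient.lift (RingHom.ker θ) θ hθ0
  have hθbar : Function.Injective θbar :=
    RingHom.lift_injective_of_ker_le_ideal (RingHom.ker θ) hθ0 le_rfl
  haveI e1 : ExpChar L (ringExpChar (IsLocalRing.ResidueField A)) :=
    expChar_of_injective_ringHom r.injective _
  haveI e2 : ExpChar L (ringExpChar (CAlg2.normRed A ⧸ RingHom.ker θ)) :=
    expChar_of_injective_ringHom hθbar _
  have hq : ringExpChar (CAlg2.normRed A ⧸ RingHom.ker θ) =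
      ringExpChar (IsLocalRing.ResidueField A) := ExpChar.eq e2 e1
  rw [hq] at ha
  refine ⟨n, IsLocalRing.residue A a, ?_⟩
  have h1 := congrArg θbar ha
  rw [map_pow] at h1
  have h2 : θbar (Ideal.Quotient.mk (RingHom.ker θ) b) = θ b :=
    Ideal.Quotient.lift_mk (RingHom.ker θ) θ hθ0
  rw [h2] at h1
  rw [← h1]
  have h3 := congrFun (congrArg DFunLike.coe hr) a
  exact h3.symm

variable (X : Scheme.{u}) [IsIntegral X] [QuasiCompact (X.fromSpecStalk (genericPoint X))]
  [QuasiSeparated (X.fromSpecStalk (genericPoint X))]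

theorem exists_theta' (x' : (X.fromSpecStalk (genericPoint X)).normalization) :
    ∃ θ : CAlg2.normRed (X.presheaf.stalk
          ((X.fromSpecStalk (genericPoint X)).fromNormalization x')) →+*
        (X.fromSpecStalk (genericPoint X)).normalization.residueField x',
      Function.Surjective θ ∧ (RingHom.ker θ).IsMaximal ∧
      θ.comp (toNormRed _) =
        ((X.fromSpecStalk (genericPoint X)).fromNormalization.residueFieldMap x').hom.comp
          (X.residue _).hom := by
  obtain ⟨_, ⟨U, hU : IsAffineOpen U, rfl⟩, hxU, -⟩ :=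
    (X.isBasis_affineOpens).exists_subset_of_mem_open
      (Set.mem_univ ((X.fromSpecStalk (genericPoint X)).fromNormalization x')) isOpen_univ
  have hxU : (X.fromSpecStalk (genericPoint X)).fromNormalization x' ∈ U := hxU
  obtain ⟨j, hj, hjloc⟩ := exists_loc X U hU _ hxU
  obtain ⟨θ, hs, hmax, -, hcompat⟩ :=
    exists_theta (X.fromSpecStalk (genericPoint X)).fromNormalization x' U hU hxU j hj hjloc
  exact ⟨θ, hs, hmax, hcompat⟩

theorem universallyInjective_fromNormalization
    (hX : ∀ x : X, CAlg2.IsGeomUnibranch (X.presheaf.stalk x)) :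
    UniversallyInjective (X.fromSpecStalk (genericPoint X)).fromNormalization := by
  have htfae := (tfae_universallyInjective
    (X.fromSpecStalk (genericPoint X)).fromNormalization).out 0 2 rfl rfl
  rw [htfae]
  constructor
  · intro x' x'' h
    obtain ⟨Φ, -⟩ := exists_equiv_fibre X ((X.fromSpecStalk (genericPoint X)).fromNormalization x'')
    haveI : IsLocalRing (CAlg2.normRed (X.presheaf.stalk
        ((X.fromSpecStalk (genericPoint X)).fromNormalization x''))) := (hX _).1.2
    have : Φ ⟨x', h⟩ = Φ ⟨x'', rfl⟩ := by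
      apply MaximalSpectrum.ext
      rw [IsLocalRing.eq_maximalIdeal (Φ ⟨x', h⟩).isMaximal,
        IsLocalRing.eq_maximalIdeal (Φ ⟨x'', rfl⟩).isMaximal]
    exact congrArg Subtype.val (Φ.injective this)
  · intro x'
    obtain ⟨θ, hs, hmax, hcompat⟩ := exists_theta' X x'
    exact isPurelyInseparable_of_isGeomUnibranch _ (hX _) θ hs hmax _ hcompat

end

end Groth.Agent.Lib.helper13.Br
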