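import Mathlib
import Groth.Agent.Lib.Helper13.Br3
import Groth.Agent.Lib.Helper13.Br2

/-!
# `normRed` of a localization of a domain as a localization of any integral closure
-/

set_option autoImplicit false

namespace Groth.Agent.Lib.helper13.Br

universe u

noncomputable section

/-- Let `R` be a domain with fraction field `K`, `p` a prime, `A = R_p`, and `R₁` the integral
closure of `R` in `K`.  Then `normRed A` is the localization of `R₁` at `R ∖ p`. -/
theorem exists_isLocalization_normRed' {R A R₁ K : Type u} [CommRing R] [IsDomain R] [CommRing A]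
    [Algebra R A] (p : Ideal R) [p.IsPrime] [IsLocalization.AtPrime A p]
    [CommRing R₁] [Algebra R R₁] [Field K] [Algebra R K] [IsFractionRing R K] [Algebra R₁ K]
    [IsScalarTower R R₁ K] [IsIntegralClosure R₁ R K] :
    ∃ j : R₁ →+* CAlg2.normRed A,
      (∀ r : R, j (algebraMap R R₁ r) = toNormRed A (algebraMap R A r)) ∧
      (letI := j.toAlgebra
       IsLocalization (Algebra.algebraMapSubmonoid R₁ p.primeCompl) (CAlg2.normRed A)) := by
  obtain ⟨j₀, hj₀, -, hj₀loc⟩ := exists_isLocalization_normRed (R := R) (A := A) p
  haveI hFR := isFractionRing_fractionRing_red (R := R) (A := A) p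
  let eF : K ≃ₐ[R] FractionRing (CAlg2.red A) :=
    IsLocalization.algEquiv (nonZeroDivisors R) _ _
  let ι : R₁ ≃ₐ[R] integralClosure R K := IsIntegralClosure.equiv R R₁ K (integralClosure R K)
  let ε : R₁ ≃+* integralClosure R (FractionRing (CAlg2.red A)) :=
    (ι.trans eF.mapIntegralClosure).toRingEquiv
  have hε : ∀ r, ε (algebraMap R R₁ r) = algebraMap R _ r := by
    intro r
    exact (ι.trans eF.mapIntegralClosure).commutes r
  letI algj₀ : Algebra (integralClosure R (FractionRing (CAlg2.red A))) (CAlg2.normRed A) :=
    j₀.toAlgebra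
  refine ⟨(algebraMap (integralClosure R (FractionRing (CAlg2.red A)))
      (CAlg2.normRed A)).comp ε.symm.symm.toRingHom, ?_, ?_⟩
  · intro r
    show j₀ (ε _) = _
    rw [hε, hj₀]
  · have h1 := IsLocalization.isLocalization_of_base_ringEquiv
      (Algebra.algebraMapSubmonoid (integralClosure R (FractionRing (CAlg2.red A)))
        p.primeCompl) (CAlg2.normRed A) ε.symm
    have h2 : Submonoid.map ε.symm (Algebra.algebraMapSubmonoid
        (integralClosure R (FractionRing (CAlg2.red A))) p.primeCompl) =
        Algebra.algebraMapSubmonoid R₁ p.primeCompl := by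
      ext y
      constructor
      · rintro ⟨_, ⟨s, hs, rfl⟩, rfl⟩
        refine ⟨s, hs, ?_⟩
        rw [← hε]
        exact (ε.symm_apply_apply _).symm
      · rintro ⟨s, hs, rfl⟩
        refine ⟨_, ⟨s, hs, rfl⟩, ?_⟩
        rw [← hε]
        exact ε.symm_apply_apply _
    rw [h2] at h1
    exact h1

end

end Groth.Agent.Lib.helper13.Br
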