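import Mathlib
import Groth.Agent.Lib.Helper13.Br9
import Groth.Agent.Lib.Helper13.Br8

set_option autoImplicit false

namespace Groth.Agent.Lib.helper13.Br

universe u

open AlgebraicGeometry CategoryTheory Limits

noncomputable section

section SpecEv

variable (R : CommRingCat.{u}) (x : Spec R)

/-- Evaluation of elements of `R` at a point of `Spec R`, valued in the scheme-theoretic residue
field. -/
def specEv : R →+* (Spec R).residueField x :=
  ((Scheme.Spec.residueFieldIso R x).inv.hom).comp (algebraMap R x.asIdeal.ResidueField)

lemma specEv_eq : specEv R x =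
    ((Scheme.ΓSpecIso R).inv ≫ (Spec R).Γevaluation x).hom := by
  have := Scheme.Spec.algebraMap_residueFieldIso_inv R x
  rw [CommRingCat.hom_ext_iff] at this
  exact this

lemma ker_specEv : RingHom.ker (specEv R x) = x.asIdeal := by
  ext a
  rw [RingHom.mem_ker, specEv, RingHom.comp_apply]
  have hinj : Function.Injective (Scheme.Spec.residueFieldIso R x).inv.hom :=
    ((Scheme.Spec.residueFieldIso R x).symm.commRingCatIsoToRingEquiv).injective
  rw [← map_zero (Scheme.Spec.residueFieldIso R x).inv.hom, hinj.eq_iff]
  rw [← RingHom.mem_ker, Ideal.ker_algebraMap_residueField]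

lemma specEv_gen (z : (Spec R).residueField x) :
    ∃ a b : R, specEv R x b ≠ 0 ∧ z * specEv R x b = specEv R x a := by
  obtain ⟨w, hw⟩ := IsLocalRing.residue_surjective ((Scheme.Spec.residueFieldIso R x).hom.hom z)
  obtain ⟨⟨a, s⟩, has⟩ := IsLocalization.surj x.asIdeal.primeCompl w
  refine ⟨a, s, ?_, ?_⟩
  · intro h0
    have : (s : R) ∈ RingHom.ker (specEv R x) := h0
    rw [ker_specEv] at this
    exact s.2 this
  · have h1 := congrArg (IsLocalRing.residue _) has
    rw [map_mul, hw] at h1
    have h2 := congrArg (Scheme.Spec.residueFieldIso R x).inv.hom h1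
    rw [map_mul] at h2
    have h3 : (Scheme.Spec.residueFieldIso R x).inv.hom
        ((Scheme.Spec.residueFieldIso R x).hom.hom z) = z := by
      rw [← CommRingCat.comp_apply, Iso.hom_inv_id]
      rfl
    rw [h3] at h2
    exact h2

end SpecEv

lemma specEv_naturality {R S : CommRingCat.{u}} (φ : R ⟶ S) (x' : Spec S) :
    ((Spec.map φ).residueFieldMap x').hom.comp (specEv R ((Spec.map φ) x')) =
      (specEv S x').comp φ.hom := by
  rw [specEv_eq, specEv_eq, ← CommRingCat.hom_comp, ← CommRingCat.hom_comp]
  congr 1
  rw [Category.assoc, Scheme.Γevaluation_naturality, ← Category.assoc,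
    ← Scheme.ΓSpecIso_inv_naturality, Category.assoc]

section IntClosure

variable (A : Type u) [CommRing A] [IsDomain A]

/-- The morphism `Spec A' → Spec A` for `A'` the integral closure of the domain `A`. -/
abbrev specIC : Spec (CommRingCat.of (integralClosure A (FractionRing A))) ⟶
    Spec (CommRingCat.of A) :=
  Spec.map (CommRingCat.ofHom (algebraMap A (integralClosure A (FractionRing A))))

theorem exists_theta_spec
    (x' : Spec (CommRingCat.of (integralClosure A (FractionRing A))))
    (j : integralClosure A (FractionRing A) →+*
        CAlg2.normRed (Localization.AtPrime ((specIC A) x').asIdeal))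
    (hj : ∀ r : A, j (algebraMap A _ r) = toNormRed _ (algebraMap A _ r))
    (hjloc : letI := j.toAlgebra
       IsLocalization (Algebra.algebraMapSubmonoid (integralClosure A (FractionRing A))
          ((specIC A) x').asIdeal.primeCompl)
        (CAlg2.normRed (Localization.AtPrime ((specIC A) x').asIdeal))) :
    ∃ (θ : CAlg2.normRed (Localization.AtPrime ((specIC A) x').asIdeal) →+*
        (Spec (CommRingCat.of (integralClosure A (FractionRing A)))).residueField x'),
      Function.Surjective θ ∧ (RingHom.ker θ).IsMaximal ∧
      (RingHom.ker θ).comap j = x'.asIdeal ∧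
      θ.comp (toNormRed _) =
        (((specIC A).residueFieldMap x').hom.comp
          (Scheme.Spec.residueFieldIso (CommRingCat.of A) ((specIC A) x')).inv.hom).comp
          (IsLocalRing.residue (Localization.AtPrime ((specIC A) x').asIdeal)) := by
  letI algj : Algebra (integralClosure A (FractionRing A))
      (CAlg2.normRed (Localization.AtPrime ((specIC A) x').asIdeal)) := j.toAlgebra
  haveI : IsLocalization (Algebra.algebraMapSubmonoid (integralClosure A (FractionRing A))
      ((specIC A) x').asIdeal.primeCompl)
      (CAlg2.normRed (Localization.AtPrime ((specIC A) x').asIdeal)) := hjloc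
  have hq : x'.asIdeal.comap (algebraMap A (integralClosure A (FractionRing A))) =
      ((specIC A) x').asIdeal := rfl
  obtain ⟨θ, hθ, hmax, hcomap, hsurj⟩ := exists_lift (R := A)
    (A := Localization.AtPrime ((specIC A) x').asIdeal)
    (R₁ := integralClosure A (FractionRing A))
    (B := CAlg2.normRed (Localization.AtPrime ((specIC A) x').asIdeal))
    ((specIC A) x').asIdeal (toNormRed _) (toNormRed_isIntegral _) hj
    x'.asIdeal hq (specEv (CommRingCat.of (integralClosure A (FractionRing A))) x')
    (ker_specEv _ x')
  refine ⟨θ, hsurj (specEv_gen _ x'), hmax, hcomap, ?_⟩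
  apply IsLocalization.ringHom_ext ((specIC A) x').asIdeal.primeCompl
  ext r
  have h1 := hθ (algebraMap A (integralClosure A (FractionRing A)) r)
  have h2 := congrFun (congrArg DFunLike.coe
    (specEv_naturality (CommRingCat.ofHom (algebraMap A (integralClosure A (FractionRing A))))
      x')) r
  simp only [RingHom.coe_comp, Function.comp_apply]
  rw [← hj]
  rw [show (algebraMap (integralClosure A (FractionRing A))
      (CAlg2.normRed (Localization.AtPrime ((specIC A) x').asIdeal)))
      (algebraMap A (integralClosure A (FractionRing A)) r) =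
      j (algebraMap A (integralClosure A (FractionRing A)) r) from rfl] at h1
  rw [h1]
  simp only [RingHom.coe_comp, Function.comp_apply] at h2
  exact h2.symm

end IntClosure

end

end Groth.Agent.Lib.helper13.Br
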