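import Mathlib
import Groth.Agent.Lib.Helper13.Br10

set_option autoImplicit false

namespace Groth.Agent.Lib.helper13.Br

universe u

open AlgebraicGeometry CategoryTheory Limits

noncomputable section

/-- Converse of `isPurelyInseparable_of_isGeomUnibranch`, for one maximal ideal. -/
theorem pow_mem_range_of_isPurelyInseparable (A : Type u) [CommRing A] [IsLocalRing A]
    {L : Type u} [Field L] (θ : CAlg2.normRed A →+* L)
    (hθs : Function.Surjective θ) (m' : Ideal (CAlg2.normRed A)) [m'.IsMaximal]
    (hker : RingHom.ker θ = m')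
    (r : IsLocalRing.ResidueField A →+* L)
    (hr : θ.comp (toNormRed A) = r.comp (IsLocalRing.residue A))
    (hpi : r.IsPurelyInseparable) (z : CAlg2.normRed A ⧸ m') :
    ∃ n : ℕ, z ^ (ringExpChar (CAlg2.normRed A ⧸ m')) ^ n ∈
      ((Ideal.Quotient.mk m').comp ((algebraMap (CAlg2.red A) (CAlg2.normRed A)).comp
        (Ideal.Quotient.mk (nilradical A)))).range := by
  subst hker
  letI := r.toAlgebra
  have hpi' : IsPurelyInseparable (IsLocalRing.ResidueField A) L := hpi
  rw [isPurelyInseparable_iff_pow_mem (IsLocalRing.ResidueField A)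
      (ringExpChar (IsLocalRing.ResidueField A))] at hpi'
  have hθ0 : ∀ a ∈ RingHom.ker θ, θ a = 0 := fun a ha => ha
  let θbar : CAlg2.normRed A ⧸ RingHom.ker θ →+* L := Ideal.Quotient.lift (RingHom.ker θ) θ hθ0
  have hθbar : Function.Injective θbar :=
    RingHom.lift_injective_of_ker_le_ideal (RingHom.ker θ) hθ0 le_rfl
  haveI e1 : ExpChar L (ringExpChar (IsLocalRing.ResidueField A)) :=
    expChar_of_injective_ringHom r.injective _
  haveI e2 : ExpChar L (ringExpChar (CAlg2.normRed A ⧸ RingHom.ker θ)) :=
    expChar_of_injective_ringHom hθbar _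
  have hq : ringExpChar (CAlg2.normRed A ⧸ RingHom.ker θ) =
      ringExpChar (IsLocalRing.ResidueField A) := ExpChar.eq e2 e1
  rw [hq]
  obtain ⟨b, rfl⟩ := Ideal.Quotient.mk_surjective z
  obtain ⟨n, c, hc⟩ := hpi' (θ b)
  obtain ⟨a, rfl⟩ := IsLocalRing.residue_surjective c
  refine ⟨n, a, ?_⟩
  apply hθbar
  rw [map_pow]
  have h2 : θbar (Ideal.Quotient.mk (RingHom.ker θ) b) = θ b :=
    Ideal.Quotient.lift_mk (RingHom.ker θ) θ hθ0
  rw [h2, ← hc]
  have h3 := congrFun (congrArg DFunLike.coe hr) a
  exact h3

theorem isPurelyInseparable_comp_of_surjective {F E K : Type u} [Field F] [Field E] [Field K]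
    (ρ : F →+* E) (g : E →+* K) (hρ : Function.Surjective ρ) (hg : g.IsPurelyInseparable) :
    (g.comp ρ).IsPurelyInseparable := by
  letI := ρ.toAlgebra
  letI := g.toAlgebra
  letI := (g.comp ρ).toAlgebra
  haveI : IsScalarTower F E K := IsScalarTower.of_algebraMap_eq (fun _ => rfl)
  haveI h1 : IsPurelyInseparable F E := by
    rw [isPurelyInseparable_iff_pow_mem F (ringExpChar F)]
    intro x
    obtain ⟨y, rfl⟩ := hρ x
    exact ⟨0, y, by simp; rfl⟩
  haveI h2 : IsPurelyInseparable E K := hg
  exact IsPurelyInseparable.trans F E K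

theorem isPurelyInseparable_of_comp {F E K : Type u} [Field F] [Field E] [Field K]
    (ρ : F →+* E) (g : E →+* K) (h : (g.comp ρ).IsPurelyInseparable) :
    g.IsPurelyInseparable := by
  letI := ρ.toAlgebra
  letI := g.toAlgebra
  letI := (g.comp ρ).toAlgebra
  haveI : IsScalarTower F E K := IsScalarTower.of_algebraMap_eq (fun _ => rfl)
  haveI h1 : IsPurelyInseparable F K := h
  exact IsPurelyInseparable.tower_top F E K

theorem pow_mem_range_spec (A : Type u) [CommRing A] [IsDomain A]
    (x' : Spec (CommRingCat.of (integralClosure A (FractionRing A))))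
    (p : Ideal A) [p.IsPrime] (h : ((specIC A) x').asIdeal = p)
    (j : integralClosure A (FractionRing A) →+* CAlg2.normRed (Localization.AtPrime p))
    (hj : ∀ r : A, j (algebraMap A _ r) = toNormRed _ (algebraMap A _ r))
    (hjloc : letI := j.toAlgebra
       IsLocalization (Algebra.algebraMapSubmonoid (integralClosure A (FractionRing A))
          p.primeCompl) (CAlg2.normRed (Localization.AtPrime p)))
    (m' : Ideal (CAlg2.normRed (Localization.AtPrime p))) [m'.IsMaximal]
    (hm' : m'.comap j = x'.asIdeal)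
    (hpi : ((specIC A).residueFieldMap x').hom.IsPurelyInseparable)
    (z : CAlg2.normRed (Localization.AtPrime p) ⧸ m') :
    ∃ n : ℕ, z ^ (ringExpChar (CAlg2.normRed (Localization.AtPrime p) ⧸ m')) ^ n ∈
      ((Ideal.Quotient.mk m').comp ((algebraMap (CAlg2.red (Localization.AtPrime p))
        (CAlg2.normRed (Localization.AtPrime p))).comp
        (Ideal.Quotient.mk (nilradical (Localization.AtPrime p))))).range := by
  subst h
  obtain ⟨θ, hs, hmax, hcomap, hcompat⟩ := exists_theta_spec A x' j hj hjloc
  letI algj : Algebra (integralClosure A (FractionRing A))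
      (CAlg2.normRed (Localization.AtPrime ((specIC A) x').asIdeal)) := j.toAlgebra
  haveI : IsLocalization (Algebra.algebraMapSubmonoid (integralClosure A (FractionRing A))
      ((specIC A) x').asIdeal.primeCompl)
      (CAlg2.normRed (Localization.AtPrime ((specIC A) x').asIdeal)) := hjloc
  have hker : RingHom.ker θ = m' :=
    eq_of_comap_eq (R := A) (R₁ := integralClosure A (FractionRing A))
      ((specIC A) x').asIdeal _ _ (hcomap.trans hm'.symm)
  refine pow_mem_range_of_isPurelyInseparable _ θ hs m' hker _ hcompat ?_ z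
  refine isPurelyInseparable_comp_of_surjective _ _ ?_ hpi
  exact ((Scheme.Spec.residueFieldIso (CommRingCat.of A)
    ((specIC A) x')).symm.commRingCatIsoToRingEquiv).surjective

end

end Groth.Agent.Lib.helper13.Br
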