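import Mathlib
import Groth.Agent.Lib.Helper13.PBW3

/-!
Helper library (helper13) for the Cartier–Milnor–Moore theorem (S4135), part 1:
the comultiplication on the universal enveloping algebra, its behaviour on the PBW filtration,
and the primitive elements of `U(L)` in characteristic zero.
-/

set_option autoImplicit false
set_option linter.unusedSectionVars false
universe u v w
open scoped LieRing TensorProduct

namespace Groth.Agent.Lib.helper13.CMM

open Groth.Agent.Lib.helper13.PBW

attribute [local instance 100] LieRing.ofAssociativeRing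

section Comul

variable {k : Type u} {L : Type v} [CommRing k] [LieRing L] [LieAlgebra k L]

/-- the Lie algebra map `x ↦ x ⊗ 1 + 1 ⊗ x` -/
noncomputable def comulLie :
    L →ₗ⁅k⁆ (UniversalEnvelopingAlgebra k L ⊗[k] UniversalEnvelopingAlgebra k L) :=
  { toFun := fun x => UniversalEnvelopingAlgebra.ι k x ⊗ₜ[k] 1 + 1 ⊗ₜ[k] UniversalEnvelopingAlgebra.ι k x
    map_add' := by
      intro x y
      simp only [map_add, TensorProduct.add_tmul, TensorProduct.tmul_add]
      abel
    map_smul' := by
      intro c x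
      simp only [map_smul, RingHom.id_apply, smul_add, TensorProduct.smul_tmul', TensorProduct.tmul_smul]
    map_lie' := by
      intro x y
      simp only [LieHom.map_lie, LieRing.of_associative_ring_bracket, add_mul, mul_add,
        Algebra.TensorProduct.tmul_mul_tmul, one_mul, mul_one, TensorProduct.sub_tmul,
        TensorProduct.tmul_sub]
      abel }

theorem comulLie_apply (x : L) :
    comulLie (k := k) x =
      UniversalEnvelopingAlgebra.ι k x ⊗ₜ[k] 1 + 1 ⊗ₜ[k] UniversalEnvelopingAlgebra.ι k x := rfl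

/-- the comultiplication of the universal enveloping algebra, as an algebra map -/
noncomputable def comulU : UniversalEnvelopingAlgebra k L →ₐ[k]
    (UniversalEnvelopingAlgebra k L ⊗[k] UniversalEnvelopingAlgebra k L) :=
  UniversalEnvelopingAlgebra.lift k comulLie

theorem comulU_ι (x : L) :
    comulU (UniversalEnvelopingAlgebra.ι k x) =
      UniversalEnvelopingAlgebra.ι k x ⊗ₜ[k] 1 + 1 ⊗ₜ[k] UniversalEnvelopingAlgebra.ι k x := by
  rw [comulU, UniversalEnvelopingAlgebra.lift_ι_apply, comulLie_apply]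

/-- compatibility of `comulU` with the comultiplication of a bialgebra, for a Lie map into
primitive elements -/
theorem comul_lift {H : Type w} [Ring H] [Bialgebra k H] (f : L →ₗ⁅k⁆ H)
    (hf : ∀ x, CoalgebraStruct.comul (R := k) (f x) = f x ⊗ₜ[k] (1 : H) + (1 : H) ⊗ₜ[k] f x)
    (u : UniversalEnvelopingAlgebra k L) :
    CoalgebraStruct.comul (R := k) (UniversalEnvelopingAlgebra.lift k f u) =
      Algebra.TensorProduct.map (UniversalEnvelopingAlgebra.lift k f)
        (UniversalEnvelopingAlgebra.lift k f) (comulU u) := by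
  have h : (Bialgebra.comulAlgHom k H).comp (UniversalEnvelopingAlgebra.lift k f) =
      (Algebra.TensorProduct.map (UniversalEnvelopingAlgebra.lift k f)
        (UniversalEnvelopingAlgebra.lift k f)).comp comulU := by
    apply UniversalEnvelopingAlgebra.hom_ext
    ext x
    simp only [LieHom.coe_comp, Function.comp_apply, AlgHom.coe_toLieHom, AlgHom.coe_comp,
      UniversalEnvelopingAlgebra.lift_ι_apply, Bialgebra.comulAlgHom_apply, hf, comulU_ι, map_add,
      Algebra.TensorProduct.map_tmul, map_one]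
  exact AlgHom.congr_fun h u

end Comul

section Filtration

variable {k : Type u} {L : Type v} {ι : Type w} [CommRing k] [LieRing L] [LieAlgebra k L]
  [LinearOrder ι] (b : Module.Basis ι k L)

/-- the image of `F n ⊗ F n` in `U ⊗ U` -/
noncomputable def FF (n : ℕ) :
    Submodule k (UniversalEnvelopingAlgebra k L ⊗[k] UniversalEnvelopingAlgebra k L) :=
  LinearMap.range (TensorProduct.map (F b n).subtype (F b n).subtype)

theorem tmul_mem_FF {n : ℕ} {a c : UniversalEnvelopingAlgebra k L} (ha : a ∈ F b n)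
    (hc : c ∈ F b n) : a ⊗ₜ[k] c ∈ FF b n :=
  ⟨(⟨a, ha⟩ : F b n) ⊗ₜ[k] (⟨c, hc⟩ : F b n), by simp⟩

theorem FF_mono {m n : ℕ} (h : m ≤ n) : FF b m ≤ FF b n := by
  rintro _ ⟨r, rfl⟩
  induction r using TensorProduct.induction_on with
  | zero => rw [map_zero]; exact zero_mem _
  | tmul a c =>
    rw [TensorProduct.map_tmul]
    exact tmul_mem_FF b (F_mono b h a.2) (F_mono b h c.2)
  | add r s hr hs => rw [map_add]; exact add_mem hr hs

theorem ι_tmul_one_mul_mem_FF (x : L) {n : ℕ}
    {r : UniversalEnvelopingAlgebra k L ⊗[k] UniversalEnvelopingAlgebra k L} (hr : r ∈ FF b n) :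
    (UniversalEnvelopingAlgebra.ι k x ⊗ₜ[k] 1) * r ∈ FF b (n + 1) := by
  obtain ⟨r, rfl⟩ := hr
  induction r using TensorProduct.induction_on with
  | zero => rw [map_zero, mul_zero]; exact zero_mem _
  | tmul a c =>
    rw [TensorProduct.map_tmul, Algebra.TensorProduct.tmul_mul_tmul, one_mul]
    exact tmul_mem_FF b (ι_mul_mem_F b x a.2) (F_mono b (Nat.le_succ n) c.2)
  | add r s hr hs => rw [map_add, mul_add]; exact add_mem hr hs

theorem one_tmul_ι_mul_mem_FF (x : L) {n : ℕ}
    {r : UniversalEnvelopingAlgebra k L ⊗[k] UniversalEnvelopingAlgebra k L} (hr : r ∈ FF b n) :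
    ((1 : UniversalEnvelopingAlgebra k L) ⊗ₜ[k] UniversalEnvelopingAlgebra.ι k x) * r ∈
      FF b (n + 1) := by
  obtain ⟨r, rfl⟩ := hr
  induction r using TensorProduct.induction_on with
  | zero => rw [map_zero, mul_zero]; exact zero_mem _
  | tmul a c =>
    rw [TensorProduct.map_tmul, Algebra.TensorProduct.tmul_mul_tmul, one_mul]
    exact tmul_mem_FF b (F_mono b (Nat.le_succ n) a.2) (ι_mul_mem_F b x c.2)
  | add r s hr hs => rw [map_add, mul_add]; exact add_mem hr hs

/-- the reduced comultiplication -/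
noncomputable def rem : UniversalEnvelopingAlgebra k L →ₗ[k]
    (UniversalEnvelopingAlgebra k L ⊗[k] UniversalEnvelopingAlgebra k L) :=
  (comulU (k := k) (L := L)).toLinearMap - (TensorProduct.mk k _ _).flip 1 - TensorProduct.mk k _ _ 1

theorem rem_apply (u : UniversalEnvelopingAlgebra k L) :
    rem (k := k) (L := L) u = comulU u - u ⊗ₜ[k] 1 - 1 ⊗ₜ[k] u := rfl

theorem rem_mon_mem : ∀ l : List ι, l ≠ [] → rem (mon b l) ∈ FF b l.length := by
  intro l
  induction l with
  | nil => intro h; exact absurd rfl h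
  | cons i l ih =>
    intro _
    by_cases hl : l = []
    · subst hl
      rw [rem_apply, mon_cons, mon_nil, mul_one, comulU_ι]
      simp only [add_sub_cancel_left, sub_self]
      exact zero_mem _
    · have ih' := ih hl
      have hlen : 1 ≤ l.length := List.length_pos_iff.2 hl
      rw [rem_apply] at ih' ⊢
      rw [mon_cons, map_mul, comulU_ι]
      have e : comulU (mon b l) = (comulU (mon b l) - mon b l ⊗ₜ[k] 1 - 1 ⊗ₜ[k] mon b l) +
          mon b l ⊗ₜ[k] 1 + 1 ⊗ₜ[k] mon b l := by abel
      rw [e]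
      set r := comulU (mon b l) - mon b l ⊗ₜ[k] 1 - 1 ⊗ₜ[k] mon b l with hr
      have key : (UniversalEnvelopingAlgebra.ι k (b i) ⊗ₜ[k] 1 + 1 ⊗ₜ[k] UniversalEnvelopingAlgebra.ι k (b i)) *
            (r + mon b l ⊗ₜ[k] 1 + 1 ⊗ₜ[k] mon b l) -
            (UniversalEnvelopingAlgebra.ι k (b i) * mon b l) ⊗ₜ[k] 1 -
            1 ⊗ₜ[k] (UniversalEnvelopingAlgebra.ι k (b i) * mon b l) =
          (UniversalEnvelopingAlgebra.ι k (b i) ⊗ₜ[k] 1) * r +
          ((1 : UniversalEnvelopingAlgebra k L) ⊗ₜ[k] UniversalEnvelopingAlgebra.ι k (b i)) * r +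
          UniversalEnvelopingAlgebra.ι k (b i) ⊗ₜ[k] mon b l +
          mon b l ⊗ₜ[k] UniversalEnvelopingAlgebra.ι k (b i) := by
        simp only [add_mul, mul_add, Algebra.TensorProduct.tmul_mul_tmul, one_mul, mul_one]
        abel
      rw [key]
      have hx : UniversalEnvelopingAlgebra.ι k (b i) ∈ F b (l.length + 1) := by
        have : UniversalEnvelopingAlgebra.ι k (b i) = mon b [i] := by
          rw [mon_cons, mon_nil, mul_one]
        rw [this]
        exact mon_mem_F b (by simp only [List.length_singleton]; omega)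
      have hm : mon b l ∈ F b (l.length + 1) := mon_mem_F b (Nat.lt_succ_self _)
      refine add_mem (add_mem (add_mem ?_ ?_) ?_) ?_
      · exact ι_tmul_one_mul_mem_FF b _ ih'
      · exact one_tmul_ι_mul_mem_FF b _ ih'
      · exact tmul_mem_FF b hx hm
      · exact tmul_mem_FF b hm hx

theorem rem_mem {n : ℕ} (hn : 1 ≤ n) {u : UniversalEnvelopingAlgebra k L} (hu : u ∈ F b (n + 1)) :
    rem u ∈ FF b n := by
  unfold F at hu
  induction hu using Submodule.span_induction with
  | mem u hu =>
    obtain ⟨l, hl, rfl⟩ := hu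
    by_cases hl0 : l = []
    · subst hl0
      rw [rem_apply, mon_nil, map_one]
      have h1 : (1 : UniversalEnvelopingAlgebra k L) ∈ F b n := by
        rw [← mon_nil b]; exact mon_mem_F b hn
      have : (1 : UniversalEnvelopingAlgebra k L ⊗[k] UniversalEnvelopingAlgebra k L) -
          (1 : UniversalEnvelopingAlgebra k L) ⊗ₜ[k] 1 - 1 ⊗ₜ[k] 1 =
          -((1 : UniversalEnvelopingAlgebra k L) ⊗ₜ[k] (1 : UniversalEnvelopingAlgebra k L)) := by
        rw [Algebra.TensorProduct.one_def]; abel
      rw [this]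
      exact neg_mem (tmul_mem_FF b h1 h1)
    · exact FF_mono b (Nat.lt_succ_iff.1 hl) (rem_mon_mem b l hl0)
  | zero => rw [map_zero]; exact zero_mem _
  | add u v _ _ hu hv => rw [map_add]; exact add_mem hu hv
  | smul c u _ hu => rw [map_smul]; exact Submodule.smul_mem _ c hu

end Filtration

end Groth.Agent.Lib.helper13.CMM
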