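import Mathlib
import Groth.Agent.Lib.Helper13.CMM1

/-!
Helper library (helper13) for the Cartier–Milnor–Moore theorem (S4135), part 2:
primitive elements of `U(L)` in characteristic zero, and injectivity of `U(L) → H`.
-/

set_option autoImplicit false
set_option linter.unusedSectionVars false
universe u v w
open scoped LieRing TensorProduct

namespace Groth.Agent.Lib.helper13.CMM

open Groth.Agent.Lib.helper13.PBW

attribute [local instance 100] LieRing.ofAssociativeRing

section Splits

variable {ι : Type w}

/-- all ways to split a list into two complementary sublists -/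
def splits : List ι → List (List ι × List ι)
  | [] => [([], [])]
  | i :: l => (splits l).map (fun p => (i :: p.1, p.2)) ++ (splits l).map (fun p => (p.1, i :: p.2))

theorem splits_nil : splits ([] : List ι) = [([], [])] := rfl

theorem splits_cons (i : ι) (l : List ι) :
    splits (i :: l) =
      (splits l).map (fun p => (i :: p.1, p.2)) ++ (splits l).map (fun p => (p.1, i :: p.2)) := rfl

theorem splits_sublist {l : List ι} {p : List ι × List ι} (hp : p ∈ splits l) :
    p.1.Sublist l ∧ p.2.Sublist l := by
  induction l generalizing p with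
  | nil =>
    rw [splits_nil, List.mem_singleton] at hp
    subst hp
    exact ⟨List.Sublist.refl _, List.Sublist.refl _⟩
  | cons i l ih =>
    rw [splits_cons, List.mem_append, List.mem_map, List.mem_map] at hp
    rcases hp with ⟨q, hq, rfl⟩ | ⟨q, hq, rfl⟩
    · exact ⟨(ih hq).1.cons_cons i, (ih hq).2.cons i⟩
    · exact ⟨(ih hq).1.cons i, (ih hq).2.cons_cons i⟩

theorem splits_perm {l : List ι} {p : List ι × List ι} (hp : p ∈ splits l) :
    (p.1 ++ p.2).Perm l := by
  induction l generalizing p with
  | nil =>
    rw [splits_nil, List.mem_singleton] at hp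
    subst hp
    exact List.Perm.refl _
  | cons i l ih =>
    rw [splits_cons, List.mem_append, List.mem_map, List.mem_map] at hp
    rcases hp with ⟨q, hq, rfl⟩ | ⟨q, hq, rfl⟩
    · exact (ih hq).cons i
    · exact List.perm_middle.trans ((ih hq).cons i)

theorem nil_mem_splits (l : List ι) : ([], l) ∈ splits l := by
  induction l with
  | nil => rw [splits_nil]; exact List.mem_singleton.2 rfl
  | cons i l ih =>
    rw [splits_cons, List.mem_append]
    right
    exact List.mem_map.2 ⟨([], l), ih, rfl⟩

theorem sum_map_ite_eq {k : Type u} [Semiring k] {α : Type*} [DecidableEq α] (Ls : List α)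
    (q : α) : (Ls.map fun p => if p = q then (1 : k) else 0).sum =
      (Ls.countP (fun p => decide (p = q)) : k) := by
  induction Ls with
  | nil => simp
  | cons a l ih =>
    rw [List.map_cons, List.sum_cons, ih, List.countP_cons]
    by_cases h : a = q
    · subst h; simp [add_comm]
    · simp [h]

end Splits

section Prim

variable {k : Type u} {L : Type v} {ι : Type w} [Field k] [LieRing L] [LieAlgebra k L]
  [LinearOrder ι] (b : Module.Basis ι k L)

theorem comulU_mon (l : List ι) :
    comulU (mon b l) = ((splits l).map fun p => mon b p.1 ⊗ₜ[k] mon b p.2).sum := by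
  induction l with
  | nil =>
    rw [mon_nil, map_one, splits_nil, List.map_singleton, List.sum_singleton, mon_nil,
      Algebra.TensorProduct.one_def]
  | cons i l ih =>
    rw [mon_cons, map_mul, comulU_ι, ih, splits_cons, List.map_append, List.sum_append,
      List.map_map, List.map_map, add_mul, ← List.sum_map_mul_left, ← List.sum_map_mul_left]
    congr 1
    · congr 1
      apply List.map_congr_left
      intro p _
      simp only [Function.comp_apply, mon_cons, Algebra.TensorProduct.tmul_mul_tmul, one_mul]
    · congr 1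
      apply List.map_congr_left
      intro p _
      simp only [Function.comp_apply, mon_cons, Algebra.TensorProduct.tmul_mul_tmul, one_mul]

/-- index type of the PBW basis -/
abbrev Idx (ι : Type w) [LinearOrder ι] := {l : List ι // Srt l}

/-- the PBW basis of `U ⊗ U` -/
noncomputable def B2 : Module.Basis (Idx ι × Idx ι) k
    (UniversalEnvelopingAlgebra k L ⊗[k] UniversalEnvelopingAlgebra k L) :=
  (pbwBasis b).tensorProduct (pbwBasis b)

theorem B2_apply (p : Idx ι × Idx ι) : B2 b p = mon b p.1.1 ⊗ₜ[k] mon b p.2.1 := by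
  rw [B2, Module.Basis.tensorProduct_apply, pbwBasis_apply, pbwBasis_apply]

theorem coord_B2_tmul (q : Idx ι × Idx ι) {a c : List ι} (ha : Srt a) (hc : Srt c) :
    (B2 b).coord q (mon b a ⊗ₜ[k] mon b c) = if (a, c) = (q.1.1, q.2.1) then 1 else 0 := by
  have : mon b a ⊗ₜ[k] mon b c = B2 b (⟨a, ha⟩, ⟨c, hc⟩) := by rw [B2_apply]
  rw [this, Module.Basis.coord_apply, Module.Basis.repr_self, Finsupp.single_apply]
  congr 1
  apply propext
  constructor
  · intro h; rw [← h]
  · intro h
    obtain ⟨h1, h2⟩ := Prod.ext_iff.1 h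
    exact Prod.ext (Subtype.ext h1) (Subtype.ext h2)

/-- the functional `coordinate at q` composed with the comultiplication -/
noncomputable def psi (q : Idx ι × Idx ι) : UniversalEnvelopingAlgebra k L →ₗ[k] k :=
  ((B2 b).coord q).comp (comulU (k := k) (L := L)).toLinearMap

theorem psi_basis (q : Idx ι × Idx ι) (m : Idx ι) :
    psi b q (pbwBasis b m) =
      ((splits m.1).countP (fun p => decide (p = (q.1.1, q.2.1))) : k) := by
  rw [psi, LinearMap.comp_apply, AlgHom.toLinearMap_apply, pbwBasis_apply, comulU_mon,
    map_list_sum, List.map_map, ← sum_map_ite_eq]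
  congr 1
  apply List.map_congr_left
  intro p hp
  have hs := splits_sublist hp
  have h1 : Srt p.1 := List.Pairwise.sublist hs.1 m.2
  have h2 : Srt p.2 := List.Pairwise.sublist hs.2 m.2
  rw [Function.comp_apply, coord_B2_tmul b q h1 h2]

theorem psi_basis_eq_zero {q : Idx ι × Idx ι} {m : Idx ι} (h : m.1 ≠ (q.1.1 ++ q.2.1).insertionSort (· ≤ ·)) :
    psi b q (pbwBasis b m) = 0 := by
  rw [psi_basis]
  have : (splits m.1).countP (fun p => decide (p = (q.1.1, q.2.1))) = 0 := by
    rw [List.countP_eq_zero]
    intro p hp hpq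
    have hpq' : p = (q.1.1, q.2.1) := of_decide_eq_true hpq
    have hmem : (q.1.1, q.2.1) ∈ splits m.1 := hpq' ▸ hp
    apply h
    have hp := splits_perm hmem
    have hp2 : ((q.1.1 ++ q.2.1).insertionSort (· ≤ ·)).Perm m.1 :=
      (List.perm_insertionSort _ _).trans hp
    exact (List.Perm.eq_of_pairwise' (r := (· ≤ ·)) (List.pairwise_insertionSort _ _) m.2 hp2).symm
  rw [this, Nat.cast_zero]

/-- the functional `coordinate at q` of `u ⊗ 1` -/
noncomputable def R1 (q : Idx ι × Idx ι) : UniversalEnvelopingAlgebra k L →ₗ[k] k :=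
  ((B2 b).coord q).comp ((TensorProduct.mk k _ _).flip 1)

/-- the functional `coordinate at q` of `1 ⊗ u` -/
noncomputable def R2 (q : Idx ι × Idx ι) : UniversalEnvelopingAlgebra k L →ₗ[k] k :=
  ((B2 b).coord q).comp (TensorProduct.mk k _ _ 1)

theorem srt_nil : Srt ([] : List ι) := List.Pairwise.nil

theorem R1_basis (q : Idx ι × Idx ι) (m : Idx ι) :
    R1 b q (pbwBasis b m) = if (m.1, []) = (q.1.1, q.2.1) then 1 else 0 := by
  rw [R1, LinearMap.comp_apply, LinearMap.flip_apply, TensorProduct.mk_apply, pbwBasis_apply,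
    ← mon_nil b, coord_B2_tmul b q m.2 srt_nil]

theorem R2_basis (q : Idx ι × Idx ι) (m : Idx ι) :
    R2 b q (pbwBasis b m) = if ([], m.1) = (q.1.1, q.2.1) then 1 else 0 := by
  rw [R2, LinearMap.comp_apply, TensorProduct.mk_apply, pbwBasis_apply,
    ← mon_nil b, coord_B2_tmul b q srt_nil m.2]

theorem psi_eq_of_prim (q : Idx ι × Idx ι) {u : UniversalEnvelopingAlgebra k L}
    (hu : comulU u = u ⊗ₜ[k] 1 + 1 ⊗ₜ[k] u) : psi b q u = R1 b q u + R2 b q u := by
  rw [psi, LinearMap.comp_apply, AlgHom.toLinearMap_apply, hu, map_add]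
  rfl

variable [CharZero k]

theorem prim_coeff_nil {u : UniversalEnvelopingAlgebra k L}
    (hu : comulU u = u ⊗ₜ[k] 1 + 1 ⊗ₜ[k] u) : (pbwBasis b).repr u ⟨[], srt_nil⟩ = 0 := by
  set q : Idx ι × Idx ι := (⟨[], srt_nil⟩, ⟨[], srt_nil⟩) with hq
  have h1 : psi b q = (pbwBasis b).coord ⟨[], srt_nil⟩ := by
    refine (pbwBasis b).ext fun m => ?_
    rw [Module.Basis.coord_apply, Module.Basis.repr_self, Finsupp.single_apply]
    by_cases hm : m = ⟨[], srt_nil⟩
    · subst hm
      rw [psi_basis, if_pos rfl]
      simp [splits_nil, hq]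
    · rw [if_neg hm, psi_basis_eq_zero]
      intro h
      apply hm
      apply Subtype.ext
      rw [h]
      simp [hq]
  have h2 : R1 b q = (pbwBasis b).coord ⟨[], srt_nil⟩ := by
    refine (pbwBasis b).ext fun m => ?_
    rw [Module.Basis.coord_apply, Module.Basis.repr_self, Finsupp.single_apply, R1_basis]
    congr 1
    apply propext
    constructor
    · intro h; exact (Subtype.ext (Prod.ext_iff.1 h).1)
    · intro h; rw [h]
  have h3 : R2 b q = (pbwBasis b).coord ⟨[], srt_nil⟩ := by
    refine (pbwBasis b).ext fun m => ?_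
    rw [Module.Basis.coord_apply, Module.Basis.repr_self, Finsupp.single_apply, R2_basis]
    congr 1
    apply propext
    constructor
    · intro h; exact (Subtype.ext (Prod.ext_iff.1 h).2)
    · intro h; rw [h]
  have h := psi_eq_of_prim b q hu
  rw [h1, h2, h3, Module.Basis.coord_apply] at h
  have : (pbwBasis b).repr u ⟨[], srt_nil⟩ + (pbwBasis b).repr u ⟨[], srt_nil⟩ -
      (pbwBasis b).repr u ⟨[], srt_nil⟩ = (pbwBasis b).repr u ⟨[], srt_nil⟩ - (pbwBasis b).repr u ⟨[], srt_nil⟩ := by
    rw [← h]
  rw [add_sub_cancel_right, sub_self] at this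
  exact this

theorem prim_coeff_long {u : UniversalEnvelopingAlgebra k L}
    (hu : comulU u = u ⊗ₜ[k] 1 + 1 ⊗ₜ[k] u) (l : Idx ι) (hl : 2 ≤ l.1.length) :
    (pbwBasis b).repr u l = 0 := by
  obtain ⟨l, hsl⟩ := l
  cases l with
  | nil => simp at hl
  | cons i l' =>
    have hl' : l' ≠ [] := by
      intro h; subst h; simp at hl
    have hsl' : Srt l' := List.Pairwise.of_cons hsl
    set q : Idx ι × Idx ι := (⟨[i], List.pairwise_singleton _ _⟩, ⟨l', hsl'⟩) with hq
    set c : ℕ := (splits (i :: l')).countP (fun p => decide (p = ([i], l'))) with hc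
    have hcpos : c ≠ 0 := by
      rw [hc]
      intro h0
      rw [List.countP_eq_zero] at h0
      refine h0 ([i], l') ?_ (decide_eq_true rfl)
      rw [splits_cons, List.mem_append]
      left
      exact List.mem_map.2 ⟨([], l'), nil_mem_splits l', rfl⟩
    have hsort : ([i] ++ l').insertionSort (· ≤ ·) = i :: l' := by
      have hp : (([i] ++ l').insertionSort (· ≤ ·)).Perm (i :: l') := List.perm_insertionSort _ _
      exact List.Perm.eq_of_pairwise' (r := (· ≤ ·)) (List.pairwise_insertionSort _ _) hsl hp
    have h1 : psi b q = (c : k) • (pbwBasis b).coord ⟨i :: l', hsl⟩ := by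
      refine (pbwBasis b).ext fun m => ?_
      rw [LinearMap.smul_apply, Module.Basis.coord_apply, Module.Basis.repr_self,
        Finsupp.single_apply]
      by_cases hm : m = (⟨i :: l', hsl⟩ : Idx ι)
      · subst hm
        rw [psi_basis, if_pos rfl, smul_eq_mul, mul_one]
      · rw [if_neg hm, smul_zero, psi_basis_eq_zero]
        intro h
        apply hm
        apply Subtype.ext
        rw [h]
        exact hsort
    have h2 : R1 b q = 0 := by
      refine (pbwBasis b).ext fun m => ?_
      rw [R1_basis, LinearMap.zero_apply, if_neg]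
      intro h
      exact hl' (Prod.ext_iff.1 h).2.symm
    have h3 : R2 b q = 0 := by
      refine (pbwBasis b).ext fun m => ?_
      rw [R2_basis, LinearMap.zero_apply, if_neg]
      intro h
      have := (Prod.ext_iff.1 h).1
      simp [hq] at this
    have h := psi_eq_of_prim b q hu
    rw [h1, h2, h3, LinearMap.zero_apply, add_zero, LinearMap.smul_apply,
      Module.Basis.coord_apply, smul_eq_mul] at h
    rcases mul_eq_zero.1 h with h | h
    · exact absurd (Nat.cast_eq_zero.1 h) hcpos
    · exact h

include b in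
/-- primitive elements of `U(L)` come from `L` (characteristic zero) -/
theorem prim_mem_range {u : UniversalEnvelopingAlgebra k L}
    (hu : comulU u = u ⊗ₜ[k] 1 + 1 ⊗ₜ[k] u) :
    ∃ x : L, UniversalEnvelopingAlgebra.ι k x = u := by
  have hmem : u ∈ LinearMap.range ((UniversalEnvelopingAlgebra.ι k : L →ₗ⁅k⁆ _) : L →ₗ[k] _) := by
    rw [← (pbwBasis b).linearCombination_repr u, Finsupp.linearCombination_apply]
    refine Submodule.sum_mem _ fun m hm => ?_
    have hne : (pbwBasis b).repr u m ≠ 0 := Finsupp.mem_support_iff.1 hm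
    have hlen : m.1.length = 1 := by
      by_contra hlen
      rcases Nat.lt_or_ge m.1.length 2 with h | h
      · have h0 : m.1.length = 0 := by omega
        have : m = ⟨[], srt_nil⟩ := Subtype.ext (List.eq_nil_of_length_eq_zero h0)
        rw [this] at hne
        exact hne (prim_coeff_nil b hu)
      · exact hne (prim_coeff_long b hu m h)
    obtain ⟨i, hi⟩ := List.length_eq_one_iff.1 hlen
    refine Submodule.smul_mem _ _ ⟨b i, ?_⟩
    rw [pbwBasis_apply, hi, mon_cons, mon_nil, mul_one]
    rfl
  obtain ⟨x, hx⟩ := hmem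
  exact ⟨x, hx⟩

end Prim

end Groth.Agent.Lib.helper13.CMM
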