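import Mathlib
import Groth.Agent.Lib.Helper13.CMM2

/-!
Helper library (helper13) for the Cartier–Milnor–Moore theorem (S4135), part 3:
injectivity of `U(L) → H` for an injective Lie map `L → P(H)` (characteristic zero).
-/

set_option autoImplicit false
set_option linter.unusedSectionVars false
universe u v w x
open scoped LieRing TensorProduct

namespace Groth.Agent.Lib.helper13.CMM

open Groth.Agent.Lib.helper13.PBW

attribute [local instance 100] LieRing.ofAssociativeRing

variable {k : Type u} {L : Type v} {ι : Type w} [Field k] [LieRing L] [LieAlgebra k L]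
  [LinearOrder ι] (b : Module.Basis ι k L)

theorem exists_mem_F (u : UniversalEnvelopingAlgebra k L) : ∃ n, u ∈ F b n := by
  have hu : u ∈ Submodule.span k (Set.range (mon b)) := by
    rw [span_mon_eq_top]; exact Submodule.mem_top
  induction hu using Submodule.span_induction with
  | mem u hu =>
    obtain ⟨l, rfl⟩ := hu
    exact ⟨l.length + 1, mon_mem_F b (Nat.lt_succ_self _)⟩
  | zero => exact ⟨0, zero_mem _⟩
  | add u v _ _ hu hv =>
    obtain ⟨n, hn⟩ := hu
    obtain ⟨m, hm⟩ := hv
    exact ⟨max n m, add_mem (F_mono b (le_max_left _ _) hn) (F_mono b (le_max_right _ _) hm)⟩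
  | smul c u _ hu =>
    obtain ⟨n, hn⟩ := hu
    exact ⟨n, Submodule.smul_mem _ c hn⟩

theorem F_zero : F b 0 = ⊥ := by
  rw [eq_bot_iff]
  refine Submodule.span_le.2 ?_
  rintro _ ⟨l, hl, rfl⟩
  exact absurd hl (Nat.not_lt_zero _)

theorem F_one_le : F b 1 ≤ Submodule.span k {(1 : UniversalEnvelopingAlgebra k L)} := by
  refine Submodule.span_le.2 ?_
  rintro _ ⟨l, hl, rfl⟩
  have : l = [] := List.eq_nil_of_length_eq_zero (Nat.lt_one_iff.1 hl)
  subst this
  rw [mon_nil]
  exact Submodule.subset_span rfl

variable [CharZero k]

include b in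
theorem lift_injective {H : Type x} [Ring H] [Bialgebra k H] (f : L →ₗ⁅k⁆ H)
    (hf : ∀ x, CoalgebraStruct.comul (R := k) (f x) = f x ⊗ₜ[k] (1 : H) + (1 : H) ⊗ₜ[k] f x)
    (hinj : Function.Injective f) :
    Function.Injective (UniversalEnvelopingAlgebra.lift k f) := by
  set Φ := UniversalEnvelopingAlgebra.lift k f with hΦ
  have key : ∀ n, ∀ u ∈ F b n, Φ u = 0 → u = 0 := by
    intro n
    induction n with
    | zero =>
      intro u hu _
      rw [F_zero] at hu
      exact (Submodule.mem_bot k).1 hu
    | succ n ih =>
      intro u hu hΦu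
      rcases Nat.eq_zero_or_pos n with hn | hn
      · subst hn
        obtain ⟨c, rfl⟩ := Submodule.mem_span_singleton.1 (F_one_le b hu)
        rw [map_smul, map_one] at hΦu
        have h2 := congrArg (Coalgebra.counit (R := k) (A := H)) hΦu
        rw [map_smul, Bialgebra.counit_one, map_zero, smul_eq_mul, mul_one] at h2
        rw [h2, zero_smul]
      · -- the inductive step
        set g : F b n →ₗ[k] H := Φ.toLinearMap ∘ₗ (F b n).subtype with hg
        have hginj : Function.Injective g := by
          rw [injective_iff_map_eq_zero]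
          intro v hv
          exact Subtype.ext (ih v.1 v.2 hv)
        obtain ⟨r', hr'⟩ := rem_mem b hn hu
        have hmap : ∀ r : (F b n) ⊗[k] (F b n), TensorProduct.map g g r =
            Algebra.TensorProduct.map Φ Φ
              (TensorProduct.map (F b n).subtype (F b n).subtype r) := by
          intro r
          induction r using TensorProduct.induction_on with
          | zero => simp
          | tmul a c => simp [hg]
          | add r s hr hs => simp only [map_add, hr, hs]
        have h0 : Algebra.TensorProduct.map Φ Φ (rem u) = 0 := by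
          rw [rem_apply, map_sub, map_sub, ← comul_lift f hf, ← hΦ, hΦu, map_zero,
            Algebra.TensorProduct.map_tmul, Algebra.TensorProduct.map_tmul, hΦu,
            TensorProduct.zero_tmul, TensorProduct.tmul_zero, sub_zero, sub_zero]
        have h1 : TensorProduct.map g g r' = 0 := by rw [hmap, hr', h0]
        have hr0 : r' = 0 := by
          apply TensorProduct.map_injective_of_flat_flat g g hginj hginj
          rw [h1, map_zero]
        have hrem : rem u = 0 := by rw [← hr', hr0, map_zero]
        have hprim : comulU u = u ⊗ₜ[k] 1 + 1 ⊗ₜ[k] u := by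
          rw [rem_apply, sub_sub, sub_eq_zero] at hrem
          exact hrem
        obtain ⟨x, rfl⟩ := prim_mem_range b hprim
        rw [hΦ, UniversalEnvelopingAlgebra.lift_ι_apply] at hΦu
        have hx : x = 0 := hinj (by rw [hΦu, map_zero])
        rw [hx, map_zero]
  rw [injective_iff_map_eq_zero]
  intro u hu
  obtain ⟨n, hn⟩ := exists_mem_F b u
  exact key n u hn hu

end Groth.Agent.Lib.helper13.CMM
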