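import Mathlib

/-!
Helper library (helper13) for the Cartier–Milnor–Moore theorem (S4135), part 4:
a connected cocommutative bialgebra over a field is conilpotent.
-/

set_option autoImplicit false
set_option linter.unusedSectionVars false
universe u v w
open scoped TensorProduct
open WithConv

namespace Groth.Agent.Lib.helper13.CMM

section Sep

variable {k : Type u} [Field k] {V : Type v} {W : Type w} [AddCommGroup V] [Module k V]
  [AddCommGroup W] [Module k W]

/-- functionals on the right factor separate the points of a tensor product -/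
theorem sep_right (s : V ⊗[k] W)
    (h : ∀ φ : W →ₗ[k] k, TensorProduct.rid k V (LinearMap.lTensor V φ s) = 0) : s = 0 := by
  classical
  let e := Module.Basis.ofVectorSpace k W
  let Θ : V ⊗[k] W ≃ₗ[k] (Module.Basis.ofVectorSpaceIndex k W →₀ V) :=
    (LinearEquiv.lTensor V e.repr) ≪≫ₗ
      TensorProduct.finsuppScalarRight k k V (Module.Basis.ofVectorSpaceIndex k W)
  have key : ∀ (t : V ⊗[k] W) (i : Module.Basis.ofVectorSpaceIndex k W),
      Θ t i = TensorProduct.rid k V (LinearMap.lTensor V (e.coord i) t) := by
    intro t i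
    induction t using TensorProduct.induction_on with
    | zero => simp
    | tmul a c =>
      simp [Θ, TensorProduct.finsuppScalarRight_apply_tmul_apply]
    | add t t' ht ht' => simp only [map_add, Finsupp.add_apply, ht, ht']
  apply Θ.injective
  rw [map_zero]
  ext i
  rw [key, h, Finsupp.zero_apply]

end Sep

section Act

variable {k : Type u} [Field k] {H : Type v} [Ring H] [Bialgebra k H]

/-- the action of a functional on `H`: `f ⇀ y = ∑ y₁ f(y₂)` -/
noncomputable def act (f : H →ₗ[k] k) : H →ₗ[k] H :=
  (TensorProduct.rid k H).toLinearMap ∘ₗ (LinearMap.lTensor H f) ∘ₗ Coalgebra.comul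

theorem act_apply (f : H →ₗ[k] k) (y : H) :
    act f y = TensorProduct.rid k H (LinearMap.lTensor H f (Coalgebra.comul y)) := rfl

theorem act_counit (y : H) : act (Coalgebra.counit (R := k) (A := H)) y = y := by
  rw [act_apply, Coalgebra.lTensor_counit_comul, TensorProduct.rid_tmul, one_smul]

theorem act_one (f : H →ₗ[k] k) : act f (1 : H) = f 1 • (1 : H) := by
  rw [act_apply, Bialgebra.comul_one, Algebra.TensorProduct.one_def, LinearMap.lTensor_tmul,
    TensorProduct.rid_tmul]

theorem act_add (f g : H →ₗ[k] k) : act (f + g) = act f + act g := by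
  unfold act
  rw [LinearMap.lTensor_add, LinearMap.add_comp, LinearMap.comp_add]

theorem act_smul (c : k) (f : H →ₗ[k] k) : act (c • f) = c • act f := by
  unfold act
  rw [LinearMap.lTensor_smul, LinearMap.smul_comp, LinearMap.comp_smul]

/-- functionals composed with the action are convolution products -/
theorem dual_act (φ f : H →ₗ[k] k) :
    φ ∘ₗ act f = (toConv φ * toConv f).ofConv := by
  rw [LinearMap.convMul_def]
  unfold act
  rw [← LinearMap.comp_assoc, ← LinearMap.comp_assoc, ← LinearMap.comp_assoc]
  congr 1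
  apply TensorProduct.ext'
  intro a c
  simp [mul_comm]

theorem dual_act_apply (φ f : H →ₗ[k] k) (y : H) :
    φ (act f y) = (toConv φ * toConv f).ofConv y := by
  rw [← dual_act]; rfl

theorem eq_of_forall_dual {V : Type w} [AddCommGroup V] [Module k V] {a c : V}
    (h : ∀ φ : V →ₗ[k] k, φ a = φ c) : a = c := by
  rw [← sub_eq_zero]
  rw [← Module.forall_dual_apply_eq_zero_iff k]
  intro φ
  rw [map_sub, sub_eq_zero]
  exact h φ

theorem act_mul (f g : H →ₗ[k] k) (y : H) :
    act (toConv f * toConv g).ofConv y = act f (act g y) := by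
  apply eq_of_forall_dual (k := k)
  intro φ
  rw [dual_act_apply, dual_act_apply, dual_act_apply]
  simp only [toConv_ofConv]
  rw [mul_assoc]

end Act

section Abstract

theorem exists_pow_le_ker {A Q : Type*} [CommRing A] [CommRing Q] [IsArtinianRing Q] (π : A →+* Q)
    (hπ : Function.Surjective π) (m : Ideal A)
    (hm : ∀ g ∈ m, ∀ h : A, IsUnit (π (g * h + 1))) : ∃ N : ℕ, m ^ N ≤ RingHom.ker π := by
  obtain ⟨N, hN⟩ := IsArtinianRing.isNilpotent_jacobson_bot (R := Q)
  refine ⟨N, ?_⟩
  have hle : m.map π ≤ Ideal.jacobson ⊥ := by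
    rw [Ideal.map_le_iff_le_comap]
    intro g hg
    rw [Ideal.mem_comap, Ideal.mem_jacobson_bot]
    intro y
    obtain ⟨h, rfl⟩ := hπ y
    rw [← map_mul, ← map_one π, ← map_add]
    exact hm g hg h
  have hbot : (m ^ N).map π = ⊥ := by
    rw [Ideal.map_pow, eq_bot_iff, ← Ideal.zero_eq_bot, ← hN]
    exact Ideal.pow_right_mono hle N
  exact (Ideal.map_eq_bot_iff_le_ker _).1 hbot

theorem list_prod_mem_pow {A : Type*} [CommRing A] (m : Ideal A) :
    ∀ l : List A, (∀ g ∈ l, g ∈ m) → l.prod ∈ m ^ l.length := by
  intro l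
  induction l with
  | nil =>
    intro _
    rw [List.prod_nil, List.length_nil, pow_zero, Ideal.one_eq_top]
    exact Submodule.mem_top
  | cons g l ih =>
    intro h
    rw [List.prod_cons, List.length_cons, pow_succ']
    exact Ideal.mul_mem_mul (h g List.mem_cons_self)
      (ih fun g' hg' => h g' (List.mem_cons_of_mem _ hg'))

/-- abstract nilpotency statement for a cyclic module with finite-dimensional image -/
theorem abstract_nilpotent {k R H : Type*} [Field k] [CommRing R] [Algebra k R]
    [AddCommGroup H] [Module k H]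
    (lam : R →ₗ[k] H) (hideal : ∀ f g : R, lam g = 0 → lam (f * g) = 0)
    (hfin : ∃ S : Finset H, LinearMap.range lam ≤ Submodule.span k (S : Set H))
    (ev : R →+* k)
    (hm : ∀ g : R, ev g ≠ 0 → ∀ z : R, lam (g * z) = 0 → lam z = 0) :
    ∃ N : ℕ, ∀ l : List R, l.length = N → (∀ g ∈ l, ev g = 0) → lam l.prod = 0 := by
  let 𝔞 : Ideal R :=
    { carrier := {f | lam f = 0}
      add_mem' := by
        intro f g hf hg
        change lam (f + g) = 0
        rw [map_add, hf, hg, add_zero]
      zero_mem' := map_zero lam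
      smul_mem' := by
        intro c f hf
        exact hideal c f hf }
  have hmem : ∀ f, f ∈ 𝔞 ↔ lam f = 0 := fun f => Iff.rfl
  have hfinQ : Module.Finite k (R ⧸ 𝔞) := by
    obtain ⟨S, hS⟩ := hfin
    have hfin' : Module.Finite k (LinearMap.range lam) :=
      Module.Finite.of_injective (Submodule.inclusion hS) (Submodule.inclusion_injective hS)
    have hker : 𝔞.restrictScalars k = LinearMap.ker lam := by
      ext f; rfl
    let e1 : (R ⧸ 𝔞.restrictScalars k) ≃ₗ[k] (R ⧸ 𝔞) :=
      Submodule.Quotient.restrictScalarsEquiv k 𝔞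
    let e2 : (R ⧸ 𝔞.restrictScalars k) ≃ₗ[k] LinearMap.range lam :=
      (Submodule.quotEquivOfEq _ _ hker).trans (LinearMap.quotKerEquivRange lam)
    exact Module.Finite.equiv (e2.symm.trans e1)
  have hart : IsArtinianRing (R ⧸ 𝔞) := IsArtinianRing.of_finite k _
  have hunit : ∀ g : R, ev g ≠ 0 → IsUnit (Ideal.Quotient.mk 𝔞 g) := by
    intro g hg
    apply IsArtinianRing.isUnit_of_mem_nonZeroDivisors
    rw [mem_nonZeroDivisors_iff_right]
    intro z hz
    obtain ⟨z, rfl⟩ := Ideal.Quotient.mk_surjective z
    rw [← map_mul, Ideal.Quotient.eq_zero_iff_mem, hmem, mul_comm] at hz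
    rw [Ideal.Quotient.eq_zero_iff_mem, hmem]
    exact hm g hg z hz
  obtain ⟨N, hN⟩ := exists_pow_le_ker (Ideal.Quotient.mk 𝔞) Ideal.Quotient.mk_surjective
    (RingHom.ker ev) (by
      intro g hg h
      apply hunit
      rw [map_add, map_mul, map_one, (RingHom.mem_ker).1 hg, zero_mul, zero_add]
      exact one_ne_zero)
  rw [Ideal.mk_ker] at hN
  refine ⟨N, fun l hl hlm => ?_⟩
  rw [← hmem]
  apply hN
  rw [← hl]
  exact list_prod_mem_pow _ l (fun g hg => (RingHom.mem_ker).2 (hlm g hg))

end Abstract

section Conn

variable {k : Type u} [Field k] {H : Type v} [Ring H] [Bialgebra k H] [Coalgebra.IsCocomm k H]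

theorem act_comm (f g : H →ₗ[k] k) (y : H) : act f (act g y) = act g (act f y) := by
  rw [← act_mul, ← act_mul, mul_comm]

theorem rid_lTensor_rTensor {M : Type w} [AddCommGroup M] [Module k M] (q : H →ₗ[k] M)
    (φ : H →ₗ[k] k) (t : H ⊗[k] H) :
    TensorProduct.rid k M (LinearMap.lTensor M φ (LinearMap.rTensor H q t)) =
      q (TensorProduct.rid k H (LinearMap.lTensor H φ t)) := by
  induction t using TensorProduct.induction_on with
  | zero => simp
  | tmul a c => simp
  | add t t' ht ht' => simp only [map_add, ht, ht']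

theorem lTensor_comm (P : H →ₗ[k] H) (t : H ⊗[k] H) :
    LinearMap.lTensor H P (TensorProduct.comm k H H t) =
      TensorProduct.comm k H H (LinearMap.rTensor H P t) := by
  induction t using TensorProduct.induction_on with
  | zero => simp
  | tmul a c => simp
  | add t t' ht ht' => simp only [map_add, ht, ht']

/-- submodules stable under the action of all functionals are subcoalgebras -/
theorem comul_mem_of_stable (N : Submodule k H)
    (hN : ∀ (f : H →ₗ[k] k), ∀ y ∈ N, act f y ∈ N) :
    ∀ d ∈ N, Coalgebra.comul (R := k) d ∈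
      LinearMap.range (TensorProduct.map N.subtype N.subtype) := by
  intro d hd
  -- step 1
  have h1 : LinearMap.rTensor H N.mkQ (Coalgebra.comul (R := k) d) = 0 := by
    apply sep_right
    intro φ
    rw [rid_lTensor_rTensor, ← act_apply, Submodule.mkQ_apply, Submodule.Quotient.mk_eq_zero]
    exact hN φ d hd
  -- step 2
  have hex : Function.Exact (LinearMap.rTensor H N.subtype) (LinearMap.rTensor H N.mkQ) :=
    rTensor_exact H (LinearMap.exact_subtype_mkQ N) (Submodule.mkQ_surjective N)
  obtain ⟨s, hs⟩ := (hex _).1 h1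
  -- step 3
  obtain ⟨π, hπ⟩ := LinearMap.exists_leftInverse_of_injective N.subtype N.ker_subtype
  set P : H →ₗ[k] H := N.subtype ∘ₗ π with hP
  have hPs : P ∘ₗ N.subtype = N.subtype := by
    rw [hP, LinearMap.comp_assoc, hπ, LinearMap.comp_id]
  have hA : LinearMap.rTensor H P (Coalgebra.comul (R := k) d) = Coalgebra.comul (R := k) d := by
    rw [← hs, ← LinearMap.rTensor_comp_apply, hPs]
  have hB : LinearMap.lTensor H P (Coalgebra.comul (R := k) d) = Coalgebra.comul (R := k) d := by
    conv_lhs => rw [← Coalgebra.comm_comul k d]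
    rw [lTensor_comm, hA, Coalgebra.comm_comul]
  have hC : TensorProduct.map P P (Coalgebra.comul (R := k) d) = Coalgebra.comul (R := k) d := by
    rw [← LinearMap.lTensor_comp_rTensor, LinearMap.comp_apply, hA, hB]
  refine ⟨TensorProduct.map π π (Coalgebra.comul (R := k) d), ?_⟩
  rw [← LinearMap.comp_apply, ← TensorProduct.map_comp, ← hP, hC]

/-- the commutative ring of functionals under convolution -/
abbrev Rd (k : Type u) [Field k] (H : Type v) [Ring H] [Bialgebra k H] := WithConv (H →ₗ[k] k)

/-- the action of the convolution ring on `H` -/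
noncomputable def actR (f : Rd k H) : H →ₗ[k] H := act f.ofConv

theorem one_ofConv : (1 : Rd k H).ofConv = Coalgebra.counit (R := k) (A := H) := by
  rw [LinearMap.convOne_def]
  ext y
  simp

theorem actR_one (y : H) : actR (1 : Rd k H) y = y := by
  rw [actR, one_ofConv, act_counit]

theorem actR_mul (f g : Rd k H) (y : H) : actR (f * g) y = actR f (actR g y) := by
  unfold actR
  rw [← act_mul, toConv_ofConv, toConv_ofConv]

theorem actR_mul' (f g : Rd k H) (y : H) : actR (f * g) y = actR g (actR f y) := by
  rw [mul_comm, actR_mul]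

theorem actR_apply_one (f : Rd k H) : actR f (1 : H) = f.ofConv 1 • (1 : H) := act_one _

variable (k) in
/-- the map `f ↦ f ⇀ x` -/
noncomputable def lam (x : H) : Rd k H →ₗ[k] H where
  toFun f := actR f x
  map_add' f g := by
    unfold actR
    rw [ofConv_add, act_add, LinearMap.add_apply]
  map_smul' c f := by
    unfold actR
    rw [ofConv_smul, act_smul, LinearMap.smul_apply, RingHom.id_apply]

theorem lam_apply (x : H) (f : Rd k H) : lam k x f = actR f x := rfl

/-- evaluation at `1` as a ring hom -/
noncomputable def ev1 : Rd k H →+* k where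
  toFun f := f.ofConv 1
  map_one' := by rw [one_ofConv, Bialgebra.counit_one]
  map_mul' f g := by
    rw [LinearMap.convMul_def, ofConv_toConv, LinearMap.comp_apply, LinearMap.comp_apply,
      Bialgebra.comul_one, Algebra.TensorProduct.one_def, TensorProduct.map_tmul,
      LinearMap.mul'_apply]
  map_zero' := rfl
  map_add' f g := rfl

theorem ev1_apply (f : Rd k H) : ev1 f = f.ofConv 1 := rfl

variable (k) in
/-- annihilator of `x` -/
noncomputable def annIdeal (x : H) : Ideal (Rd k H) where
  carrier := {f | actR f x = 0}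
  add_mem' := by
    intro f g hf hg
    change lam k x (f + g) = 0
    rw [map_add, lam_apply, lam_apply, hf, hg, add_zero]
  zero_mem' := by
    change lam k x 0 = 0
    rw [map_zero]
  smul_mem' := by
    intro c f hf
    change actR (c • f) x = 0
    rw [smul_eq_mul, actR_mul, hf, map_zero]

theorem mem_annIdeal {x : H} {f : Rd k H} : f ∈ annIdeal k x ↔ actR f x = 0 := Iff.rfl

theorem range_lam_le (x : H) : ∃ S : Finset H, LinearMap.range (lam k x) ≤ Submodule.span k (S : Set H) := by
  classical
  let 𝓡 := Coalgebra.Repr.arbitrary k x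
  refine ⟨𝓡.index.image 𝓡.left, ?_⟩
  rintro _ ⟨f, rfl⟩
  rw [lam_apply, actR, act_apply, ← 𝓡.eq, map_sum, map_sum]
  refine Submodule.sum_mem _ fun i hi => ?_
  rw [LinearMap.lTensor_tmul, TensorProduct.rid_tmul]
  refine Submodule.smul_mem _ _ (Submodule.subset_span ?_)
  exact Finset.mem_coe.2 (Finset.mem_image_of_mem _ hi)

variable (hconn : ∀ D : Submodule k H, (∀ d ∈ D, Coalgebra.comul (R := k) d ∈
      LinearMap.range (TensorProduct.map D.subtype D.subtype)) → D ≠ ⊥ → (1 : H) ∈ D)

include hconn in
theorem ker_actR_eq_bot {f : Rd k H} (hf : ev1 f ≠ 0) : LinearMap.ker (actR f) = ⊥ := by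
  by_contra hne
  have hst : ∀ (g : H →ₗ[k] k), ∀ y ∈ LinearMap.ker (actR f),
      act g y ∈ LinearMap.ker (actR f) := by
    intro g y hy
    rw [LinearMap.mem_ker] at hy ⊢
    unfold actR at hy ⊢
    rw [act_comm, hy, map_zero]
  have h1 := hconn _ (comul_mem_of_stable _ hst) hne
  rw [LinearMap.mem_ker, actR_apply_one] at h1
  rcases smul_eq_zero.1 h1 with h | h
  · exact hf h
  · have h2 := congrArg (Coalgebra.counit (R := k) (A := H)) h
    rw [Bialgebra.counit_one, map_zero] at h2
    exact one_ne_zero h2

include hconn in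
theorem exists_list_prod (x : H) :
    ∃ N : ℕ, ∀ l : List (Rd k H), l.length = N → (∀ g ∈ l, ev1 g = 0) → actR l.prod x = 0 := by
  have h := abstract_nilpotent (k := k) (R := Rd k H) (H := H) (lam k x)
    (by
      intro f g hg
      rw [lam_apply] at hg ⊢
      rw [actR_mul, hg, map_zero])
    (range_lam_le (k := k) x) ev1
    (by
      intro g hg z hz
      rw [lam_apply] at hz ⊢
      rw [actR_mul] at hz
      have hmem : actR z x ∈ LinearMap.ker (actR g) := hz
      rw [ker_actR_eq_bot hconn hg, Submodule.mem_bot] at hmem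
      exact hmem)
  exact h

/-- `J = id - 1` in the convolution ring of endomorphisms -/
noncomputable def Jc : WithConv (H →ₗ[k] H) := toConv LinearMap.id - 1

theorem Jc_apply (y : H) :
    (Jc (k := k) (H := H)).ofConv y = y - algebraMap k H (Coalgebra.counit y) := by
  rw [Jc, ofConv_sub, ofConv_toConv, LinearMap.sub_apply, LinearMap.id_apply]
  rfl

theorem Jc_one : (Jc (k := k) (H := H)).ofConv (1 : H) = 0 := by
  rw [Jc_apply, Bialgebra.counit_one, map_one, sub_self]

theorem map_comm' (f g : H →ₗ[k] H) (t : H ⊗[k] H) :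
    TensorProduct.map f g (TensorProduct.comm k H H t) =
      TensorProduct.comm k H H (TensorProduct.map g f t) := by
  induction t using TensorProduct.induction_on with
  | zero => simp
  | tmul a c => simp
  | add t t' ht ht' => simp only [map_add, ht, ht']

theorem rid_lTensor_map (K J : H →ₗ[k] H) (φ : H →ₗ[k] k) (t : H ⊗[k] H) :
    TensorProduct.rid k H (LinearMap.lTensor H φ (TensorProduct.map K J t)) =
      K (TensorProduct.rid k H (LinearMap.lTensor H (φ ∘ₗ J) t)) := by
  induction t using TensorProduct.induction_on with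
  | zero => simp
  | tmul a c => simp
  | add t t' ht ht' => simp only [map_add, ht, ht']

theorem conv_J_mul_eq_zero (K : WithConv (H →ₗ[k] H)) (y : H)
    (h : ∀ g : Rd k H, ev1 g = 0 → K.ofConv (actR g y) = 0) : (Jc * K).ofConv y = 0 := by
  rw [LinearMap.convMul_def, ofConv_toConv, LinearMap.comp_apply, LinearMap.comp_apply]
  have hs : TensorProduct.map K.ofConv (Jc (k := k) (H := H)).ofConv
      (Coalgebra.comul (R := k) y) = 0 := by
    apply sep_right
    intro φ
    rw [rid_lTensor_map, ← act_apply]
    refine h (toConv (φ ∘ₗ (Jc (k := k) (H := H)).ofConv)) ?_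
    rw [ev1_apply, ofConv_toConv, LinearMap.comp_apply, Jc_one, map_zero]
  rw [← Coalgebra.comm_comul k y, map_comm', hs, map_zero, map_zero]

include hconn in
/-- a connected cocommutative bialgebra is conilpotent -/
theorem conilpotent (x : H) :
    ∃ N : ℕ, ∀ s, N ≤ s → ((Jc (k := k) (H := H)) ^ s).ofConv x = 0 := by
  obtain ⟨N, hN⟩ := exists_list_prod hconn x
  refine ⟨N, ?_⟩
  have key : ∀ t : ℕ, ∀ y : H,
      (∀ l : List (Rd k H), l.length = t → (∀ g ∈ l, ev1 g = 0) → actR l.prod y = 0) →
      ∀ s, t ≤ s → ((Jc (k := k) (H := H)) ^ s).ofConv y = 0 := by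
    intro t
    induction t with
    | zero =>
      intro y hy s _
      have h0 : y = 0 := by
        have := hy [] rfl (by simp)
        rwa [List.prod_nil, actR_one] at this
      rw [h0, map_zero]
    | succ t ih =>
      intro y hy s hs
      obtain ⟨s', rfl⟩ : ∃ s', s = s' + 1 := ⟨s - 1, by omega⟩
      rw [pow_succ']
      apply conv_J_mul_eq_zero
      intro g hg
      apply ih (actR g y) _ s' (by omega)
      intro l hl hlm
      rw [← actR_mul]
      have := hy (g :: l) (by rw [List.length_cons, hl]) (by
        intro g' hg'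
        rcases List.mem_cons.1 hg' with rfl | h'
        · exact hg
        · exact hlm g' h')
      rw [List.prod_cons, mul_comm] at this
      exact this
  exact key N x hN

end Conn

end Groth.Agent.Lib.helper13.CMM
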