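import Mathlib

/-!
Helper library (helper13) for the Cartier–Milnor–Moore theorem (S4135), part 5:
vector-valued polynomial functions of a natural number (characteristic zero).
-/

set_option autoImplicit false
set_option linter.unusedSectionVars false
universe u v w
open Polynomial

namespace Groth.Agent.Lib.helper13.CMM

section PolyFun

variable {k : Type u} [Field k] {V : Type v} [AddCommGroup V] [Module k V]
  {W : Type w} [AddCommGroup W] [Module k W]

variable (k) in
/-- evaluation at `n` of a vector-valued polynomial -/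
noncomputable def pevL (n : ℕ) : (ℕ →₀ V) →ₗ[k] V :=
  Finsupp.lsum k fun j => ((n : k) ^ j) • (LinearMap.id : V →ₗ[k] V)

theorem pevL_single (n j : ℕ) (v : V) : pevL k n (Finsupp.single j v) = ((n : k) ^ j) • v := by
  unfold pevL
  rw [Finsupp.lsum_single]
  rfl

theorem pevL_apply (n : ℕ) (c : ℕ →₀ V) : pevL k n c = c.sum fun j v => ((n : k) ^ j) • v := by
  unfold pevL
  rw [Finsupp.lsum_apply]
  rfl

/-- the scalar polynomial obtained by applying a functional to the coefficients -/
noncomputable def polyOfL (φ : V →ₗ[k] k) : (ℕ →₀ V) →ₗ[k] k[X] :=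
  Finsupp.lsum k fun j => (Polynomial.monomial j : k →ₗ[k] k[X]) ∘ₗ φ

theorem polyOfL_single (φ : V →ₗ[k] k) (j : ℕ) (v : V) :
    polyOfL φ (Finsupp.single j v) = Polynomial.monomial j (φ v) := by
  unfold polyOfL
  rw [Finsupp.lsum_single]
  rfl

theorem coeff_polyOfL (φ : V →ₗ[k] k) (c : ℕ →₀ V) (j : ℕ) :
    (polyOfL φ c).coeff j = φ (c j) := by
  have h : (Polynomial.lcoeff k j) ∘ₗ polyOfL φ = φ ∘ₗ (Finsupp.lapply j) := by
    refine Finsupp.lhom_ext fun i v => ?_
    simp only [LinearMap.comp_apply, polyOfL_single, Polynomial.lcoeff_apply,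
      Polynomial.coeff_monomial, Finsupp.lapply_apply, Finsupp.single_apply]
    split_ifs <;> simp
  exact LinearMap.congr_fun h c

theorem eval_polyOfL (φ : V →ₗ[k] k) (c : ℕ →₀ V) (n : ℕ) :
    (polyOfL φ c).eval (n : k) = φ (pevL k n c) := by
  have h : (Polynomial.leval (n : k)) ∘ₗ polyOfL φ = φ ∘ₗ pevL k n := by
    refine Finsupp.lhom_ext fun i v => ?_
    simp only [LinearMap.comp_apply, polyOfL_single, pevL_single, Polynomial.leval_apply,
      Polynomial.eval_monomial, map_smul, smul_eq_mul, mul_comm]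
  exact LinearMap.congr_fun h c

theorem map_pevL (f : V →ₗ[k] W) (c : ℕ →₀ V) (n : ℕ) :
    f (pevL k n c) = pevL k n (Finsupp.mapRange.linearMap f c) := by
  have h : f ∘ₗ pevL k n = pevL k n ∘ₗ Finsupp.mapRange.linearMap f := by
    refine Finsupp.lhom_ext fun i v => ?_
    simp only [LinearMap.comp_apply, pevL_single, map_smul, Finsupp.mapRange.linearMap_apply,
      Finsupp.mapRange_single]
  exact LinearMap.congr_fun h c

theorem eq_zero_of_forall_dual {a : V} (h : ∀ φ : V →ₗ[k] k, φ a = 0) : a = 0 :=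
  (Module.forall_dual_apply_eq_zero_iff k a).1 h

variable [CharZero k]

theorem poly_eq_zero_of_eval_nat {p : k[X]} (h : ∀ n : ℕ, p.eval (n : k) = 0) : p = 0 := by
  apply Polynomial.eq_zero_of_infinite_isRoot
  refine Set.Infinite.mono ?_ (Set.infinite_range_of_injective (Nat.cast_injective (R := k)))
  rintro _ ⟨n, rfl⟩
  exact h n

theorem poly_eq_of_eval_nat {p q : k[X]} (h : ∀ n : ℕ, p.eval (n : k) = q.eval (n : k)) :
    p = q := by
  rw [← sub_eq_zero]
  apply poly_eq_zero_of_eval_nat
  intro n
  rw [Polynomial.eval_sub, h, sub_self]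

/-- a vector-valued polynomial vanishing at all natural numbers is zero -/
theorem pev_eq_zero {c : ℕ →₀ V} (h : ∀ n : ℕ, pevL k n c = 0) : c = 0 := by
  ext j
  rw [Finsupp.zero_apply]
  apply eq_zero_of_forall_dual (k := k)
  intro φ
  have hp : polyOfL φ c = 0 := by
    apply poly_eq_zero_of_eval_nat
    intro n
    rw [eval_polyOfL, h, map_zero]
  rw [← coeff_polyOfL, hp, Polynomial.coeff_zero]

theorem pev_injective {c d : ℕ →₀ V} (h : ∀ n : ℕ, pevL k n c = pevL k n d) : c = d := by
  rw [← sub_eq_zero]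
  apply pev_eq_zero (k := k)
  intro n
  rw [map_sub, h, sub_self]

variable (k V) in
/-- all evaluations at once -/
noncomputable def pevAll : (ℕ →₀ V) →ₗ[k] (ℕ → V) := LinearMap.pi fun n => pevL k n

theorem pevAll_apply (c : ℕ →₀ V) (n : ℕ) : pevAll k V c n = pevL k n c := rfl

theorem pevAll_injective : Function.Injective (pevAll k V) := by
  intro c d h
  apply pev_injective (k := k)
  intro n
  rw [← pevAll_apply, h, pevAll_apply]

/-- extraction of coefficients for a linear family of polynomial functions -/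
theorem exists_coef {X : Type*} [AddCommGroup X] [Module k X] (Θ : X →ₗ[k] (ℕ → V))
    (h : ∀ x, ∃ c : ℕ →₀ V, ∀ n, Θ x n = pevL k n c) :
    ∃ coef : X →ₗ[k] (ℕ →₀ V), ∀ x n, Θ x n = pevL k n (coef x) := by
  have hr : ∀ x, Θ x ∈ LinearMap.range (pevAll k V) := by
    intro x
    obtain ⟨c, hc⟩ := h x
    exact ⟨c, funext fun n => (hc n).symm⟩
  let e := LinearEquiv.ofInjective (pevAll k V) pevAll_injective
  refine ⟨e.symm.toLinearMap ∘ₗ Θ.codRestrict _ hr, fun x n => ?_⟩
  have h1 : pevAll k V (e.symm (Θ.codRestrict _ hr x)) = Θ x := by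
    have := e.apply_symm_apply (Θ.codRestrict _ hr x)
    exact congrArg Subtype.val this
  rw [LinearMap.comp_apply, LinearEquiv.coe_coe, ← pevAll_apply, h1]

/-- the binomial coefficient `n.choose j` as a polynomial in `n` -/
noncomputable def binomPoly (k : Type u) [Field k] (j : ℕ) : k[X] :=
  Polynomial.C ((j.factorial : k)⁻¹) * descPochhammer k j

theorem eval_binomPoly (n j : ℕ) : (binomPoly k j).eval (n : k) = (n.choose j : k) := by
  rw [binomPoly, Polynomial.eval_mul, Polynomial.eval_C, Nat.cast_choose_eq_descPochhammer_div,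
    div_eq_inv_mul]

/-- a scalar polynomial times a vector -/
noncomputable def polVec (p : k[X]) (v : V) : ℕ →₀ V :=
  p.sum fun i a => Finsupp.single i (a • v)

theorem pevL_polVec (p : k[X]) (v : V) (n : ℕ) :
    pevL k n (polVec p v) = p.eval (n : k) • v := by
  rw [polVec, Polynomial.sum_def, map_sum, Polynomial.eval_eq_sum, Polynomial.sum_def,
    Finset.sum_smul]
  refine Finset.sum_congr rfl fun i _ => ?_
  rw [pevL_single, smul_smul, mul_comm]

end PolyFun

end Groth.Agent.Lib.helper13.CMM
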