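import Mathlib
import Groth.Agent.Lib.Helper13.CMM4
import Groth.Agent.Lib.Helper13.CMM5

/-!
Helper library (helper13) for the Cartier–Milnor–Moore theorem (S4135), part 6:
Adams operations (convolution powers of the identity) and generation by primitives.
-/

set_option autoImplicit false
set_option linter.unusedSectionVars false
universe u v w
open scoped TensorProduct
open WithConv

namespace Groth.Agent.Lib.helper13.CMM

section Adams

variable {k : Type u} [Field k] {H : Type v} [Ring H] [Bialgebra k H] [Coalgebra.IsCocomm k H]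

/-- the identity, in the convolution ring -/
noncomputable def idc : WithConv (H →ₗ[k] H) := toConv LinearMap.id

/-- Adams operations: convolution powers of the identity -/
noncomputable def Psi (n : ℕ) : WithConv (H →ₗ[k] H) := idc ^ n

theorem idc_eq : (idc : WithConv (H →ₗ[k] H)) = Jc + 1 := by
  rw [Jc, idc]; abel

theorem Psi_zero_apply (x : H) :
    (Psi (k := k) (H := H) 0).ofConv x = algebraMap k H (Coalgebra.counit x) := by
  rw [Psi, pow_zero]; rfl

theorem Psi_one_apply (x : H) : (Psi (k := k) (H := H) 1).ofConv x = x := by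
  rw [Psi, pow_one]; rfl

/-- the Adams operations are coalgebra maps -/
theorem exists_coalgHom (n : ℕ) :
    ∃ F : H →ₗc[k] H, (F : H →ₗ[k] H) = (Psi (k := k) (H := H) n).ofConv := by
  induction n with
  | zero =>
    refine ⟨((Bialgebra.unitBialgHom k H) : k →ₗc[k] H).comp
      ((Bialgebra.counitBialgHom k H) : H →ₗc[k] k), ?_⟩
    ext x
    rw [Psi_zero_apply]
    rfl
  | succ n ih =>
    obtain ⟨F, hF⟩ := ih
    refine ⟨(Bialgebra.mulCoalgHom k H).comp
      ((Coalgebra.TensorProduct.map F (CoalgHom.id k H)).comp (Coalgebra.comulCoalgHom k H)), ?_⟩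
    rw [Psi, pow_succ, LinearMap.convMul_def, ofConv_toConv]
    change LinearMap.mul' k H ∘ₗ TensorProduct.map (F : H →ₗ[k] H) LinearMap.id ∘ₗ
      Coalgebra.comul = _
    rw [hF]
    rfl

theorem comul_Psi (n : ℕ) (x : H) :
    Coalgebra.comul (R := k) ((Psi (k := k) (H := H) n).ofConv x) =
      TensorProduct.map (Psi (k := k) (H := H) n).ofConv (Psi (k := k) (H := H) n).ofConv
        (Coalgebra.comul (R := k) x) := by
  obtain ⟨F, hF⟩ := exists_coalgHom (k := k) (H := H) n
  rw [← hF]
  exact (LinearMap.congr_fun F.map_comp_comul x).symm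

theorem Psi_apply_eq_sum (x : H) {N : ℕ}
    (hN : ∀ s, N ≤ s → ((Jc (k := k) (H := H)) ^ s).ofConv x = 0) (n : ℕ) :
    (Psi (k := k) (H := H) n).ofConv x =
      ∑ j ∈ Finset.range N, (n.choose j : k) • ((Jc (k := k) (H := H)) ^ j).ofConv x := by
  have h1 : (Psi (k := k) (H := H) n) =
      ∑ m ∈ Finset.range (n + 1), (n.choose m) • (Jc (k := k) (H := H)) ^ m := by
    rw [Psi, idc_eq, (Commute.one_right (Jc (k := k) (H := H))).add_pow n]
    refine Finset.sum_congr rfl fun m _ => ?_
    rw [one_pow, mul_one, nsmul_eq_mul']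
  have h2 : (Psi (k := k) (H := H) n).ofConv x =
      ∑ m ∈ Finset.range (n + 1), (n.choose m : k) • ((Jc (k := k) (H := H)) ^ m).ofConv x := by
    rw [h1, ofConv_sum, LinearMap.sum_apply]
    refine Finset.sum_congr rfl fun m _ => ?_
    rw [ofConv_smul, LinearMap.smul_apply, Nat.cast_smul_eq_nsmul]
  rw [h2]
  have hA : ∑ m ∈ Finset.range (n + 1), (n.choose m : k) • ((Jc (k := k) (H := H)) ^ m).ofConv x =
      ∑ m ∈ Finset.range (max (n + 1) N),
        (n.choose m : k) • ((Jc (k := k) (H := H)) ^ m).ofConv x := by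
    refine Finset.sum_subset (Finset.range_subset_range.2 (le_max_left _ _)) ?_
    intro m _ hm
    rw [Finset.mem_range, not_lt] at hm
    rw [Nat.choose_eq_zero_of_lt (by omega), Nat.cast_zero, zero_smul]
  have hB : ∑ m ∈ Finset.range N, (n.choose m : k) • ((Jc (k := k) (H := H)) ^ m).ofConv x =
      ∑ m ∈ Finset.range (max (n + 1) N),
        (n.choose m : k) • ((Jc (k := k) (H := H)) ^ m).ofConv x := by
    refine Finset.sum_subset (Finset.range_subset_range.2 (le_max_right _ _)) ?_
    intro m _ hm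
    rw [Finset.mem_range, not_lt] at hm
    rw [hN m hm, smul_zero]
  rw [hA, hB]

variable [CharZero k]

variable (hconn : ∀ D : Submodule k H, (∀ d ∈ D, Coalgebra.comul (R := k) d ∈
      LinearMap.range (TensorProduct.map D.subtype D.subtype)) → D ≠ ⊥ → (1 : H) ∈ D)

include hconn in
theorem Psi_poly (x : H) :
    ∃ c : ℕ →₀ H, ∀ n, (Psi (k := k) (H := H) n).ofConv x = pevL k n c := by
  obtain ⟨N, hN⟩ := conilpotent hconn x
  refine ⟨∑ j ∈ Finset.range N, polVec (binomPoly k j) (((Jc (k := k) (H := H)) ^ j).ofConv x),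
    fun n => ?_⟩
  rw [Psi_apply_eq_sum x hN, map_sum]
  refine Finset.sum_congr rfl fun j _ => ?_
  rw [pevL_polVec, eval_binomPoly]

include hconn in
/-- the coefficient maps of the Adams operations -/
theorem exists_coefL :
    ∃ coef : H →ₗ[k] (ℕ →₀ H), ∀ x n, (Psi (k := k) (H := H) n).ofConv x = pevL k n (coef x) := by
  let Θ : H →ₗ[k] (ℕ → H) := LinearMap.pi fun n => (Psi (k := k) (H := H) n).ofConv
  exact exists_coef Θ (fun x => Psi_poly hconn x)

end Adams

section Sep2

variable {k : Type u} [Field k] {V : Type v} {W : Type w} [AddCommGroup V] [Module k V]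
  [AddCommGroup W] [Module k W]

/-- product functionals on a tensor product -/
noncomputable def pf (φ₁ : V →ₗ[k] k) (φ₂ : W →ₗ[k] k) : V ⊗[k] W →ₗ[k] k :=
  LinearMap.mul' k k ∘ₗ TensorProduct.map φ₁ φ₂

theorem pf_tmul (φ₁ : V →ₗ[k] k) (φ₂ : W →ₗ[k] k) (a : V) (c : W) :
    pf φ₁ φ₂ (a ⊗ₜ[k] c) = φ₁ a * φ₂ c := by
  simp [pf]

theorem pf_eq (φ₁ : V →ₗ[k] k) (φ₂ : W →ₗ[k] k) (s : V ⊗[k] W) :
    pf φ₁ φ₂ s = φ₁ (TensorProduct.rid k V (LinearMap.lTensor V φ₂ s)) := by
  induction s using TensorProduct.induction_on with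
  | zero => simp
  | tmul a c => simp [pf_tmul, mul_comm]
  | add t t' ht ht' => simp only [map_add, ht, ht']

theorem sep_tmul {s t : V ⊗[k] W}
    (h : ∀ (φ₁ : V →ₗ[k] k) (φ₂ : W →ₗ[k] k), pf φ₁ φ₂ s = pf φ₁ φ₂ t) : s = t := by
  rw [← sub_eq_zero]
  apply sep_right
  intro φ₂
  apply eq_zero_of_forall_dual (k := k)
  intro φ₁
  rw [← pf_eq, map_sub, h, sub_self]

end Sep2

section Coef

variable {k : Type u} [Field k] [CharZero k] {H : Type v} [Ring H] [Bialgebra k H]
  [Coalgebra.IsCocomm k H]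

theorem pevL_zero_eq {V : Type w} [AddCommGroup V] [Module k V] (c : ℕ →₀ V) :
    pevL k 0 c = c 0 := by
  have h : pevL k 0 = (Finsupp.lapply 0 : (ℕ →₀ V) →ₗ[k] V) := by
    refine Finsupp.lhom_ext fun i v => ?_
    rw [pevL_single, Finsupp.lapply_apply, Finsupp.single_apply, Nat.cast_zero]
    by_cases hi : i = 0
    · subst hi; simp
    · rw [zero_pow hi, zero_smul, if_neg hi]
  rw [h]; rfl

theorem pevL_one_eq {V : Type w} [AddCommGroup V] [Module k V] (c : ℕ →₀ V) :
    pevL k 1 c = c.sum fun _ v => v := by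
  rw [pevL_apply]
  refine Finsupp.sum_congr fun j _ => ?_
  rw [Nat.cast_one, one_pow, one_smul]

variable (coef : H →ₗ[k] (ℕ →₀ H))
  (hcoef : ∀ x n, (Psi (k := k) (H := H) n).ofConv x = pevL k n (coef x))

include hcoef in
theorem coef_zero (x : H) : coef x 0 = algebraMap k H (Coalgebra.counit x) := by
  rw [← pevL_zero_eq (k := k), ← hcoef, Psi_zero_apply]

include hcoef in
theorem sum_coef (x : H) : ((coef x).sum fun _ v => v) = x := by
  rw [← pevL_one_eq (k := k), ← hcoef, Psi_one_apply]

include hcoef in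
/-- the key identity: comultiplication of the coefficient maps -/
theorem comul_coef (x : H) (j : ℕ) :
    Coalgebra.comul (R := k) (coef x j) =
      ∑ i ∈ (Coalgebra.Repr.arbitrary k x).index, ∑ p ∈ Finset.HasAntidiagonal.antidiagonal j,
        coef ((Coalgebra.Repr.arbitrary k x).left i) p.1 ⊗ₜ[k]
          coef ((Coalgebra.Repr.arbitrary k x).right i) p.2 := by
  set 𝓡 := Coalgebra.Repr.arbitrary k x with h𝓡
  apply sep_tmul
  intro φ₁ φ₂
  -- the polynomial identity
  have hpoly : polyOfL (pf φ₁ φ₂ ∘ₗ Coalgebra.comul) (coef x) =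
      ∑ i ∈ 𝓡.index, polyOfL φ₁ (coef (𝓡.left i)) * polyOfL φ₂ (coef (𝓡.right i)) := by
    apply poly_eq_of_eval_nat
    intro n
    rw [eval_polyOfL, ← hcoef, LinearMap.comp_apply, comul_Psi, ← 𝓡.eq, map_sum, map_sum,
      Polynomial.eval_finsetSum]
    refine Finset.sum_congr rfl fun i _ => ?_
    rw [TensorProduct.map_tmul, pf_tmul, Polynomial.eval_mul, eval_polyOfL, eval_polyOfL,
      ← hcoef, ← hcoef]
  have hL : pf φ₁ φ₂ (Coalgebra.comul (R := k) (coef x j)) =
      (polyOfL (pf φ₁ φ₂ ∘ₗ Coalgebra.comul) (coef x)).coeff j := by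
    rw [coeff_polyOfL]; rfl
  rw [hL, hpoly, Polynomial.finsetSum_coeff, map_sum]
  refine Finset.sum_congr rfl fun i _ => ?_
  rw [Polynomial.coeff_mul, map_sum]
  refine Finset.sum_congr rfl fun p _ => ?_
  rw [pf_tmul, coeff_polyOfL, coeff_polyOfL]

theorem sum_smul_counit (x : H) :
    ∑ i ∈ (Coalgebra.Repr.arbitrary k x).index,
      Coalgebra.counit (R := k) ((Coalgebra.Repr.arbitrary k x).right i) •
        (Coalgebra.Repr.arbitrary k x).left i = x := by
  have h := congrArg (TensorProduct.rid k H)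
    (Coalgebra.sum_tmul_counit_eq (Coalgebra.Repr.arbitrary k x))
  rw [map_sum] at h
  simpa using h

include hcoef in
theorem sum_coef_zero_mul (x : H) (j : ℕ) :
    ∑ i ∈ (Coalgebra.Repr.arbitrary k x).index,
      coef ((Coalgebra.Repr.arbitrary k x).left i) 0 *
        coef ((Coalgebra.Repr.arbitrary k x).right i) j = coef x j := by
  conv_rhs => rw [← Coalgebra.sum_counit_smul (Coalgebra.Repr.arbitrary k x)]
  rw [map_sum, Finsupp.finsetSum_apply]
  refine Finset.sum_congr rfl fun i _ => ?_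
  rw [coef_zero coef hcoef, Algebra.algebraMap_eq_smul_one, smul_mul_assoc, one_mul, map_smul,
    Finsupp.smul_apply]

include hcoef in
theorem sum_mul_coef_zero (x : H) (j : ℕ) :
    ∑ i ∈ (Coalgebra.Repr.arbitrary k x).index,
      coef ((Coalgebra.Repr.arbitrary k x).left i) j *
        coef ((Coalgebra.Repr.arbitrary k x).right i) 0 = coef x j := by
  conv_rhs => rw [← sum_smul_counit (k := k) x]
  rw [map_sum, Finsupp.finsetSum_apply]
  refine Finset.sum_congr rfl fun i _ => ?_
  rw [coef_zero coef hcoef, Algebra.algebraMap_eq_smul_one, mul_smul_comm, mul_one, map_smul,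
    Finsupp.smul_apply]

include hcoef in
/-- the degree one coefficient is primitive -/
theorem coef_one_prim (x : H) :
    Coalgebra.comul (R := k) (coef x 1) = coef x 1 ⊗ₜ[k] (1 : H) + (1 : H) ⊗ₜ[k] coef x 1 := by
  rw [comul_coef coef hcoef x 1]
  simp only [Finset.Nat.sum_antidiagonal_eq_sum_range_succ_mk, Finset.sum_range_succ,
    Finset.sum_range_zero, zero_add, Nat.sub_zero, Nat.sub_self]
  rw [Finset.sum_add_distrib, add_comm]
  congr 1
  · -- terms `coef l 1 ⊗ coef r 0`
    conv_rhs => rw [← sum_smul_counit (k := k) x]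
    rw [map_sum, Finsupp.finsetSum_apply, TensorProduct.sum_tmul]
    refine Finset.sum_congr rfl fun i _ => ?_
    rw [coef_zero coef hcoef, Algebra.algebraMap_eq_smul_one, TensorProduct.tmul_smul, map_smul,
      Finsupp.smul_apply, TensorProduct.smul_tmul']
  · conv_rhs => rw [← Coalgebra.sum_counit_smul (Coalgebra.Repr.arbitrary k x)]
    rw [map_sum, Finsupp.finsetSum_apply, TensorProduct.tmul_sum]
    refine Finset.sum_congr rfl fun i _ => ?_
    rw [coef_zero coef hcoef, Algebra.algebraMap_eq_smul_one, ← TensorProduct.smul_tmul', map_smul,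
      Finsupp.smul_apply, TensorProduct.tmul_smul]

/-- scaling the `j`-th coefficient by `2 ^ j` -/
noncomputable def scl : (ℕ →₀ H) →ₗ[k] (ℕ →₀ H) :=
  Finsupp.lsum k fun j => ((2 : k) ^ j) • Finsupp.lsingle j

theorem scl_single (j : ℕ) (v : H) :
    scl (k := k) (Finsupp.single j v) = Finsupp.single j (((2 : k) ^ j) • v) := by
  unfold scl
  rw [Finsupp.lsum_single, LinearMap.smul_apply, Finsupp.lsingle_apply, Finsupp.smul_single]

theorem scl_apply (c : ℕ →₀ H) (j : ℕ) : scl (k := k) c j = ((2 : k) ^ j) • c j := by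
  have h : (Finsupp.lapply j : (ℕ →₀ H) →ₗ[k] H) ∘ₗ scl (k := k) =
      ((2 : k) ^ j) • (Finsupp.lapply j : (ℕ →₀ H) →ₗ[k] H) := by
    refine Finsupp.lhom_ext fun i v => ?_
    rw [LinearMap.comp_apply, scl_single, LinearMap.smul_apply, Finsupp.lapply_apply,
      Finsupp.lapply_apply, Finsupp.single_apply, Finsupp.single_apply]
    split_ifs with hij
    · rw [hij]
    · rw [smul_zero]
  exact LinearMap.congr_fun h c

theorem pevL_two_mul (n : ℕ) (c : ℕ →₀ H) : pevL k (2 * n) c = pevL k n (scl (k := k) c) := by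
  have h : (pevL k (2 * n) : (ℕ →₀ H) →ₗ[k] H) = pevL k n ∘ₗ scl (k := k) := by
    refine Finsupp.lhom_ext fun i v => ?_
    rw [LinearMap.comp_apply, scl_single, pevL_single, pevL_single, smul_smul, Nat.cast_mul,
      mul_pow, Nat.cast_ofNat, mul_comm]
  exact LinearMap.congr_fun h c

theorem Psi_two_mul (n : ℕ) (x : H) :
    (Psi (k := k) (H := H) (2 * n)).ofConv x =
      LinearMap.mul' k H (Coalgebra.comul (R := k) ((Psi (k := k) (H := H) n).ofConv x)) := by
  have h : Psi (k := k) (H := H) (2 * n) = Psi n * Psi n := by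
    rw [Psi, two_mul, pow_add]
    rfl
  rw [h, LinearMap.convMul_def, ofConv_toConv, LinearMap.comp_apply, LinearMap.comp_apply,
    ← comul_Psi]

include hcoef in
theorem two_pow_smul_coef (x : H) (j : ℕ) :
    ((2 : k) ^ j) • coef x j =
      ∑ i ∈ (Coalgebra.Repr.arbitrary k x).index, ∑ p ∈ Finset.HasAntidiagonal.antidiagonal j,
        coef ((Coalgebra.Repr.arbitrary k x).left i) p.1 *
          coef ((Coalgebra.Repr.arbitrary k x).right i) p.2 := by
  set M2 : H →ₗ[k] H := LinearMap.mul' k H ∘ₗ Coalgebra.comul with hM2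
  have heq : scl (k := k) (coef x) = Finsupp.mapRange.linearMap M2 (coef x) := by
    apply pev_injective (k := k)
    intro n
    rw [← pevL_two_mul, ← hcoef, Psi_two_mul, hcoef, ← map_pevL]
    rfl
  have h1 := DFunLike.congr_fun heq j
  rw [scl_apply, Finsupp.mapRange.linearMap_apply, Finsupp.mapRange_apply, hM2,
    LinearMap.comp_apply, comul_coef coef hcoef x j, map_sum] at h1
  rw [h1]
  refine Finset.sum_congr rfl fun i _ => ?_
  rw [map_sum]
  refine Finset.sum_congr rfl fun p _ => ?_
  rw [LinearMap.mul'_apply]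

theorem two_pow_sub_two_ne_zero (m : ℕ) : (2 : k) ^ (m + 2) - 2 ≠ 0 := by
  intro h
  have h2 : ((2 ^ (m + 2) : ℕ) : k) = ((2 : ℕ) : k) := by
    rw [Nat.cast_pow, Nat.cast_ofNat]
    exact sub_eq_zero.1 h
  have h3 : 2 ^ (m + 2) = 2 := Nat.cast_injective h2
  have h4 : 2 ^ (m + 2) ≥ 4 := by
    calc 2 ^ (m + 2) = 2 ^ m * 4 := by rw [pow_add]; norm_num
      _ ≥ 1 * 4 := Nat.mul_le_mul_right 4 (Nat.one_le_two_pow)
      _ = 4 := by norm_num
  omega

include hcoef in
/-- all coefficients lie in any subalgebra containing the primitive elements -/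
theorem coef_mem (B : Subalgebra k H)
    (hB : ∀ y : H, Coalgebra.comul (R := k) y = y ⊗ₜ[k] (1 : H) + (1 : H) ⊗ₜ[k] y → y ∈ B) :
    ∀ (j : ℕ) (x : H), coef x j ∈ B := by
  intro j
  induction j using Nat.strong_induction_on with
  | _ j ih =>
    intro x
    rcases j with _ | _ | m
    · rw [coef_zero coef hcoef]
      exact B.algebraMap_mem _
    · exact hB _ (coef_one_prim coef hcoef x)
    · have h2 := two_pow_smul_coef coef hcoef x (m + 2)
      simp only [Finset.Nat.sum_antidiagonal_eq_sum_range_succ_mk] at h2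
      have hsplit : ∀ f : ℕ → H, ∑ i ∈ Finset.range (m + 2).succ, f i =
          (∑ i ∈ Finset.range (m + 1), f (i + 1)) + f 0 + f (m + 2) := by
        intro f
        rw [Finset.sum_range_succ, Finset.sum_range_succ']
      simp only [hsplit] at h2
      rw [Finset.sum_add_distrib, Finset.sum_add_distrib] at h2
      simp only [Nat.sub_zero, Nat.sub_self] at h2
      rw [sum_coef_zero_mul coef hcoef, sum_mul_coef_zero coef hcoef] at h2
      have hmid : ∑ i ∈ (Coalgebra.Repr.arbitrary k x).index, ∑ i_1 ∈ Finset.range (m + 1),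
          coef ((Coalgebra.Repr.arbitrary k x).left i) (i_1 + 1) *
            coef ((Coalgebra.Repr.arbitrary k x).right i) (m + 2 - (i_1 + 1)) ∈ B := by
        refine B.sum_mem fun i _ => B.sum_mem fun a ha => ?_
        rw [Finset.mem_range] at ha
        exact B.mul_mem (ih (a + 1) (by omega) _) (ih (m + 2 - (a + 1)) (by omega) _)
      have h3 : ((2 : k) ^ (m + 2) - 2) • coef x (m + 2) ∈ B := by
        rw [sub_smul, h2, two_smul]
        have : (∑ i ∈ (Coalgebra.Repr.arbitrary k x).index, ∑ i_1 ∈ Finset.range (m + 1),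
            coef ((Coalgebra.Repr.arbitrary k x).left i) (i_1 + 1) *
              coef ((Coalgebra.Repr.arbitrary k x).right i) (m + 2 - (i_1 + 1))) +
            coef x (m + 2) + coef x (m + 2) - (coef x (m + 2) + coef x (m + 2)) =
            ∑ i ∈ (Coalgebra.Repr.arbitrary k x).index, ∑ i_1 ∈ Finset.range (m + 1),
            coef ((Coalgebra.Repr.arbitrary k x).left i) (i_1 + 1) *
              coef ((Coalgebra.Repr.arbitrary k x).right i) (m + 2 - (i_1 + 1)) := by abel
        rw [this]
        exact hmid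
      have h4 := B.smul_mem h3 ((2 : k) ^ (m + 2) - 2)⁻¹
      rwa [smul_smul, inv_mul_cancel₀ (two_pow_sub_two_ne_zero (k := k) m), one_smul] at h4

include hcoef in
/-- a subalgebra containing all primitive elements is everything -/
theorem mem_of_prim_mem (B : Subalgebra k H)
    (hB : ∀ y : H, Coalgebra.comul (R := k) y = y ⊗ₜ[k] (1 : H) + (1 : H) ⊗ₜ[k] y → y ∈ B)
    (x : H) : x ∈ B := by
  rw [← sum_coef coef hcoef x, Finsupp.sum]
  exact B.sum_mem fun j _ => coef_mem coef hcoef B hB j x

end Coef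

section Final

variable {k : Type u} [Field k] [CharZero k] {H : Type v} [Ring H] [Bialgebra k H]
  [Coalgebra.IsCocomm k H]

/-- a connected cocommutative bialgebra in characteristic zero is generated by its primitive
elements -/
theorem generated_by_primitives
    (hconn : ∀ D : Submodule k H, (∀ d ∈ D, Coalgebra.comul (R := k) d ∈
      LinearMap.range (TensorProduct.map D.subtype D.subtype)) → D ≠ ⊥ → (1 : H) ∈ D)
    (B : Subalgebra k H)
    (hB : ∀ y : H, Coalgebra.comul (R := k) y = y ⊗ₜ[k] (1 : H) + (1 : H) ⊗ₜ[k] y → y ∈ B)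
    (x : H) : x ∈ B := by
  obtain ⟨coef, hcoef⟩ := exists_coefL hconn
  exact mem_of_prim_mem coef hcoef B hB x

end Final

end Groth.Agent.Lib.helper13.CMM
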