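import Mathlib
import Groth.Prelude.Def_DerCA

/-!
# Derivations on local cohomology, part 1 (helper13): localizing a connection

For a derivation `θ : A → A`, a `θ`-connection on an `A`-module `N` is an additive `D : N → N` with
`D (a • x) = θ a • x + a • D x`.

* `Tw θ N`: the twisted square `N × N` with `a • (x, y) = (a x, a y + θ(a) x)`; connections are the `A`-linear
  sections `x ↦ (x, D x)` of the first projection (`Tw.sec`).
* `locD S D hD`: the induced connection on `LocalizedModule S N` (`locD_leib`, `locD_mk`, `locD_map`).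
-/

set_option autoImplicit false
universe u
open CategoryTheory CategoryTheory.Limits

namespace Groth.Agent.Lib.helper13.CechDer

variable {A : Type u} [CommRing A] (θ : Derivation ℤ A A)

/-- the twisted square `N × N` with `a • (x, y) = (a x, a y + θ(a) x)` -/
structure Tw {A : Type u} [CommRing A] (θ : Derivation ℤ A A) (N : Type*) where
  fst : N
  snd : N

namespace Tw

variable {θ} {N : Type*} [AddCommGroup N] [Module A N]

@[ext] lemma ext' {x y : Tw θ N} (h1 : x.fst = y.fst) (h2 : x.snd = y.snd) : x = y := by
  cases x; cases y; simp_all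

instance : AddCommGroup (Tw θ N) where
  add x y := ⟨x.fst + y.fst, x.snd + y.snd⟩
  zero := ⟨0, 0⟩
  neg x := ⟨-x.fst, -x.snd⟩
  nsmul n x := ⟨n • x.fst, n • x.snd⟩
  zsmul n x := ⟨n • x.fst, n • x.snd⟩
  add_assoc x y z := by ext <;> exact add_assoc _ _ _
  zero_add x := by ext <;> exact zero_add _
  add_zero x := by ext <;> exact add_zero _
  add_comm x y := by ext <;> exact add_comm _ _
  neg_add_cancel x := by ext <;> exact neg_add_cancel _
  nsmul_zero x := by ext <;> exact zero_nsmul _
  nsmul_succ n x := by ext <;> exact succ_nsmul _ _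
  zsmul_zero' x := by ext <;> exact zero_zsmul _
  zsmul_succ' n x := by ext <;> exact SubNegMonoid.zsmul_succ' _ _
  zsmul_neg' n x := by ext <;> exact SubNegMonoid.zsmul_neg' _ _

@[simp] lemma add_fst (x y : Tw θ N) : (x + y).fst = x.fst + y.fst := rfl
@[simp] lemma add_snd (x y : Tw θ N) : (x + y).snd = x.snd + y.snd := rfl
@[simp] lemma zero_fst : (0 : Tw θ N).fst = 0 := rfl
@[simp] lemma zero_snd : (0 : Tw θ N).snd = 0 := rfl

instance : Module A (Tw θ N) where
  smul a x := ⟨a • x.fst, a • x.snd + θ a • x.fst⟩
  one_smul x := by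
    ext
    · exact one_smul _ _
    · show (1 : A) • x.snd + θ 1 • x.fst = x.snd
      rw [one_smul, Derivation.map_one_eq_zero, zero_smul, add_zero]
  mul_smul a b x := by
    ext
    · exact mul_smul _ _ _
    · show (a * b) • x.snd + θ (a * b) • x.fst = a • (b • x.snd + θ b • x.fst) + θ a • (b • x.fst)
      rw [Derivation.leibniz, smul_eq_mul, smul_eq_mul, add_smul, smul_add, mul_smul, mul_smul, mul_smul,
        smul_comm (θ a) b]
      abel
  smul_zero a := by
    ext
    · exact smul_zero _
    · show a • (0 : N) + θ a • (0 : N) = 0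
      rw [smul_zero, smul_zero, add_zero]
  smul_add a x y := by
    ext
    · exact smul_add _ _ _
    · show a • (x.snd + y.snd) + θ a • (x.fst + y.fst) = (a • x.snd + θ a • x.fst) + (a • y.snd + θ a • y.fst)
      rw [smul_add, smul_add]
      abel
  add_smul a b x := by
    ext
    · exact add_smul _ _ _
    · show (a + b) • x.snd + θ (a + b) • x.fst = (a • x.snd + θ a • x.fst) + (b • x.snd + θ b • x.fst)
      rw [map_add, add_smul, add_smul]
      abel
  zero_smul x := by
    ext
    · exact zero_smul _ _
    · show (0 : A) • x.snd + θ 0 • x.fst = 0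
      rw [map_zero, zero_smul, zero_smul, add_zero]

@[simp] lemma smul_fst (a : A) (x : Tw θ N) : (a • x).fst = a • x.fst := rfl
@[simp] lemma smul_snd (a : A) (x : Tw θ N) : (a • x).snd = a • x.snd + θ a • x.fst := rfl

variable {N' : Type*} [AddCommGroup N'] [Module A N']

/-- first projection -/
def fstL : Tw θ N →ₗ[A] N where
  toFun := fst
  map_add' _ _ := rfl
  map_smul' _ _ := rfl

/-- functoriality -/
def map (g : N →ₗ[A] N') : Tw θ N →ₗ[A] Tw θ N' where
  toFun x := ⟨g x.fst, g x.snd⟩
  map_add' x y := by ext <;> simp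
  map_smul' a x := by ext <;> simp

@[simp] lemma map_fst (g : N →ₗ[A] N') (x : Tw θ N) : (map g x).fst = g x.fst := rfl
@[simp] lemma map_snd (g : N →ₗ[A] N') (x : Tw θ N) : (map g x).snd = g x.snd := rfl

/-- the section attached to a `θ`-connection -/
def sec (D : N →+ N) (hD : ∀ (a : A) (x : N), D (a • x) = θ a • x + a • D x) : N →ₗ[A] Tw θ N where
  toFun x := ⟨x, D x⟩
  map_add' x y := by ext <;> simp
  map_smul' a x := by
    ext
    · rfl
    · show D (a • x) = a • D x + θ a • x
      rw [hD, add_comm]

@[simp] lemma sec_fst (D : N →+ N) (hD : ∀ (a : A) (x : N), D (a • x) = θ a • x + a • D x) (x : N) :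
    (sec D hD x).fst = x := rfl
@[simp] lemma sec_snd (D : N →+ N) (hD : ∀ (a : A) (x : N), D (a • x) = θ a • x + a • D x) (x : N) :
    (sec D hD x).snd = D x := rfl

lemma bijective_smul (s : A) (h : Function.Bijective (fun x : N => s • x)) :
    Function.Bijective (fun x : Tw θ N => s • x) := by
  constructor
  · intro x y hxy
    have h1 : s • x.fst = s • y.fst := congrArg Tw.fst hxy
    have h2 : s • x.snd + θ s • x.fst = s • y.snd + θ s • y.fst := congrArg Tw.snd hxy
    have h3 : x.fst = y.fst := h.1 h1
    rw [h3] at h2
    exact Tw.ext' h3 (h.1 (add_right_cancel h2))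
  · intro y
    obtain ⟨x1, hx1⟩ := h.2 y.fst
    obtain ⟨x2, hx2⟩ := h.2 (y.snd - θ s • x1)
    refine ⟨⟨x1, x2⟩, Tw.ext' hx1 ?_⟩
    show s • x2 + θ s • x1 = y.snd
    have hx2' : s • x2 = y.snd - θ s • x1 := hx2
    rw [hx2', sub_add_cancel]

end Tw

section Loc

variable {θ} {N : Type*} [AddCommGroup N] [Module A N] (S : Submonoid A)
  (D : N →+ N) (hD : ∀ (a : A) (x : N), D (a • x) = θ a • x + a • D x)

lemma isUnit_tw (s : S) :
    IsUnit ((algebraMap A (Module.End A (Tw θ (LocalizedModule S N)))) s) := by
  rw [Module.End.isUnit_iff]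
  have h := IsLocalizedModule.map_units (LocalizedModule.mkLinearMap S N) s
  rw [Module.End.isUnit_iff] at h
  exact Tw.bijective_smul (s : A) h

/-- the lift of a connection to the localization, in twisted form -/
noncomputable def locLift : LocalizedModule S N →ₗ[A] Tw θ (LocalizedModule S N) :=
  IsLocalizedModule.lift S (LocalizedModule.mkLinearMap S N)
    ((Tw.map (LocalizedModule.mkLinearMap S N)).comp (Tw.sec D hD)) (isUnit_tw S)

lemma locLift_mk (n : N) :
    locLift S D hD (LocalizedModule.mkLinearMap S N n) =
      ⟨LocalizedModule.mkLinearMap S N n, LocalizedModule.mkLinearMap S N (D n)⟩ :=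
  IsLocalizedModule.lift_apply S (LocalizedModule.mkLinearMap S N) _ (isUnit_tw S) n

lemma fst_locLift (x : LocalizedModule S N) : (locLift S D hD x).fst = x := by
  have h : (Tw.fstL (θ := θ)).comp (locLift S D hD) = LinearMap.id := by
    apply IsLocalizedModule.ext S (LocalizedModule.mkLinearMap S N)
      (IsLocalizedModule.map_units (LocalizedModule.mkLinearMap S N))
    ext n
    show (locLift S D hD (LocalizedModule.mkLinearMap S N n)).fst = _
    rw [locLift_mk]
    rfl
  exact congrArg (fun t => t x) h

/-- the connection on the localization -/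
noncomputable def locD : LocalizedModule S N →+ LocalizedModule S N :=
  AddMonoidHom.mk' (fun x => (locLift S D hD x).snd) (fun x y => by simp)

lemma locD_leib (a : A) (x : LocalizedModule S N) :
    locD S D hD (a • x) = θ a • x + a • locD S D hD x := by
  show (locLift S D hD (a • x)).snd = θ a • x + a • (locLift S D hD x).snd
  rw [map_smul, Tw.smul_snd, fst_locLift, add_comm]

lemma locD_mk (n : N) :
    locD S D hD (LocalizedModule.mkLinearMap S N n) = LocalizedModule.mkLinearMap S N (D n) := by
  show (locLift S D hD (LocalizedModule.mkLinearMap S N n)).snd = _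
  rw [locLift_mk]

variable {N' : Type*} [AddCommGroup N'] [Module A N']
  (D' : N' →+ N') (hD' : ∀ (a : A) (x : N'), D' (a • x) = θ a • x + a • D' x)

/-- localized connections commute with localized maps -/
lemma locD_map (g : N →ₗ[A] N') (hg : ∀ x, g (D x) = D' (g x)) (x : LocalizedModule S N) :
    IsLocalizedModule.map S (LocalizedModule.mkLinearMap S N) (LocalizedModule.mkLinearMap S N') g
      (locD S D hD x) =
    locD S D' hD' (IsLocalizedModule.map S (LocalizedModule.mkLinearMap S N)
      (LocalizedModule.mkLinearMap S N') g x) := by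
  set gS := IsLocalizedModule.map S (LocalizedModule.mkLinearMap S N)
    (LocalizedModule.mkLinearMap S N') g
  have h : (Tw.map (θ := θ) gS).comp (locLift S D hD) = (locLift S D' hD').comp gS := by
    apply IsLocalizedModule.ext S (LocalizedModule.mkLinearMap S N) (isUnit_tw S)
    ext n
    · show gS (locLift S D hD (LocalizedModule.mkLinearMap S N n)).fst =
        (locLift S D' hD' (gS (LocalizedModule.mkLinearMap S N n))).fst
      rw [fst_locLift, fst_locLift]
    · show gS (locLift S D hD (LocalizedModule.mkLinearMap S N n)).snd =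
        (locLift S D' hD' (gS (LocalizedModule.mkLinearMap S N n))).snd
      have e1 : gS (LocalizedModule.mkLinearMap S N n) = LocalizedModule.mkLinearMap S N' (g n) :=
        IsLocalizedModule.map_apply S _ _ g n
      have e2 : gS (LocalizedModule.mkLinearMap S N (D n)) =
          LocalizedModule.mkLinearMap S N' (g (D n)) :=
        IsLocalizedModule.map_apply S _ _ g (D n)
      rw [locLift_mk, e1, locLift_mk]
      show gS (LocalizedModule.mkLinearMap S N (D n)) = _
      rw [e2, hg]
  exact congrArg (fun t => (t x).snd) h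

end Loc

end Groth.Agent.Lib.helper13.CechDer
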