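import Mathlib
import Groth.Prelude.Def_DerCA
import Groth.Agent.Lib.Helper2.ExtCech8
import Groth.Agent.Lib.Helper13.CechDer1

/-!
# Derivations on local cohomology, part 2 (helper13)

For a derivation `θ : A → A`:

* `Conn θ K`: a `θ`-connection on a complex of modules (additive operators on the terms with the Leibniz rule,
  commuting with the differential); `Conn.Horizontal`.
* `Conn.loc`, `Conn.horizontal_locCxUnit`: localization; `Conn.cocone`: mapping cocone of a horizontal map;
  `Conn.single0`: `θ` on `A[0]`; `connCech fs`: the connection on the extended Čech complex of `A`.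
* `Conn.DH`, `Conn.DH_cls`, `Conn.DH_leib`: the induced operator on cohomology.
* `exists_D_extCechH`, `exists_D_localCohomology` (S8939).
-/

set_option autoImplicit false
universe u
open CategoryTheory CategoryTheory.Limits CochainComplex

namespace Groth.Agent.Lib.helper13.CechDer

open Groth.Agent.Lib.helper2.Cocone Groth.Agent.Lib.helper2.CxH

variable {A : Type u} [CommRing A] (θ : Derivation ℤ A A)

/-- a `θ`-connection on a complex of modules: additive operators on the terms satisfying the Leibniz rule and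
commuting with the differential -/
structure Conn (K : DRing.Cx A) where
  D : ∀ p : ℤ, K.X p →+ K.X p
  leib : ∀ (p : ℤ) (a : A) (x : K.X p), D p (a • x) = θ a • x + a • D p x
  comm : ∀ (p q : ℤ) (x : K.X p), D q ((K.d p q).hom x) = (K.d p q).hom (D p x)

variable {θ}

/-- a map of complexes is horizontal for given connections -/
def Conn.Horizontal {K L : DRing.Cx A} (cK : Conn θ K) (cL : Conn θ L) (φ : K ⟶ L) : Prop :=
  ∀ (p : ℤ) (x : K.X p), (φ.f p).hom (cK.D p x) = cL.D p ((φ.f p).hom x)

/-- the localized connection -/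
noncomputable def Conn.loc {K : DRing.Cx A} (c : Conn θ K) (S : Submonoid A) :
    Conn θ ((DerCA.locCx S).obj K) where
  D p := locD S (c.D p) (c.leib p)
  leib p a x := locD_leib S (c.D p) (c.leib p) a x
  comm p q x := (locD_map S (c.D p) (c.leib p) (c.D q) (c.leib q) (K.d p q).hom
    (fun y => (c.comm p q y).symm) x).symm

lemma Conn.horizontal_locCxUnit {K : DRing.Cx A} (c : Conn θ K) (S : Submonoid A) :
    Conn.Horizontal c (c.loc S) (DerCA.locCxUnit S K) := fun p x =>
  (locD_mk S (c.D p) (c.leib p) x).symm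

/-- the operator on the terms of the mapping cocone -/
noncomputable def coconeD {K L : DRing.Cx A} (cK : Conn θ K) (cL : Conn θ L) (φ : K ⟶ L) (p : ℤ) :
    (mappingCocone φ).X p →+ (mappingCocone φ).X p :=
  AddMonoidHom.mk' (fun c => iL φ p (cK.D p (fE φ p c)) +
      iR φ (p + -1) p (by lia) (cL.D (p + -1) (sE φ p (p + -1) rfl c)))
    (fun c c' => by
      simp only [map_add]
      abel)

lemma coconeD_eq {K L : DRing.Cx A} (cK : Conn θ K) (cL : Conn θ L) (φ : K ⟶ L) (p q : ℤ)
    (h : p + -1 = q) (c : (mappingCocone φ).X p) :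
    coconeD cK cL φ p c = iL φ p (cK.D p (fE φ p c)) +
      iR φ q p (by lia) (cL.D q (sE φ p q h c)) := by
  subst h
  rfl

lemma fE_coconeD {K L : DRing.Cx A} (cK : Conn θ K) (cL : Conn θ L) (φ : K ⟶ L) (p : ℤ)
    (c : (mappingCocone φ).X p) : fE φ p (coconeD cK cL φ p c) = cK.D p (fE φ p c) := by
  rw [coconeD_eq cK cL φ p (p + -1) rfl, map_add, fE_iL, fE_iR, add_zero]

lemma sE_coconeD {K L : DRing.Cx A} (cK : Conn θ K) (cL : Conn θ L) (φ : K ⟶ L) (p q : ℤ)
    (h : p + -1 = q) (c : (mappingCocone φ).X p) :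
    sE φ p q h (coconeD cK cL φ p c) = cL.D q (sE φ p q h c) := by
  rw [coconeD_eq cK cL φ p q h, map_add, sE_iL, sE_iR, zero_add]

/-- the connection on the mapping cocone of a horizontal map -/
noncomputable def Conn.cocone {K L : DRing.Cx A} (cK : Conn θ K) (cL : Conn θ L) (φ : K ⟶ L)
    (hφ : Conn.Horizontal cK cL φ) : Conn θ (mappingCocone φ) where
  D p := coconeD cK cL φ p
  leib p a c := by
    apply ext_elem φ p (p + -1) rfl
    · have e1 : fE φ p (a • c) = a • fE φ p c := map_smul _ _ _
      have e2 : fE φ p (θ a • c + a • coconeD cK cL φ p c) =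
          θ a • fE φ p c + a • fE φ p (coconeD cK cL φ p c) := by
        rw [map_add, map_smul, map_smul]
      rw [fE_coconeD, e1, cK.leib, e2, fE_coconeD]
    · have e1 : sE φ p (p + -1) rfl (a • c) = a • sE φ p (p + -1) rfl c := map_smul _ _ _
      have e2 : sE φ p (p + -1) rfl (θ a • c + a • coconeD cK cL φ p c) =
          θ a • sE φ p (p + -1) rfl c + a • sE φ p (p + -1) rfl (coconeD cK cL φ p c) := by
        rw [map_add, map_smul, map_smul]
      rw [sE_coconeD, e1, cL.leib, e2, sE_coconeD]
  comm p q c := by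
    by_cases hpq : p + 1 = q
    · subst hpq
      apply ext_elem φ (p + 1) p (by lia)
      · rw [fE_coconeD, fE_d, fE_d, fE_coconeD, cK.comm]
      · rw [sE_coconeD, sE_d φ p (p + 1) (p + -1) rfl rfl, sE_d φ p (p + 1) (p + -1) rfl rfl,
          fE_coconeD, sE_coconeD, map_sub, map_neg, hφ, cL.comm]
    · have h0 : (mappingCocone φ).d p q = 0 := (mappingCocone φ).shape p q hpq
      rw [h0]
      simp

/-- the connection `θ` on `A[0]` -/
noncomputable def Conn.single0 : Conn θ ((HomologicalComplex.single (ModuleCat.{u} A)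
    (ComplexShape.up ℤ) 0).obj (ModuleCat.of A A)) where
  D p := if h : p = 0 then
      ((HomologicalComplex.singleObjXIsoOfEq (ComplexShape.up ℤ) 0 (ModuleCat.of A A) p
        h).toLinearEquiv.symm.toLinearMap.toAddMonoidHom).comp
        ((θ : A →ₗ[ℤ] A).toAddMonoidHom.comp
          (HomologicalComplex.singleObjXIsoOfEq (ComplexShape.up ℤ) 0 (ModuleCat.of A A) p
            h).toLinearEquiv.toLinearMap.toAddMonoidHom)
    else 0
  leib p a x := by
    by_cases h : p = 0
    · simp only [dif_pos h]
      set e := (HomologicalComplex.singleObjXIsoOfEq (ComplexShape.up ℤ) 0 (ModuleCat.of A A) p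
        h).toLinearEquiv
      show e.symm (θ (e (a • x))) = θ a • x + a • e.symm (θ (e x))
      have h1 : e (a • x) = a * e x := map_smul e a x
      have h2 : (e x) • θ a = θ a • e x := by
        show e x * θ a = θ a * e x
        exact mul_comm _ _
      rw [h1, Derivation.leibniz, h2, map_add, map_smul, map_smul, LinearEquiv.symm_apply_apply,
        add_comm]
    · haveI : Subsingleton (((HomologicalComplex.single (ModuleCat.{u} A)
          (ComplexShape.up ℤ) 0).obj (ModuleCat.of A A)).X p) :=
        ModuleCat.subsingleton_of_isZero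
          (HomologicalComplex.isZero_single_obj_X (ComplexShape.up ℤ) 0 (ModuleCat.of A A) p h)
      exact Subsingleton.elim _ _
  comm p q x := by
    rw [HomologicalComplex.single_obj_d]
    simp

/-- the connection on the extended Čech complex of `A` -/
noncomputable def connCech : ∀ fs : List A, Conn θ (DerCA.extCech (ModuleCat.of A A) fs)
  | [] => Conn.single0
  | f :: fs => Conn.cocone (connCech fs) ((connCech fs).loc (Submonoid.powers f))
      (DerCA.locCxUnit (Submonoid.powers f) (DerCA.extCech (ModuleCat.of A A) fs))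
      ((connCech fs).horizontal_locCxUnit (Submonoid.powers f))

section Homology

variable {K : DRing.Cx A} (c : Conn θ K)

/-- the restriction of the connection to cocycles -/
noncomputable def Conn.DZ (q r : ℤ) : Zc K q r →+ Zc K q r :=
  AddMonoidHom.mk' (fun z => ⟨c.D q z.1, by
    rw [mem_Zc, ← c.comm, (mem_Zc _).1 z.2]
    exact map_zero _⟩)
    (fun z z' => Subtype.ext (map_add (c.D q) z.1 z'.1))

lemma Conn.DZ_leib (q r : ℤ) (a : A) (z : Zc K q r) :
    c.DZ q r (a • z) = θ a • z + a • c.DZ q r z :=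
  Subtype.ext (c.leib q a z.1)

lemma Conn.cls_DZ_eq_zero (q : ℤ) (z : Zc K q (q + 1)) (hz : cls K q (q + 1) rfl z = 0) :
    cls K q (q + 1) rfl (c.DZ q (q + 1) z) = 0 := by
  obtain ⟨y, hy⟩ := (cls_eq_zero_iff K (q - 1) q (q + 1) (by lia) rfl z).1 hz
  refine (cls_eq_zero_iff K (q - 1) q (q + 1) (by lia) rfl _).2 ⟨c.D (q - 1) y, ?_⟩
  show (K.d (q - 1) q).hom (c.D (q - 1) y) = c.D q z.1
  rw [← c.comm, hy]

/-- the induced operator on cohomology -/
noncomputable def Conn.DH (q : ℤ) : K.homology q →+ K.homology q :=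
  (cls K q (q + 1) rfl).toAddMonoidHom.liftOfRightInverse
    (Function.surjInv (cls_surjective K q (q + 1) rfl))
    (Function.rightInverse_surjInv (cls_surjective K q (q + 1) rfl))
    ⟨(cls K q (q + 1) rfl).toAddMonoidHom.comp (c.DZ q (q + 1)), fun z hz =>
      c.cls_DZ_eq_zero q z hz⟩

lemma Conn.DH_cls (q : ℤ) (z : Zc K q (q + 1)) :
    c.DH q (cls K q (q + 1) rfl z) = cls K q (q + 1) rfl (c.DZ q (q + 1) z) :=
  AddMonoidHom.liftOfRightInverse_comp_apply _ _ _ _ z

lemma Conn.DH_leib (q : ℤ) (a : A) (ξ : K.homology q) :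
    c.DH q (a • ξ) = θ a • ξ + a • c.DH q ξ := by
  obtain ⟨z, rfl⟩ := cls_surjective K q (q + 1) rfl ξ
  rw [← map_smul, c.DH_cls, c.DH_cls, c.DZ_leib, map_add, map_smul, map_smul]

end Homology

/-- **a derivation of `A` acts on the cohomology of the extended Čech complex** -/
theorem exists_D_extCechH (θ : Derivation ℤ A A) (fs : List A) (q : ℤ) :
    ∃ D : DerCA.extCechH fs (ModuleCat.of A A) q →+ DerCA.extCechH fs (ModuleCat.of A A) q,
      ∀ (a : A) (ξ : DerCA.extCechH fs (ModuleCat.of A A) q), D (a • ξ) = θ a • ξ + a • D ξ :=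
  ⟨(connCech (θ := θ) fs).DH q, (connCech (θ := θ) fs).DH_leib q⟩

/-- **a derivation of a Noetherian ring `A` acts on the local cohomology modules `H^i_I(A)`** -/
theorem exists_D_localCohomology [IsNoetherianRing A] (θ : Derivation ℤ A A) (I : Ideal A) (i : ℕ) :
    ∃ D : LocCoh.H I i A →+ LocCoh.H I i A,
      ∀ (a : A) (ξ : LocCoh.H I i A), D (a • ξ) = θ a • ξ + a • D ξ := by
  obtain ⟨s, hs⟩ := (isNoetherianRing_iff_ideal_fg A).1 inferInstance I
  have hspan : Ideal.span {x : A | x ∈ (0 : A) :: s.toList} = I := by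
    rw [← hs]
    have : {x : A | x ∈ (0 : A) :: s.toList} = insert (0 : A) (s : Set A) := by
      ext x
      simp
    rw [this, Ideal.span_insert_zero]
  subst hspan
  obtain ⟨e⟩ := Groth.Agent.Lib.helper2.ExtCech.cech_iso ((0 : A) :: s.toList) i (ModuleCat.of A A)
  obtain ⟨D, hD⟩ := exists_D_extCechH θ ((0 : A) :: s.toList) (i : ℤ)
  refine ⟨(e.toAddMonoidHom).comp (D.comp e.symm.toAddMonoidHom), fun a ξ => ?_⟩
  show e (D (e.symm (a • ξ))) = θ a • ξ + a • e (D (e.symm ξ))
  rw [map_smul, hD, map_add, map_smul, map_smul, LinearEquiv.apply_symm_apply]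

end Groth.Agent.Lib.helper13.CechDer
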