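import Mathlib

/-!
# Localization of the conormal module `I/I²` (helper13)
-/

set_option autoImplicit false
universe u

namespace Groth.Agent.Lib.helper13.CotLoc

variable {R : Type u} [CommRing R] (M : Submonoid R) (S : Type u) [CommRing S] [Algebra R S]
  [IsLocalization M S] (I : Ideal R)

/-- the canonical map `I/I² → I_S/I_S²` -/
noncomputable def cotMap : I.Cotangent →ₗ[R] (I.map (algebraMap R S)).Cotangent :=
  Ideal.mapCotangent I (I.map (algebraMap R S)) (Algebra.ofId R S) Ideal.le_comap_map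

lemma cotMap_toCotangent (x : I) :
    cotMap S I (I.toCotangent x) =
      (I.map (algebraMap R S)).toCotangent ⟨algebraMap R S x, Ideal.mem_map_of_mem _ x.2⟩ := rfl

include M in
theorem isLocalizedModule_cotMap : IsLocalizedModule M (cotMap S I) := by
  refine ⟨fun m => ?_, fun y => ?_, @fun x₁ x₂ h => ?_⟩
  · rw [Module.End.isUnit_iff]
    obtain ⟨u, hu⟩ := IsLocalization.map_units S m
    refine ⟨fun a b hab => ?_, fun a => ⟨(↑u⁻¹ : S) • a, ?_⟩⟩
    · have h1 : (m : R) • a = (m : R) • b := hab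
      rw [← algebraMap_smul S (m : R) a, ← algebraMap_smul S (m : R) b, ← hu] at h1
      have := congrArg (fun z => (↑u⁻¹ : S) • z) h1
      simpa [smul_smul] using this
    · change (m : R) • ((↑u⁻¹ : S) • a) = a
      rw [← algebraMap_smul S (m : R), ← hu, smul_smul]
      simp
  · obtain ⟨⟨z, hz⟩, rfl⟩ := Ideal.toCotangent_surjective _ y
    obtain ⟨⟨a, m⟩, ham⟩ := (IsLocalization.mem_map_algebraMap_iff M S).1 hz
    refine ⟨(I.toCotangent a, m), ?_⟩
    rw [cotMap_toCotangent]
    change (m : R) • (I.map (algebraMap R S)).toCotangent ⟨z, hz⟩ = _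
    rw [← algebraMap_smul S (m : R), ← map_smul]
    congr 1
    ext
    change algebraMap R S m * z = algebraMap R S a
    rw [mul_comm]
    exact ham
  · obtain ⟨a₁, rfl⟩ := Ideal.toCotangent_surjective _ x₁
    obtain ⟨a₂, rfl⟩ := Ideal.toCotangent_surjective _ x₂
    rw [cotMap_toCotangent, cotMap_toCotangent, Ideal.toCotangent_eq] at h
    change algebraMap R S a₁ - algebraMap R S a₂ ∈ _ at h
    rw [← map_sub, ← Ideal.map_pow, IsLocalization.algebraMap_mem_map_algebraMap_iff M] at h
    obtain ⟨m, hm, hmem⟩ := h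
    refine ⟨⟨m, hm⟩, ?_⟩
    change (m : R) • I.toCotangent a₁ = (m : R) • I.toCotangent a₂
    rw [← map_smul, ← map_smul, Ideal.toCotangent_eq]
    change m * (a₁ : R) - m * (a₂ : R) ∈ _
    rw [← mul_sub]
    exact hmem

end Groth.Agent.Lib.helper13.CotLoc
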