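import Mathlib
import Groth.Prelude.Def_LCI2
import Groth.Agent.S18939
import Groth.Agent.Lib.Helper13.CotLoc1

/-!
# The conormal module of a Koszul-regular ideal is finite projective (helper13)
-/

set_option autoImplicit false
universe u

namespace Groth.Agent.Lib.helper13.CotLoc

variable {P : Type u} [CommRing P] (J : Ideal P) (g : P)

/-- the localization -/
abbrev Pg : Type u := Localization.Away g

/-- the extended ideal -/
abbrev Jg : Ideal (Pg g) := J.map (algebraMap P (Pg g))

/-- the quotient of the localization -/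
abbrev Rg : Type u := Pg g ⧸ Jg J g

/-- the conormal module of the extended ideal -/
abbrev Mg : Type u := (Jg J g).Cotangent

noncomputable instance modMg : Module (P ⧸ J) (Mg J g) :=
  Module.compHom _ (algebraMap (P ⧸ J) (Rg J g))

instance towerMg : IsScalarTower (P ⧸ J) (Rg J g) (Mg J g) :=
  ⟨fun a b m => by
    rw [Algebra.smul_def, mul_smul]
    rfl⟩

lemma mk_smul_Mg (p : P) (m : Mg J g) : (Ideal.Quotient.mk J p) • m = p • m := by
  change (Ideal.Quotient.mk (Jg J g) (algebraMap P (Pg g) p)) • m = p • m
  rw [← algebraMap_smul (Pg g) p m]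
  rfl

instance towerMg' : IsScalarTower P (P ⧸ J) (Mg J g) :=
  ⟨fun p a m => by
    obtain ⟨q, rfl⟩ := Ideal.Quotient.mk_surjective a
    change (Ideal.Quotient.mk J (p * q)) • m = p • (Ideal.Quotient.mk J q • m)
    rw [mk_smul_Mg, mk_smul_Mg, mul_smul]⟩

/-- the localization map of conormal modules, linear over `P ⧸ J` -/
noncomputable def φg : J.Cotangent →ₗ[P ⧸ J] Mg J g :=
  { toFun := cotMap (Pg g) J
    map_add' := fun a b => map_add _ a b
    map_smul' := fun a m => by
      obtain ⟨q, rfl⟩ := Ideal.Quotient.mk_surjective a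
      change cotMap (Pg g) J (Ideal.Quotient.mk J q • m) = Ideal.Quotient.mk J q • cotMap (Pg g) J m
      rw [mk_smul_Mg, ← map_smul]
      rfl }

lemma φg_restrictScalars : (φg J g).restrictScalars P = cotMap (Pg g) J := rfl

instance isLocalizationRg : IsLocalization.Away (Ideal.Quotient.mk J g) (Rg J g) := by
  have h : IsLocalization (Algebra.algebraMapSubmonoid (P ⧸ J) (Submonoid.powers g)) (Rg J g) :=
    inferInstance
  rw [Algebra.algebraMapSubmonoid_powers] at h
  exact h

instance isLocalizedModuleφg :
    IsLocalizedModule (Submonoid.powers (Ideal.Quotient.mk J g)) (φg J g) := by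
  haveI : IsLocalizedModule (Submonoid.powers g) ((φg J g).restrictScalars P) := by
    rw [φg_restrictScalars]
    exact isLocalizedModule_cotMap (Submonoid.powers g) (Pg g) J
  have h := IsLocalizedModule.of_restrictScalars (A := P ⧸ J) (Submonoid.powers g) (φg J g)
  rw [Algebra.algebraMapSubmonoid_powers] at h
  exact h

/-- locally the conormal module is finite free -/
theorem finite_free_Mg (hg : g ∈ J ∨
      ∃ l : List (Localization.Away g), LCI.IsKoszulRegularSeq (Localization.Away g) l ∧
        J.map (algebraMap P (Localization.Away g)) = Ideal.span {x | x ∈ l}) :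
    Module.Finite (Rg J g) (Mg J g) ∧ Module.Free (Rg J g) (Mg J g) := by
  by_cases htop : Jg J g = ⊤
  · haveI : Subsingleton (Rg J g) := Ideal.Quotient.subsingleton_iff.2 htop
    haveI : Subsingleton (Mg J g) := Module.subsingleton (Rg J g) _
    exact ⟨inferInstance, inferInstance⟩
  · rcases hg with hg | ⟨l, hl1, hl2⟩
    · exfalso
      apply htop
      rw [Ideal.eq_top_iff_one]
      obtain ⟨u, hu⟩ := IsLocalization.Away.algebraMap_isUnit (S := Pg g) g
      have h1 : algebraMap P (Pg g) g ∈ Jg J g := Ideal.mem_map_of_mem _ hg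
      have h2 := Ideal.mul_mem_left _ (↑u⁻¹ : Pg g) h1
      rwa [← hu, Units.inv_mul] at h2
    · have hmem : ∀ i : Fin l.length, l.get i ∈ Jg J g := fun i => by
        change l.get i ∈ J.map (algebraMap P (Localization.Away g))
        rw [hl2]
        exact Ideal.subset_span (List.get_mem l i)
      have hof : List.ofFn (fun i : Fin l.length => ((⟨l.get i, hmem i⟩ : Jg J g) : Pg g)) = l :=
        List.ofFn_get l
      have hspan : Ideal.span (Set.range
          (fun i : Fin l.length => ((⟨l.get i, hmem i⟩ : Jg J g) : Pg g))) = Jg J g := by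
        change _ = J.map (algebraMap P (Localization.Away g))
        rw [hl2]
        congr 1
        ext x
        simp only [Set.mem_range, Set.mem_setOf_eq]
        constructor
        · rintro ⟨i, rfl⟩
          exact List.get_mem l i
        · intro hx
          obtain ⟨i, hi⟩ := List.get_of_mem hx
          exact ⟨i, hi⟩
      obtain ⟨b, -⟩ := Groth.Agent.S18939.result htop l.length
        (fun i => (⟨l.get i, hmem i⟩ : Jg J g)) (by rw [hof]; exact hl1) hspan
      exact ⟨Module.Finite.of_basis b, Module.Free.of_basis b⟩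

/-- a finite Zariski cover of `Spec P` by basic opens on which `J` is either the unit ideal or
generated by a Koszul-regular sequence (copy of helper3's `LciPerf.exists_cover`). -/
theorem exists_cover (hJ : LCI.IsKoszulRegularIdeal J) :
    ∃ (r : ℕ) (f : Fin r → P), Ideal.span (Set.range f) = ⊤ ∧ ∀ i, (f i ∈ J ∨
      ∃ l : List (Localization.Away (f i)), LCI.IsKoszulRegularSeq (Localization.Away (f i)) l ∧
        J.map (algebraMap P (Localization.Away (f i))) = Ideal.span {x | x ∈ l}) := by
  set S : Set P := {g | g ∈ J ∨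
      ∃ l : List (Localization.Away g), LCI.IsKoszulRegularSeq (Localization.Away g) l ∧
        J.map (algebraMap P (Localization.Away g)) = Ideal.span {x | x ∈ l}} with hS
  have htop : Ideal.span S = ⊤ := by
    by_contra hne
    obtain ⟨𝔪, hmax, hle⟩ := Ideal.exists_le_maximal _ hne
    haveI := hmax.isPrime
    by_cases hJm : J ≤ 𝔪
    · obtain ⟨g, hg, l, hl1, hl2⟩ := hJ ⟨𝔪, inferInstance⟩ hJm
      exact hg (hle (Ideal.subset_span (Or.inr ⟨l, hl1, hl2⟩)))
    · obtain ⟨g, hgJ, hg⟩ := Set.not_subset.1 hJm
      exact hg (hle (Ideal.subset_span (Or.inl hgJ)))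
  obtain ⟨s', hs', hs'top⟩ := (Ideal.span_eq_top_iff_finite S).1 htop
  refine ⟨s'.card, fun i => (s'.equivFin.symm i : P), ?_, fun i => ?_⟩
  · have : Set.range (fun i => (s'.equivFin.symm i : P)) = (s' : Set P) := by
      ext x
      constructor
      · rintro ⟨i, rfl⟩
        exact (s'.equivFin.symm i).2
      · intro hx
        exact ⟨s'.equivFin ⟨x, hx⟩, by simp⟩
    rw [this]
    exact hs'top
  · exact hs' (s'.equivFin.symm i).2

/-- **the conormal module of a Koszul-regular ideal is finite projective** -/
theorem finite_projective_cotangent (hJ : LCI.IsKoszulRegularIdeal J) :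
    Module.Finite (P ⧸ J) J.Cotangent ∧ Module.Projective (P ⧸ J) J.Cotangent := by
  obtain ⟨r, f, hf, hgood⟩ := exists_cover J hJ
  set s : Set (P ⧸ J) := Set.range (fun i => Ideal.Quotient.mk J (f i)) with hs
  have hspan : Ideal.span s = ⊤ := by
    have h1 : Ideal.map (Ideal.Quotient.mk J) (Ideal.span (Set.range f)) = ⊤ := by
      rw [hf]
      exact Ideal.map_top _
    rw [Ideal.map_span, ← Set.range_comp] at h1
    exact h1
  let idx : s → Fin r := fun t => t.2.choose
  have hidx : ∀ t : s, Ideal.Quotient.mk J (f (idx t)) = t.1 := fun t => t.2.choose_spec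
  haveI hloc : ∀ t : s, IsLocalization.Away t.1 (Rg J (f (idx t))) := fun t => by
    rw [← hidx t]
    infer_instance
  haveI hlm : ∀ t : s, IsLocalizedModule (Submonoid.powers t.1) (φg J (f (idx t))) := fun t => by
    rw [← hidx t]
    infer_instance
  have hff : ∀ t : s, Module.Finite (Rg J (f (idx t))) (Mg J (f (idx t))) ∧
      Module.Free (Rg J (f (idx t))) (Mg J (f (idx t))) := fun t =>
    finite_free_Mg J (f (idx t)) (hgood (idx t))
  haveI hfp : Module.FinitePresentation (P ⧸ J) J.Cotangent := by
    refine Module.FinitePresentation.of_localizationSpan' s hspan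
      (Mₚ := fun t => Mg J (f (idx t))) (Rₚ := fun t => Rg J (f (idx t)))
      (fun t => φg J (f (idx t))) (fun t => ?_)
    haveI := (hff t).1
    haveI := (hff t).2
    exact Module.finitePresentation_of_projective _ _
  haveI hflat : Module.Flat (P ⧸ J) J.Cotangent := by
    refine Module.flat_of_isLocalized_span (R := P ⧸ J) (S := P ⧸ J) (M := J.Cotangent) s hspan
      (fun t => Mg J (f (idx t))) (fun t => φg J (f (idx t))) (fun t => ?_)
    haveI := (hff t).2
    haveI : Module.Flat (P ⧸ J) (Rg J (f (idx t))) := IsLocalization.flat _ (Submonoid.powers t.1)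
    exact Module.Flat.trans (P ⧸ J) (Rg J (f (idx t))) (Mg J (f (idx t)))
  exact ⟨inferInstance, Module.Flat.projective_of_finitePresentation⟩

end Groth.Agent.Lib.helper13.CotLoc
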