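import Mathlib
import Groth.Agent.Lib.Helper14.KProjLift

/-!
# Two-term complexes in the derived category (helper13, S8806)

* `nonempty_homotopy_of_two_term`: homotopies between endomorphisms of a complex concentrated in
  degrees `-1, 0`.
* `eq_zero_of_projective_single`: `Hom_D(M[0], N[1]) = 0` for `M` projective.
* `smul_eq_zero_of_double`: for `X = (X₀ →d X₁)` in degrees `-1, 0` with `X₁` projective and
  `h : X₁ ⟶ X₀`, `U : X₁ ⟶ X₁` such that `h ∘ d = g`, `d ∘ h + U = g`, `U ∘ d = 0`: `g` kills every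
  morphism `X ⟶ N[1]` in `D`, and `g • 𝟙 X = 0` in `D` if `U = 0`.
-/

set_option autoImplicit false
universe w v u t
open CategoryTheory CategoryTheory.Limits

namespace Groth.Agent.Lib.helper13.JacNL

section Homotopy

variable {C : Type u} [Category.{v} C] [Preadditive C]

theorem nonempty_homotopy_of_two_term (X : CochainComplex C ℤ)
    (hz : ∀ i : ℤ, i ≠ -1 → i ≠ 0 → IsZero (X.X i)) (φ ψ : X ⟶ X) (s : X.X 0 ⟶ X.X (-1))
    (h1 : φ.f (-1) = X.d (-1) 0 ≫ s + ψ.f (-1)) (h0 : φ.f 0 = s ≫ X.d (-1) 0 + ψ.f 0) :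
    Nonempty (Homotopy φ ψ) := by
  refine ⟨{ hom := fun i j => if h : i = 0 ∧ j = -1 then
              eqToHom (by rw [h.1]) ≫ s ≫ eqToHom (by rw [h.2]) else 0
            zero := fun i j hij => ?_
            comm := fun i => ?_ }⟩
  · rw [dif_neg]
    rintro ⟨rfl, rfl⟩
    exact hij (by simp)
  · by_cases hi1 : i = -1
    · subst hi1
      rw [dNext_eq _ (show (ComplexShape.up ℤ).Rel (-1) 0 by simp),
        prevD_eq _ (show (ComplexShape.up ℤ).Rel (-2) (-1) by simp)]
      rw [dif_pos (show (0 : ℤ) = 0 ∧ (-1 : ℤ) = -1 from ⟨rfl, rfl⟩),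
        dif_neg (show ¬ ((-1 : ℤ) = 0 ∧ (-2 : ℤ) = -1) by omega), zero_comp, add_zero, h1]
      simp
    · by_cases hi0 : i = 0
      · subst hi0
        rw [dNext_eq _ (show (ComplexShape.up ℤ).Rel 0 1 by simp),
          prevD_eq _ (show (ComplexShape.up ℤ).Rel (-1) 0 by simp)]
        rw [dif_pos (show (0 : ℤ) = 0 ∧ (-1 : ℤ) = -1 from ⟨rfl, rfl⟩),
          dif_neg (show ¬ ((1 : ℤ) = 0 ∧ (0 : ℤ) = -1) by omega), comp_zero, zero_add, h0]
        simp
      · exact (hz i hi1 hi0).eq_of_src _ _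

end Homotopy

section Vanishing

variable {C : Type u} [Category.{v} C] [Abelian C] [HasDerivedCategory.{w} C]

theorem eq_zero_of_projective_single (M N : C) [Projective M]
    (ξ : DerivedCategory.Q.obj ((HomologicalComplex.single C (ComplexShape.up ℤ) 0).obj M) ⟶
      ((DerivedCategory.singleFunctor C 0).obj N)⟦(1 : ℤ)⟧) : ξ = 0 := by
  let K : CochainComplex C ℤ := (HomologicalComplex.single C (ComplexShape.up ℤ) 0).obj M
  let Y := (CochainComplex.singleFunctor C 0).obj N
  haveI : ∀ n, Projective (K.X n) := fun n => by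
    by_cases hn : n = 0
    · subst hn
      exact Projective.of_iso (HomologicalComplex.singleObjXSelf (ComplexShape.up ℤ) 0 M).symm
        inferInstance
    · have hz : IsZero (K.X n) := HomologicalComplex.isZero_single_obj_X _ _ _ _ hn
      exact ⟨fun f e _ => ⟨0, hz.eq_of_src _ _⟩⟩
  haveI : K.IsStrictlyLE 0 := inferInstanceAs
    (CochainComplex.IsStrictlyLE ((HomologicalComplex.single C (ComplexShape.up ℤ) 0).obj M) 0)
  haveI : K.IsKProjective := CochainComplex.isKProjective_of_projective K 0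
  let e : (DerivedCategory.Q.obj Y)⟦(1 : ℤ)⟧ ≅ DerivedCategory.Q.obj (Y⟦(1 : ℤ)⟧) :=
    ((DerivedCategory.Q.commShiftIso (1 : ℤ)).app Y).symm
  obtain ⟨f', hf'⟩ := Groth.Agent.Lib.Helper14.KProjLift.Q_map_surjective_of_isKProjective K
    (Y⟦(1 : ℤ)⟧) (ξ ≫ e.hom)
  have hf0 : f' = 0 := by
    apply HomologicalComplex.hom_ext
    intro i
    by_cases hi : i = 0
    · subst hi
      have hz : IsZero ((Y⟦(1 : ℤ)⟧).X 0) := by
        change IsZero (Y.X (0 + 1))
        exact HomologicalComplex.isZero_single_obj_X _ _ _ _ (by simp)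
      exact hz.eq_of_tgt _ _
    · have hz : IsZero (K.X i) := HomologicalComplex.isZero_single_obj_X _ _ _ _ hi
      exact hz.eq_of_src _ _
  rw [hf0, Functor.map_zero] at hf'
  have h2 : ξ ≫ e.hom = 0 ≫ e.hom := by
    rw [zero_comp]
    exact hf'.symm
  exact (cancel_mono e.hom).1 h2

end Vanishing

section Double

variable {C : Type u} [Category.{v} C] [Abelian C] [HasDerivedCategory.{w} C]
  {R : Type t} [Ring R] [Linear R C]

theorem smul_eq_zero_of_two_term {X₀ X₁ : C} (d : X₀ ⟶ X₁) [Projective X₁] (h : X₁ ⟶ X₀)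
    (U : X₁ ⟶ X₁) (g : R) (h1 : d ≫ h = g • 𝟙 X₀) (h2 : h ≫ d + U = g • 𝟙 X₁) (h3 : d ≫ U = 0)
    (X : CochainComplex C ℤ) (i₀ : X.X (-1) ≅ X₀) (i₁ : X.X 0 ≅ X₁)
    (hd : X.d (-1) 0 = i₀.hom ≫ d ≫ i₁.inv)
    (hz : ∀ i : ℤ, i ≠ -1 → i ≠ 0 → IsZero (X.X i)) :
    (∀ (N : C) (φ : DerivedCategory.Q.obj X ⟶
        ((DerivedCategory.singleFunctor C 0).obj N)⟦(1 : ℤ)⟧), g • φ = 0) ∧
    (U = 0 → g • 𝟙 (DerivedCategory.Q.obj X) = 0) := by
  let a : X ⟶ (HomologicalComplex.single C (ComplexShape.up ℤ) 0).obj X₁ :=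
    HomologicalComplex.mkHomToSingle (i₁.hom ≫ U) (fun i hi => by
      have : i = -1 := by
        simp only [ComplexShape.up_Rel] at hi
        omega
      subst this
      rw [hd]
      simp only [Category.assoc, Iso.inv_hom_id_assoc, h3, comp_zero])
  let b : (HomologicalComplex.single C (ComplexShape.up ℤ) 0).obj X₁ ⟶ X :=
    HomologicalComplex.mkHomFromSingle i₁.inv (fun k hk => by
      have : k = 1 := by
        simp only [ComplexShape.up_Rel] at hk
        omega
      subst this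
      exact (hz 1 (by omega) (by omega)).eq_of_tgt _ _)
  have hH : Nonempty (Homotopy (g • 𝟙 X) (a ≫ b)) := by
    apply nonempty_homotopy_of_two_term X hz _ _ (i₁.hom ≫ h ≫ i₀.inv)
    · have hab : (a ≫ b).f (-1) = 0 := by
        rw [HomologicalComplex.comp_f]
        have hz' : IsZero (((HomologicalComplex.single C (ComplexShape.up ℤ) 0).obj X₁).X (-1)) :=
          HomologicalComplex.isZero_single_obj_X _ _ _ _ (by omega)
        rw [hz'.eq_of_tgt (a.f (-1)) 0, zero_comp]
      rw [hab, add_zero, hd, HomologicalComplex.smul_f_apply, HomologicalComplex.id_f]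
      simp only [Category.assoc, Iso.inv_hom_id_assoc]
      rw [reassoc_of% h1, Linear.smul_comp, Linear.comp_smul, Category.id_comp, Iso.hom_inv_id]
    · have hab : (a ≫ b).f 0 = i₁.hom ≫ U ≫ i₁.inv := by
        rw [HomologicalComplex.comp_f, HomologicalComplex.mkHomToSingle_f,
          HomologicalComplex.mkHomFromSingle_f]
        simp
      rw [hab, hd, HomologicalComplex.smul_f_apply, HomologicalComplex.id_f]
      simp only [Category.assoc, Iso.inv_hom_id_assoc]
      have : i₁.hom ≫ h ≫ d ≫ i₁.inv + i₁.hom ≫ U ≫ i₁.inv = i₁.hom ≫ (h ≫ d + U) ≫ i₁.inv := by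
        simp [Preadditive.add_comp, Preadditive.comp_add]
      rw [this, h2, Linear.smul_comp, Linear.comp_smul, Category.id_comp, Iso.hom_inv_id]
  obtain ⟨H⟩ := hH
  have hQ : g • 𝟙 (DerivedCategory.Q.obj X) = DerivedCategory.Q.map a ≫ DerivedCategory.Q.map b := by
    rw [← Functor.map_comp, ← DerivedCategory.Q_map_eq_of_homotopy C H, Functor.map_smul,
      CategoryTheory.Functor.map_id]
  refine ⟨fun N φ => ?_, fun hU => ?_⟩
  · have : g • φ = (g • 𝟙 (DerivedCategory.Q.obj X)) ≫ φ := by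
      rw [Linear.smul_comp, Category.id_comp]
    rw [this, hQ, Category.assoc, eq_zero_of_projective_single X₁ N (DerivedCategory.Q.map b ≫ φ),
      comp_zero]
  · have ha : a = 0 := by
      apply HomologicalComplex.to_single_hom_ext
      rw [HomologicalComplex.mkHomToSingle_f, hU]
      simp
    rw [hQ, ha, Functor.map_zero, zero_comp]

theorem smul_eq_zero_of_double {X₀ X₁ : C} (d : X₀ ⟶ X₁) [Projective X₁] (h : X₁ ⟶ X₀)
    (U : X₁ ⟶ X₁) (g : R) (h1 : d ≫ h = g • 𝟙 X₀) (h2 : h ≫ d + U = g • 𝟙 X₁) (h3 : d ≫ U = 0)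
    (hrel : (ComplexShape.up ℤ).Rel (-1) 0) :
    (∀ (N : C) (φ : DerivedCategory.Q.obj (HomologicalComplex.double d hrel) ⟶
        ((DerivedCategory.singleFunctor C 0).obj N)⟦(1 : ℤ)⟧), g • φ = 0) ∧
    (U = 0 → g • 𝟙 (DerivedCategory.Q.obj (HomologicalComplex.double d hrel)) = 0) :=
  smul_eq_zero_of_two_term d h U g h1 h2 h3 (HomologicalComplex.double d hrel)
    (HomologicalComplex.doubleXIso₀ d hrel)
    (HomologicalComplex.doubleXIso₁ d hrel (by omega))
    (HomologicalComplex.double_d d hrel (by omega))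
    (fun i hi1 hi0 => HomologicalComplex.isZero_double_X d hrel i hi1 hi0)

end Double

end Groth.Agent.Lib.helper13.JacNL
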