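import Mathlib
import Groth.Agent.Lib.Helper13.JacNL2

/-!
# Two-term complexes: homotopy equivalences from squares; the naive cotangent complex does not
depend on the presentation, in the derived category (helper13)
-/

set_option autoImplicit false
universe w v u
open CategoryTheory CategoryTheory.Limits HomologicalComplex

namespace Groth.Agent.Lib.helper13.CotLoc

section Double

variable {C : Type u} [Category.{v} C] [Abelian C]

/-- the chain map between two-term complexes induced by a commutative square -/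
noncomputable def doubleMap {X₀ X₁ Y₀ Y₁ : C} (d : X₀ ⟶ X₁) (d' : Y₀ ⟶ Y₁) (α₀ : X₀ ⟶ Y₀)
    (α₁ : X₁ ⟶ Y₁) (comm : α₀ ≫ d' = d ≫ α₁) (hrel : (ComplexShape.up ℤ).Rel (-1) 0) :
    double d hrel ⟶ double d' hrel :=
  mkHomFromDouble hrel (by omega) (α₀ ≫ (doubleXIso₀ d' hrel).inv)
    (α₁ ≫ (doubleXIso₁ d' hrel (by omega)).inv)
    (by rw [double_d d' hrel (by omega)]; simp [reassoc_of% comm])
    (fun k _ => by rw [double_d_eq_zero₀ d' hrel 0 k (by omega), comp_zero])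

@[simp]
lemma doubleMap_f₀ {X₀ X₁ Y₀ Y₁ : C} (d : X₀ ⟶ X₁) (d' : Y₀ ⟶ Y₁) (α₀ : X₀ ⟶ Y₀)
    (α₁ : X₁ ⟶ Y₁) (comm : α₀ ≫ d' = d ≫ α₁) (hrel : (ComplexShape.up ℤ).Rel (-1) 0) :
    (doubleMap d d' α₀ α₁ comm hrel).f (-1) =
      (doubleXIso₀ d hrel).hom ≫ α₀ ≫ (doubleXIso₀ d' hrel).inv := by
  simp [doubleMap]

@[simp]
lemma doubleMap_f₁ {X₀ X₁ Y₀ Y₁ : C} (d : X₀ ⟶ X₁) (d' : Y₀ ⟶ Y₁) (α₀ : X₀ ⟶ Y₀)
    (α₁ : X₁ ⟶ Y₁) (comm : α₀ ≫ d' = d ≫ α₁) (hrel : (ComplexShape.up ℤ).Rel (-1) 0) :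
    (doubleMap d d' α₀ α₁ comm hrel).f 0 =
      (doubleXIso₁ d hrel (by omega)).hom ≫ α₁ ≫ (doubleXIso₁ d' hrel (by omega)).inv := by
  simp [doubleMap]

/-- a homotopy between `doubleMap α ≫ doubleMap β` and the identity -/
theorem nonempty_homotopy_doubleMap {X₀ X₁ Y₀ Y₁ : C} (d : X₀ ⟶ X₁) (d' : Y₀ ⟶ Y₁)
    (α₀ : X₀ ⟶ Y₀) (α₁ : X₁ ⟶ Y₁) (comm : α₀ ≫ d' = d ≫ α₁)
    (β₀ : Y₀ ⟶ X₀) (β₁ : Y₁ ⟶ X₁) (comm' : β₀ ≫ d = d' ≫ β₁)
    (s : X₁ ⟶ X₀) (h0 : α₀ ≫ β₀ = d ≫ s + 𝟙 X₀) (h1 : α₁ ≫ β₁ = s ≫ d + 𝟙 X₁)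
    (hrel : (ComplexShape.up ℤ).Rel (-1) 0) :
    Nonempty (Homotopy (doubleMap d d' α₀ α₁ comm hrel ≫ doubleMap d' d β₀ β₁ comm' hrel)
      (𝟙 (double d hrel))) := by
  apply Groth.Agent.Lib.helper13.JacNL.nonempty_homotopy_of_two_term (double d hrel)
    (fun i hi1 hi0 => isZero_double_X d hrel i hi1 hi0) _ _
    ((doubleXIso₁ d hrel (by omega)).hom ≫ s ≫ (doubleXIso₀ d hrel).inv)
  · rw [comp_f, doubleMap_f₀, doubleMap_f₀, double_d d hrel (by omega), id_f]
    simp only [Category.assoc, Iso.inv_hom_id_assoc]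
    rw [reassoc_of% h0]
    simp [Preadditive.add_comp, Preadditive.comp_add]
  · rw [comp_f, doubleMap_f₁, doubleMap_f₁, double_d d hrel (by omega), id_f]
    simp only [Category.assoc, Iso.inv_hom_id_assoc]
    rw [reassoc_of% h1]
    simp [Preadditive.add_comp, Preadditive.comp_add]

variable [HasDerivedCategory.{w} C]

/-- two two-term complexes related by a homotopy equivalence are isomorphic in the derived
category -/
theorem nonempty_iso_double {X₀ X₁ Y₀ Y₁ : C} (d : X₀ ⟶ X₁) (d' : Y₀ ⟶ Y₁)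
    (α₀ : X₀ ⟶ Y₀) (α₁ : X₁ ⟶ Y₁) (comm : α₀ ≫ d' = d ≫ α₁)
    (β₀ : Y₀ ⟶ X₀) (β₁ : Y₁ ⟶ X₁) (comm' : β₀ ≫ d = d' ≫ β₁)
    (s : X₁ ⟶ X₀) (h0 : α₀ ≫ β₀ = d ≫ s + 𝟙 X₀) (h1 : α₁ ≫ β₁ = s ≫ d + 𝟙 X₁)
    (t : Y₁ ⟶ Y₀) (h0' : β₀ ≫ α₀ = d' ≫ t + 𝟙 Y₀) (h1' : β₁ ≫ α₁ = t ≫ d' + 𝟙 Y₁)
    (hrel : (ComplexShape.up ℤ).Rel (-1) 0) :
    Nonempty (DerivedCategory.Q.obj (double d hrel) ≅ DerivedCategory.Q.obj (double d' hrel)) := by
  obtain ⟨H⟩ := nonempty_homotopy_doubleMap d d' α₀ α₁ comm β₀ β₁ comm' s h0 h1 hrel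
  obtain ⟨H'⟩ := nonempty_homotopy_doubleMap d' d β₀ β₁ comm' α₀ α₁ comm t h0' h1' hrel
  refine ⟨⟨DerivedCategory.Q.map (doubleMap d d' α₀ α₁ comm hrel),
    DerivedCategory.Q.map (doubleMap d' d β₀ β₁ comm' hrel), ?_, ?_⟩⟩
  · rw [← Functor.map_comp, DerivedCategory.Q_map_eq_of_homotopy C H,
      CategoryTheory.Functor.map_id]
  · rw [← Functor.map_comp, DerivedCategory.Q_map_eq_of_homotopy C H',
      CategoryTheory.Functor.map_id]

end Double

section NL

open Algebra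

variable {A B : Type u} [CommRing A] [CommRing B] [Algebra A B]

/-- the naive cotangent complexes of two presentations are isomorphic in `D(B)` -/
theorem nonempty_iso_cotangentComplex {ι : Type u} {ι' : Type} (G : Generators A B ι)
    (G' : Generators A B ι') (hrel : (ComplexShape.up ℤ).Rel (-1) 0) :
    Nonempty
      (letI := HasDerivedCategory.standard (ModuleCat.{u} B)
       DerivedCategory.Q.obj (double (ModuleCat.ofHom G.toExtension.cotangentComplex) hrel) ≅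
        DerivedCategory.Q.obj (double (ModuleCat.ofHom G'.toExtension.cotangentComplex) hrel)) := by
  letI := HasDerivedCategory.standard (ModuleCat.{u} B)
  let φ₁ : G.toExtension.Hom G'.toExtension := (G.defaultHom G').toExtensionHom
  let φ₂ : G'.toExtension.Hom G.toExtension := (G'.defaultHom G).toExtensionHom
  let k : G.toExtension.CotangentSpace →ₗ[B] G.toExtension.Cotangent :=
    (φ₂.comp φ₁).sub (Extension.Hom.id _)
  let k' : G'.toExtension.CotangentSpace →ₗ[B] G'.toExtension.Cotangent :=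
    (φ₁.comp φ₂).sub (Extension.Hom.id _)
  refine nonempty_iso_double _ _
    (ModuleCat.ofHom (Extension.Cotangent.map φ₁)) (ModuleCat.ofHom (Extension.CotangentSpace.map φ₁))
    ?_ (ModuleCat.ofHom (Extension.Cotangent.map φ₂))
    (ModuleCat.ofHom (Extension.CotangentSpace.map φ₂)) ?_
    (ModuleCat.ofHom k) ?_ ?_ (ModuleCat.ofHom k') ?_ ?_ hrel
  · refine ModuleCat.hom_ext (LinearMap.ext (fun y => ?_))
    exact (Extension.CotangentSpace.map_cotangentComplex φ₁ y).symm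
  · refine ModuleCat.hom_ext (LinearMap.ext (fun y => ?_))
    exact (Extension.CotangentSpace.map_cotangentComplex φ₂ y).symm
  · refine ModuleCat.hom_ext (LinearMap.ext (fun y => ?_))
    have h := LinearMap.congr_fun (Extension.Cotangent.map_sub_map
      (φ₂.comp φ₁) (Extension.Hom.id G.toExtension)) y
    rw [Extension.Cotangent.map_comp, Extension.Cotangent.map_id] at h
    change Extension.Cotangent.map φ₂ (Extension.Cotangent.map φ₁ y) =
      k (G.toExtension.cotangentComplex y) + y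
    rw [← sub_eq_iff_eq_add]
    exact h
  · refine ModuleCat.hom_ext (LinearMap.ext (fun y => ?_))
    have h := LinearMap.congr_fun (Extension.CotangentSpace.map_sub_map
      (φ₂.comp φ₁) (Extension.Hom.id G.toExtension)) y
    rw [Extension.CotangentSpace.map_comp, Extension.CotangentSpace.map_id] at h
    change Extension.CotangentSpace.map φ₂ (Extension.CotangentSpace.map φ₁ y) =
      G.toExtension.cotangentComplex (k y) + y
    rw [← sub_eq_iff_eq_add]
    exact h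
  · refine ModuleCat.hom_ext (LinearMap.ext (fun y => ?_))
    have h := LinearMap.congr_fun (Extension.Cotangent.map_sub_map
      (φ₁.comp φ₂) (Extension.Hom.id G'.toExtension)) y
    rw [Extension.Cotangent.map_comp, Extension.Cotangent.map_id] at h
    change Extension.Cotangent.map φ₁ (Extension.Cotangent.map φ₂ y) =
      k' (G'.toExtension.cotangentComplex y) + y
    rw [← sub_eq_iff_eq_add]
    exact h
  · refine ModuleCat.hom_ext (LinearMap.ext (fun y => ?_))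
    have h := LinearMap.congr_fun (Extension.CotangentSpace.map_sub_map
      (φ₁.comp φ₂) (Extension.Hom.id G'.toExtension)) y
    rw [Extension.CotangentSpace.map_comp, Extension.CotangentSpace.map_id] at h
    change Extension.CotangentSpace.map φ₁ (Extension.CotangentSpace.map φ₂ y) =
      G'.toExtension.cotangentComplex (k' y) + y
    rw [← sub_eq_iff_eq_add]
    exact h

end NL

end Groth.Agent.Lib.helper13.CotLoc
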