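import Mathlib
import Groth.Prelude.Def_LCI2
import Groth.Agent.Lib.Helper13.CotLoc2
import Groth.Agent.Lib.Helper13.CotLoc3

/-!
# The naive cotangent complex of a local complete intersection ring map (helper13)
-/

set_option autoImplicit false
universe u
open CategoryTheory CategoryTheory.Limits HomologicalComplex Algebra

namespace Groth.Agent.Lib.helper13.CotLoc

variable {A B : Type u} [CommRing A] [CommRing B] [Algebra A B]

/-- the conormal module of a presentation with Koszul-regular kernel is finite projective over
the target -/
theorem finite_projective_cotangent_extension (E : Extension.{u} A B)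
    (hK : LCI.IsKoszulRegularIdeal E.ker) :
    Module.Finite B E.Cotangent ∧ Module.Projective B E.Cotangent := by
  obtain ⟨hfin, hproj⟩ := finite_projective_cotangent E.ker hK
  let e₁ : (E.Ring ⧸ E.ker) ≃+* B :=
    RingHom.quotientKerEquivOfSurjective (f := algebraMap E.Ring B) E.algebraMap_surjective
  letI : RingHomInvPair e₁.toRingHom e₁.symm.toRingHom := RingHomInvPair.of_ringEquiv e₁
  letI : RingHomInvPair e₁.symm.toRingHom e₁.toRingHom := RingHomInvPair.of_ringEquiv e₁.symm
  let e₂ : E.ker.Cotangent ≃ₛₗ[e₁.toRingHom] E.Cotangent :=
    { toFun := Extension.Cotangent.of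
      invFun := Extension.Cotangent.val
      map_add' := fun _ _ => rfl
      map_smul' := fun q x => by
        obtain ⟨p, rfl⟩ := Ideal.Quotient.mk_surjective q
        apply Extension.Cotangent.ext
        change (Ideal.Quotient.mk E.ker p) • x =
          ((algebraMap E.Ring B p) • Extension.Cotangent.of x).val
        rw [algebraMap_smul, Extension.Cotangent.val_smul']
        rfl
      left_inv := fun _ => rfl
      right_inv := fun _ => rfl }
  exact ⟨Module.Finite.of_surjective e₂.toLinearMap e₂.surjective, Module.Projective.of_equiv e₂⟩

end Groth.Agent.Lib.helper13.CotLoc
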