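import Mathlib
import Groth.Prelude.Def_W4c3irrattreebunCvg

/-!
# Covering diagrams and the field of constants (shared by S16310 / S16311)
-/

set_option autoImplicit false
universe u

namespace Groth.Agent.Lib.helper13

open W4c3irrattreebun

theorem nat_sInf_eq_of {S T : Set ℕ} (h1 : T ⊆ S) (h2 : ∀ e ∈ S, ∃ e' ∈ T, e' ≤ e) :
    sInf S = sInf T := by
  rcases S.eq_empty_or_nonempty with hS | hS
  · have hT : T = ∅ := Set.subset_eq_empty h1 hS
    rw [hS, hT]
  · have hm : sInf S ∈ S := Nat.sInf_mem hS
    obtain ⟨e', he'T, he'⟩ := h2 _ hm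
    have hT : T.Nonempty := ⟨e', he'T⟩
    have hm' : sInf T ∈ T := Nat.sInf_mem hT
    exact le_antisymm (Nat.sInf_le (h1 hm')) ((Nat.sInf_le he'T).trans he')

section

variable {k K : Type u} [Field k] [Field K] [Algebra k K]

/-- Restrict a covering diagram over an intermediate field `k'` to one over `k`. -/
noncomputable def cd_restrict (k' : IntermediateField k K) {e : ℕ} (D : CovDiag.{u} k' K e) :
    CovDiag.{u} k K e :=
  letI algkC : Algebra k D.KC := ((algebraMap K D.KC).comp (algebraMap k K)).toAlgebra
  haveI towerK : IsScalarTower k K D.KC := IsScalarTower.of_algebraMap_eq (fun _ => rfl)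
  letI algkB : Algebra k D.KB := ((algebraMap k' D.KB).comp (algebraMap k k')).toAlgebra
  haveI towerB : IsScalarTower k D.KB D.KC := IsScalarTower.of_algebraMap_eq (fun x => by
    change algebraMap K D.KC (algebraMap k K x) =
      algebraMap D.KB D.KC (algebraMap k' D.KB (algebraMap k k' x))
    have h1 : ∀ y : k', @algebraMap k' D.KC _ _ D.algkC y =
        algebraMap D.KB D.KC (algebraMap k' D.KB y) := fun y =>
      @IsScalarTower.algebraMap_apply k' D.KB D.KC _ _ _ D.algkB D.algBC D.algkC D.towerB y
    have h2 : ∀ y : k', @algebraMap k' D.KC _ _ D.algkC y =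
        algebraMap K D.KC (algebraMap k' K y) := fun y =>
      @IsScalarTower.algebraMap_apply k' K D.KC _ _ _ _ D.algKC D.algkC D.towerK y
    rw [← h1, h2]
    rfl)
  { KC := D.KC
    KB := D.KB
    t := D.t
    transc := D.transc
    finiteT := D.finiteT
    finrank_eq := D.finrank_eq }

theorem cd_restrict_KC (k' : IntermediateField k K) {e : ℕ} (D : CovDiag.{u} k' K e) :
    (cd_restrict k' D).KC = D.KC := rfl

/-- The degree of the extended diagram. -/
noncomputable def cd_extDeg {e : ℕ} (D : CovDiag.{u} k K e) : ℕ :=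
  Module.finrank (IntermediateField.adjoin (algebraicClosure D.KB D.KC) ({D.t} : Set D.KC)) D.KC

theorem cd_adjoin_le {e : ℕ} (D : CovDiag.{u} k K e) (x : D.KC)
    (hx : x ∈ IntermediateField.adjoin D.KB ({D.t} : Set D.KC)) :
    x ∈ IntermediateField.adjoin (algebraicClosure D.KB D.KC) ({D.t} : Set D.KC) := by
  have h : IntermediateField.adjoin D.KB ({D.t} : Set D.KC) ≤
      (IntermediateField.adjoin (algebraicClosure D.KB D.KC) ({D.t} : Set D.KC)).restrictScalars
        D.KB := by
    rw [IntermediateField.adjoin_le_iff]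
    rintro y rfl
    exact IntermediateField.mem_adjoin_simple_self _ _
  exact h hx

/-- The inclusion `KB(t) → KB'(t)`. -/
noncomputable def cd_incl {e : ℕ} (D : CovDiag.{u} k K e) :
    IntermediateField.adjoin D.KB ({D.t} : Set D.KC) →+*
      IntermediateField.adjoin (algebraicClosure D.KB D.KC) ({D.t} : Set D.KC) where
  toFun x := ⟨x.1, cd_adjoin_le D x.1 x.2⟩
  map_one' := rfl
  map_mul' _ _ := rfl
  map_zero' := rfl
  map_add' _ _ := rfl

theorem cd_finite_ext {e : ℕ} (D : CovDiag.{u} k K e) :
    Module.Finite (IntermediateField.adjoin (algebraicClosure D.KB D.KC) ({D.t} : Set D.KC))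
      D.KC := by
  letI := (cd_incl D).toAlgebra
  haveI : IsScalarTower (IntermediateField.adjoin D.KB ({D.t} : Set D.KC))
      (IntermediateField.adjoin (algebraicClosure D.KB D.KC) ({D.t} : Set D.KC)) D.KC :=
    IsScalarTower.of_algebraMap_eq (fun _ => rfl)
  exact Module.Finite.of_restrictScalars_finite (IntermediateField.adjoin D.KB ({D.t} : Set D.KC))
    _ D.KC

theorem cd_extDeg_le {e : ℕ} (D : CovDiag.{u} k K e) : cd_extDeg D ≤ e := by
  letI := (cd_incl D).toAlgebra
  haveI : IsScalarTower (IntermediateField.adjoin D.KB ({D.t} : Set D.KC))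
      (IntermediateField.adjoin (algebraicClosure D.KB D.KC) ({D.t} : Set D.KC)) D.KC :=
    IsScalarTower.of_algebraMap_eq (fun _ => rfl)
  have h := D.finrank_eq
  have := D.finiteT
  calc cd_extDeg D ≤ Module.finrank (IntermediateField.adjoin D.KB ({D.t} : Set D.KC)) D.KC :=
        Module.finrank_top_le_finrank_of_isScalarTower _ _ _
    _ = e := h

theorem cd_mem_algClosure {e : ℕ} (D : CovDiag.{u} k K e) (x : algebraicClosure k K) :
    algebraMap K D.KC (x : K) ∈ algebraicClosure D.KB D.KC := by
  rw [mem_algebraicClosure_iff]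
  have h1 : IsAlgebraic k (x : K) := mem_algebraicClosure_iff.mp x.2
  have h2 : IsAlgebraic k (algebraMap K D.KC (x : K)) := h1.algebraMap
  exact h2.tower_top D.KB

theorem cd_transc_ext {e : ℕ} (D : CovDiag.{u} k K e) :
    Transcendental (algebraicClosure D.KB D.KC) D.t := by
  intro h
  exact D.transc (h.restrictScalars D.KB)

/-- Extend a covering diagram over `k` to one over the field of constants. -/
noncomputable def cd_extend {e : ℕ} (D : CovDiag.{u} k K e) :
    CovDiag.{u} (algebraicClosure k K) K (cd_extDeg D) :=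
  letI algkB' : Algebra (algebraicClosure k K) (algebraicClosure D.KB D.KC) :=
    (RingHom.codRestrict ((algebraMap K D.KC).comp (algebraMap (algebraicClosure k K) K))
      (algebraicClosure D.KB D.KC) (fun x => cd_mem_algClosure D x)).toAlgebra
  haveI towerB' : IsScalarTower (algebraicClosure k K) (algebraicClosure D.KB D.KC) D.KC :=
    IsScalarTower.of_algebraMap_eq (fun _ => rfl)
  { KC := D.KC
    KB := algebraicClosure D.KB D.KC
    t := D.t
    transc := (cd_transc_ext D)
    finiteT := (cd_finite_ext D)
    finrank_eq := rfl }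

theorem cd_extend_KC {e : ℕ} (D : CovDiag.{u} k K e) : (cd_extend D).KC = D.KC := rfl

end

end Groth.Agent.Lib.helper13
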