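import Mathlib
import Groth.Agent.Lib.Helper25.RpushAcyc
import Groth.Agent.Lib.Lead.GrothVanish
import Groth.Agent.Lib.Helper11.S0002T3

/-!
# `Rf_*` has cohomological amplitude `≤ dim X` on `D_QCoh` over an affine base (helper13)

* `isZero_rpush_of_dim_le`: `f : X ⟶ S` quasi-compact separated, `S` affine, `dim X ≤ d`: `R^p f_* M = 0` for `p > d`,
  `M` quasi-coherent (Grothendieck vanishing, lead's `GrothVanish`).
* `isZero_HD_Rpush_of_bound`, `isLE_Rpush_of_bound`: if `R^p f_*` vanishes on `QCoh` for `p > N` then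
  `Rf_*` maps `D_QCoh^{≤ m}` to `D^{≤ m + N}` (helper25's `main_of_bound`, with the explicit bound).
* `isLE_Rpush_of_dim_le`: the combination.
-/

set_option autoImplicit false
universe u
open CategoryTheory CategoryTheory.Limits AlgebraicGeometry Pretriangulated
attribute [local instance] HasDerivedCategory.standard

namespace Groth.Agent.Lib.helper13.CurveDual

open AlgebraicGeometry.Scheme.Modules DerivedCategory
open Groth.Agent.S1007 (QC)

/-- Grothendieck vanishing for higher direct images over an affine base -/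
theorem isZero_rpush_of_dim_le {X S : Scheme.{u}} (f : X ⟶ S) [IsAffine S] [QuasiCompact f]
    [IsSeparated f] (d : ℕ) (hd : topologicalKrullDim X ≤ d) (M : X.Modules)
    (hM : M.IsQuasicoherent) (p : ℕ) (hp : d < p) :
    IsZero ((Coh.Rpush f p).obj M) := by
  haveI : M.IsQuasicoherent := hM
  haveI : CompactSpace X := QuasiCompact.compactSpace_of_compactSpace f
  haveI : X.IsSeparated := by
    refine ⟨?_⟩
    rw [← terminal.comp_from f]
    infer_instance
  haveI : QuasiSeparatedSpace X := inferInstance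
  refine Groth.Agent.Lib.helper11.RpushAbBridge.isZero_rpush_of_isZero_rpushAb f p M ?_
  refine Groth.Agent.Lib.helper11.S0002T3.isZero_RpushAb_of_affine_cover_HU f M p fun z => ?_
  refine ⟨⊤, isAffineOpen_top S, trivial, ?_⟩
  have h1 : Subsingleton (Coh.HH X M p) :=
    Groth.Agent.Lib.Lead.GrothVanish.subsingleton_HH_of_dim_le X d hd M p hp
  have e1 : CohTop.HU (Coh.toAb M) p ⊤ ≃+ Coh.HH X M p :=
    Groth.Agent.Lib.helper27.SerreVan.HEquivHU (Coh.toAb M) p
  have h2 : f ⁻¹ᵁ (⊤ : S.Opens) = ⊤ := rfl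
  rw [h2]
  exact e1.toEquiv.subsingleton

/-- explicit uniform bound: `H^k(Rf_* E) = 0` for `k > N`, `E ∈ D_QCoh^{≤ 0}` -/
theorem isZero_HD_Rpush_of_bound₀ {X S : Scheme.{u}} (f : X ⟶ S) [QuasiCompact f]
    [QuasiSeparated f] [DCoh.HasRpush f] (N : ℕ)
    (hN : ∀ (M : X.Modules), M.IsQuasicoherent → ∀ p : ℕ, N < p → IsZero ((Coh.Rpush f p).obj M))
    (E : DCoh.D X) (hE : DCoh.IsQCohD E) (hLE : E.IsLE 0) (m : ℤ) (hm : (N : ℤ) < m) :
    IsZero (DCoh.HD ((DCoh.Rpush f).obj E) m) := by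
  have h := Groth.Agent.Lib.Helper25.RpushQC3.main_of_bound f N hN
  have hiso : IsIso ((DerivedCategory.homologyFunctor S.Modules m).map
      ((DCoh.Rpush f).map ((DerivedCategory.TStructure.t.truncGEπ 0).app E))) := by
    have h00 : (-((0 : ℕ) : ℤ)) = 0 := by simp
    have := (h E hE).2 0 m (by simp; omega)
    rw [h00] at this
    exact this
  let t : Triangulated.TStructure (DCoh.D X) := DerivedCategory.TStructure.t
  have hGE : ((t.truncGE 0).obj E).IsGE 0 := by
    change t.IsGE ((t.truncGE 0).obj E) 0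
    infer_instance
  have hLE' : ((t.truncGE 0).obj E).IsLE 0 := by
    haveI : t.IsLE E 0 := hLE
    change t.IsLE ((t.truncGE 0).obj E) 0
    infer_instance
  obtain ⟨A, ⟨eA⟩⟩ := DerivedCategory.exists_iso_singleFunctor_obj_of_isGE_of_isLE
    ((t.truncGE 0).obj E) 0
  have hA : A.IsQuasicoherent := by
    have hi0 := Groth.Agent.H1.TruncCoh.isIso_homology_truncGEπ E 0 0 le_rfl
    have e0 : (DerivedCategory.homologyFunctor X.Modules 0).obj E ≅ A :=
      @asIso _ _ _ _ _ hi0 ≪≫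
      (DerivedCategory.homologyFunctor X.Modules 0).mapIso eA ≪≫
        (DerivedCategory.singleFunctorCompHomologyFunctorIso X.Modules 0).app A
    exact Groth.Agent.S1007.QC_iso X e0 (hE 0)
  obtain ⟨p, rfl⟩ : ∃ p : ℕ, m = (p : ℤ) := ⟨m.toNat, by omega⟩
  haveI : HasInjectiveResolutions (ModSite.Mod X.sheaf) :=
    Groth.Agent.Lib.helper21.ModOpenBC.hasInjectiveResolutions_modules X
  haveI : SiteCmp.HasRpushD (ModSite.RMor.ofScheme f) := ‹DCoh.HasRpush f›
  obtain ⟨e1⟩ := Groth.Agent.H1.PushLoc.nonempty_homology_rpush_single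
    (ModSite.RMor.ofScheme f) A p
  have hz : IsZero ((Coh.Rpush f p).obj A) := hN A hA p (by omega)
  have hz2 : IsZero ((DerivedCategory.homologyFunctor S.Modules (p : ℤ)).obj
      ((DCoh.Rpush f).obj ((t.truncGE 0).obj E))) :=
    IsZero.of_iso hz ((DerivedCategory.homologyFunctor S.Modules (p : ℤ)).mapIso
      ((DCoh.Rpush f).mapIso eA) ≪≫ e1)
  exact IsZero.of_iso hz2 (@asIso _ _ _ _ _ hiso)

/-- explicit uniform bound: `H^k(Rf_* E) = 0` for `k > N + m`, `E ∈ D_QCoh^{≤ m}` -/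
theorem isZero_HD_Rpush_of_bound {X S : Scheme.{u}} (f : X ⟶ S) [QuasiCompact f]
    [QuasiSeparated f] [DCoh.HasRpush f] (N : ℕ)
    (hN : ∀ (M : X.Modules), M.IsQuasicoherent → ∀ p : ℕ, N < p → IsZero ((Coh.Rpush f p).obj M))
    (E : DCoh.D X) (hE : DCoh.IsQCohD E) (m : ℤ) (hm : E.IsLE m) (k : ℤ) (hk : m + N < k) :
    IsZero (DCoh.HD ((DCoh.Rpush f).obj E) k) := by
  haveI : HasInjectiveResolutions (ModSite.Mod X.sheaf) :=
    Groth.Agent.Lib.helper21.ModOpenBC.hasInjectiveResolutions_modules X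
  haveI : SiteCmp.HasRpushD (ModSite.RMor.ofScheme f) := ‹DCoh.HasRpush f›
  have hEm : DCoh.IsQCohD (E⟦m⟧) := Groth.Agent.H1.WSerreTri.cohIn_shift (P := QC X) m hE
  have hLE : (E⟦m⟧).IsLE 0 := by
    haveI : (TStructure.t : Triangulated.TStructure (DCoh.D X)).IsLE E m := hm
    exact (TStructure.t : Triangulated.TStructure (DCoh.D X)).isLE_shift E m m 0 (by omega)
  have hz := isZero_HD_Rpush_of_bound₀ f N hN (E⟦m⟧) hEm hLE (k - m) (by omega)
  obtain ⟨es⟩ := Groth.Agent.H1.PushLoc.nonempty_rpush_shift_iso (ModSite.RMor.ofScheme f) E m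
  have hz2 : IsZero (DCoh.HD (((DCoh.Rpush f).obj E)⟦m⟧) (k - m)) :=
    IsZero.of_iso hz ((homologyFunctor S.Modules (k - m)).mapIso es.symm)
  exact IsZero.of_iso hz2
    (((homologyFunctor S.Modules 0).shiftIso m (k - m) k (by omega)).app _).symm

/-- `Rf_*` maps `D_QCoh^{≤ m}` into `D^{≤ m + N}` -/
theorem isLE_Rpush_of_bound {X S : Scheme.{u}} (f : X ⟶ S) [QuasiCompact f]
    [QuasiSeparated f] [DCoh.HasRpush f] (N : ℕ)
    (hN : ∀ (M : X.Modules), M.IsQuasicoherent → ∀ p : ℕ, N < p → IsZero ((Coh.Rpush f p).obj M))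
    (E : DCoh.D X) (hE : DCoh.IsQCohD E) (m : ℤ) (hm : E.IsLE m) :
    ((DCoh.Rpush f).obj E).IsLE (m + N) := by
  rw [DerivedCategory.isLE_iff]
  intro i hi
  exact isZero_HD_Rpush_of_bound f N hN E hE m hm i hi

/-- for `f : X ⟶ S` quasi-compact separated, `S` affine, `dim X ≤ d`: `Rf_*` maps `D_QCoh^{≤ m}` into `D^{≤ m + d}` -/
theorem isLE_Rpush_of_dim_le {X S : Scheme.{u}} (f : X ⟶ S) [IsAffine S] [QuasiCompact f]
    [IsSeparated f] [DCoh.HasRpush f] (d : ℕ) (hd : topologicalKrullDim X ≤ d)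
    (E : DCoh.D X) (hE : DCoh.IsQCohD E) (m : ℤ) (hm : E.IsLE m) :
    ((DCoh.Rpush f).obj E).IsLE (m + d) :=
  isLE_Rpush_of_bound f d (fun M hM p hp => isZero_rpush_of_dim_le f d hd M hM p hp) E hE m hm

end Groth.Agent.Lib.helper13.CurveDual
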