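import Mathlib
import Groth.Agent.Lib.Helper13.CurveDual1
import Groth.Prelude.Def_DDual2

/-!
# The dualizing complex `a(O_Y)` of a morphism of relative dimension `≤ d` lies in `D^{≥ -d}` (helper13)

* `isGE_dualizingCx`: if `Rf_*` maps `D_QCoh^{≤ m}` into `D^{≤ m + d}` and `OY ∈ D^{≥ 0}` then
  `DCoh.dualizingCx f h OY ∈ D^{≥ -d}`.
* `isGE_dualizingCx_of_dim_le`, `isZero_HD_dualizingCx_of_dim_le`: for `f : X ⟶ S` quasi-compact separated, `S` affine,
  `dim X ≤ d`.
-/

set_option autoImplicit false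
universe u
open CategoryTheory CategoryTheory.Limits AlgebraicGeometry Pretriangulated
attribute [local instance] HasDerivedCategory.standard

namespace Groth.Agent.Lib.helper13.CurveDual

open AlgebraicGeometry.Scheme.Modules DerivedCategory
open Groth.Agent.S1007 (QC)

/-- `τ^{≤ c}` preserves `D_QCoh` -/
theorem isQCohD_truncLE {X : Scheme.{u}} (K : DCoh.D X) (hK : DCoh.IsQCohD K) (c : ℤ) :
    DCoh.IsQCohD ((TStructure.t.truncLE c).obj K) := by
  intro i
  by_cases hi : i ≤ c
  · have := Groth.Agent.H1.WayOutCoh.isIso_homology_truncLEι K c i hi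
    exact Groth.Agent.S1007.QC_iso X
      (asIso ((homologyFunctor X.Modules i).map ((TStructure.t.truncLEι c).app K))).symm (hK i)
  · exact Groth.Agent.Lib.helper7.CohKer.isQuasicoherent_of_isZero (X := X)
      (isZero_of_isLE _ c i (by omega))

/-- `τ^{≥ c}` preserves `D_QCoh` -/
theorem isQCohD_truncGE {X : Scheme.{u}} (K : DCoh.D X) (hK : DCoh.IsQCohD K) (c : ℤ) :
    DCoh.IsQCohD ((TStructure.t.truncGE c).obj K) := by
  intro i
  by_cases hi : c ≤ i
  · have := Groth.Agent.H1.TruncCoh.isIso_homology_truncGEπ K c i hi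
    exact Groth.Agent.S1007.QC_iso X
      (asIso ((homologyFunctor X.Modules i).map ((TStructure.t.truncGEπ c).app K))) (hK i)
  · exact Groth.Agent.Lib.helper7.CohKer.isQuasicoherent_of_isZero (X := X)
      (isZero_of_isGE _ c i (by omega))

theorem isGE_dualizingCx {X Y : Scheme.{u}} (f : X ⟶ Y) [DCoh.HasRpush f]
    (h : DCoh.RpushPreservesQCoh f) [DCoh.HasShriek f h] (OY : DCoh.DQCoh Y)
    (hOY : OY.obj.IsGE 0) (d : ℕ)
    (hb : ∀ (E : DCoh.D X), DCoh.IsQCohD E → ∀ m : ℤ, E.IsLE m →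
      ((DCoh.Rpush f).obj E).IsLE (m + d)) :
    (DCoh.dualizingCx f h OY).IsGE (-(d : ℤ)) := by
  let t : Triangulated.TStructure (DCoh.D X) := DerivedCategory.TStructure.t
  let tY : Triangulated.TStructure (DCoh.D Y) := DerivedCategory.TStructure.t
  let K' := (DCoh.shriek f h).obj OY
  let K : DCoh.D X := K'.obj
  let n : ℤ := -(d : ℤ) - 1
  let T : DCoh.D X := (t.truncLE n).obj K
  have hT : DCoh.IsQCohD T := isQCohD_truncLE K K'.property n
  let T' : DCoh.DQCoh X := ⟨T, hT⟩
  let ι : T' ⟶ K' := ObjectProperty.homMk ((t.truncLEι n).app K)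
  have hTLE : T.IsLE n := by
    change t.IsLE ((t.truncLE n).obj K) n
    infer_instance
  have hRLE : ((DCoh.Rpush f).obj T).IsLE (-1) := by
    have := hb T hT n hTLE
    have e : n + (d : ℤ) = -1 := by simp only [n]; omega
    rw [e] at this
    exact this
  have hsub : Subsingleton ((DCoh.RpushQ f h).obj T' ⟶ OY) := by
    constructor
    intro a b
    apply ObjectProperty.hom_ext
    haveI : tY.IsLE ((DCoh.Rpush f).obj T) (-1) := hRLE
    haveI : tY.IsGE OY.obj 0 := hOY
    have ha : a.hom = 0 := tY.zero_of_isLE_of_isGE a.hom (-1) 0 (by omega) hRLE hOY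
    have hb' : b.hom = 0 := tY.zero_of_isLE_of_isGE b.hom (-1) 0 (by omega) hRLE hOY
    rw [ha, hb']
  have hsub' : Subsingleton (T' ⟶ K') :=
    ((DCoh.shriekAdj f h).homEquiv T' OY).symm.subsingleton
  have hι : (t.truncLEι n).app K = 0 := by
    have h0 : ι = 0 := Subsingleton.elim _ _
    have := congrArg (fun φ => φ.hom) h0
    exact this
  rw [DerivedCategory.isGE_iff]
  intro i hi
  have hiso := Groth.Agent.H1.WayOutCoh.isIso_homology_truncLEι K n i (by simp only [n]; omega)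
  rw [hι, Functor.map_zero] at hiso
  haveI := hiso
  exact IsZero.of_epi_zero ((homologyFunctor X.Modules i).obj T) _

/-- **(1)** for `f : X ⟶ S` quasi-compact separated over an affine `S`, `dim X ≤ d`: `a(O_S) ∈ D^{≥ -d}` -/
theorem isGE_dualizingCx_of_dim_le {X S : Scheme.{u}} (f : X ⟶ S) [IsAffine S] [QuasiCompact f]
    [IsSeparated f] [DCoh.HasRpush f] (h : DCoh.RpushPreservesQCoh f) [DCoh.HasShriek f h]
    (OS : DCoh.DQCoh S)
    (hOS : Nonempty (OS.obj ≅ DCoh.inD S (Coh.structureModule S)))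
    (d : ℕ) (hd : topologicalKrullDim X ≤ d) :
    (DCoh.dualizingCx f h OS).IsGE (-(d : ℤ)) := by
  obtain ⟨e⟩ := hOS
  have hGE : OS.obj.IsGE 0 := by
    haveI : (DCoh.inD S (Coh.structureModule S)).IsGE 0 := by
      change ((DerivedCategory.singleFunctor S.Modules 0).obj _).IsGE 0
      infer_instance
    exact (TStructure.t : Triangulated.TStructure (DCoh.D S)).isGE_of_iso e.symm 0
  exact isGE_dualizingCx f h OS hGE d
    (fun E hE m hm => isLE_Rpush_of_dim_le f d hd E hE m hm)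

/-- **(1)**, cohomology sheaves: `H^i(a(O_S)) = 0` for `i < -d` -/
theorem isZero_HD_dualizingCx_of_dim_le {X S : Scheme.{u}} (f : X ⟶ S) [IsAffine S]
    [QuasiCompact f] [IsSeparated f] [DCoh.HasRpush f] (h : DCoh.RpushPreservesQCoh f)
    [DCoh.HasShriek f h] (OS : DCoh.DQCoh S)
    (hOS : Nonempty (OS.obj ≅ DCoh.inD S (Coh.structureModule S)))
    (d : ℕ) (hd : topologicalKrullDim X ≤ d) (i : ℤ) (hi : i < -(d : ℤ)) :
    IsZero (DCoh.HD (DCoh.dualizingCx f h OS) i) := by
  haveI := isGE_dualizingCx_of_dim_le f h OS hOS d hd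
  exact isZero_of_isGE _ (-(d : ℤ)) i hi

/-- **(1)**, dualizing modules: `DCoh.dualizingMod f h OS n = 0` for `n > d` -/
theorem isZero_dualizingMod_of_dim_lt {X S : Scheme.{u}} (f : X ⟶ S) [IsAffine S]
    [QuasiCompact f] [IsSeparated f] [DCoh.HasRpush f] (h : DCoh.RpushPreservesQCoh f)
    [DCoh.HasShriek f h] (OS : DCoh.DQCoh S)
    (hOS : Nonempty (OS.obj ≅ DCoh.inD S (Coh.structureModule S)))
    (d : ℕ) (hd : topologicalKrullDim X ≤ d) (n : ℕ) (hn : d < n) :
    IsZero (DCoh.dualizingMod f h OS n) :=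
  isZero_HD_dualizingCx_of_dim_le f h OS hOS d hd _ (by omega)

end Groth.Agent.Lib.helper13.CurveDual
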