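import Mathlib
import Groth.Agent.Lib.Helper13.CurveDual2
import Groth.Agent.Lib.Helper1.RhoGE

/-!
# `Hom(F, H^{-1}(a(O_Y))) ≃ Hom(Rf_* F[1], O_Y)` (helper13)

For `f : X ⟶ Y` with `Rf_* ⊣ a` on `D_QCoh`, `K = a(OY) ∈ D^{≥ -1}` and `F` quasi-coherent on `X`:
* `adjMap f h OY G : (Rf_* G ⟶ OY) → (G ⟶ K)`, the adjunction bijection on underlying morphisms
  (`adjMap_bijective`, `adjMap_comp`).
* `lam f h OY F hF : (Rf_* (single_{-1} F) ⟶ OY) → (F ⟶ H^{-1}(K))`, bijective when `K ∈ D^{≥ -1}`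
  (`lam_bijective`), natural in `F` (`lam_comp`).
-/

set_option autoImplicit false
universe u
open CategoryTheory CategoryTheory.Limits AlgebraicGeometry Pretriangulated
attribute [local instance] HasDerivedCategory.standard

namespace Groth.Agent.Lib.helper13.CurveDual

open DerivedCategory

/-- single complexes of quasi-coherent modules lie in `D_QCoh` -/
theorem isQCohD_single {X : Scheme.{u}} (F : X.Modules) (hF : F.IsQuasicoherent) (j : ℤ) :
    DCoh.IsQCohD ((singleFunctor X.Modules j).obj F) := by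
  intro i
  by_cases hi : i = j
  · subst hi
    exact Groth.Agent.S1007.QC_iso X
      ((singleFunctorCompHomologyFunctorIso X.Modules i).app F).symm hF
  · rcases lt_or_gt_of_ne hi with h | h
    · exact Groth.Agent.Lib.helper7.CohKer.isQuasicoherent_of_isZero (X := X)
        (isZero_of_isGE _ j i h)
    · exact Groth.Agent.Lib.helper7.CohKer.isQuasicoherent_of_isZero (X := X)
        (isZero_of_isLE _ j i h)

section Adjunction

variable {X Y : Scheme.{u}} (f : X ⟶ Y) [DCoh.HasRpush f] (h : DCoh.RpushPreservesQCoh f)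
  [DCoh.HasShriek f h] (OY : DCoh.DQCoh Y)

/-- the adjunction bijection `Hom(Rf_* G, OY) ≃ Hom(G, a(OY))` on underlying morphisms of `D(O)` -/
noncomputable def adjMap (G : DCoh.DQCoh X) (d : (DCoh.Rpush f).obj G.obj ⟶ OY.obj) :
    G.obj ⟶ DCoh.dualizingCx f h OY :=
  ((DCoh.shriekAdj f h).homEquiv G OY (ObjectProperty.homMk d)).hom

lemma adjMap_bijective (G : DCoh.DQCoh X) : Function.Bijective (adjMap f h OY G) := by
  constructor
  · intro d d' hdd
    have h1 : (DCoh.shriekAdj f h).homEquiv G OY (ObjectProperty.homMk d) =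
        (DCoh.shriekAdj f h).homEquiv G OY (ObjectProperty.homMk d') :=
      ObjectProperty.hom_ext _ hdd
    have h2 := ((DCoh.shriekAdj f h).homEquiv G OY).injective h1
    exact congrArg (fun φ => φ.hom) h2
  · intro σ
    refine ⟨(((DCoh.shriekAdj f h).homEquiv G OY).symm (ObjectProperty.homMk σ)).hom, ?_⟩
    change ((DCoh.shriekAdj f h).homEquiv G OY
      (((DCoh.shriekAdj f h).homEquiv G OY).symm (ObjectProperty.homMk σ))).hom = σ
    rw [Equiv.apply_symm_apply]
    rfl

lemma adjMap_comp {G G' : DCoh.DQCoh X} (φ : G ⟶ G')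
    (d : (DCoh.Rpush f).obj G'.obj ⟶ OY.obj) :
    adjMap f h OY G ((DCoh.Rpush f).map φ.hom ≫ d) = φ.hom ≫ adjMap f h OY G' d := by
  have h1 : (ObjectProperty.homMk ((DCoh.Rpush f).map φ.hom ≫ d) :
      (DCoh.RpushQ f h).obj G ⟶ OY) = (DCoh.RpushQ f h).map φ ≫ ObjectProperty.homMk d :=
    ObjectProperty.hom_ext _ rfl
  unfold adjMap
  rw [h1, Adjunction.homEquiv_naturality_left]
  rfl

end Adjunction

section Lam

variable {X Y : Scheme.{u}} (f : X ⟶ Y) [DCoh.HasRpush f] (h : DCoh.RpushPreservesQCoh f)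
  [DCoh.HasShriek f h] (OY : DCoh.DQCoh Y)

/-- `single_{-1} F` as an object of `D_QCoh` -/
noncomputable def sQ (F : X.Modules) (hF : F.IsQuasicoherent) : DCoh.DQCoh X :=
  ⟨(singleFunctor X.Modules (-1)).obj F, isQCohD_single F hF (-1)⟩

/-- the map `Hom(Rf_* F[1], OY) → Hom(F, H^{-1}(a(OY)))` -/
noncomputable def lam (F : X.Modules) (hF : F.IsQuasicoherent)
    (d : (DCoh.Rpush f).obj ((singleFunctor X.Modules (-1)).obj F) ⟶ OY.obj) :
    F ⟶ DCoh.HD (DCoh.dualizingCx f h OY) (-1) :=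
  Groth.Agent.H1.SingleHom.rho (adjMap f h OY (sQ F hF) d)

lemma lam_bijective (hK : (DCoh.dualizingCx f h OY).IsGE (-1)) (F : X.Modules)
    (hF : F.IsQuasicoherent) : Function.Bijective (lam f h OY F hF) := by
  haveI := hK
  exact (Groth.Agent.H1.RhoGE.rho_bijective_of_isGE F (-1) (DCoh.dualizingCx f h OY)).comp
    (adjMap_bijective f h OY (sQ F hF))

lemma lam_comp {F F' : X.Modules} (hF : F.IsQuasicoherent) (hF' : F'.IsQuasicoherent)
    (g : F ⟶ F')
    (d : (DCoh.Rpush f).obj ((singleFunctor X.Modules (-1)).obj F') ⟶ OY.obj) :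
    lam f h OY F hF ((DCoh.Rpush f).map ((singleFunctor X.Modules (-1)).map g) ≫ d) =
      g ≫ lam f h OY F' hF' d := by
  let φ : sQ F hF ⟶ sQ F' hF' := ObjectProperty.homMk ((singleFunctor X.Modules (-1)).map g)
  have h1 := adjMap_comp f h OY φ d
  unfold lam
  rw [← Groth.Agent.H1.SingleHom.rho_precomp]
  exact congrArg _ h1

end Lam

end Groth.Agent.Lib.helper13.CurveDual
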