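import Mathlib

/-!
# Perfect pairings `Hom(A, O) × Hom(O, A) → End(O)` in preadditive categories (helper13)

For objects `A`, `O` of a preadditive category: `EqHom A O` is the group of additive maps
`ψ : (O ⟶ A) → (O ⟶ O)` with `ψ (a ≫ c) = a ≫ ψ c`; `pair A O : (A ⟶ O) → EqHom A O`, `d ↦ (c ↦ c ≫ d)`;
`Perfect A O`: `pair A O` is bijective.

* `perfect_of_equivs`: transport along compatible bijections of the three Hom groups.
* `perfect_map_iff`: invariance under fully faithful additive functors.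
* `perfect_of_iso`: invariance under isomorphisms.
* `perfect_of_bijective_comp`: transport along `τ : E ⟶ E₀` inducing bijections on `Hom(-, O)` and `Hom(O, -)`.
* `perfect_moduleCat`: in `ModuleCat R`, `Perfect V R`.
-/

set_option autoImplicit false
universe w v v' u u'
open CategoryTheory CategoryTheory.Limits

namespace Groth.Agent.Lib.helper13.CurveDual

section

variable {C : Type u} [Category.{v} C] [Preadditive C]

/-- additive maps `Hom(O, A) → End(O)` commuting with the left action of `End(O)` -/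
def EqHom (A O : C) : Type v :=
  {ψ : (O ⟶ A) →+ (O ⟶ O) // ∀ (a : O ⟶ O) (c : O ⟶ A), ψ (a ≫ c) = a ≫ ψ c}

/-- the pairing map `d ↦ (c ↦ c ≫ d)` -/
def pair (A O : C) (d : A ⟶ O) : EqHom A O :=
  ⟨{ toFun := fun c => c ≫ d
     map_zero' := by simp
     map_add' := fun c c' => by simp }, fun a c => by simp⟩

@[simp] lemma pair_apply (A O : C) (d : A ⟶ O) (c : O ⟶ A) : (pair A O d).1 c = c ≫ d := rfl

lemma EqHom.ext {A O : C} {ψ ψ' : EqHom A O} (h : ∀ c, ψ.1 c = ψ'.1 c) : ψ = ψ' :=
  Subtype.ext (AddMonoidHom.ext h)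

/-- the pairing is perfect -/
def Perfect (A O : C) : Prop := Function.Bijective (pair A O)

variable {C' : Type u'} [Category.{v'} C'] [Preadditive C']

/-- transport of perfectness along compatible bijections -/
theorem perfect_of_equivs {A O : C} {A' O' : C'} (α : (A ⟶ O) ≃ (A' ⟶ O'))
    (β : (O ⟶ A) ≃+ (O' ⟶ A')) (γ : (O ⟶ O) ≃+ (O' ⟶ O'))
    (h1 : ∀ (c : O ⟶ A) (d : A ⟶ O), γ (c ≫ d) = β c ≫ α d)
    (h2 : ∀ (a : O ⟶ O) (c : O ⟶ A), β (a ≫ c) = γ a ≫ β c)
    (h3 : ∀ (a b : O ⟶ O), γ (a ≫ b) = γ a ≫ γ b)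
    (h : Perfect A O) : Perfect A' O' := by
  have h2' : ∀ (a' : O' ⟶ O') (c' : O' ⟶ A'), β.symm (a' ≫ c') = γ.symm a' ≫ β.symm c' := by
    intro a' c'
    apply β.injective
    rw [h2]
    simp
  have h3' : ∀ (a' b' : O' ⟶ O'), γ.symm (a' ≫ b') = γ.symm a' ≫ γ.symm b' := by
    intro a' b'
    apply γ.injective
    rw [h3]
    simp
  constructor
  · intro d d' hdd
    obtain ⟨d, rfl⟩ := α.surjective d
    obtain ⟨d', rfl⟩ := α.surjective d'
    congr 1
    apply h.1
    apply EqHom.ext
    intro c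
    have := congrArg (fun ψ => ψ.1 (β c)) hdd
    simp only [pair_apply] at this ⊢
    rw [← h1, ← h1] at this
    exact γ.injective this
  · intro ψ'
    let ψ : EqHom A O :=
      ⟨(γ.symm.toAddMonoidHom.comp ψ'.1).comp β.toAddMonoidHom, by
        intro a c
        change γ.symm (ψ'.1 (β (a ≫ c))) = a ≫ γ.symm (ψ'.1 (β c))
        rw [h2, ψ'.2, h3']
        simp⟩
    obtain ⟨d, hd⟩ := h.2 ψ
    refine ⟨α d, ?_⟩
    apply EqHom.ext
    intro c'
    obtain ⟨c, rfl⟩ := β.surjective c'
    rw [pair_apply, ← h1]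
    have := congrArg (fun ψ => ψ.1 c) hd
    simp only [pair_apply] at this
    rw [this]
    change γ (γ.symm (ψ'.1 (β c))) = _
    simp

/-- the additive bijection on Hom groups induced by a fully faithful additive functor -/
noncomputable def mapAddEquiv (G : C ⥤ C') [G.Additive] [G.Full] [G.Faithful] (X Y : C) :
    (X ⟶ Y) ≃+ (G.obj X ⟶ G.obj Y) :=
  AddEquiv.ofBijective (G.mapAddHom (X := X) (Y := Y)) ⟨G.map_injective, G.map_surjective⟩

@[simp] lemma mapAddEquiv_apply (G : C ⥤ C') [G.Additive] [G.Full] [G.Faithful] {X Y : C}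
    (f : X ⟶ Y) : mapAddEquiv G X Y f = G.map f := rfl

/-- perfectness is preserved by fully faithful additive functors -/
theorem perfect_map {A O : C} (G : C ⥤ C') [G.Additive] [G.Full] [G.Faithful]
    (h : Perfect A O) : Perfect (G.obj A) (G.obj O) := by
  refine perfect_of_equivs (mapAddEquiv G A O).toEquiv (mapAddEquiv G O A)
    (mapAddEquiv G O O) ?_ ?_ ?_ h
  · intro c d
    simp
  · intro a c
    simp
  · intro a b
    simp

/-- perfectness is invariant under isomorphisms -/
theorem perfect_of_iso {A O A' O' : C} (eA : A ≅ A') (eO : O ≅ O') (h : Perfect A O) :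
    Perfect A' O' := by
  let α : (A ⟶ O) ≃ (A' ⟶ O') :=
    { toFun := fun d => eA.inv ≫ d ≫ eO.hom
      invFun := fun d' => eA.hom ≫ d' ≫ eO.inv
      left_inv := fun d => by simp
      right_inv := fun d' => by simp }
  let β : (O ⟶ A) ≃+ (O' ⟶ A') :=
    { toFun := fun c => eO.inv ≫ c ≫ eA.hom
      invFun := fun c' => eO.hom ≫ c' ≫ eA.inv
      left_inv := fun c => by simp
      right_inv := fun c' => by simp
      map_add' := fun c c' => by simp }
  let γ : (O ⟶ O) ≃+ (O' ⟶ O') :=
    { toFun := fun c => eO.inv ≫ c ≫ eO.hom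
      invFun := fun c' => eO.hom ≫ c' ≫ eO.inv
      left_inv := fun c => by simp
      right_inv := fun c' => by simp
      map_add' := fun c c' => by simp }
  refine perfect_of_equivs α β γ ?_ ?_ ?_ h
  · intro c d
    change eO.inv ≫ (c ≫ d) ≫ eO.hom = (eO.inv ≫ c ≫ eA.hom) ≫ (eA.inv ≫ d ≫ eO.hom)
    simp
  · intro a c
    change eO.inv ≫ (a ≫ c) ≫ eA.hom = (eO.inv ≫ a ≫ eO.hom) ≫ (eO.inv ≫ c ≫ eA.hom)
    simp
  · intro a b
    change eO.inv ≫ (a ≫ b) ≫ eO.hom = (eO.inv ≫ a ≫ eO.hom) ≫ (eO.inv ≫ b ≫ eO.hom)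
    simp

/-- transport along a morphism `τ : E ⟶ E₀` inducing bijections on `Hom(-, O)` and `Hom(O, -)` -/
theorem perfect_of_bijective_comp {E E₀ O : C} (τ : E ⟶ E₀)
    (h1 : Function.Bijective (fun d : E₀ ⟶ O => τ ≫ d))
    (h2 : Function.Bijective (fun c : O ⟶ E => c ≫ τ))
    (h : Perfect E₀ O) : Perfect E O := by
  let α : (E₀ ⟶ O) ≃ (E ⟶ O) := Equiv.ofBijective _ h1
  let β : (O ⟶ E₀) ≃+ (O ⟶ E) :=
    (AddEquiv.ofBijective
      ({ toFun := fun c : O ⟶ E => c ≫ τ
         map_zero' := by simp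
         map_add' := fun c c' => by simp } : (O ⟶ E) →+ (O ⟶ E₀)) h2).symm
  have hβ : ∀ c : O ⟶ E₀, β c ≫ τ = c := by
    intro c
    exact (AddEquiv.ofBijective
      ({ toFun := fun c : O ⟶ E => c ≫ τ
         map_zero' := by simp
         map_add' := fun c c' => by simp } : (O ⟶ E) →+ (O ⟶ E₀)) h2).apply_symm_apply c
  refine perfect_of_equivs α β (AddEquiv.refl _) ?_ ?_ ?_ h
  · intro c d
    change c ≫ d = β c ≫ τ ≫ d
    rw [← Category.assoc, hβ]
  · intro a c
    change β (a ≫ c) = a ≫ β c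
    apply h2.1
    change β (a ≫ c) ≫ τ = (a ≫ β c) ≫ τ
    rw [hβ, Category.assoc, hβ]
  · intro a b
    rfl

end

section ModuleCat

variable (R : Type u) [CommRing R]

/-- in `ModuleCat R`, the pairing `Hom(V, R) × Hom(R, V) → End(R)` is perfect -/
theorem perfect_moduleCat (V : ModuleCat.{u} R) : Perfect V (ModuleCat.of R R) := by
  -- the map `R → V`, `1 ↦ v`
  let cv : V → (ModuleCat.of R R ⟶ V) := fun v =>
    ModuleCat.ofHom (LinearMap.toSpanSingleton R V v)
  have hcv : ∀ (v : V) (x : R), (cv v).hom x = x • v := fun v x => rfl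
  have hc : ∀ c : ModuleCat.of R R ⟶ V, c = cv (c.hom (1 : R)) := by
    intro c
    ext
    simp [cv]
  constructor
  · intro d d' hdd
    ext v
    have := congrArg (fun ψ => (ψ.1 (cv v)).hom (1 : R)) hdd
    simp only [pair_apply] at this
    simpa [cv] using this
  · intro ψ
    let d : V ⟶ ModuleCat.of R R := ModuleCat.ofHom
      { toFun := fun v => (ψ.1 (cv v)).hom (1 : R)
        map_add' := by
          intro v w
          have : cv (v + w) = cv v + cv w := by
            ext
            simp [cv]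
          rw [this, map_add]
          rfl
        map_smul' := by
          intro r v
          let mr : ModuleCat.of R R ⟶ ModuleCat.of R R :=
            ModuleCat.ofHom (LinearMap.toSpanSingleton R R r)
          have : cv (r • v) = mr ≫ cv v := by
            ext
            simp [cv, mr]
          rw [this, ψ.2]
          have h := (ψ.1 (cv v)).hom.map_smul r (1 : R)
          simp only [smul_eq_mul, mul_one] at h
          simp only [mr, ModuleCat.hom_comp, ModuleCat.hom_ofHom, LinearMap.coe_comp,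
            Function.comp_apply, LinearMap.toSpanSingleton_apply, smul_eq_mul, one_mul,
            RingHom.id_apply]
          exact h }
    refine ⟨d, ?_⟩
    apply EqHom.ext
    intro c
    rw [pair_apply]
    ext
    simp only [ModuleCat.hom_comp, LinearMap.coe_comp, Function.comp_apply]
    change (ψ.1 (cv (c.hom 1))).hom 1 = _
    rw [← hc c]

end ModuleCat

end Groth.Agent.Lib.helper13.CurveDual
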