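import Mathlib
import Groth.Agent.Lib.Helper13.CurveDual3
import Groth.Prelude.Def_KLin
import Groth.Prelude.Def_DDual2

/-!
# From a perfect pairing to a linear duality; `End(O_S[0]) = A` on `Spec A` (helper13)

* `linDual`: in an `A`-linear category with `A → End(U)`, `a ↦ a • 𝟙` bijective, a perfect pairing for `(E, U)` and an
  `A`-linear additive bijection `θ : (U ⟶ E) ≃+ V` give a bijection `(E ⟶ U) → (V →ₗ[A] A)` (`linDual_bijective`).
* `hom_unit_ext`: morphisms `O_Z ⟶ M` are determined by the image of `1 ∈ Γ(Z, O_Z)`.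
* `bijective_smul_id_unit`, `bijective_smul_id_inD`: `A → End(O_S)`, `A → End(O_S[0])` are bijective for
  `S = Spec A` (over itself).
-/

set_option autoImplicit false
universe u
open CategoryTheory CategoryTheory.Limits AlgebraicGeometry Opposite
attribute [local instance] HasDerivedCategory.standard

namespace Groth.Agent.Lib.helper13.CurveDual

section LinDual

variable {A : Type*} [CommRing A] {𝒟 : Type*} [Category 𝒟] [Preadditive 𝒟] [Linear A 𝒟]
  {E U : 𝒟} (hU : Function.Bijective (fun a : A => a • 𝟙 U))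
  {V : Type*} [AddCommGroup V] [Module A V] (θ : (U ⟶ E) ≃+ V)
  (hθ : ∀ (a : A) (c : U ⟶ E), θ (a • c) = a • θ c)

/-- the inverse of `a ↦ a • 𝟙 U` -/
noncomputable def epsU : (U ⟶ U) → A := (Equiv.ofBijective _ hU).symm

lemma epsU_smul_id (a : A) : epsU hU (a • 𝟙 U) = a :=
  (Equiv.ofBijective _ hU).symm_apply_apply a

lemma smul_id_epsU (b : U ⟶ U) : (epsU hU b) • 𝟙 U = b :=
  (Equiv.ofBijective _ hU).apply_symm_apply b

lemma epsU_add (b b' : U ⟶ U) : epsU hU (b + b') = epsU hU b + epsU hU b' := by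
  apply hU.1
  change (epsU hU (b + b')) • 𝟙 U = (epsU hU b + epsU hU b') • 𝟙 U
  rw [smul_id_epsU, add_smul, smul_id_epsU, smul_id_epsU]

lemma epsU_smul (a : A) (b : U ⟶ U) : epsU hU (a • b) = a * epsU hU b := by
  apply hU.1
  change (epsU hU (a • b)) • 𝟙 U = (a * epsU hU b) • 𝟙 U
  rw [smul_id_epsU, mul_smul, smul_id_epsU]

/-- the linear form on `V` attached to `d : E ⟶ U` -/
noncomputable def linDual (d : E ⟶ U) : V →ₗ[A] A where
  toFun x := epsU hU (θ.symm x ≫ d)
  map_add' x y := by
    rw [map_add, Preadditive.add_comp, epsU_add]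
  map_smul' a x := by
    have h1 : θ.symm (a • x) = a • θ.symm x := by
      apply θ.injective
      rw [hθ, AddEquiv.apply_symm_apply, AddEquiv.apply_symm_apply]
    rw [h1, Linear.smul_comp, epsU_smul]
    rfl

lemma linDual_apply (d : E ⟶ U) (c : U ⟶ E) :
    linDual hU θ hθ d (θ c) = epsU hU (c ≫ d) := by
  change epsU hU (θ.symm (θ c) ≫ d) = _
  rw [AddEquiv.symm_apply_apply]

include hθ in
theorem linDual_bijective (hP : Perfect E U) : Function.Bijective (linDual hU θ hθ) := by
  constructor
  · intro d d' hdd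
    apply hP.1
    apply EqHom.ext
    intro c
    rw [pair_apply, pair_apply]
    have h1 := LinearMap.congr_fun hdd (θ c)
    rw [linDual_apply, linDual_apply] at h1
    have h2 := congrArg (fun a : A => a • 𝟙 U) h1
    simp only [smul_id_epsU] at h2
    exact h2
  · intro ψ
    let ψ' : EqHom E U :=
      ⟨{ toFun := fun c => (ψ (θ c)) • 𝟙 U
         map_zero' := by simp
         map_add' := fun c c' => by rw [map_add, map_add, add_smul] }, by
        intro a' c
        obtain ⟨μ, rfl⟩ := hU.2 a'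
        change (ψ (θ ((μ • 𝟙 U) ≫ c))) • 𝟙 U = (μ • 𝟙 U) ≫ ((ψ (θ c)) • 𝟙 U)
        rw [Linear.smul_comp, Category.id_comp, hθ, map_smul, Linear.smul_comp, Category.id_comp,
          smul_smul]
        rfl⟩
    obtain ⟨d, hd⟩ := hP.2 ψ'
    refine ⟨d, ?_⟩
    ext x
    obtain ⟨c, rfl⟩ := θ.surjective x
    rw [linDual_apply]
    have h1 := congrArg (fun φ => φ.1 c) hd
    simp only [pair_apply] at h1
    rw [h1]
    exact epsU_smul_id hU _

end LinDual

section EndUnit

/-- morphisms out of the structure sheaf are determined by the image of the global section `1` -/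
theorem hom_unit_ext {Z : Scheme.{u}} {M : Z.Modules} (φ ψ : Coh.structureModule Z ⟶ M)
    (h : (φ.val.app (op ⊤)).hom (1 : Z.ringCatSheaf.obj.obj (op ⊤)) =
      (ψ.val.app (op ⊤)).hom (1 : Z.ringCatSheaf.obj.obj (op ⊤))) : φ = ψ := by
  apply M.unitHomEquiv.injective
  refine PresheafOfModules.sections_ext _ _ (fun V => ?_)
  have h1 := PresheafOfModules.sections_property (M.unitHomEquiv φ)
    (homOfLE (le_top : V.unop ≤ ⊤)).op
  have h2 := PresheafOfModules.sections_property (M.unitHomEquiv ψ)
    (homOfLE (le_top : V.unop ≤ ⊤)).op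
  rw [← h1, ← h2]
  exact congrArg _ h

variable (A : Type u) [CommRing A] [(Spec (CommRingCat.of A)).Over (Spec (CommRingCat.of A))]
  (hid : (Spec (CommRingCat.of A) ↘ Spec (CommRingCat.of A)) = 𝟙 _)

include hid in
lemma smul_id_unit_app_one (a : A) :
    ((a • 𝟙 (Coh.structureModule (Spec (CommRingCat.of A)))).val.app
      (op ⊤)).hom (1 : (Spec (CommRingCat.of A)).ringCatSheaf.obj.obj (op ⊤)) =
      (Scheme.ΓSpecIso (CommRingCat.of A)).inv.hom a := by
  have := KLin.smul_app_apply a (𝟙 (Coh.structureModule (Spec (CommRingCat.of A)))) ⊤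
    (1 : (Spec (CommRingCat.of A)).ringCatSheaf.obj.obj (op ⊤))
  refine this.trans ?_
  have h1 : (Spec (CommRingCat.of A)).presheaf.map
      (homOfLE (le_top : (⊤ : (Spec (CommRingCat.of A)).Opens) ≤ ⊤)).op = 𝟙 _ :=
    (Spec (CommRingCat.of A)).presheaf.map_id _
  have h2 : Coh.toGlobal (Spec (CommRingCat.of A) ↘ Spec (CommRingCat.of A)) a =
      (Scheme.ΓSpecIso (CommRingCat.of A)).inv.hom a := by
    unfold Coh.toGlobal
    rw [hid]
    simp
    rfl
  rw [h1, h2, Scheme.Modules.Hom.id_app]
  change (Scheme.ΓSpecIso (CommRingCat.of A)).inv.hom a * 1 = _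
  exact mul_one _

include hid in
/-- `A → End(O_S)`, `a ↦ a • 𝟙`, is bijective for `S = Spec A` -/
theorem bijective_smul_id_unit :
    Function.Bijective (fun a : A =>
      a • 𝟙 (Coh.structureModule (Spec (CommRingCat.of A)))) := by
  have hinj : Function.Injective ((Scheme.ΓSpecIso (CommRingCat.of A)).inv.hom) :=
    (ConcreteCategory.bijective_of_isIso (Scheme.ΓSpecIso (CommRingCat.of A)).inv).1
  have hsurj : Function.Surjective ((Scheme.ΓSpecIso (CommRingCat.of A)).inv.hom) :=
    (ConcreteCategory.bijective_of_isIso (Scheme.ΓSpecIso (CommRingCat.of A)).inv).2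
  constructor
  · intro a b hab
    have h1 := congrArg (fun φ : Coh.structureModule (Spec (CommRingCat.of A)) ⟶ _ =>
      (φ.val.app (op ⊤)).hom (1 : (Spec (CommRingCat.of A)).ringCatSheaf.obj.obj (op ⊤))) hab
    simp only [smul_id_unit_app_one A hid] at h1
    exact hinj h1
  · intro φ
    obtain ⟨a, ha⟩ := hsurj ((φ.val.app (op ⊤)).hom
      (1 : (Spec (CommRingCat.of A)).ringCatSheaf.obj.obj (op ⊤)))
    refine ⟨a, hom_unit_ext _ _ ?_⟩
    rw [smul_id_unit_app_one A hid]
    exact ha

include hid in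
/-- `A → End(O_S[0])`, `a ↦ a • 𝟙`, is bijective for `S = Spec A` -/
theorem bijective_smul_id_inD :
    Function.Bijective (fun a : A => a • 𝟙 (DCoh.inD (Spec (CommRingCat.of A))
      (Coh.structureModule (Spec (CommRingCat.of A))))) := by
  have h1 : ∀ a : A, a • 𝟙 (DCoh.inD (Spec (CommRingCat.of A))
      (Coh.structureModule (Spec (CommRingCat.of A)))) =
      (DerivedCategory.singleFunctor (Spec (CommRingCat.of A)).Modules 0).map
        (a • 𝟙 (Coh.structureModule (Spec (CommRingCat.of A)))) := by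
    intro a
    rw [Functor.map_smul, CategoryTheory.Functor.map_id]
  have h2 := bijective_smul_id_unit A hid
  constructor
  · intro a b hab
    simp only [h1] at hab
    exact h2.1 ((DerivedCategory.singleFunctor (Spec (CommRingCat.of A)).Modules 0).map_injective hab)
  · intro φ
    obtain ⟨ψ, rfl⟩ := (DerivedCategory.singleFunctor (Spec (CommRingCat.of A)).Modules 0).map_surjective φ
    obtain ⟨a, rfl⟩ := h2.2 ψ
    exact ⟨a, h1 a⟩

end EndUnit

end Groth.Agent.Lib.helper13.CurveDual
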