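import Mathlib
import Groth.Agent.Lib.Helper13.CurveDual3
import Groth.Agent.Lib.Helper1.SingleHom
import Groth.Agent.Lib.Helper1.TruncCoh

/-!
# Perfect pairings against the single complex of a projective object in a derived category (helper13)

`𝒜` abelian with a derived category, `O : 𝒜` projective.
* `hom_single_projective_eq_zero`: `Hom(single_n O, Z) = 0` for `Z ∈ D^{≤ m}`, `m < n`.
* `bijective_postcomp_truncGEπ`: `Hom(single_n O, E) ≃ Hom(single_n O, τ^{≥ n} E)`.
* `bijective_precomp_truncGEπ`: `Hom(τ^{≥ n} E, U) ≃ Hom(E, U)` for `U ∈ D^{≥ n}`.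
* `perfect_single_of_perfect`: for `E ∈ D^{≤ 0}`, `Perfect (H^0 E) O` in `𝒜` implies `Perfect E (single_0 O)` in `D(𝒜)`.
-/

set_option autoImplicit false
universe w v u
open CategoryTheory CategoryTheory.Limits Pretriangulated DerivedCategory

namespace Groth.Agent.Lib.helper13.CurveDual

variable {𝒜 : Type u} [Category.{v} 𝒜] [Abelian 𝒜] [HasDerivedCategory.{w} 𝒜]

/-- maps from the single complex of a projective object to an object of `D^{≤ m}`, `m < n`, vanish -/
theorem hom_single_projective_eq_zero (P : 𝒜) [Projective P] (n m : ℤ) (hm : m < n)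
    (Z : DerivedCategory 𝒜) [Z.IsLE m] (c : (singleFunctor 𝒜 n).obj P ⟶ Z) : c = 0 := by
  obtain ⟨K, hK, ⟨e⟩⟩ := Z.exists_iso_Q_obj_of_isLE m
  let S : CochainComplex 𝒜 ℤ := (HomologicalComplex.single 𝒜 (ComplexShape.up ℤ) n).obj P
  haveI : S.IsStrictlyLE n := by
    change ((CochainComplex.singleFunctor 𝒜 n).obj P).IsStrictlyLE n
    infer_instance
  haveI : ∀ i : ℤ, Projective (S.X i) := by
    intro i
    by_cases hi : i = n
    · subst hi
      exact Projective.of_iso (HomologicalComplex.singleObjXSelf (ComplexShape.up ℤ) i P).symm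
        inferInstance
    · exact (HomologicalComplex.isZero_single_obj_X (ComplexShape.up ℤ) n P i hi).projective
  haveI : S.IsKProjective := CochainComplex.isKProjective_of_projective S n
  let eP := Groth.Agent.H1.SingleHom.eP P n
  let c' : Q.obj S ⟶ Q.obj K := eP.inv ≫ c ≫ e.hom
  obtain ⟨g', hg'⟩ := (CochainComplex.IsKProjective.Qh_map_bijective S
    ((HomotopyCategory.quotient _ _).obj K)).2
      ((quotientCompQhIso 𝒜).hom.app S ≫ c' ≫ (quotientCompQhIso 𝒜).inv.app K)
  obtain ⟨g, rfl⟩ := (HomotopyCategory.quotient _ _).map_surjective g'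
  have hg : g = 0 := by
    apply HomologicalComplex.from_single_hom_ext
    exact (K.isZero_of_isStrictlyLE m n hm).eq_of_tgt _ _
  have hc' : c' = 0 := by
    have h1 : Q.map g = c' := by
      have := (quotientCompQhIso 𝒜).hom.naturality g
      simp only [Functor.comp_map] at this
      rw [hg'] at this
      simp only [Category.assoc, Iso.inv_hom_id_app, Category.comp_id] at this
      exact ((cancel_epi _).1 this).symm
    rw [← h1, hg, Functor.map_zero]
  have : c = eP.hom ≫ c' ≫ e.inv := by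
    simp only [c', Category.assoc, Iso.hom_inv_id, Category.comp_id, Iso.hom_inv_id_assoc]
  rw [this, hc', zero_comp, comp_zero]

/-- `Hom(single_n P, E) ≃ Hom(single_n P, τ^{≥ n} E)` for `P` projective -/
theorem bijective_postcomp_truncGEπ (P : 𝒜) [Projective P] (n : ℤ) (E : DerivedCategory 𝒜) :
    Function.Bijective (fun c : (singleFunctor 𝒜 n).obj P ⟶ E =>
      c ≫ (TStructure.t.truncGEπ n).app E) := by
  let t : Triangulated.TStructure (DerivedCategory 𝒜) := TStructure.t
  let T := (t.triangleLEGE (n - 1) n (by omega)).obj E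
  have hT : T ∈ distTriang _ := t.triangleLEGE_distinguished (n - 1) n (by omega) E
  have h1 : T.obj₁.IsLE (n - 1) := by
    change t.IsLE ((t.truncLE (n - 1)).obj E) (n - 1)
    infer_instance
  have h1' : (T.obj₁⟦(1 : ℤ)⟧).IsLE (n - 1) := by
    haveI : t.IsLE T.obj₁ (n - 1) := h1
    haveI : t.IsLE (T.obj₁⟦(1 : ℤ)⟧) (n - 2) := t.isLE_shift T.obj₁ (n - 1) 1 (n - 2) (by omega)
    exact t.isLE_of_le (T.obj₁⟦(1 : ℤ)⟧) (n - 2) (n - 1) (by omega)
  constructor
  · intro c c' hcc
    have h0 : (c - c') ≫ T.mor₂ = 0 := by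
      rw [Preadditive.sub_comp]
      exact sub_eq_zero.2 hcc
    obtain ⟨c'', hc''⟩ := Triangle.coyoneda_exact₂ T hT (c - c') h0
    have : c'' = 0 := hom_single_projective_eq_zero P n (n - 1) (by omega) T.obj₁ c''
    rw [this, zero_comp] at hc''
    exact sub_eq_zero.1 hc''
  · intro c₀
    have h0 : c₀ ≫ T.mor₃ = 0 :=
      hom_single_projective_eq_zero P n (n - 1) (by omega) (T.obj₁⟦(1 : ℤ)⟧) _
    obtain ⟨c, hc⟩ := Triangle.coyoneda_exact₃ T hT c₀ h0
    exact ⟨c, hc.symm⟩

/-- `Hom(τ^{≥ n} E, U) ≃ Hom(E, U)` for `U ∈ D^{≥ n}` -/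
theorem bijective_precomp_truncGEπ (n : ℤ) (E U : DerivedCategory 𝒜) [U.IsGE n] :
    Function.Bijective (fun d : (TStructure.t.truncGE n).obj E ⟶ U =>
      (TStructure.t.truncGEπ n).app E ≫ d) := by
  let t : Triangulated.TStructure (DerivedCategory 𝒜) := TStructure.t
  haveI : t.IsGE U n := ‹U.IsGE n›
  constructor
  · intro d d' hdd
    exact t.from_truncGE_obj_ext hdd
  · intro d
    exact ⟨t.descTruncGE d n, t.π_descTruncGE d n⟩

/-- for `E ∈ D^{≤ 0}` and `O` projective, perfectness of the pairing for `(H^0 E, O)` in `𝒜` implies perfectness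
for `(E, single_0 O)` in the derived category -/
theorem perfect_single_of_perfect (O : 𝒜) [Projective O] (E : DerivedCategory 𝒜) [E.IsLE 0]
    (h : Perfect ((homologyFunctor 𝒜 0).obj E) O) :
    Perfect E ((singleFunctor 𝒜 0).obj O) := by
  let t : Triangulated.TStructure (DerivedCategory 𝒜) := TStructure.t
  let E₀ := (t.truncGE 0).obj E
  have hGE : E₀.IsGE 0 := by
    change t.IsGE ((t.truncGE 0).obj E) 0
    infer_instance
  have hLE : E₀.IsLE 0 := by
    haveI : t.IsLE E 0 := ‹E.IsLE 0›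
    change t.IsLE ((t.truncGE 0).obj E) 0
    infer_instance
  obtain ⟨A, ⟨eA⟩⟩ := exists_iso_singleFunctor_obj_of_isGE_of_isLE E₀ 0
  -- `A ≅ H^0(E)`
  have hiso : IsIso ((homologyFunctor 𝒜 0).map ((t.truncGEπ 0).app E)) :=
    Groth.Agent.H1.TruncCoh.isIso_homology_truncGEπ E 0 0 le_rfl
  let eH : (homologyFunctor 𝒜 0).obj E ≅ A :=
    asIso ((homologyFunctor 𝒜 0).map ((t.truncGEπ 0).app E)) ≪≫
      (homologyFunctor 𝒜 0).mapIso eA ≪≫ (singleFunctorCompHomologyFunctorIso 𝒜 0).app A
  have hA : Perfect A O := perfect_of_iso eH (Iso.refl O) h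
  have hsA : Perfect ((singleFunctor 𝒜 0).obj A) ((singleFunctor 𝒜 0).obj O) :=
    perfect_map (singleFunctor 𝒜 0) hA
  have hE₀ : Perfect E₀ ((singleFunctor 𝒜 0).obj O) :=
    perfect_of_iso eA.symm (Iso.refl _) hsA
  haveI : ((singleFunctor 𝒜 0).obj O).IsGE 0 := inferInstance
  exact perfect_of_bijective_comp ((t.truncGEπ 0).app E)
    (bijective_precomp_truncGEπ 0 E ((singleFunctor 𝒜 0).obj O))
    (bijective_postcomp_truncGEπ O 0 E) hE₀

end Groth.Agent.Lib.helper13.CurveDual
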