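import Mathlib
import Groth.Agent.Lib.Helper13.CurveDual4
import Groth.Agent.Lib.Helper13.PointGamma
import Groth.Prelude.Def_DDual2

/-!
# The pairing `Hom(E, O_S[0]) × Hom(O_S[0], E) → End(O_S[0])` over the spectrum of a field (helper13)

* `perfect_unit_of_isQuasicoherent`: on `Spec R`, `Perfect H O` for `H` quasi-coherent (tilde equivalence).
* `projective_structureModule`: on a one-point scheme the structure sheaf is a projective object of `Modules`.
* `perfect_inD_unit`: `S = Spec R` a one-point scheme, `E ∈ D^{≤ 0}(S)` with `H^0(E)` quasi-coherent: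
  `Perfect E (O_S[0])` in `D(S)`.
-/

set_option autoImplicit false
set_option backward.isDefEq.respectTransparency false
universe u
open CategoryTheory CategoryTheory.Limits AlgebraicGeometry Opposite
attribute [local instance] HasDerivedCategory.standard

namespace Groth.Agent.Lib.helper13.CurveDual

/-- on `Spec R`, the pairing `Hom(H, O) × Hom(O, H) → End(O)` is perfect for `H` quasi-coherent -/
theorem perfect_unit_of_isQuasicoherent (R : CommRingCat.{u}) (H : (Spec R).Modules)
    [H.IsQuasicoherent] :
    Perfect H (SheafOfModules.unit.{u} (Spec R).ringCatSheaf) := by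
  let V : ModuleCat.{u} R := (modulesSpecToSheaf.obj H).presheaf.obj (.op ⊤)
  have h1 : Perfect V (ModuleCat.of R R) := perfect_moduleCat R V
  have h2 := perfect_map (tilde.functor R) h1
  haveI : IsIso H.fromTildeΓ := Scheme.Modules.isIso_fromTildeΓ_of_isQuasicoherent H
  exact perfect_of_iso (asIso H.fromTildeΓ) (tildeSelf (R := R)) h2

variable {Z : Scheme.{u}}

/-- the compatible family of sections defined by a global section -/
noncomputable def secFam (M : Z.Modules) (σ : M.val.obj (op ⊤)) : M.val.sections :=
  PresheafOfModules.sectionsMk (fun V => M.val.map (homOfLE (le_top : V.unop ≤ ⊤)).op σ)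
    (fun V V' f => by
      rw [← M.val.map_comp_apply]
      rfl)

/-- on a one-point scheme the structure sheaf is projective -/
theorem projective_structureModule [Subsingleton Z] [Nonempty Z] :
    Projective (Coh.structureModule Z) := by
  constructor
  intro E M f e he
  let s := M.unitHomEquiv f
  obtain ⟨τ, hτ⟩ := Groth.Agent.Lib.helper13.PointGamma.surjective_of_epi e (s.val (op ⊤))
  refine ⟨E.unitHomEquiv.symm (secFam E τ), ?_⟩
  rw [SheafOfModules.unitHomEquiv_symm_comp]
  apply M.unitHomEquiv.injective
  rw [Equiv.apply_symm_apply]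
  refine PresheafOfModules.sections_ext _ _ (fun V => ?_)
  change (e.val.app V).hom (E.val.map (homOfLE (le_top : V.unop ≤ ⊤)).op τ) = s.val V
  have h1 := PresheafOfModules.naturality_apply e.val (homOfLE (le_top : V.unop ≤ ⊤)).op τ
  have h2 : (e.val.app (op ⊤)).hom τ = s.val (op ⊤) := hτ
  rw [h1, h2]
  exact PresheafOfModules.sections_property s (homOfLE (le_top : V.unop ≤ ⊤)).op

/-- **perfect pairing on a one-point affine base**: for `E ∈ D^{≤ 0}(Spec R)` with `H^0(E)` quasi-coherent, the pairing
`Hom(E, O[0]) × Hom(O[0], E) → End(O[0])` is perfect -/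
theorem perfect_inD_unit (R : CommRingCat.{u}) [Subsingleton (Spec R)] [Nonempty (Spec R)]
    (E : DCoh.D (Spec R)) [E.IsLE 0] (hE : (DCoh.HD E 0).IsQuasicoherent) :
    Perfect E (DCoh.inD (Spec R) (Coh.structureModule (Spec R))) := by
  haveI : Projective (Coh.structureModule (Spec R)) := projective_structureModule
  haveI := hE
  exact perfect_single_of_perfect (Coh.structureModule (Spec R)) E
    (perfect_unit_of_isQuasicoherent R (DCoh.HD E 0))

end Groth.Agent.Lib.helper13.CurveDual
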