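import Mathlib
import Groth.Prelude.Def_KLin
import Groth.Prelude.Def_DDual2

/-!
# `Rf_*` is linear over the base ring (helper13)

* `map_smul_id_of_isLeftKanExtension`: a left Kan extension (e.g. a total right derived functor) of a linear functor along
  a linear functor maps `a • 𝟙` to `a • 𝟙`.
* `Rpush_map_smul_id`, `Rpush_map_smul`: for `f : X ⟶ Y` a morphism of schemes over `Spec A`, `Rf_*` is `A`-linear.
-/

set_option autoImplicit false
universe u
open CategoryTheory CategoryTheory.Limits AlgebraicGeometry
attribute [local instance] HasDerivedCategory.standard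

namespace Groth.Agent.Lib.helper13.CurveDual

section Abstract

variable {R : Type*} [Semiring R] {C D H : Type*} [Category C] [Category D] [Category H]
  [Preadditive C] [Preadditive D] [Preadditive H] [Linear R C] [Linear R D] [Linear R H]
  (L : C ⥤ D) [L.Additive] [L.Linear R] (F : C ⥤ H) [F.Additive] [F.Linear R]
  (RF : D ⥤ H) (α : F ⟶ L ⋙ RF) [RF.IsLeftKanExtension α]

include L F α in
/-- a left Kan extension of a linear functor along a linear functor preserves `a • 𝟙` -/
theorem map_smul_id_of_isLeftKanExtension (a : R) (G : D) :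
    RF.map (a • 𝟙 G) = a • 𝟙 (RF.obj G) := by
  let τ₁ : RF ⟶ RF :=
    { app := fun G => RF.map (a • 𝟙 G)
      naturality := fun G G' φ => by
        rw [← RF.map_comp, ← RF.map_comp, Linear.comp_smul, Linear.smul_comp, Category.comp_id,
          Category.id_comp] }
  let τ₂ : RF ⟶ RF :=
    { app := fun G => a • 𝟙 (RF.obj G)
      naturality := fun G G' φ => by
        rw [Linear.comp_smul, Linear.smul_comp, Category.comp_id, Category.id_comp] }
  have h : τ₁ = τ₂ := by
    apply Functor.hom_ext_of_isLeftKanExtension RF α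
    ext K
    simp only [NatTrans.comp_app, Functor.whiskerLeft_app, τ₁, τ₂]
    have h1 : a • 𝟙 (L.obj K) = L.map (a • 𝟙 K) := by
      rw [Functor.map_smul, L.map_id]
    rw [h1]
    have h2 := α.naturality (a • 𝟙 K)
    simp only [Functor.comp_map] at h2
    rw [← h2, Functor.map_smul, F.map_id, Linear.smul_comp, Category.id_comp, Linear.comp_smul]
    simp
  exact congrArg (fun τ => τ.app G) h

end Abstract

section Schemes

variable {A : Type u} [CommRing A] {X Y : Scheme.{u}} [X.Over (Spec (CommRingCat.of A))]
  [Y.Over (Spec (CommRingCat.of A))] (f : X ⟶ Y) [f.IsOver (Spec (CommRingCat.of A))]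
  [DCoh.HasRpush f]

/-- `Rf_*` maps multiplication by `a` to multiplication by `a` -/
theorem Rpush_map_smul_id (a : A) (G : DCoh.D X) :
    (DCoh.Rpush f).map (a • 𝟙 G) = a • 𝟙 ((DCoh.Rpush f).obj G) := by
  haveI : (DCoh.Rpush f).IsLeftKanExtension
      ((DCoh.pushKh f).totalRightDerivedUnit DerivedCategory.Qh
        (HomotopyCategory.quasiIso X.Modules (ComplexShape.up ℤ))) :=
    Functor.IsRightDerivedFunctor.isLeftKanExtension _ _
      (HomotopyCategory.quasiIso X.Modules (ComplexShape.up ℤ))
  exact map_smul_id_of_isLeftKanExtension (R := A) DerivedCategory.Qh (DCoh.pushKh f) (DCoh.Rpush f)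
    ((DCoh.pushKh f).totalRightDerivedUnit DerivedCategory.Qh
      (HomotopyCategory.quasiIso X.Modules (ComplexShape.up ℤ))) a G

/-- `Rf_*` is `A`-linear -/
theorem Rpush_map_smul (a : A) {G G' : DCoh.D X} (φ : G ⟶ G') :
    (DCoh.Rpush f).map (a • φ) = a • (DCoh.Rpush f).map φ := by
  have : a • φ = (a • 𝟙 G) ≫ φ := by rw [Linear.smul_comp, Category.id_comp]
  rw [this, Functor.map_comp, Rpush_map_smul_id, Linear.smul_comp, Category.id_comp]

end Schemes

end Groth.Agent.Lib.helper13.CurveDual
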