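import Mathlib
import Groth.Agent.Lib.Helper25.LpullRpushAdj
import Groth.Agent.Lib.Helper25.StalkPullFlat
import Groth.Agent.Lib.Helper25.FlatClass
import Groth.Agent.Lib.Helper11.InvMod
import Groth.Agent.Lib.Helper16.FLF5
import Groth.Agent.Lib.Helper1.SingleHom

/-!
# `Hom_{D(Y)}(O_Y[0], Rf_* G) ≃ Hom_{D(X)}(O_X[0], G)` (helper13)

* `nonempty_Lpull_inD_unit_iso`: `Lf^* O_Y[0] ≅ O_X[0]`.
* `additive_Rpush`, `additive_Lpull`.
* `unitPushEquiv f G : (O_Y[0] ⟶ Rf_* G) ≃+ (O_X[0] ⟶ G)`, natural in `G` (`unitPushEquiv_comp`).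
-/

set_option autoImplicit false
universe u
open CategoryTheory CategoryTheory.Limits AlgebraicGeometry
attribute [local instance] HasDerivedCategory.standard

namespace Groth.Agent.Lib.helper13.CurveDual

open Groth.Agent.Lib.Helper25.LpullAdapted DerivedCategory

variable {X Y : Scheme.{u}} (f : X ⟶ Y)

/-- `Lf^* O_Y[0] ≅ O_X[0]` -/
theorem nonempty_Lpull_inD_unit_iso [DCoh.HasLpull f] :
    Nonempty ((DCoh.Lpull f).obj (DCoh.inD Y (Coh.structureModule Y)) ≅
      DCoh.inD X (Coh.structureModule X)) := by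
  let G : CochainComplex Y.Modules ℤ :=
    (HomologicalComplex.single Y.Modules (ComplexShape.up ℤ) 0).obj (Coh.structureModule Y)
  have hG : P₀ Y G := by
    refine Groth.Agent.Lib.Helper25.StalkPullFlat.P₀_of_vanishesOutside G 0 0 ?_ ?_
    · intro i hi
      exact HomologicalComplex.isZero_single_obj_X (ComplexShape.up ℤ) 0 _ i (by omega)
    · intro i
      by_cases hi : i = 0
      · subst hi
        exact Groth.Agent.Lib.helper25.FlatClass.isFlat_of_iso
          (HomologicalComplex.singleObjXSelf (ComplexShape.up ℤ) 0 (Coh.structureModule Y)).symm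
          (Groth.Agent.Lib.helper16.FLF.isFlat_of_isFinLocFree _
            (Groth.Agent.Lib.helper16.FLF.isFinLocFree_structureModule Y))
      · exact Groth.Agent.Lib.helper25.FlatClass.isFlat_of_isZero
          (HomologicalComplex.isZero_single_obj_X (ComplexShape.up ℤ) 0 _ i hi)
  obtain ⟨e⟩ := Groth.Agent.Lib.Helper25.StalkPullFlat.nonempty_Lpull_iso f G hG
  let e1 : ((Scheme.Modules.pullback f).mapHomologicalComplex (ComplexShape.up ℤ)).obj G ≅
      (HomologicalComplex.single X.Modules (ComplexShape.up ℤ) 0).obj (Coh.structureModule X) :=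
    (HomologicalComplex.singleMapHomologicalComplex (Scheme.Modules.pullback f)
      (ComplexShape.up ℤ) 0).app (Coh.structureModule Y) ≪≫
      (HomologicalComplex.single X.Modules (ComplexShape.up ℤ) 0).mapIso
        (Groth.Agent.Lib.helper11.InvMod.pullbackUnitIso f)
  exact ⟨(DCoh.Lpull f).mapIso (Groth.Agent.H1.SingleHom.eP (Coh.structureModule Y) 0) ≪≫ e ≪≫
    Q.mapIso e1 ≪≫ (Groth.Agent.H1.SingleHom.eP (Coh.structureModule X) 0).symm⟩

section Adj

variable [DCoh.HasRpush f]

/-- `Rf_*` is additive (it is a right adjoint) -/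
theorem additive_Rpush : (DCoh.Rpush f).Additive := by
  haveI : DCoh.HasLpull f := hasLpull f
  haveI : (DCoh.Rpush f).IsRightAdjoint :=
    (Groth.Agent.Lib.Helper25.LpullRpushAdj.adj f).isRightAdjoint
  haveI := preservesBinaryBiproducts_of_preservesBinaryProducts (DCoh.Rpush f)
  exact Functor.additive_of_preservesBinaryBiproducts _

/-- `Lf^*` is additive (it is a left adjoint) -/
theorem additive_Lpull [DCoh.HasLpull f] : (DCoh.Lpull f).Additive := by
  haveI : (DCoh.Lpull f).IsLeftAdjoint :=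
    (Groth.Agent.Lib.Helper25.LpullRpushAdj.adj f).isLeftAdjoint
  haveI := preservesBinaryBiproducts_of_preservesBinaryCoproducts (DCoh.Lpull f)
  exact Functor.additive_of_preservesBinaryBiproducts _

/-- `Hom(O_Y[0], Rf_* G) ≃+ Hom(O_X[0], G)`, through the adjunction `Lf^* ⊣ Rf_*` and `Lf^* O_Y[0] ≅ O_X[0]` -/
noncomputable def unitPushEquiv (G : DCoh.D X) :
    (DCoh.inD Y (Coh.structureModule Y) ⟶ (DCoh.Rpush f).obj G) ≃+
      (DCoh.inD X (Coh.structureModule X) ⟶ G) :=
  haveI : DCoh.HasLpull f := hasLpull f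
  haveI : (DCoh.Lpull f).Additive := additive_Lpull f
  let u := (nonempty_Lpull_inD_unit_iso f).some
  ((Groth.Agent.Lib.Helper25.LpullRpushAdj.adj f).homAddEquiv _ G).symm.trans
    { toFun := fun c => u.inv ≫ c
      invFun := fun c => u.hom ≫ c
      left_inv := fun c => by simp
      right_inv := fun c => by simp
      map_add' := fun c c' => by simp }

lemma unitPushEquiv_comp {G G' : DCoh.D X}
    (c : DCoh.inD Y (Coh.structureModule Y) ⟶ (DCoh.Rpush f).obj G) (φ : G ⟶ G') :
    unitPushEquiv f G' (c ≫ (DCoh.Rpush f).map φ) = unitPushEquiv f G c ≫ φ := by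
  haveI : DCoh.HasLpull f := hasLpull f
  haveI : (DCoh.Lpull f).Additive := additive_Lpull f
  change _ ≫ ((Groth.Agent.Lib.Helper25.LpullRpushAdj.adj f).homEquiv _ G').symm _ =
    (_ ≫ ((Groth.Agent.Lib.Helper25.LpullRpushAdj.adj f).homEquiv _ G).symm c) ≫ φ
  rw [Adjunction.homEquiv_naturality_right_symm, Category.assoc]

end Adj

end Groth.Agent.Lib.helper13.CurveDual
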