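import Mathlib
import Groth.Agent.Lib.Helper1.ExtCompare
import Groth.Agent.Lib.Helper21.InjAcyc3
import Groth.Agent.Lib.Helper21.ModGroth

/-!
# The natural comparison `Ext^n_{Mod(R)}(R, M) ≃+ H^n(M_ab)` (helper13)

On a small site with a sheaf of rings `R`: `hCmp R M n : Ext^n(R, M) →+ Sheaf.H (M_ab) n`,
`e ↦ ι ≫ (e)_ab` with `ι : ℤ ⟶ R_ab` the unit section (helper1's `ExtCompare.cmp`); it is bijective
(`hCmp_bijective`, via helper21's `InjAcyc`) and natural (`hCmp_comp_mk₀`).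
-/

set_option autoImplicit false
universe w u
open CategoryTheory CategoryTheory.Limits Opposite CategoryTheory.Abelian

namespace Groth.Agent.Lib.helper13.CurveDual

open Groth.Agent.Lib.helper21.InjAcyc Groth.Agent.H1.ExtCompare

variable {C : Type u} [SmallCategory C] {J : GrothendieckTopology C} (R : Sheaf J RingCat.{u})
  [HasExt.{u} (Sheaf J AddCommGrpCat.{u})] [HasExt.{w} (SheafOfModules.{u} R)]

/-- the unit section `ℤ ⟶ R_ab` -/
noncomputable def ιZ : ZC J ⟶ (SheafOfModules.toSheaf.{u} R).obj (SheafOfModules.unit R) :=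
  unitEquiv R (SheafOfModules.unit R) (𝟙 _)

lemma unitEquiv_eq (M : SheafOfModules.{u} R) (φ : SheafOfModules.unit R ⟶ M) :
    unitEquiv R M φ = ιZ R ≫ (SheafOfModules.toSheaf.{u} R).map φ := by
  have := unitEquiv_naturality R φ (𝟙 _)
  rw [Category.id_comp] at this
  exact this

/-- the comparison map `Ext^n(R, M) →+ H^n(M_ab)` -/
noncomputable def hCmp (M : SheafOfModules.{u} R) (n : ℕ) :
    Ext.{w} (SheafOfModules.unit R) M n →+
      Sheaf.H.{u} ((SheafOfModules.toSheaf.{u} R).obj M) n :=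
  cmp (SheafOfModules.toSheaf.{u} R) (ιZ R) M n

lemma hCmp_comp_mk₀ {M N : SheafOfModules.{u} R} (n : ℕ)
    (e : Ext.{w} (SheafOfModules.unit R) M n) (g : M ⟶ N) :
    hCmp R N n (e.comp (Ext.mk₀ g) (add_zero n)) =
      Sheaf.H.map ((SheafOfModules.toSheaf.{u} R).map g) n (hCmp R M n e) :=
  cmp_comp_mk₀ (SheafOfModules.toSheaf.{u} R) (ιZ R) n e g

theorem hCmp_bijective (M : SheafOfModules.{u} R) (n : ℕ) :
    Function.Bijective (hCmp R M n) := by
  haveI := Groth.Agent.Lib.Helper21.ModGroth.enoughInjectives_mod R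
  refine cmp_bijective (SheafOfModules.toSheaf.{u} R) (ιZ R) ?_ ?_ n M
  · intro F
    have hc : ∀ φ : SheafOfModules.unit R ⟶ F,
        cmp (SheafOfModules.toSheaf.{u} R) (ιZ R) F 0 (Ext.mk₀ φ) =
          Ext.mk₀ (unitEquiv R F φ) := by
      intro φ
      rw [cmp_apply, Ext.mapExactFunctor_mk₀, Ext.mk₀_comp_mk₀, unitEquiv_eq]
    constructor
    · intro x y hxy
      obtain ⟨a, rfl⟩ := (Ext.mk₀_bijective _ _).2 x
      obtain ⟨b, rfl⟩ := (Ext.mk₀_bijective _ _).2 y
      rw [hc, hc] at hxy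
      have h1 := (Ext.mk₀_bijective _ _).1 hxy
      rw [(unitEquiv R F).injective h1]
    · intro y
      obtain ⟨b, rfl⟩ := (Ext.mk₀_bijective _ _).2 y
      refine ⟨Ext.mk₀ ((unitEquiv R F).symm b), ?_⟩
      rw [hc, Equiv.apply_symm_apply]
  · intro I hI n x
    haveI := hI
    exact ext_toSheaf_eq_zero R I (ZC J) (tf_ZC J) n x

end Groth.Agent.Lib.helper13.CurveDual
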