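import Mathlib
import Groth.Agent.Lib.Helper13.CurveDual8
import Groth.Agent.Lib.Helper18.HHLin
import Groth.Prelude.Def_DDual2

/-!
# `Hom_{D(X)}(O_X[0], F[1]) ≃+ H^1(X, F)`, naturally in `F` (helper13)

* `hhEquiv F : (O_X[0] ⟶ single_{-1} F) ≃+ Coh.HH X F 1`.
* `hhEquiv_comp`: naturality in `F`.
-/

set_option autoImplicit false
universe u
open CategoryTheory CategoryTheory.Limits AlgebraicGeometry Opposite CategoryTheory.Abelian
attribute [local instance] HasDerivedCategory.standard

namespace Groth.Agent.Lib.helper13.CurveDual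

open DerivedCategory

variable {X : Scheme.{u}}

/-- the standard `Ext` groups of `O_X`-modules (in `Type (u + 1)`) -/
noncomputable local instance hasExtStd : HasExt.{u + 1} X.Modules := HasExt.standard _

/-- the shift isomorphism `(F[0])⟦1⟧ ≅ single_{-1} F` -/
noncomputable def σIso (F : X.Modules) :
    ((singleFunctor X.Modules 0).obj F)⟦((1 : ℕ) : ℤ)⟧ ≅ (singleFunctor X.Modules (-1)).obj F :=
  ((singleFunctors X.Modules).shiftIso ((1 : ℕ) : ℤ) (-1) 0 (by simp)).app F

lemma σIso_inv_naturality {F F' : X.Modules} (g : F ⟶ F') :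
    (singleFunctor X.Modules (-1)).map g ≫ (σIso F').inv =
      (σIso F).inv ≫ ((singleFunctor X.Modules 0).map g)⟦((1 : ℕ) : ℤ)⟧' :=
  ((singleFunctors X.Modules).shiftIso ((1 : ℕ) : ℤ) (-1) 0 (by simp)).inv.naturality g

/-- `Hom(O_X[0], single_{-1} F) ≃+ Ext^1(O_X, F)` -/
noncomputable def extEquiv (F : X.Modules) :
    (DCoh.inD X (Coh.structureModule X) ⟶ (singleFunctor X.Modules (-1)).obj F) ≃+
      Abelian.Ext.{u + 1} (Coh.structureModule X) F 1 :=
  ({ toFun := fun c => c ≫ (σIso F).inv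
     invFun := fun c => c ≫ (σIso F).hom
     left_inv := fun c => by simp
     right_inv := fun c => by simp
     map_add' := fun c c' => by simp } :
    (DCoh.inD X (Coh.structureModule X) ⟶ (singleFunctor X.Modules (-1)).obj F) ≃+
      ShiftedHom ((singleFunctor X.Modules 0).obj (Coh.structureModule X))
        ((singleFunctor X.Modules 0).obj F) ((1 : ℕ) : ℤ)).trans
    (Abelian.Ext.homAddEquiv (X := Coh.structureModule X) (Y := F) (n := 1)).symm

lemma extEquiv_hom (F : X.Modules)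
    (c : DCoh.inD X (Coh.structureModule X) ⟶ (singleFunctor X.Modules (-1)).obj F) :
    (extEquiv F c).hom = c ≫ (σIso F).inv := by
  change Abelian.Ext.homAddEquiv ((Abelian.Ext.homAddEquiv (X := Coh.structureModule X) (Y := F)
    (n := 1)).symm (c ≫ (σIso F).inv)) = _
  rw [AddEquiv.apply_symm_apply]


lemma extEquiv_comp {F F' : X.Modules}
    (c : DCoh.inD X (Coh.structureModule X) ⟶ (singleFunctor X.Modules (-1)).obj F) (g : F ⟶ F') :
    extEquiv F' (c ≫ (singleFunctor X.Modules (-1)).map g) =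
      (extEquiv F c).comp (Abelian.Ext.mk₀ g) (add_zero 1) := by
  apply Abelian.Ext.ext
  rw [extEquiv_hom, Abelian.Ext.comp_hom, Abelian.Ext.mk₀_hom, extEquiv_hom, ShiftedHom.comp_mk₀,
    Category.assoc, Category.assoc, σIso_inv_naturality]



/-- the comparison map of `CurveDual8` for the Zariski modules of a scheme -/
noncomputable def hCmpX (F : X.Modules) : Abelian.Ext.{u + 1} (Coh.structureModule X) F 1 →+
    Coh.HH X F 1 :=
  @hCmp.{u + 1} _ _ _ X.ringCatSheaf _ (hasExtStd (X := X)) F 1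

lemma hCmpX_bijective (F : X.Modules) : Function.Bijective (hCmpX F) :=
  @hCmp_bijective.{u + 1} _ _ _ X.ringCatSheaf _ (hasExtStd (X := X)) F 1

lemma hCmpX_comp_mk₀ {F F' : X.Modules} (e : Abelian.Ext.{u + 1} (Coh.structureModule X) F 1)
    (g : F ⟶ F') :
    hCmpX F' (e.comp (Abelian.Ext.mk₀ g) (add_zero 1)) =
      Groth.Agent.Lib.Helper18.HH.map g 1 (hCmpX F e) :=
  @hCmp_comp_mk₀.{u + 1} _ _ _ X.ringCatSheaf _ (hasExtStd (X := X)) F F' 1 e g

/-- **`Hom(O_X[0], single_{-1} F) ≃+ H^1(X, F)`** -/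
noncomputable def hhEquiv (F : X.Modules) :
    (DCoh.inD X (Coh.structureModule X) ⟶ (singleFunctor X.Modules (-1)).obj F) ≃+
      Coh.HH X F 1 :=
  (extEquiv F).trans (AddEquiv.ofBijective (hCmpX F) (hCmpX_bijective F))

/-- naturality of `hhEquiv` -/
lemma hhEquiv_comp {F F' : X.Modules}
    (c : DCoh.inD X (Coh.structureModule X) ⟶ (singleFunctor X.Modules (-1)).obj F) (g : F ⟶ F') :
    hhEquiv F' (c ≫ (singleFunctor X.Modules (-1)).map g) =
      Groth.Agent.Lib.Helper18.HH.map g 1 (hhEquiv F c) := by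
  change hCmpX F' (extEquiv F' _) = Groth.Agent.Lib.Helper18.HH.map g 1 (hCmpX F (extEquiv F c))
  rw [extEquiv_comp, hCmpX_comp_mk₀]

end Groth.Agent.Lib.helper13.CurveDual
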