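import Mathlib
import Groth.Agent.Lib.Helper13.CurveDual5
import Groth.Agent.Lib.Helper13.CurveDual6
import Groth.Agent.Lib.Helper13.CurveDual7
import Groth.Agent.Lib.Helper13.CurveDual9
import Groth.Agent.Lib.Helper13.CurveDual10
import Groth.Agent.Lib.Helper13.CurveDual11
import Groth.Agent.Lib.Helper20.DualDev

/-!
# `DCoh.dualizingMod` of a proper curve is a dualizing sheaf (helper13)

`X` proper over a field `k`, `dim X ≤ 1`, `f : X ⟶ Spec k`, `K = a(O)` (`DCoh.dualizingCx`), `ω = H^{-1}(K)`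
(`DCoh.dualizingMod f h OY 1`).
* `exists_good_of_natural`: a natural family of bijections `Hom(F, ω) ≃ H^1(F)^∨` is of the form `φ ↦ t ∘ H^1(φ)`.
* `exists_dualizing_pair`: **there is `t : H^1(X, ω) →ₗ[k] k` such that `Hom(F, ω) → H^1(X, F)^∨`, `φ ↦ t ∘ H^1(φ)`,
  is bijective for every quasi-coherent `F`** (helper20's `DualDev.Good k t F`).
-/

set_option autoImplicit false
universe u
open CategoryTheory CategoryTheory.Limits AlgebraicGeometry Opposite
attribute [local instance] HasDerivedCategory.standard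

namespace Groth.Agent.Lib.helper13.CurveDual

open DerivedCategory Groth.Agent.Lib.Helper20.DualDev Groth.Agent.Lib.Helper18.HH

section Formal

variable {X : Scheme.{u}} (k : Type u) [Field k] [X.Over (Spec (CommRingCat.of k))]

/-- a natural family of bijections `Hom(F, ω) ≃ H^1(F)^∨` (on quasi-coherent `F`) comes from a linear form on `H^1(ω)` -/
theorem exists_good_of_natural (ω : X.Modules) (hω : ω.IsQuasicoherent)
    (Ψ : ∀ F : X.Modules, F.IsQuasicoherent → (F ⟶ ω) → (Coh.HH X F 1 →ₗ[k] k))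
    (hΨ : ∀ F hF, Function.Bijective (Ψ F hF))
    (hnat : ∀ (F' F : X.Modules) (hF' : F'.IsQuasicoherent) (hF : F.IsQuasicoherent)
      (g : F' ⟶ F) (φ : F ⟶ ω), Ψ F' hF' (g ≫ φ) = (Ψ F hF φ) ∘ₗ mapOver k g 1) :
    ∃ t : Coh.HH X ω 1 →ₗ[k] k, ∀ F : X.Modules, F.IsQuasicoherent → Good k t F := by
  refine ⟨Ψ ω hω (𝟙 ω), fun F hF => ?_⟩
  have h1 : Φ k (Ψ ω hω (𝟙 ω)) F = Ψ F hF := by
    funext φ
    unfold Φ
    rw [← hnat F ω hF hω φ (𝟙 ω), Category.comp_id]
  unfold Good
  rw [h1]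
  exact hΨ F hF

end Formal

section Main

variable (k : Type u) [Field k] (X : Scheme.{u}) [X.Over (Spec (CommRingCat.of k))]

/-- `Spec k` over itself through the identity -/
@[reducible] noncomputable def overSelf : (Spec (CommRingCat.of k)).Over (Spec (CommRingCat.of k)) := ⟨𝟙 _⟩

attribute [local instance 2000] overSelf

instance isOver_struct : (X ↘ Spec (CommRingCat.of k)).IsOver (Spec (CommRingCat.of k)) :=
  ⟨Category.comp_id _⟩

variable [DCoh.HasRpush (X ↘ Spec (CommRingCat.of k))]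

/-- `Rf_* (F[1])` -/
noncomputable abbrev EF (F : X.Modules) : DCoh.D (Spec (CommRingCat.of k)) :=
  (DCoh.Rpush (X ↘ Spec (CommRingCat.of k))).obj ((singleFunctor X.Modules (-1)).obj F)

/-- `Hom(O_S[0], Rf_* F[1]) ≃+ H^1(X, F)` -/
noncomputable def thetaF (F : X.Modules) :
    (DCoh.inD (Spec (CommRingCat.of k)) (Coh.structureModule (Spec (CommRingCat.of k))) ⟶
      EF k X F) ≃+ Coh.HH X F 1 :=
  (unitPushEquiv (X ↘ Spec (CommRingCat.of k)) _).trans (hhEquiv F)

lemma thetaF_comp {F F' : X.Modules} (g : F ⟶ F')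
    (c : DCoh.inD (Spec (CommRingCat.of k)) (Coh.structureModule (Spec (CommRingCat.of k))) ⟶
      EF k X F) :
    thetaF k X F' (c ≫ (DCoh.Rpush (X ↘ Spec (CommRingCat.of k))).map
      ((singleFunctor X.Modules (-1)).map g)) = map g 1 (thetaF k X F c) := by
  change hhEquiv F' (unitPushEquiv (X ↘ Spec (CommRingCat.of k)) _ _) = _
  rw [unitPushEquiv_comp, hhEquiv_comp]
  rfl

lemma thetaF_smul (F : X.Modules) (a : k)
    (c : DCoh.inD (Spec (CommRingCat.of k)) (Coh.structureModule (Spec (CommRingCat.of k))) ⟶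
      EF k X F) :
    thetaF k X F (a • c) = a • thetaF k X F c := by
  have h1 : a • c = c ≫ (DCoh.Rpush (X ↘ Spec (CommRingCat.of k))).map
      ((singleFunctor X.Modules (-1)).map (a • 𝟙 F)) := by
    rw [Functor.map_smul, CategoryTheory.Functor.map_id, Rpush_map_smul_id, Linear.comp_smul,
      Category.comp_id]
  rw [h1, thetaF_comp, KLin.smul_id]
  rfl

instance subsingleton_specField : Subsingleton (Spec (CommRingCat.of k)) :=
  inferInstanceAs (Subsingleton (PrimeSpectrum k))

instance nonempty_specField : Nonempty (Spec (CommRingCat.of k)) :=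
  inferInstanceAs (Nonempty (PrimeSpectrum k))

variable [IsProper (X ↘ Spec (CommRingCat.of k))] (hdim : topologicalKrullDim X ≤ 1)
  (h : DCoh.RpushPreservesQCoh (X ↘ Spec (CommRingCat.of k)))

include hdim h in
/-- the pairing for `(Rf_* F[1], O_S[0])` is perfect -/
lemma perfect_EF (F : X.Modules) (hF : F.IsQuasicoherent) :
    Perfect (EF k X F)
      (DCoh.inD (Spec (CommRingCat.of k)) (Coh.structureModule (Spec (CommRingCat.of k)))) := by
  have hs := isQCohD_single F hF (-1)
  haveI : (EF k X F).IsLE 0 := by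
    have h1 := isLE_Rpush_of_dim_le (X ↘ Spec (CommRingCat.of k)) 1 hdim
      ((singleFunctor X.Modules (-1)).obj F) hs (-1) inferInstance
    have e1 : (-1 : ℤ) + ((1 : ℕ) : ℤ) = 0 := by norm_num
    rw [e1] at h1
    exact h1
  exact perfect_inD_unit (CommRingCat.of k) (EF k X F) (h _ hs 0)

variable [DCoh.HasShriek (X ↘ Spec (CommRingCat.of k)) h]
  (OY : DCoh.DQCoh (Spec (CommRingCat.of k)))

include hdim in
/-- **The dualizing pair of a proper curve**: for `X` proper over a field `k` with `dim X ≤ 1` and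
`ω = DCoh.dualizingMod (X ↘ Spec k) h OY 1`, there is a linear form `t : H^1(X, ω) →ₗ[k] k` such that
`Hom(F, ω) → H^1(X, F)^∨`, `φ ↦ t ∘ H^1(φ)` is bijective for every quasi-coherent `F`. -/
theorem exists_dualizing_pair
    (hOY : Nonempty (OY.obj ≅ DCoh.inD (Spec (CommRingCat.of k))
      (Coh.structureModule (Spec (CommRingCat.of k))))) :
    ∃ t : Coh.HH X (DCoh.dualizingMod (X ↘ Spec (CommRingCat.of k)) h OY 1) 1 →ₗ[k] k,
      ∀ F : X.Modules, F.IsQuasicoherent → Good k t F := by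
  obtain ⟨e⟩ := hOY
  have hK : (DCoh.dualizingCx (X ↘ Spec (CommRingCat.of k)) h OY).IsGE (-1) :=
    isGE_dualizingCx_of_dim_le (X ↘ Spec (CommRingCat.of k)) h OY ⟨e⟩ 1 hdim
  have hω : (DCoh.HD (DCoh.dualizingCx (X ↘ Spec (CommRingCat.of k)) h OY) (-1)).IsQuasicoherent :=
    ((DCoh.shriek (X ↘ Spec (CommRingCat.of k)) h).obj OY).property (-1)
  have hU := bijective_smul_id_inD k
    (rfl : (Spec (CommRingCat.of k) ↘ Spec (CommRingCat.of k)) = 𝟙 _)
  -- the adjunction bijection
  have hΛ : ∀ (F : X.Modules) (hF : F.IsQuasicoherent), Function.Bijective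
      (fun d : EF k X F ⟶ DCoh.inD (Spec (CommRingCat.of k))
          (Coh.structureModule (Spec (CommRingCat.of k))) =>
        lam (X ↘ Spec (CommRingCat.of k)) h OY F hF (d ≫ e.inv)) := by
    intro F hF
    refine (lam_bijective (X ↘ Spec (CommRingCat.of k)) h OY hK F hF).comp ?_
    constructor
    · intro d d' hdd
      exact (cancel_mono e.inv).1 hdd
    · intro d
      exact ⟨d ≫ e.hom, by simp⟩
  let Λ : ∀ (F : X.Modules) (hF : F.IsQuasicoherent),
      (EF k X F ⟶ DCoh.inD (Spec (CommRingCat.of k))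
          (Coh.structureModule (Spec (CommRingCat.of k)))) ≃
        (F ⟶ DCoh.HD (DCoh.dualizingCx (X ↘ Spec (CommRingCat.of k)) h OY) (-1)) :=
    fun F hF => Equiv.ofBijective _ (hΛ F hF)
  have hΛnat : ∀ (F' F : X.Modules) (hF' : F'.IsQuasicoherent) (hF : F.IsQuasicoherent)
      (g : F' ⟶ F) (φ : F ⟶ DCoh.HD (DCoh.dualizingCx (X ↘ Spec (CommRingCat.of k)) h OY) (-1)),
      (Λ F' hF').symm (g ≫ φ) = (DCoh.Rpush (X ↘ Spec (CommRingCat.of k))).map
        ((singleFunctor X.Modules (-1)).map g) ≫ (Λ F hF).symm φ := by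
    intro F' F hF' hF g φ
    apply (Λ F' hF').injective
    rw [Equiv.apply_symm_apply]
    change _ = lam (X ↘ Spec (CommRingCat.of k)) h OY F' hF' (_ ≫ e.inv)
    rw [Category.assoc, lam_comp (X ↘ Spec (CommRingCat.of k)) h OY hF' hF]
    congr 1
    exact ((Λ F hF).apply_symm_apply φ).symm
  let Ψ : ∀ F : X.Modules, F.IsQuasicoherent →
      (F ⟶ DCoh.HD (DCoh.dualizingCx (X ↘ Spec (CommRingCat.of k)) h OY) (-1)) →
        (Coh.HH X F 1 →ₗ[k] k) :=
    fun F hF φ => linDual hU (thetaF k X F) (thetaF_smul k X F) ((Λ F hF).symm φ)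
  refine exists_good_of_natural k
    (DCoh.HD (DCoh.dualizingCx (X ↘ Spec (CommRingCat.of k)) h OY) (-1)) hω Ψ ?_ ?_
  · intro F hF
    exact (linDual_bijective hU (thetaF k X F) (thetaF_smul k X F)
      (perfect_EF k X hdim h F hF)).comp (Λ F hF).symm.bijective
  · intro F' F hF' hF g φ
    ext x'
    change epsU hU ((thetaF k X F').symm x' ≫ (Λ F' hF').symm (g ≫ φ)) =
      epsU hU ((thetaF k X F).symm (map g 1 x') ≫ (Λ F hF).symm φ)
    rw [hΛnat F' F hF' hF g φ, ← Category.assoc]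
    congr 2
    apply (thetaF k X F).injective
    rw [thetaF_comp, AddEquiv.apply_symm_apply, AddEquiv.apply_symm_apply]

end Main

end Groth.Agent.Lib.helper13.CurveDual
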