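import Mathlib
import Groth.Agent.Lib.Helper13.CurveDual5
import Groth.Agent.Lib.Helper13.CurveDual11
import Groth.Agent.Lib.Helper1.TruncCoh
import Groth.Agent.Lib.Helper1.WayOutCoh
import Groth.Agent.S1007

/-!
# Left non-degeneracy of the pairing `Hom(E, O_S[0]) × Hom(O_S[0], E) → End(O_S[0])` over a field, for `E ∈ D^{≤ 1}` (helper13)

* `projective_of_isQuasicoherent_field`: over `S = Spec k`, `k` a field, quasi-coherent modules are projective objects of
  `S.Modules`.
* `hom_eq_zero_of_single_degree`: `Hom(Z, U) = 0` for `Z` concentrated in one degree `n`, with `H^n(Z)` projective, and `U ∈ D^{≤ m}`, `m < n`.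
* `injective_pair_inD_unit`: for `E ∈ D^{≤ 1}(S)` with `H^0(E)`, `H^1(E)` quasi-coherent, a morphism `d : E ⟶ O_S[0]` with
  `c ≫ d = 0` for all `c : O_S[0] ⟶ E` vanishes.
* `linDual_injective`, `linDual_add`, `linDual_smul`.
-/

set_option autoImplicit false
set_option backward.isDefEq.respectTransparency false
universe u
open CategoryTheory CategoryTheory.Limits AlgebraicGeometry Opposite Pretriangulated
attribute [local instance] HasDerivedCategory.standard

namespace Groth.Agent.Lib.helper13.CurveDual

open DerivedCategory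

section Proj

variable (R : CommRingCat.{u})

/-- on a one-point affine scheme, global sections preserve epimorphisms -/
theorem preservesEpimorphisms_moduleSpecΓFunctor [Subsingleton (Spec R)] [Nonempty (Spec R)] :
    (moduleSpecΓFunctor (R := R)).PreservesEpimorphisms := by
  constructor
  intro M N g hg
  rw [ModuleCat.epi_iff_surjective]
  intro t
  obtain ⟨s, hs⟩ := Groth.Agent.Lib.helper13.PointGamma.surjective_of_epi g t
  exact ⟨s, hs⟩

/-- on a one-point affine scheme `Spec R` such that all `R`-modules are projective, quasi-coherent modules are projective -/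
theorem projective_of_isQuasicoherent_of_forall [Subsingleton (Spec R)] [Nonempty (Spec R)]
    (hR : ∀ V : ModuleCat.{u} R, Projective V) (H : (Spec R).Modules)
    [H.IsQuasicoherent] : Projective H := by
  haveI := preservesEpimorphisms_moduleSpecΓFunctor R
  let V : ModuleCat.{u} R := (modulesSpecToSheaf.obj H).presheaf.obj (.op ⊤)
  haveI : IsIso H.fromTildeΓ := Scheme.Modules.isIso_fromTildeΓ_of_isQuasicoherent H
  have h1 : Projective ((tilde.functor R).obj V) :=
    (tilde.adjunction (R := R)).map_projective V (hR V)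
  exact Projective.of_iso (asIso H.fromTildeΓ) h1

/-- over the spectrum of a field, quasi-coherent modules are projective -/
theorem projective_of_isQuasicoherent_field (k : Type u) [Field k]
    (H : (Spec (CommRingCat.of k)).Modules) [H.IsQuasicoherent] : Projective H := by
  haveI : Subsingleton (Spec (CommRingCat.of k)) := inferInstanceAs (Subsingleton (PrimeSpectrum k))
  haveI : Nonempty (Spec (CommRingCat.of k)) := inferInstanceAs (Nonempty (PrimeSpectrum k))
  refine projective_of_isQuasicoherent_of_forall (CommRingCat.of k) (fun V => ?_) H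
  haveI : Module.Projective k V := Module.Projective.of_free
  exact ModuleCat.projective_of_categoryTheory_projective V

end Proj

section Single

universe w' v' u'

variable {𝒜 : Type u'} [Category.{v'} 𝒜] [Abelian 𝒜] [HasDerivedCategory.{w'} 𝒜]

/-- maps from an object concentrated in degree `n` with projective homology to an object of `D^{≤ m}`, `m < n`, vanish -/
theorem hom_eq_zero_of_single_degree (Z U : DerivedCategory 𝒜) (n m : ℤ) (hm : m < n)
    [Z.IsGE n] [Z.IsLE n] [U.IsLE m]
    (hP : Projective ((homologyFunctor 𝒜 n).obj Z)) (d : Z ⟶ U) : d = 0 := by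
  obtain ⟨A, ⟨eA⟩⟩ := exists_iso_singleFunctor_obj_of_isGE_of_isLE Z n
  have eH : (homologyFunctor 𝒜 n).obj Z ≅ A :=
    (homologyFunctor 𝒜 n).mapIso eA ≪≫ (singleFunctorCompHomologyFunctorIso 𝒜 n).app A
  haveI : Projective A := Projective.of_iso eH hP
  have h1 : eA.inv ≫ d = 0 := hom_single_projective_eq_zero A n m hm U _
  rw [← cancel_epi eA.inv, h1, comp_zero]

end Single

section Pair

variable (k : Type u) [Field k]

/-- **left non-degeneracy over a field**: for `E ∈ D^{≤ 1}(Spec k)` with `H^0(E)`, `H^1(E)` quasi-coherent, the pairing map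
`Hom(E, O[0]) → EqHom` is injective -/
theorem injective_pair_inD_unit (E : DCoh.D (Spec (CommRingCat.of k))) [E.IsLE 1]
    (h0 : (DCoh.HD E 0).IsQuasicoherent) (h1 : (DCoh.HD E 1).IsQuasicoherent) :
    Function.Injective (pair E (DCoh.inD (Spec (CommRingCat.of k))
      (Coh.structureModule (Spec (CommRingCat.of k))))) := by
  haveI : Subsingleton (Spec (CommRingCat.of k)) := inferInstanceAs (Subsingleton (PrimeSpectrum k))
  haveI : Nonempty (Spec (CommRingCat.of k)) := inferInstanceAs (Nonempty (PrimeSpectrum k))
  suffices H : ∀ d : E ⟶ DCoh.inD (Spec (CommRingCat.of k))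
      (Coh.structureModule (Spec (CommRingCat.of k))),
      (∀ c : DCoh.inD (Spec (CommRingCat.of k))
        (Coh.structureModule (Spec (CommRingCat.of k))) ⟶ E, c ≫ d = 0) → d = 0 by
    intro d d' hdd
    have h2 := H (d - d') (fun c => by
      rw [Preadditive.comp_sub]
      have h3 := congrArg (fun ψ => ψ.1 c) hdd
      simp only [pair_apply] at h3
      rw [h3, sub_self])
    exact sub_eq_zero.1 h2
  intro d hd
  let t : Triangulated.TStructure (DCoh.D (Spec (CommRingCat.of k))) := TStructure.t
  let E₀ : DCoh.D (Spec (CommRingCat.of k)) := (t.truncLE 0).obj E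
  haveI : E₀.IsLE 0 := by
    change t.IsLE ((t.truncLE 0).obj E) 0
    infer_instance
  have hH0 : (DCoh.HD E₀ 0).IsQuasicoherent := by
    have := Groth.Agent.H1.WayOutCoh.isIso_homology_truncLEι E 0 0 le_rfl
    exact Groth.Agent.S1007.QC_iso _
      (asIso ((homologyFunctor (Spec (CommRingCat.of k)).Modules 0).map
        ((TStructure.t.truncLEι 0).app E))).symm h0
  have hP := perfect_inD_unit (CommRingCat.of k) E₀ hH0
  have h2 : (t.truncLEι 0).app E ≫ d = 0 := by
    apply hP.1
    apply EqHom.ext
    intro c
    rw [pair_apply, pair_apply, comp_zero, ← Category.assoc]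
    exact hd _
  let T := (t.triangleLEGE 0 1 (by omega)).obj E
  have hT : T ∈ distTriang _ := t.triangleLEGE_distinguished 0 1 (by omega) E
  obtain ⟨d', hd'⟩ := Triangle.yoneda_exact₂ T hT d h2
  haveI : T.obj₃.IsGE 1 := by
    change t.IsGE ((t.truncGE 1).obj E) 1
    infer_instance
  haveI : T.obj₃.IsLE 1 := by
    haveI : t.IsLE E 1 := ‹E.IsLE 1›
    change t.IsLE ((t.truncGE 1).obj E) 1
    infer_instance
  have hH1 : ((homologyFunctor (Spec (CommRingCat.of k)).Modules 1).obj T.obj₃).IsQuasicoherent := by
    have := Groth.Agent.H1.TruncCoh.isIso_homology_truncGEπ E 1 1 le_rfl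
    exact Groth.Agent.S1007.QC_iso _
      (asIso ((homologyFunctor (Spec (CommRingCat.of k)).Modules 1).map
        ((TStructure.t.truncGEπ 1).app E))) h1
  haveI := hH1
  have hproj : Projective ((homologyFunctor (Spec (CommRingCat.of k)).Modules 1).obj T.obj₃) :=
    projective_of_isQuasicoherent_field k _
  have hd0 : d' = 0 := hom_eq_zero_of_single_degree T.obj₃ _ 1 0 (by omega) hproj d'
  rw [hd', hd0, comp_zero]

end Pair

section LinDual

variable {A : Type*} [CommRing A] {𝒟 : Type*} [Category 𝒟] [Preadditive 𝒟] [Linear A 𝒟]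
  {E U : 𝒟} (hU : Function.Bijective (fun a : A => a • 𝟙 U))
  {V : Type*} [AddCommGroup V] [Module A V] (θ : (U ⟶ E) ≃+ V)
  (hθ : ∀ (a : A) (c : U ⟶ E), θ (a • c) = a • θ c)

lemma linDual_add (d d' : E ⟶ U) :
    linDual hU θ hθ (d + d') = linDual hU θ hθ d + linDual hU θ hθ d' := by
  ext x
  change epsU hU (θ.symm x ≫ (d + d')) = epsU hU (θ.symm x ≫ d) + epsU hU (θ.symm x ≫ d')
  rw [Preadditive.comp_add, epsU_add]

lemma linDual_smul (a : A) (d : E ⟶ U) :
    linDual hU θ hθ (a • d) = a • linDual hU θ hθ d := by
  ext x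
  change epsU hU (θ.symm x ≫ (a • d)) = a • epsU hU (θ.symm x ≫ d)
  rw [Linear.comp_smul, epsU_smul]
  rfl

include hθ in
theorem linDual_injective (hP : Function.Injective (pair E U)) :
    Function.Injective (linDual hU θ hθ) := by
  intro d d' hdd
  apply hP
  apply EqHom.ext
  intro c
  rw [pair_apply, pair_apply]
  have h1 := LinearMap.congr_fun hdd (θ c)
  rw [linDual_apply, linDual_apply] at h1
  have h2 := congrArg (fun a : A => a • 𝟙 U) h1
  simp only [smul_id_epsU] at h2
  exact h2

end LinDual

end Groth.Agent.Lib.helper13.CurveDual
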