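import Mathlib
import Groth.Agent.Lib.Helper13.CurveDual12
import Groth.Agent.Lib.Helper13.CurveDual13

/-!
# `H^1(X, ω) ↪ H^0(X, O_X)^∨` on a proper curve (helper13)

`X` proper over a field `k`, `dim X ≤ 1`, `K = a(O)` (`DCoh.dualizingCx`), `ω = H^{-1}(K)`.
* `hhEquiv0 F : (O_X[0] ⟶ F[0]) ≃+ H^0(X, F)`, natural in `F` (`hhEquiv0_comp`).
* `theta0 : (O_S[0] ⟶ Rf_* F[0]) ≃+ H^0(X, F)`.
* `exists_injective_single_hom_dual`: for `F` quasi-coherent there is an injective additive `k`-homogeneous map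
  `Hom_{D(X)}(F[0], ω[1]) → H^0(X, F)^∨` (so `Ext^1(F, ω) ↪ H^0(F)^∨`).
* `exists_injective_h1_dualizing`: an injective `k`-linear map `H^1(X, ω) → H^0(X, O_X)^∨`.
* `finrank_h1_dualizing_le`: `dim H^1(X, ω) ≤ dim H^0(X, O_X)`.
-/

set_option autoImplicit false
universe u
open CategoryTheory CategoryTheory.Limits AlgebraicGeometry Opposite CategoryTheory.Abelian Pretriangulated
attribute [local instance] HasDerivedCategory.standard

namespace Groth.Agent.Lib.helper13.CurveDual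

open DerivedCategory Groth.Agent.Lib.Helper20.DualDev Groth.Agent.Lib.Helper18.HH

section HH0

variable {X : Scheme.{u}}

/-- the standard `Ext` groups of `O_X`-modules (in `Type (u + 1)`) -/
noncomputable local instance hasExtStd0 : HasExt.{u + 1} X.Modules := HasExt.standard _

/-- `Hom(O_X[0], F[0]) ≃+ Ext^0(O_X, F)` -/
noncomputable def extEquiv0 (F : X.Modules) :
    (DCoh.inD X (Coh.structureModule X) ⟶ (singleFunctor X.Modules 0).obj F) ≃+
      Abelian.Ext.{u + 1} (Coh.structureModule X) F 0 :=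
  (mapAddEquiv (singleFunctor X.Modules 0) (Coh.structureModule X) F).symm.trans
    Abelian.Ext.addEquiv₀.symm

lemma extEquiv0_map (F : X.Modules) (c₀ : Coh.structureModule X ⟶ F) :
    extEquiv0 F ((singleFunctor X.Modules 0).map c₀) = Abelian.Ext.mk₀ c₀ := by
  change Abelian.Ext.addEquiv₀.symm
    ((mapAddEquiv (singleFunctor X.Modules 0) (Coh.structureModule X) F).symm
      ((singleFunctor X.Modules 0).map c₀)) = _
  have : (mapAddEquiv (singleFunctor X.Modules 0) (Coh.structureModule X) F).symm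
      ((singleFunctor X.Modules 0).map c₀) = c₀ := by
    apply (mapAddEquiv (singleFunctor X.Modules 0) (Coh.structureModule X) F).injective
    rw [AddEquiv.apply_symm_apply]
    rfl
  rw [this]
  rfl

/-- the comparison map of `CurveDual8` in degree `0` -/
noncomputable def hCmpX0 (F : X.Modules) : Abelian.Ext.{u + 1} (Coh.structureModule X) F 0 →+
    Coh.HH X F 0 :=
  @hCmp.{u + 1} _ _ _ X.ringCatSheaf _ (hasExtStd0 (X := X)) F 0

lemma hCmpX0_bijective (F : X.Modules) : Function.Bijective (hCmpX0 F) :=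
  @hCmp_bijective.{u + 1} _ _ _ X.ringCatSheaf _ (hasExtStd0 (X := X)) F 0

lemma hCmpX0_comp_mk₀ {F F' : X.Modules} (e : Abelian.Ext.{u + 1} (Coh.structureModule X) F 0)
    (g : F ⟶ F') :
    hCmpX0 F' (e.comp (Abelian.Ext.mk₀ g) (add_zero 0)) =
      Groth.Agent.Lib.Helper18.HH.map g 0 (hCmpX0 F e) :=
  @hCmp_comp_mk₀.{u + 1} _ _ _ X.ringCatSheaf _ (hasExtStd0 (X := X)) F F' 0 e g

/-- **`Hom(O_X[0], F[0]) ≃+ H^0(X, F)`** -/
noncomputable def hhEquiv0 (F : X.Modules) :
    (DCoh.inD X (Coh.structureModule X) ⟶ (singleFunctor X.Modules 0).obj F) ≃+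
      Coh.HH X F 0 :=
  (extEquiv0 F).trans (AddEquiv.ofBijective (hCmpX0 F) (hCmpX0_bijective F))

/-- naturality of `hhEquiv0` -/
lemma hhEquiv0_comp {F F' : X.Modules}
    (c : DCoh.inD X (Coh.structureModule X) ⟶ (singleFunctor X.Modules 0).obj F) (g : F ⟶ F') :
    hhEquiv0 F' (c ≫ (singleFunctor X.Modules 0).map g) =
      Groth.Agent.Lib.Helper18.HH.map g 0 (hhEquiv0 F c) := by
  obtain ⟨c₀, rfl⟩ := (singleFunctor X.Modules 0).map_surjective c
  change hCmpX0 F' (extEquiv0 F' _) = Groth.Agent.Lib.Helper18.HH.map g 0 (hCmpX0 F (extEquiv0 F _))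
  rw [← Functor.map_comp, extEquiv0_map, extEquiv0_map, ← Abelian.Ext.mk₀_comp_mk₀,
    hCmpX0_comp_mk₀]

end HH0

section Trunc

universe w' v' u'

variable {𝒜 : Type u'} [Category.{v'} 𝒜] [Abelian 𝒜] [HasDerivedCategory.{w'} 𝒜]

/-- for `K ∈ D^{≥ n}` there is a morphism `j : single_n (H^n K) ⟶ K` such that `c ↦ c ≫ j` is injective on
`Hom(B, single_n (H^n K))` for every `B ∈ D^{≤ n + 1}` -/
theorem exists_single_homology_hom (K : DerivedCategory 𝒜) (n : ℤ) [K.IsGE n] :
    ∃ j : (singleFunctor 𝒜 n).obj ((homologyFunctor 𝒜 n).obj K) ⟶ K,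
      ∀ (B : DerivedCategory 𝒜) [B.IsLE (n + 1)]
        (c : B ⟶ (singleFunctor 𝒜 n).obj ((homologyFunctor 𝒜 n).obj K)), c ≫ j = 0 → c = 0 := by
  let t : Triangulated.TStructure (DerivedCategory 𝒜) := TStructure.t
  let K₁ : DerivedCategory 𝒜 := (t.truncLE n).obj K
  haveI : K₁.IsLE n := by
    change t.IsLE ((t.truncLE n).obj K) n
    infer_instance
  haveI : K₁.IsGE n := by
    haveI : t.IsGE K n := ‹K.IsGE n›
    change t.IsGE ((t.truncLE n).obj K) n
    infer_instance
  obtain ⟨A, ⟨eA⟩⟩ := exists_iso_singleFunctor_obj_of_isGE_of_isLE K₁ n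
  have hiso := Groth.Agent.H1.WayOutCoh.isIso_homology_truncLEι K n n le_rfl
  let eω : (homologyFunctor 𝒜 n).obj K ≅ A :=
    (asIso ((homologyFunctor 𝒜 n).map ((t.truncLEι n).app K))).symm ≪≫
      (homologyFunctor 𝒜 n).mapIso eA ≪≫ (singleFunctorCompHomologyFunctorIso 𝒜 n).app A
  refine ⟨(singleFunctor 𝒜 n).map eω.hom ≫ eA.inv ≫ (t.truncLEι n).app K, ?_⟩
  intro B _ c hc
  let T := (t.triangleLEGE n (n + 1) rfl).obj K
  have hT : T ∈ distTriang _ := t.triangleLEGE_distinguished n (n + 1) rfl K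
  have hT' : T.invRotate ∈ distTriang _ := inv_rot_of_distTriang _ hT
  let c' : B ⟶ K₁ := c ≫ (singleFunctor 𝒜 n).map eω.hom ≫ eA.inv
  have hc' : c' ≫ T.invRotate.mor₂ = 0 := by
    change (c ≫ (singleFunctor 𝒜 n).map eω.hom ≫ eA.inv) ≫ (t.truncLEι n).app K = 0
    simpa only [Category.assoc] using hc
  obtain ⟨g, hg⟩ := Triangle.coyoneda_exact₂ T.invRotate hT' c' hc'
  have hg0 : g = 0 := by
    haveI : t.IsLE B (n + 1) := ‹B.IsLE (n + 1)›
    haveI : t.IsGE T.obj₃ (n + 1) := by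
      change t.IsGE ((t.truncGE (n + 1)).obj K) (n + 1)
      infer_instance
    haveI : t.IsGE (T.invRotate.obj₁) (n + 2) := by
      change t.IsGE (T.obj₃⟦(-1 : ℤ)⟧) (n + 2)
      exact t.isGE_shift T.obj₃ (n + 1) (-1) (n + 2) (by omega)
    exact t.zero g (n + 1) (n + 2) (by omega)
  have h0 : c' = 0 := by rw [hg, hg0]; exact zero_comp
  have h1 : c ≫ ((singleFunctor 𝒜 n).map eω.hom ≫ eA.inv) = 0 := h0
  have : IsIso ((singleFunctor 𝒜 n).map eω.hom ≫ eA.inv) := inferInstance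
  exact (cancel_mono ((singleFunctor 𝒜 n).map eω.hom ≫ eA.inv)).1 (h1.trans zero_comp.symm)

end Trunc

section AdjInv

variable {X Y : Scheme.{u}} (f : X ⟶ Y) [DCoh.HasRpush f] (h : DCoh.RpushPreservesQCoh f)
  [DCoh.HasShriek f h] (OY : DCoh.DQCoh Y)

/-- `single_0 F` as an object of `D_QCoh` -/
noncomputable def sQ0 (F : X.Modules) (hF : F.IsQuasicoherent) : DCoh.DQCoh X :=
  ⟨(singleFunctor X.Modules 0).obj F, isQCohD_single F hF 0⟩

/-- the inverse of the adjunction bijection `adjMap`: `σ ↦ Rf_* σ ≫ counit` -/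
noncomputable def adjInv (G : DCoh.DQCoh X) (σ : G.obj ⟶ DCoh.dualizingCx f h OY) :
    (DCoh.Rpush f).obj G.obj ⟶ OY.obj :=
  (DCoh.Rpush f).map σ ≫ ((DCoh.shriekAdj f h).counit.app OY).hom

lemma adjMap_adjInv (G : DCoh.DQCoh X) (σ : G.obj ⟶ DCoh.dualizingCx f h OY) :
    adjMap f h OY G (adjInv f h OY G σ) = σ := by
  have h1 : (ObjectProperty.homMk ((DCoh.Rpush f).map σ ≫
      ((DCoh.shriekAdj f h).counit.app OY).hom) : (DCoh.RpushQ f h).obj G ⟶ OY) =
      ((DCoh.shriekAdj f h).homEquiv G OY).symm (ObjectProperty.homMk σ) := by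
    rw [Adjunction.homEquiv_counit]
    exact ObjectProperty.hom_ext _ rfl
  unfold adjMap adjInv
  rw [h1, Equiv.apply_symm_apply]
  rfl

lemma adjInv_add [(DCoh.Rpush f).Additive] (G : DCoh.DQCoh X)
    (σ σ' : G.obj ⟶ DCoh.dualizingCx f h OY) :
    adjInv f h OY G (σ + σ') = adjInv f h OY G σ + adjInv f h OY G σ' := by
  unfold adjInv
  rw [Functor.map_add, Preadditive.add_comp]

end AdjInv

section Main

variable (k : Type u) [Field k] (X : Scheme.{u}) [X.Over (Spec (CommRingCat.of k))]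

attribute [local instance 2000] overSelf

variable [DCoh.HasRpush (X ↘ Spec (CommRingCat.of k))]

/-- `Rf_* (F[0])` -/
noncomputable abbrev EF0 (F : X.Modules) : DCoh.D (Spec (CommRingCat.of k)) :=
  (DCoh.Rpush (X ↘ Spec (CommRingCat.of k))).obj ((singleFunctor X.Modules 0).obj F)

/-- `Hom(O_S[0], Rf_* F[0]) ≃+ H^0(X, F)` -/
noncomputable def theta0 (F : X.Modules) :
    (DCoh.inD (Spec (CommRingCat.of k)) (Coh.structureModule (Spec (CommRingCat.of k))) ⟶
      EF0 k X F) ≃+ Coh.HH X F 0 :=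
  (unitPushEquiv (X ↘ Spec (CommRingCat.of k)) _).trans (hhEquiv0 F)

lemma theta0_comp {F F' : X.Modules} (g : F ⟶ F')
    (c : DCoh.inD (Spec (CommRingCat.of k)) (Coh.structureModule (Spec (CommRingCat.of k))) ⟶
      EF0 k X F) :
    theta0 k X F' (c ≫ (DCoh.Rpush (X ↘ Spec (CommRingCat.of k))).map
      ((singleFunctor X.Modules 0).map g)) = map g 0 (theta0 k X F c) := by
  change hhEquiv0 F' (unitPushEquiv (X ↘ Spec (CommRingCat.of k)) _ _) = _
  rw [unitPushEquiv_comp, hhEquiv0_comp]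
  rfl

lemma theta0_smul (F : X.Modules) (a : k)
    (c : DCoh.inD (Spec (CommRingCat.of k)) (Coh.structureModule (Spec (CommRingCat.of k))) ⟶
      EF0 k X F) :
    theta0 k X F (a • c) = a • theta0 k X F c := by
  have h1 : a • c = c ≫ (DCoh.Rpush (X ↘ Spec (CommRingCat.of k))).map
      ((singleFunctor X.Modules 0).map (a • 𝟙 F)) := by
    rw [Functor.map_smul, CategoryTheory.Functor.map_id, Rpush_map_smul_id, Linear.comp_smul,
      Category.comp_id]
  rw [h1, theta0_comp, KLin.smul_id]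
  rfl

lemma hhEquiv_smul (F : X.Modules) (a : k)
    (c : DCoh.inD X (Coh.structureModule X) ⟶ (singleFunctor X.Modules (-1)).obj F) :
    hhEquiv F (a • c) = a • hhEquiv F c := by
  have h1 : a • c = c ≫ (singleFunctor X.Modules (-1)).map (a • 𝟙 F) := by
    rw [Functor.map_smul, CategoryTheory.Functor.map_id, Linear.comp_smul, Category.comp_id]
  rw [h1, hhEquiv_comp, KLin.smul_id]
  rfl

variable [IsProper (X ↘ Spec (CommRingCat.of k))] (hdim : topologicalKrullDim X ≤ 1)
  (h : DCoh.RpushPreservesQCoh (X ↘ Spec (CommRingCat.of k)))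

include hdim h in
/-- the pairing for `(Rf_* F[0], O_S[0])` is left non-degenerate -/
lemma injective_pair_EF0 (F : X.Modules) (hF : F.IsQuasicoherent) :
    Function.Injective (pair (EF0 k X F)
      (DCoh.inD (Spec (CommRingCat.of k)) (Coh.structureModule (Spec (CommRingCat.of k))))) := by
  have hs := isQCohD_single F hF 0
  haveI : (EF0 k X F).IsLE 1 := by
    have h1 := isLE_Rpush_of_dim_le (X ↘ Spec (CommRingCat.of k)) 1 hdim
      ((singleFunctor X.Modules 0).obj F) hs 0 inferInstance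
    have e1 : (0 : ℤ) + ((1 : ℕ) : ℤ) = 1 := by norm_num
    rw [e1] at h1
    exact h1
  exact injective_pair_inD_unit k (EF0 k X F) (h _ hs 0) (h _ hs 1)

variable [DCoh.HasShriek (X ↘ Spec (CommRingCat.of k)) h]
  (OY : DCoh.DQCoh (Spec (CommRingCat.of k)))

include hdim in
/-- **`Ext^1(F, ω) ↪ H^0(X, F)^∨`** (in the form `Hom_{D(X)}(F[0], ω[1]) ↪ H^0(X, F)^∨`) for `F` quasi-coherent on a proper
curve `X` over `k`: an injective, additive, `k`-homogeneous map. -/
theorem exists_injective_single_hom_dual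
    (hOY : Nonempty (OY.obj ≅ DCoh.inD (Spec (CommRingCat.of k))
      (Coh.structureModule (Spec (CommRingCat.of k)))))
    (F : X.Modules) (hF : F.IsQuasicoherent) :
    ∃ β : ((singleFunctor X.Modules 0).obj F ⟶ (singleFunctor X.Modules (-1)).obj
        (DCoh.dualizingMod (X ↘ Spec (CommRingCat.of k)) h OY 1)) → (Coh.HH X F 0 →ₗ[k] k),
      Function.Injective β ∧ (∀ c c', β (c + c') = β c + β c') ∧
        (∀ (a : k) c, β (a • c) = a • β c) := by
  obtain ⟨e⟩ := hOY
  haveI hK : (DCoh.dualizingCx (X ↘ Spec (CommRingCat.of k)) h OY).IsGE (-1) :=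
    isGE_dualizingCx_of_dim_le (X ↘ Spec (CommRingCat.of k)) h OY ⟨e⟩ 1 hdim
  obtain ⟨j, hj⟩ : ∃ j : (singleFunctor X.Modules (-1)).obj
      (DCoh.dualizingMod (X ↘ Spec (CommRingCat.of k)) h OY 1) ⟶
        DCoh.dualizingCx (X ↘ Spec (CommRingCat.of k)) h OY,
      ∀ (B : DCoh.D X) [B.IsLE 0] (c : B ⟶ (singleFunctor X.Modules (-1)).obj
        (DCoh.dualizingMod (X ↘ Spec (CommRingCat.of k)) h OY 1)), c ≫ j = 0 → c = 0 := by
    obtain ⟨j, hj⟩ := exists_single_homology_hom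
      (DCoh.dualizingCx (X ↘ Spec (CommRingCat.of k)) h OY) (-1)
    refine ⟨j, fun B _ c hc => ?_⟩
    haveI : B.IsLE (-1 + 1) := by
      have e1 : (-1 : ℤ) + 1 = 0 := by norm_num
      rw [e1]
      infer_instance
    exact hj B c hc
  have hU := bijective_smul_id_inD k
    (rfl : (Spec (CommRingCat.of k) ↘ Spec (CommRingCat.of k)) = 𝟙 _)
  haveI := additive_Rpush (X ↘ Spec (CommRingCat.of k))
  let σ : ((singleFunctor X.Modules 0).obj F ⟶ (singleFunctor X.Modules (-1)).obj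
      (DCoh.dualizingMod (X ↘ Spec (CommRingCat.of k)) h OY 1)) →
      ((sQ0 F hF).obj ⟶ DCoh.dualizingCx (X ↘ Spec (CommRingCat.of k)) h OY) := fun c => c ≫ j
  have hσ_add : ∀ c c', σ (c + c') = σ c + σ c' := fun c c' => Preadditive.add_comp _ _ _ c c' j
  have hσ_smul : ∀ (a : k) c, σ (a • c) = a • σ c := fun a c => Linear.smul_comp _ _ _ a c j
  have hadj_smul : ∀ (a : k) (τ : (sQ0 F hF).obj ⟶
      DCoh.dualizingCx (X ↘ Spec (CommRingCat.of k)) h OY),
      adjInv (X ↘ Spec (CommRingCat.of k)) h OY (sQ0 F hF) (a • τ) =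
        a • adjInv (X ↘ Spec (CommRingCat.of k)) h OY (sQ0 F hF) τ := by
    intro a τ
    unfold adjInv
    rw [Rpush_map_smul, Linear.smul_comp]
  let δ : ((singleFunctor X.Modules 0).obj F ⟶ (singleFunctor X.Modules (-1)).obj
      (DCoh.dualizingMod (X ↘ Spec (CommRingCat.of k)) h OY 1)) →
      (EF0 k X F ⟶ DCoh.inD (Spec (CommRingCat.of k))
        (Coh.structureModule (Spec (CommRingCat.of k)))) :=
    fun c => adjInv (X ↘ Spec (CommRingCat.of k)) h OY (sQ0 F hF) (σ c) ≫ e.hom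
  have hδ_add : ∀ c c', δ (c + c') = δ c + δ c' := by
    intro c c'
    change adjInv (X ↘ Spec (CommRingCat.of k)) h OY (sQ0 F hF) (σ (c + c')) ≫ e.hom = _
    rw [hσ_add, adjInv_add]
    exact Preadditive.add_comp _ _ _ _ _ e.hom
  have hδ_smul : ∀ (a : k) c, δ (a • c) = a • δ c := by
    intro a c
    change adjInv (X ↘ Spec (CommRingCat.of k)) h OY (sQ0 F hF) (σ (a • c)) ≫ e.hom = _
    rw [hσ_smul, hadj_smul]
    exact Linear.smul_comp _ _ _ a _ e.hom
  refine ⟨fun c => linDual hU (theta0 k X F) (theta0_smul k X F) (δ c), ?_, ?_, ?_⟩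
  · intro c c' hcc
    have h1 : δ c = δ c' := linDual_injective hU (theta0 k X F) (theta0_smul k X F)
      (injective_pair_EF0 k X hdim h F hF) hcc
    have h2 : adjInv (X ↘ Spec (CommRingCat.of k)) h OY (sQ0 F hF) (σ c) =
        adjInv (X ↘ Spec (CommRingCat.of k)) h OY (sQ0 F hF) (σ c') := (cancel_mono e.hom).1 h1
    have h3 := congrArg (adjMap (X ↘ Spec (CommRingCat.of k)) h OY (sQ0 F hF)) h2
    rw [adjMap_adjInv, adjMap_adjInv] at h3
    have h4 : (c - c') ≫ j = 0 := by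
      have h5 : (c - c') ≫ j = c ≫ j - c' ≫ j := by rw [Preadditive.sub_comp]
      rw [h5]
      exact sub_eq_zero.2 h3
    exact sub_eq_zero.1 (hj _ (c - c') h4)
  · intro c c'
    change linDual hU (theta0 k X F) (theta0_smul k X F) (δ (c + c')) = _
    rw [hδ_add, linDual_add]
  · intro a c
    change linDual hU (theta0 k X F) (theta0_smul k X F) (δ (a • c)) = _
    rw [hδ_smul, linDual_smul]

include hdim in
/-- **`H^1(X, ω) ↪ H^0(X, O_X)^∨`**, `k`-linearly, on a proper curve. -/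
theorem exists_injective_h1_dualizing
    (hOY : Nonempty (OY.obj ≅ DCoh.inD (Spec (CommRingCat.of k))
      (Coh.structureModule (Spec (CommRingCat.of k))))) :
    ∃ ι : Coh.HH X (DCoh.dualizingMod (X ↘ Spec (CommRingCat.of k)) h OY 1) 1 →ₗ[k]
        Module.Dual k (Coh.HH X (Coh.structureModule X) 0), Function.Injective ι := by
  obtain ⟨β, hβ1, hβ2, hβ3⟩ := exists_injective_single_hom_dual k X hdim h OY hOY
    (Coh.structureModule X) (Groth.Agent.Lib.helper16.FLF.isQuasicoherent_of_isFinLocFree _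
      (Groth.Agent.Lib.helper16.FLF.isFinLocFree_structureModule X))
  have hsymm_smul : ∀ (a : k)
      (x : Coh.HH X (DCoh.dualizingMod (X ↘ Spec (CommRingCat.of k)) h OY 1) 1),
      (hhEquiv (DCoh.dualizingMod (X ↘ Spec (CommRingCat.of k)) h OY 1)).symm (a • x) =
        a • (hhEquiv (DCoh.dualizingMod (X ↘ Spec (CommRingCat.of k)) h OY 1)).symm x := by
    intro a x
    apply (hhEquiv _).injective
    rw [hhEquiv_smul k X, AddEquiv.apply_symm_apply, AddEquiv.apply_symm_apply]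
  refine ⟨{ toFun := fun x => β ((hhEquiv _).symm x)
            map_add' := fun x y => by rw [_root_.map_add, hβ2]
            map_smul' := fun a x => by rw [hsymm_smul, hβ3]; rfl }, ?_⟩
  intro x y hxy
  exact (hhEquiv _).symm.injective (hβ1 hxy)

include hdim in
/-- `dim_k H^1(X, ω) ≤ dim_k H^0(X, O_X)` on a proper curve (when `H^0(X, O_X)` is finite-dimensional) -/
theorem finrank_h1_dualizing_le
    (hOY : Nonempty (OY.obj ≅ DCoh.inD (Spec (CommRingCat.of k))
      (Coh.structureModule (Spec (CommRingCat.of k)))))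
    [Module.Finite k (Coh.HH X (Coh.structureModule X) 0)] :
    Module.Finite k (Coh.HH X (DCoh.dualizingMod (X ↘ Spec (CommRingCat.of k)) h OY 1) 1) ∧
    Module.finrank k (Coh.HH X (DCoh.dualizingMod (X ↘ Spec (CommRingCat.of k)) h OY 1) 1) ≤
      Module.finrank k (Coh.HH X (Coh.structureModule X) 0) := by
  obtain ⟨ι, hι⟩ := exists_injective_h1_dualizing k X hdim h OY hOY
  refine ⟨Module.Finite.of_injective ι hι, ?_⟩
  have h1 := LinearMap.finrank_le_finrank_of_injective hι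
  rwa [Subspace.dual_finrank_eq] at h1

end Main

end Groth.Agent.Lib.helper13.CurveDual
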