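import Mathlib
import Groth.Prelude.Def_DRing4
import Groth.Prelude.Def_DRing3
import Groth.Prelude.Def_DDual2
import Groth.Agent.Lib.Helper23.ProjHom
import Groth.Agent.Lib.Helper23.DNak
import Groth.Agent.Lib.Helper23.RHomEx

/-!
# Derived completion, part 1 (helper13): maps from `f`-local complexes to derived `f`-complete objects vanish

* `bijective_of_isLocalizedModule`: a localization map out of a module on which `S` acts bijectively is bijective.
* `mkHom`, `mkCx`, `isIso_mkCx`: a complex on whose terms `f` acts bijectively is the restriction of a complex of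
  `A_f`-modules.
* `subsingleton_shift_iff`, `restrictDSelfIso`.
* `isZero_R_of_complete`: `RHom_A(A_f, M) = 0` for `M` derived `f`-complete (`R` any right adjoint of `restrictD`).
* `subsingleton_hom_of_local`: `Hom_{D(A)}(Y, M) = 0` for `Y` a complex with `f` bijective on all terms and `M`
  derived `f`-complete (`∀ n, Subsingleton (A_f[0] ⟶ M⟦n⟧)`).
-/

set_option autoImplicit false
universe u
open CategoryTheory CategoryTheory.Limits

attribute [local instance] HasDerivedCategory.standard

namespace Groth.Agent.Lib.helper13.DComp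

variable {A : Type u} [CommRing A]

section ModuleLevel

/-- a localization map out of a module on which `S` already acts bijectively is bijective -/
lemma bijective_of_isLocalizedModule (S : Submonoid A) {M M' : Type*} [AddCommGroup M] [Module A M]
    [AddCommGroup M'] [Module A M'] (ψ : M →ₗ[A] M') [IsLocalizedModule S ψ]
    (hM : ∀ s : S, Function.Bijective (fun x : M => (s : A) • x)) : Function.Bijective ψ := by
  haveI : IsLocalizedModule S (LinearMap.id : M →ₗ[A] M) :=
    { map_units := fun s => by
        rw [Module.End.isUnit_iff]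
        exact hM s
      surj := fun y => ⟨(y, 1), one_smul _ _⟩
      exists_of_eq := fun h => ⟨1, congrArg _ h⟩ }
  have h : ψ = (IsLocalizedModule.linearEquiv S (LinearMap.id : M →ₗ[A] M) ψ).toLinearMap := by
    ext x
    exact (IsLocalizedModule.linearEquiv_apply S (LinearMap.id : M →ₗ[A] M) ψ x).symm
  rw [h]
  exact (IsLocalizedModule.linearEquiv S (LinearMap.id : M →ₗ[A] M) ψ).bijective

lemma bijective_smul_powers (f : A) {M : Type*} [AddCommGroup M] [Module A M]
    (hM : Function.Bijective (fun x : M => f • x)) (s : Submonoid.powers f) :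
    Function.Bijective (fun x : M => (s : A) • x) := by
  obtain ⟨s, k, rfl⟩ := s
  induction k with
  | zero =>
    have : (fun x : M => ((⟨f ^ 0, 0, rfl⟩ : Submonoid.powers f) : A) • x) = id := by
      funext x
      simp
    rw [this]
    exact Function.bijective_id
  | succ k ih =>
    have : (fun x : M => (f ^ (k + 1)) • x) = (fun x : M => (f ^ k) • x) ∘ (fun x : M => f • x) := by
      funext x
      simp [pow_succ, mul_smul]
    show Function.Bijective (fun x : M => (f ^ (k + 1)) • x)
    rw [this]
    exact Function.Bijective.comp ih hM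

end ModuleLevel

variable (f : A)

/-- the ring map `A → A_f` -/
noncomputable abbrev φf : A →+* Localization.Away f := algebraMap A (Localization.Away f)

/-- localization at `f` as a functor to `A_f`-modules -/
noncomputable abbrev LF : ModuleCat.{u} A ⥤ ModuleCat.{u} (Localization.Away f) :=
  ModuleCat.localizedModuleFunctor (Submonoid.powers f)

/-- the localization map `N ⟶ N_f`, with `N_f` restricted to `A` -/
noncomputable def mkHom (N : ModuleCat.{u} A) :
    N ⟶ (ModuleCat.restrictScalars (φf f)).obj ((LF f).obj N) :=
  ModuleCat.ofHom (Y := (ModuleCat.restrictScalars (φf f)).obj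
      (N.localizedModule (Submonoid.powers f)))
    { toFun := fun x => N.localizedModuleMkLinearMap (Submonoid.powers f) x
      map_add' := fun x y => map_add _ x y
      map_smul' := fun a x => by
        rw [map_smul]
        exact (algebraMap_smul (Localization.Away f) a
          (N.localizedModuleMkLinearMap (Submonoid.powers f) x)).symm }

lemma mkHom_apply (N : ModuleCat.{u} A) (x : N) :
    (mkHom f N).hom x = N.localizedModuleMkLinearMap (Submonoid.powers f) x := rfl

lemma mkHom_naturality {N N' : ModuleCat.{u} A} (g : N ⟶ N') :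
    g ≫ mkHom f N' = mkHom f N ≫ (ModuleCat.restrictScalars (φf f)).map ((LF f).map g) := by
  apply ModuleCat.hom_ext
  apply LinearMap.ext
  intro x
  show N'.localizedModuleMkLinearMap (Submonoid.powers f) (g.hom x) =
    ((LF f).map g).hom (N.localizedModuleMkLinearMap (Submonoid.powers f) x)
  show N'.localizedModuleMkLinearMap (Submonoid.powers f) (g.hom x) =
    (IsLocalizedModule.mapExtendScalars (Submonoid.powers f)
      (N.localizedModuleMkLinearMap (Submonoid.powers f))
      (N'.localizedModuleMkLinearMap (Submonoid.powers f)) (Localization (Submonoid.powers f)) g.hom)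
      (N.localizedModuleMkLinearMap (Submonoid.powers f) x)
  rw [IsLocalizedModule.mapExtendScalars_apply_apply, IsLocalizedModule.map_apply]


lemma isIso_mkHom (N : ModuleCat.{u} A) (hN : Function.Bijective (fun x : N => f • x)) :
    IsIso (mkHom f N) := by
  rw [ConcreteCategory.isIso_iff_bijective]
  exact bijective_of_isLocalizedModule (Submonoid.powers f)
    (N.localizedModuleMkLinearMap (Submonoid.powers f)) (bijective_smul_powers f hN)

/-- the termwise localization map `Y ⟶ Y_f` of complexes, with `Y_f` restricted to `A` -/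
noncomputable def mkCx (Y : DRing.Cx A) :
    Y ⟶ ((ModuleCat.restrictScalars (φf f)).mapHomologicalComplex (ComplexShape.up ℤ)).obj
      (((LF f).mapHomologicalComplex (ComplexShape.up ℤ)).obj Y) where
  f n := mkHom f (Y.X n)
  comm' i j _ := (mkHom_naturality f (Y.d i j)).symm

lemma isIso_mkCx (Y : DRing.Cx A) (hY : ∀ n : ℤ, Function.Bijective (fun y : Y.X n => f • y)) :
    IsIso (mkCx f Y) := by
  haveI : ∀ n, IsIso ((mkCx f Y).f n) := fun n => isIso_mkHom f _ (hY n)
  exact HomologicalComplex.Hom.isIso_of_components _


/-- `A_f` in degree `0`, as an object of `D(A)` -/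
noncomputable abbrev Af0 : Dual.D A := Dual.inD A (Localization.Away f)

section Shift

variable {C : Type*} [Category C] [HasShift C ℤ]

lemma subsingleton_shift_iff (X Y : C) (n : ℤ) :
    Subsingleton (X⟦-n⟧ ⟶ Y) ↔ Subsingleton (X ⟶ Y⟦n⟧) :=
  ((shiftEquiv' C (-n) n (by simp)).toAdjunction.homEquiv X Y).subsingleton_congr

end Shift

/-- `A_f`, as a module over itself, restricted to `A` -/
noncomputable def restrictSelfIso :
    (ModuleCat.restrictScalars (φf f)).obj (ModuleCat.of (Localization.Away f) (Localization.Away f)) ≅
      ModuleCat.of A (Localization.Away f) :=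
  LinearEquiv.toModuleIso
    (({ toFun := fun x => x
        invFun := fun x => x
        map_add' := fun _ _ => rfl
        map_smul' := fun a x => by
          show algebraMap A (Localization.Away f) a * (show Localization.Away f from x) =
            a • (show Localization.Away f from x)
          exact (Algebra.smul_def _ _).symm
        left_inv := fun _ => rfl
        right_inv := fun _ => rfl } :
      ((ModuleCat.restrictScalars (φf f)).obj
        (ModuleCat.of (Localization.Away f) (Localization.Away f))) ≃ₗ[A] Localization.Away f))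

/-- `restrictD (A_f[0]) ≅ A_f[0]` -/
noncomputable def restrictDSelfIso :
    (DRing.restrictD (φf f)).obj ((DerivedCategory.singleFunctor
      (ModuleCat.{u} (Localization.Away f)) 0).obj
        (ModuleCat.of (Localization.Away f) (Localization.Away f))) ≅ Af0 f :=
  ((ModuleCat.restrictScalars (φf f)).mapDerivedCategorySingleFunctor 0).app _ ≪≫
    (DerivedCategory.singleFunctor (ModuleCat.{u} A) 0).mapIso (restrictSelfIso f)


/-- if `M` is derived `f`-complete then `RHom_A(A_f, M) = 0` -/
theorem isZero_R_of_complete (R : Dual.D A ⥤ Dual.D (Localization.Away f))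
    (adj : DRing.restrictD (φf f) ⊣ R) (M : Dual.D A)
    (hM : ∀ n : ℤ, Subsingleton (Af0 f ⟶ M⟦n⟧)) : IsZero (R.obj M) := by
  let P : ModuleCat.{u} (Localization.Away f) :=
    ModuleCat.of (Localization.Away f) (Localization.Away f)
  let P0 : Dual.D (Localization.Away f) :=
    (DerivedCategory.singleFunctor (ModuleCat.{u} (Localization.Away f)) 0).obj P
  have h1 : ∀ n : ℤ, Subsingleton (P0 ⟶ (R.obj M)⟦n⟧) := by
    intro n
    rw [← subsingleton_shift_iff]
    refine (adj.homEquiv _ _).subsingleton_congr.1 ?_
    let e : (DRing.restrictD (φf f)).obj (P0⟦-n⟧) ≅ (Af0 f)⟦-n⟧ :=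
      ((DRing.restrictD (φf f)).commShiftIso (-n)).app P0 ≪≫
        (shiftFunctor _ (-n)).mapIso (restrictDSelfIso f)
    haveI : Subsingleton ((Af0 f)⟦-n⟧ ⟶ M) := (subsingleton_shift_iff _ _ n).2 (hM n)
    exact ⟨fun a b => by rw [← cancel_epi e.inv]; exact Subsingleton.elim _ _⟩
  apply Groth.Agent.Lib.helper23.DNak.isZero_of_homology
  intro n
  haveI : Projective P := ModuleCat.projective_of_categoryTheory_projective P
  have hb := Groth.Agent.Lib.helper23.ProjHom.bijective_homologyFunctor_map (P := P) ((R.obj M)⟦n⟧)
  haveI := h1 n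
  -- `Hom(H⁰(P[0]), H⁰((R M)⟦n⟧))` is a subsingleton
  have h2 : Subsingleton ((DerivedCategory.homologyFunctor _ 0).obj P0 ⟶
      (DerivedCategory.homologyFunctor _ 0).obj ((R.obj M)⟦n⟧)) := by
    refine ⟨fun a b => ?_⟩
    obtain ⟨a', rfl⟩ := hb.2 a
    obtain ⟨b', rfl⟩ := hb.2 b
    rw [Subsingleton.elim a' b']
  let eP : (DerivedCategory.homologyFunctor _ 0).obj P0 ≅ P :=
    (DerivedCategory.singleFunctorCompHomologyFunctorIso (ModuleCat.{u} (Localization.Away f)) 0).app P
  let e : (DerivedCategory.homologyFunctor (ModuleCat.{u} (Localization.Away f)) 0).obj ((R.obj M)⟦n⟧) ≅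
      (DerivedCategory.homologyFunctor (ModuleCat.{u} (Localization.Away f)) n).obj (R.obj M) :=
    ((DerivedCategory.homologyFunctor (ModuleCat.{u} (Localization.Away f)) 0).shiftIso n 0 n
      (by simp)).app (R.obj M)
  refine IsZero.of_iso ?_ e.symm
  haveI : Subsingleton ((DerivedCategory.homologyFunctor _ 0).obj ((R.obj M)⟦n⟧) :
      ModuleCat.{u} (Localization.Away f)) := by
    refine ⟨fun x y => ?_⟩
    have key : ∀ z : ((DerivedCategory.homologyFunctor _ 0).obj ((R.obj M)⟦n⟧) :
        ModuleCat.{u} (Localization.Away f)), z = 0 := by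
      intro z
      let g : P ⟶ (DerivedCategory.homologyFunctor _ 0).obj ((R.obj M)⟦n⟧) :=
        ModuleCat.ofHom (LinearMap.toSpanSingleton (Localization.Away f) _ z)
      have hg : eP.hom ≫ g = 0 := Subsingleton.elim (h := h2) _ _
      have hg' : g = 0 := by
        rw [← cancel_epi eP.hom, hg, comp_zero]
      have := congrArg (fun t => t.hom (1 : Localization.Away f)) hg'
      have h1' : (LinearMap.toSpanSingleton (Localization.Away f) _ z) 1 = 0 := this
      rwa [LinearMap.toSpanSingleton_apply, one_smul] at h1'
    rw [key x, key y]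
  exact ModuleCat.isZero_of_subsingleton _


/-- **Maps from `f`-local complexes to derived `f`-complete objects vanish.** -/
theorem subsingleton_hom_of_local (Y : DRing.Cx A)
    (hY : ∀ n : ℤ, Function.Bijective (fun y : Y.X n => f • y))
    (M : Dual.D A) (hM : ∀ n : ℤ, Subsingleton (Af0 f ⟶ M⟦n⟧)) :
    Subsingleton (DerivedCategory.Q.obj Y ⟶ M) := by
  obtain ⟨R, ⟨adj⟩⟩ := Groth.Agent.Lib.helper23.RHomEx.exists_rightAdjoint_restrictD (φf f)
  have hz := isZero_R_of_complete f R adj M hM
  haveI := isIso_mkCx f Y hY
  let Y' := ((LF f).mapHomologicalComplex (ComplexShape.up ℤ)).obj Y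
  let e : DerivedCategory.Q.obj Y ≅ (DRing.restrictD (φf f)).obj (DerivedCategory.Q.obj Y') :=
    DerivedCategory.Q.mapIso (asIso (mkCx f Y)) ≪≫
      ((ModuleCat.restrictScalars (φf f)).mapDerivedCategoryFactors.app Y').symm
  haveI : Subsingleton ((DRing.restrictD (φf f)).obj (DerivedCategory.Q.obj Y') ⟶ M) :=
    (adj.homEquiv _ _).subsingleton_congr.2 ⟨fun a b => hz.eq_of_tgt _ _⟩
  exact ⟨fun a b => by rw [← cancel_epi e.inv]; exact Subsingleton.elim _ _⟩

end Groth.Agent.Lib.helper13.DComp
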