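import Mathlib
import Groth.Prelude.Def_DRing4
import Groth.Agent.Lib.Helper23.RHomCx1
import Groth.Agent.Lib.Helper13.KFlat12
import Groth.Agent.Lib.Helper13.KFlat3

/-!
# K-flatness of Hom complexes, part 1 (helper13)

* `precompCochainLin`, `homCxHomotopyLeft`, `homCxHomotopyEquivLeft`: `Hom•(-, L)` is homotopy invariant.
* `nonempty_homotopyEquiv_of_iso_Q`: K-projective complexes isomorphic in `D(A)` are homotopy equivalent.
* `isKFlatR_of_retract`.
* `isKFlatR_of_degreewise_split`: K-flatness of the middle term of a degreewise split short exact sequence.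
* `homCxSC S L`, `homCxSC_splitting`: `Hom•(-, L)` of a degreewise split short exact sequence.
-/

set_option autoImplicit false
universe u
open CategoryTheory CategoryTheory.Limits HomologicalComplex MonoidalCategory
open CochainComplex.HomComplex

attribute [local instance] HasDerivedCategory.standard

namespace Groth.Agent.Lib.helper13.HomKFlat

open Groth.Agent.Lib.helper23.RHomCx Groth.Agent.Lib.helper13.KFlat

variable {A : Type u} [CommRing A]

section Htpy

/-- precomposition with a fixed cochain, as a linear map -/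
noncomputable def precompCochainLin {K K' : DRing.Cx A} {m : ℤ} (H : Cochain K K' m)
    (L : DRing.Cx A) (p q : ℤ) (hpq : m + p = q) : Cochain K' L p →ₗ[A] Cochain K L q where
  toFun z := H.comp z hpq
  map_add' z z' := by simp
  map_smul' a z := by simp

/-- the homotopy on `Hom•(-, L)` induced by a homotopy -/
noncomputable def homCxHomotopyLeft {K K' : DRing.Cx A} {f g : K ⟶ K'} (h : Homotopy f g)
    (L : DRing.Cx A) : Homotopy (homCxMapLeft f L) (homCxMapLeft g L) := by
  refine (Cochain.equivHomotopy _ _).symm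
    ⟨Cochain.mk (fun p q hpq => ModuleCat.ofHom
      (p.negOnePow • precompCochainLin (Cochain.ofHomotopy h) L p q (by omega))), ?_⟩
  refine Cochain.ext₀ _ _ (fun p => ?_)
  rw [Cochain.add_v, δ_v (-1) 0 (neg_add_cancel 1) _ p p (add_zero p) (p - 1) (p + 1) rfl rfl]
  simp only [Cochain.ofHom_v, Cochain.mk_v, Int.negOnePow_zero, one_smul]
  apply ModuleCat.hom_ext
  apply LinearMap.ext
  intro (z : Cochain K' L p)
  show (Cochain.ofHom f).comp z (zero_add p) =
    (δ (p - 1) p (p.negOnePow • (Cochain.ofHomotopy h).comp z (by omega)) +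
      (p + 1).negOnePow • (Cochain.ofHomotopy h).comp (δ p (p + 1) z) (by omega)) +
      (Cochain.ofHom g).comp z (zero_add p)
  rw [δ_units_smul, δ_comp (Cochain.ofHomotopy h) z (show -1 + p = p - 1 by omega) 0 (p + 1) p
    (by omega) (neg_add_cancel 1) rfl, δ_ofHomotopy]
  simp only [Int.negOnePow_succ, Units.neg_smul, smul_add, smul_smul, Int.units_mul_self, one_smul,
    Cochain.sub_comp]
  abel

/-- `Hom•(-, L)` sends homotopy equivalences to homotopy equivalences -/
noncomputable def homCxHomotopyEquivLeft {K K' : DRing.Cx A} (e : HomotopyEquiv K K')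
    (L : DRing.Cx A) : HomotopyEquiv (DRing.homCx K' L) (DRing.homCx K L) where
  hom := homCxMapLeft e.hom L
  inv := homCxMapLeft e.inv L
  homotopyHomInvId := by
    have h := homCxHomotopyLeft e.homotopyInvHomId L
    rw [homCxMapLeft_comp, homCxMapLeft_id] at h
    exact h
  homotopyInvHomId := by
    have h := homCxHomotopyLeft e.homotopyHomInvId L
    rw [homCxMapLeft_comp, homCxMapLeft_id] at h
    exact h

end Htpy

section KProj

/-- K-projective complexes which are isomorphic in the derived category are homotopy equivalent -/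
theorem nonempty_homotopyEquiv_of_iso_Q (P P' : DRing.Cx A) [P.IsKProjective] [P'.IsKProjective]
    (e : (DerivedCategory.Q.obj P : Dual.D A) ≅ DerivedCategory.Q.obj P') :
    Nonempty (HomotopyEquiv P P') := by
  obtain ⟨u, hu⟩ := (CochainComplex.IsKProjective.Qh_map_bijective P
    ((HomotopyCategory.quotient _ _).obj P')).2 e.hom
  obtain ⟨v, hv⟩ := (CochainComplex.IsKProjective.Qh_map_bijective P'
    ((HomotopyCategory.quotient _ _).obj P)).2 e.inv
  have h1 : u ≫ v = 𝟙 _ := by
    apply (CochainComplex.IsKProjective.Qh_map_bijective P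
      ((HomotopyCategory.quotient _ _).obj P)).1
    show DerivedCategory.Qh.map (u ≫ v) = DerivedCategory.Qh.map (𝟙 _)
    rw [Functor.map_comp, hu, hv, CategoryTheory.Functor.map_id]
    exact e.hom_inv_id
  have h2 : v ≫ u = 𝟙 _ := by
    apply (CochainComplex.IsKProjective.Qh_map_bijective P'
      ((HomotopyCategory.quotient _ _).obj P')).1
    show DerivedCategory.Qh.map (v ≫ u) = DerivedCategory.Qh.map (𝟙 _)
    rw [Functor.map_comp, hu, hv, CategoryTheory.Functor.map_id]
    exact e.inv_hom_id
  exact ⟨HomotopyCategory.homotopyEquivOfIso ⟨u, v, h1, h2⟩⟩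

end KProj

section Retract

theorem isKFlatR_of_retract {X Y : DRing.Cx A} (i : X ⟶ Y) (r : Y ⟶ X) (h : i ≫ r = 𝟙 X)
    (hY : IsKFlatR Y) : IsKFlatR X := by
  rw [isKFlatR_iff] at hY ⊢
  intro L hL
  exact acyclic_Φ_of_homotopy_retract _ L i r (Homotopy.ofEq h) (hY L hL)

theorem isKFlatR_of_iso {X Y : DRing.Cx A} (e : X ≅ Y) (hY : IsKFlatR Y) : IsKFlatR X :=
  isKFlatR_of_retract e.hom e.inv e.hom_inv_id hY

end Retract

section Split

open Groth.Agent.Lib.helper2.BifunctorExact in
/-- K-flatness of the middle term of a degreewise split short exact sequence of complexes -/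
theorem isKFlatR_of_degreewise_split (T : ShortComplex (DRing.Cx A))
    (hT : ∀ q : ℤ, Nonempty ((T.map (eval _ _ q)).Splitting))
    (h1 : IsKFlatR T.X₁) (h3 : IsKFlatR T.X₃) : IsKFlatR T.X₂ := by
  have key : ∀ L : DRing.Cx A,
      (T.map (Φ (curriedTensor (ModuleCat.{u} A)) L)).ShortExact := by
    intro L
    refine shortExact_map_Φ T (fun p q => ?_) (fun n => monoCoprod_moduleCat A _)
    obtain ⟨s⟩ := hT q
    exact (s.map ((curriedTensor (ModuleCat.{u} A)).obj (L.X p))).shortExact
  rw [isKFlatR_iff] at h1 h3 ⊢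
  intro L hL
  exact (acyclic_two_of_three _ (key L)).2.1 (h1 L hL) (h3 L hL)

lemma homCxMapLeft_zero (K K' L : DRing.Cx A) : homCxMapLeft (0 : K ⟶ K') L = 0 := by
  refine HomologicalComplex.hom_ext _ _ fun i => ModuleCat.hom_ext (LinearMap.ext fun
    (z : Cochain K' L i) => ?_)
  show (Cochain.ofHom (0 : K ⟶ K')).comp z (zero_add i) = 0
  rw [Cochain.ofHom_zero, Cochain.zero_comp]

/-- `Hom•(-, L)` applied to a short complex of complexes -/
noncomputable def homCxSC (S : ShortComplex (DRing.Cx A)) (L : DRing.Cx A) :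
    ShortComplex (DRing.Cx A) :=
  ShortComplex.mk (homCxMapLeft S.g L) (homCxMapLeft S.f L) (by
    rw [← homCxMapLeft_comp, S.zero, homCxMapLeft_zero])

/-- `Hom•(-, L)` of a degreewise split short exact sequence is degreewise split -/
noncomputable def homCxSC_splitting (S : ShortComplex (DRing.Cx A)) (L : DRing.Cx A)
    (hS : ∀ q : ℤ, (S.map (eval _ _ q)).Splitting) (i : ℤ) :
    ((homCxSC S L).map (eval _ _ i)).Splitting := by
  let ρ : Cochain S.X₂ S.X₁ 0 := Cochain.ofHoms (fun q => (hS q).r)
  let σ : Cochain S.X₃ S.X₂ 0 := Cochain.ofHoms (fun q => (hS q).s)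
  have c1 : (Cochain.ofHom S.f).comp ρ (zero_add 0) = Cochain.ofHom (𝟙 S.X₁) := by
    refine Cochain.ext₀ _ _ (fun p => ?_)
    simp only [Cochain.comp_zero_cochain_v, Cochain.ofHom_v, ρ, Cochain.ofHoms_v]
    exact (hS p).f_r
  have c2 : σ.comp (Cochain.ofHom S.g) (zero_add 0) = Cochain.ofHom (𝟙 S.X₃) := by
    refine Cochain.ext₀ _ _ (fun p => ?_)
    simp only [Cochain.comp_zero_cochain_v, Cochain.ofHom_v, σ, Cochain.ofHoms_v]
    exact (hS p).s_g
  have c3 : ρ.comp (Cochain.ofHom S.f) (zero_add 0) + (Cochain.ofHom S.g).comp σ (zero_add 0) =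
      Cochain.ofHom (𝟙 S.X₂) := by
    refine Cochain.ext₀ _ _ (fun p => ?_)
    simp only [Cochain.add_v, Cochain.comp_zero_cochain_v, Cochain.ofHom_v, ρ, σ,
      Cochain.ofHoms_v]
    exact (hS p).id
  exact
    { r := ModuleCat.ofHom (precompCochainLin σ L i i (zero_add i))
      s := ModuleCat.ofHom (precompCochainLin ρ L i i (zero_add i))
      f_r := by
        apply ModuleCat.hom_ext
        apply LinearMap.ext
        intro (z : Cochain S.X₃ L i)
        show σ.comp ((Cochain.ofHom S.g).comp z (zero_add i)) (zero_add i) = z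
        rw [← Cochain.comp_assoc_of_first_is_zero_cochain, c2, Cochain.id_comp]
      s_g := by
        apply ModuleCat.hom_ext
        apply LinearMap.ext
        intro (z : Cochain S.X₁ L i)
        show (Cochain.ofHom S.f).comp (ρ.comp z (zero_add i)) (zero_add i) = z
        rw [← Cochain.comp_assoc_of_first_is_zero_cochain, c1, Cochain.id_comp]
      id := by
        apply ModuleCat.hom_ext
        apply LinearMap.ext
        intro (z : Cochain S.X₂ L i)
        show (Cochain.ofHom S.g).comp (σ.comp z (zero_add i)) (zero_add i) +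
          ρ.comp ((Cochain.ofHom S.f).comp z (zero_add i)) (zero_add i) = z
        rw [← Cochain.comp_assoc_of_first_is_zero_cochain,
          ← Cochain.comp_assoc_of_first_is_zero_cochain, ← Cochain.add_comp, add_comm, c3,
          Cochain.id_comp] }

/-- the two-out-of-three property for `E ↦ IsKFlatR (Hom•(E, L))` along degreewise split sequences -/
theorem isKFlatR_homCx_of_degreewise_split (S : ShortComplex (DRing.Cx A)) (L : DRing.Cx A)
    (hS : ∀ q : ℤ, Nonempty ((S.map (eval _ _ q)).Splitting))
    (h1 : IsKFlatR (DRing.homCx S.X₁ L)) (h3 : IsKFlatR (DRing.homCx S.X₃ L)) :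
    IsKFlatR (DRing.homCx S.X₂ L) :=
  isKFlatR_of_degreewise_split (homCxSC S L)
    (fun i => ⟨homCxSC_splitting S L (fun q => (hS q).some) i⟩) h3 h1

end Split

end Groth.Agent.Lib.helper13.HomKFlat
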