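import Mathlib
import Groth.Prelude.Def_DRing4
import Groth.Prelude.Def_DRing3
import Groth.Prelude.Def_DDual2
import Groth.Prelude.Def_DerCA
import Groth.Agent.Lib.Helper23.TensHom3
import Groth.Agent.Lib.Helper23.DCompl11
import Groth.Agent.Lib.Helper13.DComp1
import Groth.Agent.Lib.Helper13.HomKFlat1

/-!
# Derived completion, part 2 (helper13)

* `hom_homCx_eq_zero`: if `Hom_D(X ⊗ E, J[n]) = 0` then `Hom_D(X, Hom•(E, J)[n]) = 0` (`E` K-flat, `J` K-injective).
* `isDerivedComplete_of_generators`: derived completeness may be checked on generators of the ideal.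
* `complete_shift`.
* `bijective_smul_homCx`, `isIso_smul_locFunctor`.
* `coconeSC f E`, `coconeSplitting`: the degreewise split sequence `E_f⟦-1⟧ ⟶ cocone(E → E_f) ⟶ E⟦1⟧⟦-1⟧`;
  `proj f E : cocone(E → E_f) ⟶ E`.
* `bijective_precomp_proj`: for `M` derived `f`-complete, precomposition with
  `Hom•(E, J) ⟶ Hom•(cocone(E → E_f), J)` is bijective on maps to `M` in `D(A)`.
-/

set_option autoImplicit false
universe u
open CategoryTheory CategoryTheory.Limits MonoidalCategory DerivedCategory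
open CochainComplex.HomComplex

attribute [local instance] HasDerivedCategory.standard

namespace Groth.Agent.Lib.helper13.DComp

open Groth.Agent.Lib.helper23.RHomCx Groth.Agent.Lib.helper23.TensHom
  Groth.Agent.Lib.helper13.KFlat Groth.Agent.Lib.helper13.HomKFlat

variable {A : Type u} [CommRing A]

/-- tensor-Hom vanishing: if `Hom_D(X ⊗ E, J[n]) = 0` then `Hom_D(X, Hom•(E, J)[n]) = 0`
(`E` K-flat, `J` K-injective) -/
theorem hom_homCx_eq_zero (X E J : DRing.Cx A) [J.IsKInjective] (hE : IsKFlatR E) (n : ℤ)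
    (h : ∀ ψ : Q.obj (X ⊗ E) ⟶ Q.obj (J⟦n⟧), ψ = 0)
    (φ : Q.obj X ⟶ Q.obj ((DRing.homCx E J)⟦n⟧)) : φ = 0 := by
  haveI := isKInjective_homCx E J hE
  obtain ⟨z, rfl⟩ := Ψ_surjective_of_isKInjective φ
  have hz : δ n (n + 1) (toT z.1) = 0 := by
    rw [δ_toT rfl z.1, Cocycle.δ_eq_zero]
    exact (toTLin X E J (n + 1)).map_zero
  let w : Cocycle (X ⊗ E) J n := Cocycle.mk (toT z.1) (n + 1) rfl hz
  have hw : Ψ (X ⊗ E) J n w = 0 := h _
  obtain ⟨β, hβ⟩ := exists_coboundary_of_isKInjective w hw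
  refine Ψ_eq_zero_of_coboundary z (fromT β) ?_
  rw [fromT_δ (by omega) β, hβ]
  exact fromT_toT z.1


open Groth.Agent.Lib.helper23.DCompl in
/-- derived completeness may be checked on generators of the ideal -/
theorem isDerivedComplete_of_generators (s : Set A) (K : Dual.D A)
    (h : ∀ g ∈ s, ∀ n : ℤ, Subsingleton (Af0 g ⟶ K⟦n⟧)) :
    DRing.IsDerivedComplete (Ideal.span s) K := by
  have key : ∀ f ∈ Ideal.span s, ∀ n : ℤ,
      SeqC f ((DerivedCategory.homologyFunctor (ModuleCat.{u} A) n).obj K) := by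
    intro f hf
    refine Submodule.span_induction
      (p := fun f _ => ∀ n : ℤ, SeqC f ((DerivedCategory.homologyFunctor (ModuleCat.{u} A) n).obj K))
      ?_ ?_ ?_ ?_ hf
    · intro g hg
      exact (general_criterion g K).1 (h g hg)
    · intro n
      exact SeqC.zero
    · intro x y _ _ hx hy n
      exact (hx n).add (hy n)
    · intro a x _ hx n
      exact (hx n).mul a
  intro f hf
  exact (general_criterion f K).2 (key f hf)

/-- shifts of derived `f`-complete objects are derived `f`-complete -/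
lemma complete_shift (f : A) (M : Dual.D A) (hM : ∀ n : ℤ, Subsingleton (Af0 f ⟶ M⟦n⟧)) (m : ℤ) :
    ∀ n : ℤ, Subsingleton (Af0 f ⟶ (M⟦m⟧)⟦n⟧) := by
  intro n
  haveI := hM (m + n)
  let e : (M⟦m⟧)⟦n⟧ ≅ M⟦m + n⟧ := ((shiftFunctorAdd' (Dual.D A) m n (m + n) rfl).app M).symm
  exact ⟨fun a b => by rw [← cancel_mono e.hom]; exact Subsingleton.elim _ _⟩


section Local

/-- `f` acts bijectively on `Hom•(L, J)` when it acts invertibly on the terms of `L` -/
lemma bijective_smul_homCx (f : A) (L J : DRing.Cx A) (hL : ∀ p : ℤ, IsIso (f • 𝟙 (L.X p))) (n : ℤ) :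
    Function.Bijective (fun z : (DRing.homCx L J).X n => f • z) := by
  constructor
  · intro (z : Cochain L J n) (z' : Cochain L J n) (h : f • z = f • z')
    show z = z'
    refine Cochain.ext _ _ (fun p q hpq => ?_)
    have h1 := congrArg (fun w : Cochain L J n => w.v p q hpq) h
    simp only [Cochain.smul_v] at h1
    haveI := hL p
    rw [← cancel_epi (f • 𝟙 (L.X p)), Linear.smul_comp, Linear.smul_comp, Category.id_comp,
      Category.id_comp]
    exact h1
  · intro (z : Cochain L J n)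
    refine ⟨(Cochain.mk (fun p q hpq => (haveI := hL p; inv (f • 𝟙 (L.X p))) ≫ z.v p q hpq) :
      Cochain L J n), ?_⟩
    show f • (Cochain.mk (fun p q hpq => (haveI := hL p; inv (f • 𝟙 (L.X p))) ≫ z.v p q hpq) :
      Cochain L J n) = z
    refine Cochain.ext _ _ (fun p q hpq => ?_)
    haveI := hL p
    simp only [Cochain.smul_v, Cochain.mk_v]
    rw [← Linear.smul_comp, ← Category.id_comp (inv (f • 𝟙 (L.X p))), ← Linear.smul_comp,
      IsIso.hom_inv_id, Category.id_comp]

/-- `f` acts invertibly on localized modules -/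
lemma isIso_smul_locFunctor (f : A) (N : ModuleCat.{u} A) :
    IsIso (f • 𝟙 ((DerCA.locFunctor (Submonoid.powers f)).obj N)) := by
  rw [ConcreteCategory.isIso_iff_bijective]
  have h := IsLocalizedModule.map_units (LocalizedModule.mkLinearMap (Submonoid.powers f) N)
    (⟨f, Submonoid.mem_powers f⟩ : Submonoid.powers f)
  rw [Module.End.isUnit_iff] at h
  exact h

end Local


section Step

variable (f : A) (E J : DRing.Cx A)

/-- the localization map `E ⟶ E_f` -/
noncomputable abbrev uE : E ⟶ (DerCA.locCx (Submonoid.powers f)).obj E :=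
  DerCA.locCxUnit (Submonoid.powers f) E

/-- the degreewise split short exact sequence `E_f⟦-1⟧ ⟶ cocone(E → E_f) ⟶ E⟦1⟧⟦-1⟧` -/
noncomputable def coconeSC : ShortComplex (DRing.Cx A) :=
  (CochainComplex.mappingCone.triangleRotateShortComplex (uE f E)).map
    (shiftFunctor (DRing.Cx A) (-1 : ℤ))

noncomputable def coconeSplitting (n : ℤ) :
    ((coconeSC f E).map (HomologicalComplex.eval _ _ n)).Splitting :=
  CochainComplex.mappingCone.triangleRotateShortComplexSplitting (uE f E) (n + (-1))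


/-- `E⟦1⟧⟦-1⟧ ≅ E` -/
noncomputable def shiftIso : (E⟦(1 : ℤ)⟧)⟦(-1 : ℤ)⟧ ≅ E :=
  (shiftFunctorCompIsoId (DRing.Cx A) (1 : ℤ) (-1) (by norm_num)).app E

/-- the projection `cocone(E → E_f) ⟶ E` -/
noncomputable def proj : CochainComplex.mappingCocone (uE f E) ⟶ E :=
  (show CochainComplex.mappingCocone (uE f E) ⟶ (E⟦(1 : ℤ)⟧)⟦(-1 : ℤ)⟧ from (coconeSC f E).g) ≫
    (shiftIso E).hom

open Groth.Agent.Lib.helper23.DCompl in
/-- **Universal property, one step**: for `M` derived `f`-complete, maps `Hom•(cocone(E → E_f), J) ⟶ M` in `D(A)`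
correspond bijectively to maps `Hom•(E, J) ⟶ M`. -/
theorem bijective_precomp_proj (M : Dual.D A) (hM : ∀ n : ℤ, Subsingleton (Af0 f ⟶ M⟦n⟧)) :
    Function.Bijective
      (fun ψ : Q.obj (DRing.homCx (CochainComplex.mappingCocone (uE f E)) J) ⟶ M =>
        Q.map (homCxMapLeft (proj f E) J) ≫ ψ) := by
  let S' := homCxSC (coconeSC f E) J
  have hS' : S'.ShortExact := by
    refine HomologicalComplex.shortExact_of_degreewise_shortExact S' (fun i => ?_)
    exact (homCxSC_splitting (coconeSC f E) J (coconeSplitting f E) i).shortExact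
  have hT := DerivedCategory.triangleOfSES_distinguished hS'
  have hY : ∀ n : ℤ, Function.Bijective
      (fun y : (DRing.homCx (coconeSC f E).X₁ J).X n => f • y) :=
    bijective_smul_homCx f _ J (fun p => isIso_smul_locFunctor f _)
  have h0 : Subsingleton ((DerivedCategory.triangleOfSES hS').obj₃ ⟶ M) :=
    subsingleton_hom_of_local f _ hY M hM
  have h1 : Subsingleton ((DerivedCategory.triangleOfSES hS').obj₃ ⟶ M⟦(1 : ℤ)⟧) :=
    subsingleton_hom_of_local f _ hY _ (fun n => complete_shift f M hM 1 n)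
  -- the first map of the triangle
  let m₁ : Q.obj (DRing.homCx ((E⟦(1 : ℤ)⟧)⟦(-1 : ℤ)⟧) J) ⟶
      Q.obj (DRing.homCx (CochainComplex.mappingCocone (uE f E)) J) :=
    (DerivedCategory.triangleOfSES hS').mor₁
  have hb : Function.Bijective
      (fun ψ : Q.obj (DRing.homCx (CochainComplex.mappingCocone (uE f E)) J) ⟶ M => m₁ ≫ ψ) :=
    ⟨inj_of_subsingleton _ hT M h0, surj_of_subsingleton _ hT M h1⟩
  have hfac : Q.map (homCxMapLeft (proj f E) J) =
      Q.map (homCxMapLeft (shiftIso E).hom J) ≫ m₁ := by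
    show _ = Q.map (homCxMapLeft (shiftIso E).hom J) ≫
      Q.map (homCxMapLeft (show CochainComplex.mappingCocone (uE f E) ⟶ (E⟦(1 : ℤ)⟧)⟦(-1 : ℤ)⟧ from
        (coconeSC f E).g) J)
    rw [← Functor.map_comp, ← homCxMapLeft_comp]
    rfl
  haveI : IsIso (Q.map (homCxMapLeft (shiftIso E).hom J)) :=
    (Q.mapIso (homCxIsoLeft (shiftIso E) J)).isIso_hom
  constructor
  · intro ψ₁ ψ₂ h
    have h' : Q.map (homCxMapLeft (shiftIso E).hom J) ≫ m₁ ≫ ψ₁ =
        Q.map (homCxMapLeft (shiftIso E).hom J) ≫ m₁ ≫ ψ₂ := by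
      rw [← Category.assoc, ← Category.assoc, ← hfac]
      exact h
    exact hb.1 ((cancel_epi _).1 h')
  · intro χ
    obtain ⟨ψ, hψ⟩ := hb.2 (inv (Q.map (homCxMapLeft (shiftIso E).hom J)) ≫ χ)
    refine ⟨ψ, ?_⟩
    show Q.map (homCxMapLeft (proj f E) J) ≫ ψ = χ
    have hψ' : m₁ ≫ ψ = inv (Q.map (homCxMapLeft (shiftIso E).hom J)) ≫ χ := hψ
    rw [hfac, Category.assoc, hψ', IsIso.hom_inv_id_assoc]

end Step
end Groth.Agent.Lib.helper13.DComp
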