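import Mathlib
import Groth.Prelude.Def_DRing4
import Groth.Prelude.Def_DRing3
import Groth.Prelude.Def_DDual2
import Groth.Prelude.Def_DerCA
import Groth.Agent.Lib.Helper13.DComp1
import Groth.Agent.Lib.Helper23.DNak
import Groth.Agent.Lib.Helper2.BifunctorCone
import Groth.Agent.Lib.Helper13.KFlat9
import Groth.Agent.Lib.Helper23.TA1

/-!
# Derived completion, part 3 (helper13): the extended Čech complex

* `locTensorIso S : DerCA.locFunctor S ≅ tensorLeft (A_S)`; `locTensorLeftIso`.
* `bijective_lTensor_mk`, `isIso_whiskerLeft_locUnit`: `Q ⊗ (N → N_f)` is bijective when `f` acts bijectively on `Q`.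
* `isZero_Q_obj_of_acyclic`, `acyclic_of_isZero_Q_obj`.
* `acyclic_map_mappingCocone`: a termwise additive functor sends the mapping cocone of `φ` to an acyclic complex
  when the image of `φ` is invertible in `D(A)`.
* `acyclic_tensorLeft_extCech`: `Q ⊗ Č(fs)` is acyclic when some element of `fs` acts bijectively on `Q`.
* `extCech_bounded_flat`, `isKFlatR_extCech`.
-/

set_option autoImplicit false
universe u
open CategoryTheory CategoryTheory.Limits MonoidalCategory

attribute [local instance] HasDerivedCategory.standard

namespace Groth.Agent.Lib.helper13.DComp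

variable {A : Type u} [CommRing A]

section LocTensor

variable (S : Submonoid A)

/-- `N_S ≅ A_S ⊗ N`, naturally in `N` -/
noncomputable def locTensorIso :
    DerCA.locFunctor S ≅ tensorLeft (ModuleCat.of A (Localization S)) :=
  NatIso.ofComponents
    (fun N => ((LocalizedModule.equivTensorProduct S N).restrictScalars A).toModuleIso)
    (by
      intro N N' g
      apply ModuleCat.hom_ext
      apply LinearMap.ext
      intro (x : LocalizedModule S N)
      induction x using LocalizedModule.induction_on with
      | h m s =>
        show (LocalizedModule.equivTensorProduct S N')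
            ((IsLocalizedModule.map S (LocalizedModule.mkLinearMap S N)
              (LocalizedModule.mkLinearMap S N') g.hom) (LocalizedModule.mk m s)) =
          (ModuleCat.of A (Localization S) ◁ g).hom
            ((LocalizedModule.equivTensorProduct S N) (LocalizedModule.mk m s))
        rw [LocalizedModule.equivTensorProduct_apply_mk, IsLocalizedModule.mk_eq_mk',
          IsLocalizedModule.map_mk', ← IsLocalizedModule.mk_eq_mk',
          LocalizedModule.equivTensorProduct_apply_mk]
        rfl)

end LocTensor


section TensorLoc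

open TensorProduct

/-- the identity of a module on which `S` acts bijectively is a localization map -/
lemma isLocalizedModule_id_of_bijective (S : Submonoid A) (M : Type*) [AddCommGroup M] [Module A M]
    (hM : ∀ s : S, Function.Bijective (fun x : M => (s : A) • x)) :
    IsLocalizedModule S (LinearMap.id : M →ₗ[A] M) :=
  { map_units := fun s => by
      rw [Module.End.isUnit_iff]
      exact hM s
    surj := fun y => ⟨(y, 1), one_smul _ _⟩
    exists_of_eq := fun h => ⟨1, congrArg _ h⟩ }

/-- if `a` acts bijectively on `Q` it acts bijectively on `Q ⊗ N` -/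
lemma bijective_smul_tensor (a : A) (Q N : Type*) [AddCommGroup Q] [Module A Q] [AddCommGroup N]
    [Module A N] (hQ : Function.Bijective (fun x : Q => a • x)) :
    Function.Bijective (fun x : Q ⊗[A] N => a • x) := by
  let e : Q ≃ₗ[A] Q := LinearEquiv.ofBijective (a • (LinearMap.id : Q →ₗ[A] Q)) hQ
  have h : (fun x : Q ⊗[A] N => a • x) = (LinearEquiv.rTensor N e) := by
    funext x
    induction x using TensorProduct.induction_on with
    | zero => simp
    | tmul q n =>
      show a • (q ⊗ₜ[A] n) = (LinearEquiv.rTensor N e) (q ⊗ₜ[A] n)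
      rw [LinearEquiv.rTensor_tmul]
      rfl
    | add x y hx hy =>
      show a • (x + y) = (LinearEquiv.rTensor N e) (x + y)
      rw [smul_add, map_add]
      exact congrArg₂ _ hx hy
  rw [h]
  exact (LinearEquiv.rTensor N e).bijective

/-- `Q ⊗ (N → N_f)` is bijective when `f` acts bijectively on `Q` -/
lemma bijective_lTensor_mk (f : A) (Q N : Type u) [AddCommGroup Q] [Module A Q] [AddCommGroup N]
    [Module A N] (hQ : Function.Bijective (fun x : Q => f • x)) :
    Function.Bijective (LinearMap.lTensor Q (LocalizedModule.mkLinearMap (Submonoid.powers f) N)) := by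
  haveI := isLocalizedModule_id_of_bijective (Submonoid.powers f) Q (bijective_smul_powers f hQ)
  haveI : IsLocalizedModule (Submonoid.powers f)
      (LinearMap.lTensor Q (LocalizedModule.mkLinearMap (Submonoid.powers f) N)) :=
    inferInstanceAs (IsLocalizedModule (Submonoid.powers f)
      (TensorProduct.map (LinearMap.id : Q →ₗ[A] Q)
        (LocalizedModule.mkLinearMap (Submonoid.powers f) N)))
  refine bijective_of_isLocalizedModule (Submonoid.powers f) _ (fun s => ?_)
  exact bijective_smul_tensor (s : A) Q N (bijective_smul_powers f hQ s)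

end TensorLoc


section Cat

variable (f : A)

/-- `Q ⊗ (N → N_f)` is an isomorphism when `f` acts bijectively on `Q` -/
lemma isIso_whiskerLeft_locUnit (Q N : ModuleCat.{u} A)
    (hQ : Function.Bijective (fun x : Q => f • x)) :
    IsIso (Q ◁ (DerCA.locUnit (Submonoid.powers f)).app N) := by
  rw [ConcreteCategory.isIso_iff_bijective]
  exact bijective_lTensor_mk f Q N hQ

/-- `Q ⊗ N_f ≅ (Q ⊗ A_f) ⊗ N`, naturally in `N` -/
noncomputable def locTensorLeftIso (Q : ModuleCat.{u} A) :
    DerCA.locFunctor (Submonoid.powers f) ⋙ tensorLeft Q ≅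
      tensorLeft (Q ⊗ ModuleCat.of A (Localization (Submonoid.powers f))) :=
  Functor.isoWhiskerRight (locTensorIso (Submonoid.powers f)) (tensorLeft Q) ≪≫
    (tensorLeftTensor Q (ModuleCat.of A (Localization (Submonoid.powers f)))).symm

end Cat

section Acyclic

open DerivedCategory Pretriangulated

lemma isZero_Q_obj_of_acyclic (X : DRing.Cx A) (hX : X.Acyclic) : IsZero (Q.obj X) := by
  apply Groth.Agent.Lib.helper23.DNak.isZero_of_homology
  intro n
  refine IsZero.of_iso ?_ ((DerivedCategory.homologyFunctorFactors (ModuleCat.{u} A) n).app X)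
  exact (HomologicalComplex.exactAt_iff_isZero_homology _ _).1 (hX n)

lemma acyclic_of_isZero_Q_obj (X : DRing.Cx A) (hX : IsZero (Q.obj X)) : X.Acyclic := by
  intro n
  rw [HomologicalComplex.exactAt_iff_isZero_homology]
  refine IsZero.of_iso ?_ ((DerivedCategory.homologyFunctorFactors (ModuleCat.{u} A) n).app X).symm
  exact Functor.map_isZero (DerivedCategory.homologyFunctor (ModuleCat.{u} A) n) hX

/-- the image under a termwise additive functor of the mapping cocone of `φ` is acyclic as soon as
the image of `φ` is invertible in the derived category -/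
lemma acyclic_map_mappingCocone {K L : DRing.Cx A} (φ : K ⟶ L)
    (F : ModuleCat.{u} A ⥤ ModuleCat.{u} A) [F.Additive]
    (h : IsIso (Q.map ((F.mapHomologicalComplex (ComplexShape.up ℤ)).map φ))) :
    ((F.mapHomologicalComplex (ComplexShape.up ℤ)).obj (CochainComplex.mappingCocone φ)).Acyclic := by
  let Tri := (HomotopyCategory.quotient (ModuleCat.{u} A) (ComplexShape.up ℤ)).mapTriangle.obj
    (CochainComplex.mappingCocone.triangle φ)
  have hTri : Tri ∈ distTriang _ := by
    rw [rotate_distinguished_triangle]
    exact isomorphic_distinguished _ (HomotopyCategory.mappingCone_triangleh_distinguished φ) _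
      ((HomotopyCategory.quotient _ _).mapTriangleRotateIso.app _ ≪≫
        (HomotopyCategory.quotient _ _).mapTriangle.mapIso
          (CochainComplex.mappingCocone.rotateTriangleIso φ))
  let G := F.mapHomotopyCategory (ComplexShape.up ℤ) ⋙ Qh
  have hG := G.map_distinguished _ hTri
  have hiso : IsIso (G.mapTriangle.obj Tri).mor₂ := by
    show IsIso (Qh.map ((HomotopyCategory.quotient _ _).map
      ((F.mapHomologicalComplex (ComplexShape.up ℤ)).map φ)))
    exact (NatIso.isIso_map_iff (DerivedCategory.quotientCompQhIso (ModuleCat.{u} A)) _).2 h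
  have hz := (Triangle.isZero₁_iff_isIso₂ _ hG).2 hiso
  apply acyclic_of_isZero_Q_obj
  exact IsZero.of_iso hz ((DerivedCategory.quotientCompQhIso (ModuleCat.{u} A)).app _).symm

end Acyclic


section Cech

open DerivedCategory Groth.Agent.Lib.helper2.BifunctorExact

/-- `Q ⊗ Č(fs)` is acyclic as soon as some element of `fs` acts bijectively on `Q` -/
theorem acyclic_tensorLeft_extCech : ∀ (fs : List A) (Q : ModuleCat.{u} A),
    (∃ g ∈ fs, Function.Bijective (fun x : Q => g • x)) →
    (((tensorLeft Q).mapHomologicalComplex (ComplexShape.up ℤ)).obj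
      (DerCA.extCech (ModuleCat.of A A) fs)).Acyclic
  | [], Q, h => by
    obtain ⟨g, hg, -⟩ := h
    simp at hg
  | f :: fs, Q, h => by
    obtain ⟨g, hg, hQ⟩ := h
    show (((tensorLeft Q).mapHomologicalComplex (ComplexShape.up ℤ)).obj
      (CochainComplex.mappingCocone (DerCA.locCxUnit (Submonoid.powers f)
        (DerCA.extCech (ModuleCat.of A A) fs)))).Acyclic
    apply acyclic_map_mappingCocone
    rcases List.mem_cons.1 hg with rfl | hg'
    · haveI : IsIso (((tensorLeft Q).mapHomologicalComplex (ComplexShape.up ℤ)).map
          (DerCA.locCxUnit (Submonoid.powers g) (DerCA.extCech (ModuleCat.of A A) fs))) := by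
        haveI : ∀ n, IsIso ((((tensorLeft Q).mapHomologicalComplex (ComplexShape.up ℤ)).map
            (DerCA.locCxUnit (Submonoid.powers g) (DerCA.extCech (ModuleCat.of A A) fs))).f n) :=
          fun n => isIso_whiskerLeft_locUnit g Q _ hQ
        exact HomologicalComplex.Hom.isIso_of_components _
      exact Functor.map_isIso _ _
    · have h1 := acyclic_tensorLeft_extCech fs Q ⟨g, hg', hQ⟩
      have h3 := acyclic_tensorLeft_extCech fs
        (Q ⊗ ModuleCat.of A (Localization (Submonoid.powers f)))
        ⟨g, hg', bijective_smul_tensor g Q _ hQ⟩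
      have h2 : (((tensorLeft Q).mapHomologicalComplex (ComplexShape.up ℤ)).obj
          ((DerCA.locCx (Submonoid.powers f)).obj (DerCA.extCech (ModuleCat.of A A) fs))).Acyclic :=
        acyclic_of_iso ((NatIso.mapHomologicalComplex (locTensorLeftIso f Q)
          (ComplexShape.up ℤ)).app (DerCA.extCech (ModuleCat.of A A) fs)).symm h3
      exact ⟨⟨0, (isZero_Q_obj_of_acyclic _ h1).eq_of_src _ _,
        (isZero_Q_obj_of_acyclic _ h2).eq_of_src _ _⟩⟩

end Cech

section KFlat'

open Groth.Agent.Lib.helper13.KFlat

lemma flat_locFunctor (S : Submonoid A) (N : ModuleCat.{u} A) [Module.Flat A N] :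
    Module.Flat A ((DerCA.locFunctor S).obj N) := by
  show Module.Flat A (LocalizedModule S N)
  exact Module.Flat.trans A (Localization S) (LocalizedModule S N)

/-- the extended Čech complex of a flat module is bounded above with flat terms -/
theorem extCech_bounded_flat (M : ModuleCat.{u} A) [Module.Flat A M] : ∀ fs : List A,
    ∃ b : ℤ, DRing.VanishesAbove (DerCA.extCech M fs) b ∧ DRing.TermwiseFlat (DerCA.extCech M fs)
  | [] => by
    refine ⟨0, fun i hi => ?_, fun i => ?_⟩
    · exact HomologicalComplex.isZero_single_obj_X _ _ _ _ (by omega)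
    · by_cases hi : i = 0
      · subst hi
        exact Module.Flat.of_linearEquiv
          (HomologicalComplex.singleObjXSelf (ComplexShape.up ℤ) 0 M).toLinearEquiv
      · haveI : Subsingleton ((DerCA.extCech M []).X i) :=
          ModuleCat.subsingleton_of_isZero (HomologicalComplex.isZero_single_obj_X _ _ _ _ hi)
        infer_instance
  | f :: fs => by
    obtain ⟨b, hb, hfl⟩ := extCech_bounded_flat M fs
    refine ⟨b + 1, fun i hi => ?_, fun i => ?_⟩
    · refine IsZero.of_iso ?_ (DerCA.mappingCoconeXIso
        (DerCA.locCxUnit (Submonoid.powers f) (DerCA.extCech M fs)) i)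
      rw [biprod_isZero_iff]
      exact ⟨hb i (by omega), (DerCA.locFunctor (Submonoid.powers f)).map_isZero (hb (i - 1) (by omega))⟩
    · haveI h1 : Module.Flat A ((DerCA.extCech M fs).X i) := hfl i
      haveI := hfl (i - 1)
      haveI h2 : Module.Flat A ((DerCA.locFunctor (Submonoid.powers f)).obj
          ((DerCA.extCech M fs).X (i - 1))) :=
        flat_locFunctor (Submonoid.powers f) ((DerCA.extCech M fs).X (i - 1))
      haveI h3 : Module.Flat A (((DerCA.extCech M fs).X i) ×
          ((DerCA.locFunctor (Submonoid.powers f)).obj ((DerCA.extCech M fs).X (i - 1)))) :=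
        Groth.Agent.Lib.helper23.TA.flat_prod _ _
      exact @Module.Flat.of_linearEquiv A _ _ _ _ _ _ _ h3 ((DerCA.mappingCoconeXIso
        (DerCA.locCxUnit (Submonoid.powers f) (DerCA.extCech M fs)) i ≪≫
          ModuleCat.biprodIsoProd _ _).toLinearEquiv)

/-- the extended Čech complex of the ring is K-flat -/
theorem isKFlatR_extCech (fs : List A) : IsKFlatR (DerCA.extCech (ModuleCat.of A A) fs) := by
  obtain ⟨b, hb, hfl⟩ := extCech_bounded_flat (ModuleCat.of A A) fs
  exact isKFlatR_of_bounded_above _ b hb hfl

end KFlat'

end Groth.Agent.Lib.helper13.DComp
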