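import Mathlib
import Groth.Prelude.Def_DRing4
import Groth.Agent.Lib.Helper13.HomKFlat1
import Groth.Agent.Lib.Helper13.RKF1

/-!
# K-flatness of Hom complexes, part 2 (helper13)

* `S₀ A q₀`: the ring `A` placed in degree `q₀`.
* `singleEquiv K q₀ i : Cochain (S₀ A q₀) K i ≃ₗ[A] K.X (i + q₀)`, `singleEquiv_δ`.
* `singleShiftIso K q₀ : Hom•(A[-q₀], K) ≅ K⟦q₀⟧`.
* `isKFlatR_homCx_S₀`: `Hom•(A[-q₀], K)` is K-flat when `K` is.
* `PK K E := IsKFlatR (Hom•(E, K))`; closure under retracts, isomorphisms, zero objects, biproducts.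
-/

set_option autoImplicit false
universe u
open CategoryTheory CategoryTheory.Limits HomologicalComplex MonoidalCategory
open CochainComplex.HomComplex

attribute [local instance] HasDerivedCategory.standard

namespace Groth.Agent.Lib.helper13.HomKFlat
open Groth.Agent.Lib.helper23.RHomCx Groth.Agent.Lib.helper13.KFlat

variable {A : Type u} [CommRing A]

/-- `A` placed in degree `q₀` -/
noncomputable abbrev S₀ (A : Type u) [CommRing A] (q₀ : ℤ) : DRing.Cx A :=
  (CochainComplex.singleFunctor (ModuleCat.{u} A) q₀).obj (ModuleCat.of A A)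

variable (K : DRing.Cx A) (q₀ : ℤ)

example (i : ℤ) : (K⟦q₀⟧).X i = K.X (i + q₀) := rfl

noncomputable def singleEquiv (i : ℤ) : Cochain (S₀ A q₀) K i ≃ₗ[A] K.X (i + q₀) where
  toFun z := (Cochain.fromSingleEquiv (show q₀ + i = i + q₀ by omega) z).hom (1 : A)
  map_add' z z' := by
    rw [map_add]
    rfl
  map_smul' a z := by
    simp only [Cochain.fromSingleEquiv, AddEquiv.coe_mk, Equiv.coe_fn_mk, Cochain.smul_v,
      RingHom.id_apply]
    simp only [ModuleCat.hom_comp, LinearMap.comp_apply]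
    rfl
  invFun x := Cochain.fromSingleMk (ModuleCat.ofHom (LinearMap.toSpanSingleton A _ x))
    (show q₀ + i = i + q₀ by omega)
  left_inv z := by
    apply (Cochain.fromSingleEquiv (show q₀ + i = i + q₀ by omega)).injective
    rw [Cochain.fromSingleEquiv_fromSingleMk]
    apply ModuleCat.hom_ext
    apply LinearMap.ext_ring
    simp
  right_inv x := by
    show (Cochain.fromSingleEquiv (show q₀ + i = i + q₀ by omega)
      (Cochain.fromSingleMk (ModuleCat.ofHom (LinearMap.toSpanSingleton A _ x))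
        (show q₀ + i = i + q₀ by omega))).hom (1 : A) = x
    rw [Cochain.fromSingleEquiv_fromSingleMk]
    simp

lemma singleEquiv_δ (i j : ℤ) (hij : i + 1 = j) (z : Cochain (S₀ A q₀) K i) :
    singleEquiv K q₀ j (δ i j z) = K.d (i + q₀) (j + q₀) (singleEquiv K q₀ i z) := by
  obtain ⟨f, rfl⟩ := Cochain.fromSingleMk_surjective z (i + q₀) (by omega)
  rw [Cochain.δ_fromSingleMk f _ j (j + q₀) (by omega)]
  show (Cochain.fromSingleEquiv _ (Cochain.fromSingleMk (f ≫ K.d _ _) _)).hom 1 =
    K.d _ _ ((Cochain.fromSingleEquiv _ (Cochain.fromSingleMk f _)).hom 1)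
  rw [Cochain.fromSingleEquiv_fromSingleMk, Cochain.fromSingleEquiv_fromSingleMk]
  rfl

/-- `Hom•(A[-q₀], K) ≅ K⟦q₀⟧` -/
noncomputable def singleShiftIso : DRing.homCx (S₀ A q₀) K ≅ K⟦q₀⟧ :=
  HomologicalComplex.Hom.isoOfComponents (fun i =>
    { hom := ModuleCat.ofHom ((q₀ * i).negOnePow • (singleEquiv K q₀ i).toLinearMap)
      inv := ModuleCat.ofHom ((q₀ * i).negOnePow • (singleEquiv K q₀ i).symm.toLinearMap)
      hom_inv_id := by
        apply ModuleCat.hom_ext
        apply LinearMap.ext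
        intro (z : Cochain (S₀ A q₀) K i)
        show (q₀ * i).negOnePow • (singleEquiv K q₀ i).symm
          ((q₀ * i).negOnePow • (singleEquiv K q₀ i) z) = z
        rw [Units.smul_def, Units.smul_def, map_zsmul, LinearEquiv.symm_apply_apply, smul_smul,
          ← Units.val_mul, Int.units_mul_self, Units.val_one, one_smul]
      inv_hom_id := by
        apply ModuleCat.hom_ext
        apply LinearMap.ext
        intro (x : K.X (i + q₀))
        show (q₀ * i).negOnePow • (singleEquiv K q₀ i)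
          ((q₀ * i).negOnePow • (singleEquiv K q₀ i).symm x) = x
        rw [Units.smul_def, Units.smul_def, map_zsmul, LinearEquiv.apply_symm_apply, smul_smul,
          ← Units.val_mul, Int.units_mul_self, Units.val_one, one_smul] }) (by
    intro i j hij
    have hij' : i + 1 = j := hij
    subst hij'
    apply ModuleCat.hom_ext
    apply LinearMap.ext
    intro (z : Cochain (S₀ A q₀) K i)
    show (K⟦q₀⟧).d i (i + 1) ((q₀ * i).negOnePow • (singleEquiv K q₀ i) z) =
      (q₀ * (i + 1)).negOnePow • (singleEquiv K q₀ (i + 1)) (δ i (i + 1) z)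
    rw [singleEquiv_δ K q₀ i (i + 1) rfl, CochainComplex.shiftFunctor_obj_d']
    rw [mul_add, mul_one, Int.negOnePow_add, mul_smul, Units.smul_def, Units.smul_def,
      Units.smul_def]
    have key : ∀ (a b : ℤ) (x : K.X (i + q₀)),
        (ModuleCat.Hom.hom (a • K.d (i + q₀) (i + 1 + q₀))) (b • x) =
          b • a • (ModuleCat.Hom.hom (K.d (i + q₀) (i + 1 + q₀))) x := by
      intro a b x
      rw [ModuleCat.hom_zsmul, LinearMap.smul_apply, map_zsmul, smul_comm]
    exact key _ _ _)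


theorem isKFlatR_homCx_S₀ (hK : IsKFlatR K) : IsKFlatR (DRing.homCx (S₀ A q₀) K) :=
  isKFlatR_of_iso (singleShiftIso K q₀) (Groth.Agent.Lib.helper13.RKF.isKFlatR_shift K q₀ hK)

section Closure

/-- the property `E ↦ Hom•(E, K)` is K-flat -/
def PK (K E : DRing.Cx A) : Prop := IsKFlatR (DRing.homCx E K)

variable {K}

theorem PK_of_retract {E E' : DRing.Cx A} (i : E ⟶ E') (r : E' ⟶ E) (h : i ≫ r = 𝟙 E)
    (hE' : PK K E') : PK K E := by
  refine isKFlatR_of_retract (homCxMapLeft r K) (homCxMapLeft i K) ?_ hE'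
  rw [← homCxMapLeft_comp, h, homCxMapLeft_id]

theorem PK_of_iso {E E' : DRing.Cx A} (e : E ≅ E') (hE' : PK K E') : PK K E :=
  PK_of_retract e.hom e.inv e.hom_inv_id hE'

theorem PK_of_isZero {E : DRing.Cx A} (h : IsZero E) : PK K E := by
  refine Groth.Agent.Lib.helper13.RKF.isKFlatR_of_isZero _ ?_
  rw [IsZero.iff_id_eq_zero, ← homCxMapLeft_id, h.eq_of_src (𝟙 E) 0, homCxMapLeft_zero]

theorem PK_of_split (S : ShortComplex (DRing.Cx A)) (s : S.Splitting)
    (h1 : PK K S.X₁) (h3 : PK K S.X₃) : PK K S.X₂ :=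
  isKFlatR_homCx_of_degreewise_split S K (fun q => ⟨s.map (eval _ _ q)⟩) h1 h3

theorem PK_biprod {E₁ E₂ : DRing.Cx A} (h1 : PK K E₁) (h2 : PK K E₂) : PK K (E₁ ⊞ E₂) :=
  PK_of_split (ShortComplex.mk (biprod.inl : E₁ ⟶ E₁ ⊞ E₂) biprod.snd (by simp))
    (ShortComplex.Splitting.ofHasBinaryBiproduct E₁ E₂) h1 h2

end Closure

end Groth.Agent.Lib.helper13.HomKFlat
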