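import Mathlib
import Groth.Prelude.Def_DRing4
import Groth.Prelude.Def_DRing3
import Groth.Prelude.Def_DDual2
import Groth.Prelude.Def_DerCA
import Groth.Agent.Lib.Helper13.DComp2
import Groth.Agent.Lib.Helper13.DComp3
import Groth.Agent.Lib.Helper25.TotSingle
import Groth.Agent.Lib.Helper13.HomKFlat2
import Groth.Agent.Lib.Helper23.RHomEx

/-!
# Derived completion, part 4 (helper13): derived completion exists for finitely generated ideals

`Cech fs := DerCA.extCech (ModuleCat.of A A) fs`, `aug fs : Cech fs ⟶ Cech []`.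

* `bijective_precomp_aug`: universal property of `Hom•(A[0], J) ⟶ Hom•(Č(fs), J)` (any `J`).
* `acyclic_Sg_tensor_Cech`, `complete_homCx_Cech`: `Hom•(Č(fs), J)` is derived complete with respect to each
  `g ∈ fs` (`J` K-injective).
* `unitHomIso`, `toCompletion fs J : Q J ⟶ Q (Hom•(Č(fs), J))`, `isDerivedComplete_homCx_Cech`,
  `bijective_precomp_toCompletion`.
* `exists_completion`, `hasDerivedCompletion_of_universal`, `hasDerivedCompletion_of_fg` (S7096).
* `nonempty_derivedCompletion_iso`: uniqueness of derived completions.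
-/

set_option autoImplicit false
universe u
open CategoryTheory CategoryTheory.Limits MonoidalCategory DerivedCategory
open CochainComplex.HomComplex

attribute [local instance] HasDerivedCategory.standard

namespace Groth.Agent.Lib.helper13.DComp

open Groth.Agent.Lib.helper23.RHomCx Groth.Agent.Lib.helper23.TensHom
  Groth.Agent.Lib.helper13.KFlat Groth.Agent.Lib.helper13.HomKFlat

variable {A : Type u} [CommRing A]

/-- the extended Čech complex of the ring -/
noncomputable abbrev Cech (fs : List A) : DRing.Cx A := DerCA.extCech (ModuleCat.of A A) fs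

/-- the augmentation `Č(fs) ⟶ A[0]` -/
noncomputable def aug : ∀ fs : List A, Cech fs ⟶ Cech ([] : List A)
  | [] => 𝟙 _
  | f :: fs => proj f (Cech fs) ≫ aug fs

/-- **Universal property**: for `M` derived complete with respect to the elements of `fs`, maps
`Hom•(Č(fs), J) ⟶ M` in `D(A)` correspond bijectively to maps `Hom•(A[0], J) ⟶ M`. -/
theorem bijective_precomp_aug (J : DRing.Cx A) : ∀ (fs : List A) (M : Dual.D A),
    (∀ g ∈ fs, ∀ n : ℤ, Subsingleton (Af0 g ⟶ M⟦n⟧)) →
    Function.Bijective (fun ψ : Q.obj (DRing.homCx (Cech fs) J) ⟶ M =>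
      Q.map (homCxMapLeft (aug fs) J) ≫ ψ)
  | [], M, _ => by
    have : (fun ψ : Q.obj (DRing.homCx (Cech ([] : List A)) J) ⟶ M =>
        Q.map (homCxMapLeft (aug ([] : List A)) J) ≫ ψ) = id := by
      funext ψ
      show Q.map (homCxMapLeft (𝟙 _) J) ≫ ψ = ψ
      rw [homCxMapLeft_id, CategoryTheory.Functor.map_id, Category.id_comp]
    rw [this]
    exact Function.bijective_id
  | f :: fs, M, h => by
    have h1 := bijective_precomp_proj f (Cech fs) J M (h f List.mem_cons_self)
    have h2 := bijective_precomp_aug J fs M (fun g hg => h g (List.mem_cons_of_mem _ hg))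
    have : (fun ψ : Q.obj (DRing.homCx (Cech (f :: fs)) J) ⟶ M =>
        Q.map (homCxMapLeft (aug (f :: fs)) J) ≫ ψ) =
        (fun ψ : Q.obj (DRing.homCx (Cech fs) J) ⟶ M => Q.map (homCxMapLeft (aug fs) J) ≫ ψ) ∘
          (fun ψ : Q.obj (DRing.homCx (CochainComplex.mappingCocone (uE f (Cech fs))) J) ⟶ M =>
            Q.map (homCxMapLeft (proj f (Cech fs)) J) ≫ ψ) := by
      funext ψ
      show Q.map (homCxMapLeft (proj f (Cech fs) ≫ aug fs) J) ≫ ψ = _
      rw [homCxMapLeft_comp, Functor.map_comp, Category.assoc]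
      rfl
    rw [this]
    exact h2.comp h1


/-- `A_g` in degree `0`, as a complex -/
noncomputable abbrev Sg (g : A) : DRing.Cx A :=
  (CochainComplex.singleFunctor (ModuleCat.{u} A) 0).obj (ModuleCat.of A (Localization.Away g))

lemma bijective_smul_Sg_X (g : A) : Function.Bijective (fun x : ((Sg g).X 0 : ModuleCat.{u} A) => g • x) := by
  let e : (Sg g).X 0 ≅ ModuleCat.of A (Localization.Away g) :=
    HomologicalComplex.singleObjXSelf (ComplexShape.up ℤ) 0 _
  have hb : Function.Bijective (fun x : Localization.Away g => g • x) := by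
    have h := IsLocalization.map_units (Localization.Away g) (⟨g, Submonoid.mem_powers g⟩ : Submonoid.powers g)
    have h' : (fun x : Localization.Away g => g • x) =
        (fun x : Localization.Away g => algebraMap A (Localization.Away g) g * x) := by
      funext x
      exact Algebra.smul_def g x
    rw [h']
    exact ⟨h.mul_right_injective, fun y => ⟨h.unit⁻¹ * y, by
      show algebraMap A (Localization.Away g) g * (↑h.unit⁻¹ * y) = y
      rw [← mul_assoc]
      exact (congrArg (· * y) h.mul_val_inv).trans (one_mul y)⟩⟩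
  have h1 : (fun x : ((Sg g).X 0 : ModuleCat.{u} A) => g • x) =
      e.toLinearEquiv.symm ∘ (fun x : Localization.Away g => g • x) ∘ e.toLinearEquiv := by
    funext x
    simp only [Function.comp_apply]
    rw [← map_smul, LinearEquiv.symm_apply_apply]
  rw [h1]
  exact (e.toLinearEquiv.symm.bijective.comp hb).comp e.toLinearEquiv.bijective

/-- `A_g[0] ⊗ Č(fs)` is acyclic for `g ∈ fs` -/
theorem acyclic_Sg_tensor_Cech (fs : List A) (g : A) (hg : g ∈ fs) : (Sg g ⊗ Cech fs).Acyclic := by
  have h := acyclic_tensorLeft_extCech fs ((Sg g).X 0) ⟨g, hg, bijective_smul_Sg_X g⟩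
  exact Groth.Agent.Lib.helper2.BifunctorExact.acyclic_of_iso
    (Groth.Agent.Lib.Helper25.TotSingle.totIso (curriedTensor (ModuleCat.{u} A)) (Sg g)
      (fun _ hp => HomologicalComplex.isZero_single_obj_X _ _ _ _ hp) (Cech fs)) h

/-- **Completeness**: `Hom•(Č(fs), J)` is derived complete with respect to every `g ∈ fs` (`J` K-injective). -/
theorem complete_homCx_Cech (fs : List A) (J : DRing.Cx A) [J.IsKInjective] (g : A) (hg : g ∈ fs)
    (n : ℤ) : Subsingleton (Af0 g ⟶ (Q.obj (DRing.homCx (Cech fs) J))⟦n⟧) := by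
  let e1 : Af0 g ≅ Q.obj (Sg g) :=
    (DerivedCategory.singleFunctorIsoCompQ (ModuleCat.{u} A) 0).app _
  let e2 : (Q.obj (DRing.homCx (Cech fs) J))⟦n⟧ ≅ Q.obj ((DRing.homCx (Cech fs) J)⟦n⟧) :=
    ((Q.commShiftIso n).app _).symm
  have hz : IsZero (Q.obj (Sg g ⊗ Cech fs)) :=
    isZero_Q_obj_of_acyclic _ (acyclic_Sg_tensor_Cech fs g hg)
  have key : ∀ φ : Q.obj (Sg g) ⟶ Q.obj ((DRing.homCx (Cech fs) J)⟦n⟧), φ = 0 :=
    hom_homCx_eq_zero (Sg g) (Cech fs) J (isKFlatR_extCech fs) n (fun ψ => hz.eq_of_src _ _)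
  refine ⟨fun a b => ?_⟩
  have ha : e1.inv ≫ a ≫ e2.hom = 0 := key _
  have hb : e1.inv ≫ b ≫ e2.hom = 0 := key _
  rw [← cancel_epi e1.inv, ← cancel_mono e2.hom, Category.assoc, Category.assoc, ha, hb]


section Existence

/-- `J ≅ Hom•(A[0], J)` in `D(A)` -/
noncomputable def unitHomIso (J : DRing.Cx A) : Q.obj J ≅ Q.obj (DRing.homCx (Cech ([] : List A)) J) :=
  Q.mapIso ((shiftFunctorZero (DRing.Cx A) ℤ).app J).symm ≪≫
    Q.mapIso (singleShiftIso J 0).symm

/-- the canonical map `J ⟶ Hom•(Č(fs), J)` in `D(A)` -/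
noncomputable def toCompletion (fs : List A) (J : DRing.Cx A) :
    Q.obj J ⟶ Q.obj (DRing.homCx (Cech fs) J) :=
  (unitHomIso J).hom ≫ Q.map (homCxMapLeft (aug fs) J)

/-- `Hom•(Č(fs), J)` is derived complete with respect to the ideal generated by `fs` -/
theorem isDerivedComplete_homCx_Cech (fs : List A) (J : DRing.Cx A) [J.IsKInjective] :
    DRing.IsDerivedComplete (Ideal.span {x : A | x ∈ fs}) (Q.obj (DRing.homCx (Cech fs) J)) :=
  isDerivedComplete_of_generators _ _ (fun g hg n => complete_homCx_Cech fs J g hg n)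

/-- the universal property of `J ⟶ Hom•(Č(fs), J)` -/
theorem bijective_precomp_toCompletion (fs : List A) (J : DRing.Cx A) (M : Dual.D A)
    (hM : DRing.IsDerivedComplete (Ideal.span {x : A | x ∈ fs}) M) :
    Function.Bijective (fun ψ : Q.obj (DRing.homCx (Cech fs) J) ⟶ M => toCompletion fs J ≫ ψ) := by
  have h := bijective_precomp_aug J fs M
    (fun g hg n => hM g (Ideal.subset_span hg) n)
  have : (fun ψ : Q.obj (DRing.homCx (Cech fs) J) ⟶ M => toCompletion fs J ≫ ψ) =
      (fun χ : Q.obj (DRing.homCx (Cech ([] : List A)) J) ⟶ M => (unitHomIso J).hom ≫ χ) ∘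
        (fun ψ : Q.obj (DRing.homCx (Cech fs) J) ⟶ M => Q.map (homCxMapLeft (aug fs) J) ≫ ψ) := by
    funext ψ
    simp only [toCompletion, Category.assoc, Function.comp_apply]
  rw [this]
  refine Function.Bijective.comp ?_ h
  constructor
  · intro a b hab
    exact (cancel_epi _).1 hab
  · intro c
    exact ⟨(unitHomIso J).inv ≫ c, by simp⟩

/-- existence of derived completions, object by object -/
theorem exists_completion (fs : List A) (K : Dual.D A) :
    ∃ (K' : Dual.D A) (η : K ⟶ K'), DRing.IsDerivedComplete (Ideal.span {x : A | x ∈ fs}) K' ∧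
      ∀ M : Dual.D A, DRing.IsDerivedComplete (Ideal.span {x : A | x ∈ fs}) M →
        Function.Bijective (fun ψ : K' ⟶ M => η ≫ ψ) := by
  obtain ⟨J, f, hJ, hf⟩ := Groth.Agent.Lib.helper23.RHomEx.hKinj A (Q.objPreimage K)
  haveI := hJ
  haveI : IsIso (Q.map f) := by
    rw [DerivedCategory.isIso_Q_map_iff_quasiIso]
    exact hf
  let e : K ≅ Q.obj J := (Q.objObjPreimageIso K).symm ≪≫ asIso (Q.map f)
  refine ⟨Q.obj (DRing.homCx (Cech fs) J), e.hom ≫ toCompletion fs J,
    isDerivedComplete_homCx_Cech fs J, fun M hM => ?_⟩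
  have h := bijective_precomp_toCompletion fs J M hM
  constructor
  · intro a b hab
    simp only [Category.assoc] at hab
    exact h.1 ((cancel_epi _).1 hab)
  · intro c
    obtain ⟨ψ, hψ⟩ := h.2 (e.inv ≫ c)
    refine ⟨ψ, ?_⟩
    have hψ' : toCompletion fs J ≫ ψ = e.inv ≫ c := hψ
    simp only [Category.assoc]
    rw [hψ', Iso.hom_inv_id_assoc]

end Existence

section Adjoint

variable (I : Ideal A)

/-- derived completion exists as soon as every object has a universal map to a derived complete object -/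
theorem hasDerivedCompletion_of_universal
    (h : ∀ K : Dual.D A, ∃ (K' : Dual.D A) (η : K ⟶ K'), DRing.IsDerivedComplete I K' ∧
      ∀ M : Dual.D A, DRing.IsDerivedComplete I M → Function.Bijective (fun ψ : K' ⟶ M => η ≫ ψ)) :
    DRing.HasDerivedCompletion I := by
  haveI : ∀ K : Dual.D A, HasInitial (StructuredArrow K (ObjectProperty.ι (DRing.IsDerivedComplete I))) := by
    intro K
    obtain ⟨K', η, hK', hu⟩ := h K
    let X₀ : StructuredArrow K (ObjectProperty.ι (DRing.IsDerivedComplete I)) :=
      StructuredArrow.mk (Y := (⟨K', hK'⟩ : DRing.DComp I)) η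
    let eqv : ∀ Y : StructuredArrow K (ObjectProperty.ι (DRing.IsDerivedComplete I)),
        (K' ⟶ Y.right.obj) ≃ (K ⟶ Y.right.obj) :=
      fun Y => Equiv.ofBijective _ (hu Y.right.obj Y.right.property)
    refine (IsInitial.ofUniqueHom (X := X₀)
      (fun Y => StructuredArrow.homMk (ObjectProperty.homMk ((eqv Y).symm Y.hom))
        ((eqv Y).apply_symm_apply Y.hom)) (fun Y m => ?_)).hasInitial
    apply StructuredArrow.ext
    apply ObjectProperty.hom_ext
    show m.right.hom = (eqv Y).symm Y.hom
    rw [Equiv.eq_symm_apply]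
    exact StructuredArrow.w m
  exact isRightAdjointOfStructuredArrowInitials _


/-- **Derived completion exists for finitely generated ideals.** -/
theorem hasDerivedCompletion_of_fg (hI : I.FG) : DRing.HasDerivedCompletion I := by
  obtain ⟨s, rfl⟩ := hI
  apply hasDerivedCompletion_of_universal
  intro K
  have h := exists_completion s.toList K
  have hs : {x : A | x ∈ s.toList} = (s : Set A) := by
    ext x
    simp
  rw [hs] at h
  exact h

/-- uniqueness of derived completions -/
theorem nonempty_derivedCompletion_iso [DRing.HasDerivedCompletion I] (K K' : Dual.D A) (η : K ⟶ K')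
    (hK' : DRing.IsDerivedComplete I K')
    (hu : ∀ M : Dual.D A, DRing.IsDerivedComplete I M →
      Function.Bijective (fun ψ : K' ⟶ M => η ≫ ψ)) :
    ∃ e : ((DRing.derivedCompletion I).obj K).obj ≅ K', DRing.toDerivedCompletion I K ≫ e.hom = η := by
  let adj := DRing.derivedCompletionAdj I
  let L : DRing.DComp I := (DRing.derivedCompletion I).obj K
  let K'' : DRing.DComp I := ⟨K', hK'⟩
  let a' : L ⟶ K'' := (adj.homEquiv K K'').symm η
  have ha : DRing.toDerivedCompletion I K ≫ a'.hom = η := by
    have h1 := (adj.homEquiv K K'').apply_symm_apply η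
    rw [Adjunction.homEquiv_unit] at h1
    exact h1
  obtain ⟨b, hb⟩ := (hu L.obj L.property).2 (DRing.toDerivedCompletion I K)
  have hb' : η ≫ b = DRing.toDerivedCompletion I K := hb
  have hab : a' ≫ (ObjectProperty.homMk b : K'' ⟶ L) = 𝟙 L := by
    apply (adj.homEquiv K L).injective
    rw [Adjunction.homEquiv_unit, Adjunction.homEquiv_unit]
    show DRing.toDerivedCompletion I K ≫ (a'.hom ≫ b) = DRing.toDerivedCompletion I K ≫ 𝟙 _
    rw [← Category.assoc, ha, hb', Category.comp_id]
  have hba : b ≫ a'.hom = 𝟙 K' := by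
    apply (hu K' hK').1
    show η ≫ b ≫ a'.hom = η ≫ 𝟙 K'
    rw [← Category.assoc, hb', ha, Category.comp_id]
  refine ⟨⟨a'.hom, b, ?_, hba⟩, ha⟩
  have := congrArg (fun t => t.hom) hab
  exact this

end Adjoint

end Groth.Agent.Lib.helper13.DComp
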