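import Mathlib
import Groth.Prelude.Def_DRing4
import Groth.Prelude.Def_DRing3
import Groth.Prelude.Def_DDual2
import Groth.Prelude.Def_DerCA
import Groth.Agent.Lib.Helper13.DComp4
import Groth.Agent.Lib.Helper23.RHomCx2

/-!
# Derived completion, part 5 (helper13): the derived completion is `RHom(Č, -)`

* `exists_kInjective_model`.
* `bijective_precomp_toCompletion'`, `exists_derivedCompletion_iso_homCx_Cech`: for `K ≅ Q J` with `J` K-injective,
  `K^∧ ≅ Q (Hom•(Č(fs), J))` compatibly with the canonical maps.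
* `nonempty_derivedCompletion_iso_RHomCx` (S7097).
-/

set_option autoImplicit false
universe u
open CategoryTheory CategoryTheory.Limits MonoidalCategory DerivedCategory
open CochainComplex.HomComplex

attribute [local instance] HasDerivedCategory.standard

namespace Groth.Agent.Lib.helper13.DComp

open Groth.Agent.Lib.helper23.RHomCx Groth.Agent.Lib.helper23.TensHom
  Groth.Agent.Lib.helper13.KFlat Groth.Agent.Lib.helper13.HomKFlat

variable {A : Type u} [CommRing A]

/-- K-injective model of an object of `D(A)` -/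
theorem exists_kInjective_model (K : Dual.D A) :
    ∃ (J : DRing.Cx A) (_ : J.IsKInjective), Nonempty (K ≅ Q.obj J) := by
  obtain ⟨J, f, hJ, hf⟩ := Groth.Agent.Lib.helper23.RHomEx.hKinj A (Q.objPreimage K)
  haveI : IsIso (Q.map f) := by
    rw [DerivedCategory.isIso_Q_map_iff_quasiIso]
    exact hf
  exact ⟨J, hJ, ⟨(Q.objObjPreimageIso K).symm ≪≫ asIso (Q.map f)⟩⟩

/-- the universal property of `K ≅ Q J ⟶ Q (Hom•(Č(fs), J))` -/
theorem bijective_precomp_toCompletion' (fs : List A) (J : DRing.Cx A) {K : Dual.D A}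
    (e : K ≅ Q.obj J) (M : Dual.D A)
    (hM : DRing.IsDerivedComplete (Ideal.span {x : A | x ∈ fs}) M) :
    Function.Bijective (fun ψ : Q.obj (DRing.homCx (Cech fs) J) ⟶ M =>
      (e.hom ≫ toCompletion fs J) ≫ ψ) := by
  have h := bijective_precomp_toCompletion fs J M hM
  constructor
  · intro a b hab
    simp only [Category.assoc] at hab
    exact h.1 ((cancel_epi _).1 hab)
  · intro c
    obtain ⟨ψ, hψ⟩ := h.2 (e.inv ≫ c)
    refine ⟨ψ, ?_⟩
    have hψ' : toCompletion fs J ≫ ψ = e.inv ≫ c := hψ
    simp only [Category.assoc]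
    rw [hψ', Iso.hom_inv_id_assoc]

/-- the derived completion is computed by `Hom•(Č(fs), J)` for a K-injective model `J` -/
theorem exists_derivedCompletion_iso_homCx_Cech (fs : List A)
    [DRing.HasDerivedCompletion (Ideal.span {x : A | x ∈ fs})] (J : DRing.Cx A) [J.IsKInjective]
    {K : Dual.D A} (e : K ≅ Q.obj J) :
    ∃ e' : ((DRing.derivedCompletion (Ideal.span {x : A | x ∈ fs})).obj K).obj ≅
        Q.obj (DRing.homCx (Cech fs) J),
      DRing.toDerivedCompletion (Ideal.span {x : A | x ∈ fs}) K ≫ e'.hom =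
        e.hom ≫ toCompletion fs J :=
  nonempty_derivedCompletion_iso _ K _ (e.hom ≫ toCompletion fs J)
    (isDerivedComplete_homCx_Cech fs J) (bijective_precomp_toCompletion' fs J e)

/-- **The derived completion is `RHom(Č, -)`** (S7097) -/
theorem nonempty_derivedCompletion_iso_RHomCx (fs : List A)
    [DRing.HasDerivedCompletion (Ideal.span {x : A | x ∈ fs})]
    [DRing.HasRHomCx (Cech fs)] (K : Dual.D A) :
    Nonempty (((DRing.derivedCompletion (Ideal.span {x : A | x ∈ fs})).obj K).obj ≅
      (DRing.RHomCx (Cech fs)).obj K) := by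
  obtain ⟨J, hJ, ⟨e⟩⟩ := exists_kInjective_model K
  haveI := hJ
  obtain ⟨e', -⟩ := exists_derivedCompletion_iso_homCx_Cech fs J e
  exact ⟨e' ≪≫ RHomCxIso (Cech fs) J ≪≫ (DRing.RHomCx (Cech fs)).mapIso e.symm⟩

end Groth.Agent.Lib.helper13.DComp
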