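import Mathlib
import Groth.Prelude.Def_DRing4
import Groth.Prelude.Def_DRing3
import Groth.Prelude.Def_DDual2
import Groth.Prelude.Def_DerCA
import Groth.Agent.Lib.Helper13.DComp5
import Groth.Agent.Lib.Helper23.DCompl
import Groth.Agent.Lib.Helper23.ProjHom

/-!
# Derived completion, part 6 (helper13): cohomological amplitude of derived completion

* `exactAt_homCx_iff_hom_eq_zero`: for `J` K-injective, `Hⁿ(Hom•(E, J)) = 0` iff `Hom_D(E, J[n]) = 0`.
* `hom_tensor_eq_zero` (converse of `hom_homCx_eq_zero`).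
* `subsingleton_single_hom_of_isGE`, `subsingleton_single_hom_of_projective`, `subsingleton_Af0_hom_of_isLE`.
* `locCxTensorIso f E : E_f ≅ A_f[0] ⊗ E`.
* `exactAt_homCx_Cech_of_lt`, `exactAt_homCx_Cech_of_gt`: amplitude of `Hom•(Č(fs), J)`.
* `isZero_homology_derivedCompletion_of_lt/of_gt`: amplitude of the derived completion (S7832).
-/

set_option autoImplicit false
universe u
open CategoryTheory CategoryTheory.Limits MonoidalCategory DerivedCategory
open CochainComplex.HomComplex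

attribute [local instance] HasDerivedCategory.standard

namespace Groth.Agent.Lib.helper13.DComp

open Groth.Agent.Lib.helper23.RHomCx Groth.Agent.Lib.helper23.TensHom
  Groth.Agent.Lib.helper13.KFlat Groth.Agent.Lib.helper13.HomKFlat

variable {A : Type u} [CommRing A]

section HomCxHomology

lemma exactAt_homCx_iff (E J : DRing.Cx A) (n : ℤ) :
    (DRing.homCx E J).ExactAt n ↔
      ∀ z : Cocycle E J n, ∃ β : Cochain E J (n - 1), δ (n - 1) n β = z.1 := by
  rw [HomologicalComplex.exactAt_iff' _ (n - 1) n (n + 1) (by simp) (by simp),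
    ShortComplex.moduleCat_exact_iff]
  constructor
  · intro h z
    obtain ⟨β, hβ⟩ := h z.1 (Cocycle.δ_eq_zero z (n + 1))
    exact ⟨β, hβ⟩
  · intro h (x : Cochain E J n) (hx : δ n (n + 1) x = 0)
    obtain ⟨β, hβ⟩ := h (Cocycle.mk x (n + 1) rfl hx)
    exact ⟨β, hβ⟩

/-- for `J` K-injective, `Hⁿ(Hom•(E, J)) = 0` iff `Hom_D(E, J[n]) = 0` -/
lemma exactAt_homCx_iff_hom_eq_zero (E J : DRing.Cx A) [J.IsKInjective] (n : ℤ) :
    (DRing.homCx E J).ExactAt n ↔ ∀ φ : Q.obj E ⟶ Q.obj (J⟦n⟧), φ = 0 := by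
  rw [exactAt_homCx_iff]
  constructor
  · intro h φ
    obtain ⟨z, rfl⟩ := Ψ_surjective_of_isKInjective φ
    obtain ⟨β, hβ⟩ := h z
    exact Ψ_eq_zero_of_coboundary z β hβ
  · intro h z
    exact exists_coboundary_of_isKInjective z (h _)

/-- tensor-Hom vanishing, converse direction -/
theorem hom_tensor_eq_zero (X E J : DRing.Cx A) [J.IsKInjective] (hE : IsKFlatR E) (n : ℤ)
    (h : ∀ φ : Q.obj X ⟶ Q.obj ((DRing.homCx E J)⟦n⟧), φ = 0)
    (ψ : Q.obj (X ⊗ E) ⟶ Q.obj (J⟦n⟧)) : ψ = 0 := by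
  haveI := isKInjective_homCx E J hE
  obtain ⟨w, rfl⟩ := Ψ_surjective_of_isKInjective ψ
  have hz : δ n (n + 1) (fromT w.1) = 0 := by
    rw [fromT_δ rfl w.1, Cocycle.δ_eq_zero]
    exact (toTLin X E J (n + 1)).symm.map_zero
  let z : Cocycle X (DRing.homCx E J) n := Cocycle.mk (fromT w.1) (n + 1) rfl hz
  have hz0 : Ψ X (DRing.homCx E J) n z = 0 := h _
  obtain ⟨β, hβ⟩ := exists_coboundary_of_isKInjective z hz0
  refine Ψ_eq_zero_of_coboundary w (toT β) ?_
  rw [δ_toT (by omega) β, hβ]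
  exact toT_fromT w.1

end HomCxHomology


section Vanishing

open Pretriangulated

/-- `Hom_D(M[0], N[m]) = 0` for `N ∈ D^{≥ a}`, `m < a` -/
lemma subsingleton_single_hom_of_isGE (M : ModuleCat.{u} A) (N : Dual.D A) (a m : ℤ)
    (hN : ∀ i : ℤ, i < a → IsZero ((DerivedCategory.homologyFunctor (ModuleCat.{u} A) i).obj N))
    (hm : m < a) :
    Subsingleton ((DerivedCategory.singleFunctor (ModuleCat.{u} A) 0).obj M ⟶ N⟦m⟧) := by
  haveI : N.IsGE a := (DerivedCategory.isGE_iff N a).2 hN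
  haveI : (N⟦m⟧).IsGE (a - m) := DerivedCategory.TStructure.t.isGE_shift N a m (a - m) (by omega)
  exact ⟨fun x y => by
    rw [DerivedCategory.TStructure.t.zero x 0 (a - m) (by omega),
      DerivedCategory.TStructure.t.zero y 0 (a - m) (by omega)]⟩

/-- `Hom_D(P[0], N[m]) = 0` for `P` projective and `Hᵐ(N) = 0` -/
lemma subsingleton_single_hom_of_projective (P : ModuleCat.{u} A) [Projective P] (N : Dual.D A) (m : ℤ)
    (hN : IsZero ((DerivedCategory.homologyFunctor (ModuleCat.{u} A) m).obj N)) :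
    Subsingleton ((DerivedCategory.singleFunctor (ModuleCat.{u} A) 0).obj P ⟶ N⟦m⟧) := by
  have hb := Groth.Agent.Lib.helper23.ProjHom.bijective_homologyFunctor_map (P := P) (N⟦m⟧)
  have hz : IsZero ((DerivedCategory.homologyFunctor (ModuleCat.{u} A) 0).obj (N⟦m⟧)) :=
    hN.of_iso (((DerivedCategory.homologyFunctor (ModuleCat.{u} A) 0).shiftIso m 0 m
      (by simp)).app N)
  exact ⟨fun x y => hb.1 (hz.eq_of_tgt _ _)⟩

/-- `Hom_D(A_f[0], N[m]) = 0` for `N ∈ D^{≤ b}`, `m > b + 1` (`A_f` has projective dimension `≤ 1`) -/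
lemma subsingleton_Af0_hom_of_isLE (f : A) (N : Dual.D A) (b m : ℤ)
    (hN : ∀ i : ℤ, b < i → IsZero ((DerivedCategory.homologyFunctor (ModuleCat.{u} A) i).obj N))
    (hm : b + 1 < m) : Subsingleton (Af0 f ⟶ N⟦m⟧) := by
  have hT := (Groth.Agent.Lib.helper23.DCompl.awaySC_shortExact f).singleTriangle_distinguished
  haveI h2 : Subsingleton ((DerivedCategory.singleFunctor (ModuleCat.{u} A) 0).obj
      (ModuleCat.of A (Polynomial A)) ⟶ N⟦m⟧) :=
    subsingleton_single_hom_of_projective _ N m (hN m (by omega))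
  haveI h1 : Subsingleton ((DerivedCategory.singleFunctor (ModuleCat.{u} A) 0).obj
      (ModuleCat.of A (Polynomial A)) ⟶ N⟦m - 1⟧) :=
    subsingleton_single_hom_of_projective _ N (m - 1) (hN (m - 1) (by omega))
  suffices ∀ φ : Af0 f ⟶ N⟦m⟧, φ = 0 from ⟨fun x y => by rw [this x, this y]⟩
  intro φ
  obtain ⟨g, hg⟩ := Triangle.yoneda_exact₃ _ hT φ (Subsingleton.elim (h := h2) _ _)
  have hg0 : g = 0 := by
    let e : (N⟦m - 1⟧)⟦(1 : ℤ)⟧ ≅ N⟦m⟧ :=
      ((shiftFunctorAdd' (Dual.D A) (m - 1) 1 m (by omega)).app N).symm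
    obtain ⟨g', hg'⟩ := (shiftFunctor (Dual.D A) (1 : ℤ)).map_surjective (g ≫ e.inv)
    have : g' = 0 := Subsingleton.elim (h := h1) _ _
    rw [this, Functor.map_zero] at hg'
    rw [← cancel_mono e.inv, ← hg', zero_comp]
  rw [hg, hg0]
  exact comp_zero

end Vanishing


section Amplitude

open Pretriangulated Groth.Agent.Lib.helper23.DCompl

lemma exactAt_iff_isZero_homologyFunctor (X : DRing.Cx A) (i : ℤ) :
    X.ExactAt i ↔ IsZero ((DerivedCategory.homologyFunctor (ModuleCat.{u} A) i).obj (Q.obj X)) := by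
  rw [HomologicalComplex.exactAt_iff_isZero_homology]
  exact Iso.isZero_iff ((DerivedCategory.homologyFunctorFactors (ModuleCat.{u} A) i).app X).symm

/-- `E_f ≅ A_f[0] ⊗ E` -/
noncomputable def locCxTensorIso (f : A) (E : DRing.Cx A) :
    (DerCA.locCx (Submonoid.powers f)).obj E ≅ Sg f ⊗ E :=
  (NatIso.mapHomologicalComplex (locTensorIso (Submonoid.powers f)) (ComplexShape.up ℤ)).app E ≪≫
  (NatIso.mapHomologicalComplex ((curriedTensor (ModuleCat.{u} A)).mapIso
    (HomologicalComplex.singleObjXSelf (ComplexShape.up ℤ) 0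
      (ModuleCat.of A (Localization.Away f))).symm) (ComplexShape.up ℤ)).app E ≪≫
  Groth.Agent.Lib.Helper25.TotSingle.totIso (curriedTensor (ModuleCat.{u} A)) (Sg f)
    (fun _ hp => HomologicalComplex.isZero_single_obj_X _ _ _ _ hp) E

/-- `Hom_D(E_f, (Q J)⟦i⟧⟦1⟧) = 0` as soon as `Hom_D(A_f[0], (Q Hom•(E, J))⟦i+1⟧) = 0` -/
lemma subsingleton_locCx_hom (f : A) (E J : DRing.Cx A) [J.IsKInjective] (hE : IsKFlatR E) (i : ℤ)
    (h : Subsingleton (Af0 f ⟶ (Q.obj (DRing.homCx E J))⟦i + 1⟧)) :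
    Subsingleton (Q.obj ((DerCA.locCx (Submonoid.powers f)).obj E) ⟶ (Q.obj (J⟦i⟧))⟦(1 : ℤ)⟧) := by
  let e1 : Af0 f ≅ Q.obj (Sg f) :=
    (DerivedCategory.singleFunctorIsoCompQ (ModuleCat.{u} A) 0).app _
  let e2 : (Q.obj (DRing.homCx E J))⟦i + 1⟧ ≅ Q.obj ((DRing.homCx E J)⟦i + 1⟧) :=
    ((Q.commShiftIso (i + 1)).app _).symm
  have key : ∀ φ : Q.obj (Sg f) ⟶ Q.obj ((DRing.homCx E J)⟦i + 1⟧), φ = 0 := by
    intro φ
    have : e1.hom ≫ φ ≫ e2.inv = 0 := Subsingleton.elim (h := h) _ _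
    rw [← cancel_epi e1.hom, ← cancel_mono e2.inv, Category.assoc, this, comp_zero, zero_comp]
  have key2 := hom_tensor_eq_zero (Sg f) E J hE (i + 1) key
  let e3 : Q.obj ((DerCA.locCx (Submonoid.powers f)).obj E) ≅ Q.obj (Sg f ⊗ E) :=
    Q.mapIso (locCxTensorIso f E)
  let e4 : (Q.obj (J⟦i⟧))⟦(1 : ℤ)⟧ ≅ Q.obj (J⟦i + 1⟧) :=
    ((Q.commShiftIso (1 : ℤ)).app _).symm ≪≫
      Q.mapIso ((shiftFunctorAdd' (DRing.Cx A) i 1 (i + 1) rfl).app J).symm
  refine ⟨fun a b => ?_⟩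
  have ha : e3.inv ≫ a ≫ e4.hom = 0 := key2 _
  have hb : e3.inv ≫ b ≫ e4.hom = 0 := key2 _
  rw [← cancel_epi e3.inv, ← cancel_mono e4.hom, Category.assoc, Category.assoc, ha, hb]

/-- one step of the induction: vanishing of `Hom_D(Č(f :: fs), J⟦i⟧)` -/
lemma hom_Cech_cons_eq_zero (f : A) (fs : List A) (J : DRing.Cx A) [J.IsKInjective] (i : ℤ)
    (h₂ : (DRing.homCx (Cech fs) J).ExactAt i)
    (h₃ : Subsingleton (Af0 f ⟶ (Q.obj (DRing.homCx (Cech fs) J))⟦i + 1⟧)) :
    (DRing.homCx (Cech (f :: fs)) J).ExactAt i := by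
  rw [exactAt_homCx_iff_hom_eq_zero] at h₂ ⊢
  intro φ
  have hT := DerivedCategory.mappingCocone_triangle_distinguished (uE f (Cech fs))
  have h3 := subsingleton_locCx_hom f (Cech fs) J (isKFlatR_extCech fs) i h₃
  obtain ⟨ψ, hψ⟩ := surj_of_subsingleton _ hT (Q.obj (J⟦i⟧)) h3 φ
  rw [← hψ, h₂ ψ]
  exact comp_zero


lemma exactAt_homCx_Cech_nil_iff (J : DRing.Cx A) (i : ℤ) :
    (DRing.homCx (Cech ([] : List A)) J).ExactAt i ↔ J.ExactAt i := by
  rw [exactAt_iff_isZero_homologyFunctor, exactAt_iff_isZero_homologyFunctor]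
  exact Iso.isZero_iff ((DerivedCategory.homologyFunctor (ModuleCat.{u} A) i).mapIso (unitHomIso J)).symm

/-- **upper bound**: if `Hⁱ(J) = 0` for `i > b` then `Hⁱ(Hom•(Č(fs), J)) = 0` for `i > b` -/
theorem exactAt_homCx_Cech_of_lt : ∀ (fs : List A) (J : DRing.Cx A) [J.IsKInjective] (b : ℤ)
    (_ : ∀ i : ℤ, b < i → J.ExactAt i) (i : ℤ) (_ : b < i), (DRing.homCx (Cech fs) J).ExactAt i
  | [], J, _, b, hJ, i, hi => (exactAt_homCx_Cech_nil_iff J i).2 (hJ i hi)
  | f :: fs, J, _, b, hJ, i, hi => by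
    apply hom_Cech_cons_eq_zero f fs J i (exactAt_homCx_Cech_of_lt fs J b hJ i hi)
    apply subsingleton_Af0_hom_of_isLE f _ b (i + 1) _ (by omega)
    intro j hj
    exact (exactAt_iff_isZero_homologyFunctor _ j).1 (exactAt_homCx_Cech_of_lt fs J b hJ j hj)

/-- **lower bound**: if `Hⁱ(J) = 0` for `i < a` then `Hⁱ(Hom•(Č(fs), J)) = 0` for `i < a - length fs` -/
theorem exactAt_homCx_Cech_of_gt : ∀ (fs : List A) (J : DRing.Cx A) [J.IsKInjective] (a : ℤ)
    (_ : ∀ i : ℤ, i < a → J.ExactAt i) (i : ℤ) (_ : i + fs.length < a),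
    (DRing.homCx (Cech fs) J).ExactAt i
  | [], J, _, a, hJ, i, hi => (exactAt_homCx_Cech_nil_iff J i).2 (hJ i (by simpa using hi))
  | f :: fs, J, _, a, hJ, i, hi => by
    have hi' : i + (fs.length : ℤ) + 1 < a := by
      simp only [List.length_cons, Nat.cast_add, Nat.cast_one] at hi
      omega
    apply hom_Cech_cons_eq_zero f fs J i (exactAt_homCx_Cech_of_gt fs J a hJ i (by omega))
    apply subsingleton_single_hom_of_isGE _ _ (a - fs.length) (i + 1) _ (by omega)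
    intro j hj
    exact (exactAt_iff_isZero_homologyFunctor _ j).1
      (exactAt_homCx_Cech_of_gt fs J a hJ j (by omega))


variable (fs : List A) (I : Ideal A) (hI : Ideal.span {x : A | x ∈ fs} = I)
  [DRing.HasDerivedCompletion I]

include hI

/-- **upper amplitude bound** for derived completion -/
theorem isZero_homology_derivedCompletion_of_lt (K : Dual.D A) (b : ℤ)
    (hK : ∀ j : ℤ, b < j → IsZero ((DerivedCategory.homologyFunctor (ModuleCat.{u} A) j).obj K))
    (i : ℤ) (hi : b < i) :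
    IsZero ((DerivedCategory.homologyFunctor (ModuleCat.{u} A) i).obj
      ((DRing.derivedCompletion I).obj K).obj) := by
  subst hI
  obtain ⟨J, hJ, ⟨e⟩⟩ := exists_kInjective_model K
  haveI := hJ
  obtain ⟨e', -⟩ := exists_derivedCompletion_iso_homCx_Cech fs J e
  refine IsZero.of_iso ?_ ((DerivedCategory.homologyFunctor (ModuleCat.{u} A) i).mapIso e')
  rw [← exactAt_iff_isZero_homologyFunctor]
  refine exactAt_homCx_Cech_of_lt fs J b (fun j hj => ?_) i hi
  rw [exactAt_iff_isZero_homologyFunctor]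
  exact IsZero.of_iso (hK j hj) ((DerivedCategory.homologyFunctor (ModuleCat.{u} A) j).mapIso e.symm)

/-- **lower amplitude bound** for derived completion -/
theorem isZero_homology_derivedCompletion_of_gt (K : Dual.D A) (a : ℤ)
    (hK : ∀ j : ℤ, j < a → IsZero ((DerivedCategory.homologyFunctor (ModuleCat.{u} A) j).obj K))
    (i : ℤ) (hi : i + fs.length < a) :
    IsZero ((DerivedCategory.homologyFunctor (ModuleCat.{u} A) i).obj
      ((DRing.derivedCompletion I).obj K).obj) := by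
  subst hI
  obtain ⟨J, hJ, ⟨e⟩⟩ := exists_kInjective_model K
  haveI := hJ
  obtain ⟨e', -⟩ := exists_derivedCompletion_iso_homCx_Cech fs J e
  refine IsZero.of_iso ?_ ((DerivedCategory.homologyFunctor (ModuleCat.{u} A) i).mapIso e')
  rw [← exactAt_iff_isZero_homologyFunctor]
  refine exactAt_homCx_Cech_of_gt fs J a (fun j hj => ?_) i hi
  rw [exactAt_iff_isZero_homologyFunctor]
  exact IsZero.of_iso (hK j hj) ((DerivedCategory.homologyFunctor (ModuleCat.{u} A) j).mapIso e.symm)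

end Amplitude

end Groth.Agent.Lib.helper13.DComp
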