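import Mathlib
import Groth.Prelude.Def_DRing4
import Groth.Prelude.Def_DRing3
import Groth.Prelude.Def_DDual2
import Groth.Prelude.Def_DerCA
import Groth.Agent.Lib.Helper13.DComp6

/-!
# Derived completion, part 7 (helper13): derived completion commutes with cones

* `IsUniv P η`, `isUniv_shift`, `isUniv_cone` (abstract five-lemma chase in a pretriangulated category).
* `isDerivedComplete_shift`, `isDerivedComplete_third`, `isUniv_toDerivedCompletion`,
  `toDerivedCompletion_naturality`.
* `nonempty_completion_cone_iso`: the cone of `φ^∧` is the derived completion of the cone of `φ`.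
* `isZero_homology_obj₃_iff`, `epi_mono_completion_of_lt`, `epi_mono_completion_of_gt` (S7091, S7092).
-/

set_option autoImplicit false
universe u
open CategoryTheory CategoryTheory.Limits MonoidalCategory DerivedCategory

attribute [local instance] HasDerivedCategory.standard

namespace Groth.Agent.Lib.helper13.DComp

section Cone

open Pretriangulated

variable {C : Type*} [Category C] [Preadditive C] [HasZeroObject C] [HasShift C ℤ]
  [∀ n : ℤ, (shiftFunctor C n).Additive] [Pretriangulated C]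

/-- `η : X ⟶ X'` induces bijections on `Hom(-, M)` for all `M` satisfying `P` -/
def IsUniv (P : ObjectProperty C) {X X' : C} (η : X ⟶ X') : Prop :=
  ∀ M : C, P M → Function.Bijective (fun ψ : X' ⟶ M => η ≫ ψ)

lemma isUniv_shift (P : ObjectProperty C) (hP : ∀ M : C, P M → P (M⟦(-1 : ℤ)⟧)) {X X' : C}
    (η : X ⟶ X') (h : IsUniv P η) : IsUniv P (η⟦(1 : ℤ)⟧') := by
  intro M hM
  let adj : shiftFunctor C (1 : ℤ) ⊣ shiftFunctor C (-1 : ℤ) :=
    (shiftEquiv' C (1 : ℤ) (-1) (by norm_num)).toAdjunction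
  have hb := h _ (hP M hM)
  have : (fun ψ : X'⟦(1 : ℤ)⟧ ⟶ M => η⟦(1 : ℤ)⟧' ≫ ψ) =
      (adj.homEquiv X M).symm ∘ (fun ψ : X' ⟶ M⟦(-1 : ℤ)⟧ => η ≫ ψ) ∘ (adj.homEquiv X' M) := by
    funext ψ
    simp only [Function.comp_apply]
    rw [Equiv.eq_symm_apply]
    exact adj.homEquiv_naturality_left η ψ
  rw [this]
  exact ((adj.homEquiv X M).symm.bijective.comp hb).comp (adj.homEquiv X' M).bijective

/-- the third vertex of a morphism of distinguished triangles whose first two components are
`P`-universal is `P`-universal -/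
theorem isUniv_cone (P : ObjectProperty C) (hP : ∀ M : C, P M → P (M⟦(-1 : ℤ)⟧))
    (T T' : Triangle C) (hT : T ∈ distTriang C) (hT' : T' ∈ distTriang C)
    (a : T.obj₁ ⟶ T'.obj₁) (b : T.obj₂ ⟶ T'.obj₂) (c : T.obj₃ ⟶ T'.obj₃)
    (comm₁ : T.mor₁ ≫ b = a ≫ T'.mor₁) (comm₂ : T.mor₂ ≫ c = b ≫ T'.mor₂)
    (comm₃ : T.mor₃ ≫ a⟦(1 : ℤ)⟧' = c ≫ T'.mor₃)
    (ha : IsUniv P a) (hb : IsUniv P b) : IsUniv P c := by
  have ha1 := isUniv_shift P hP a ha
  have hb1 := isUniv_shift P hP b hb
  intro M hM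
  constructor
  · -- injectivity
    suffices ∀ x : T'.obj₃ ⟶ M, c ≫ x = 0 → x = 0 by
      intro x₁ x₂ h12
      have h0 : c ≫ (x₁ - x₂) = 0 := by
        rw [Preadditive.comp_sub, sub_eq_zero]
        exact h12
      exact sub_eq_zero.1 (this _ h0)
    intro x hx
    have h1 : T'.mor₂ ≫ x = 0 := by
      apply (hb M hM).1
      show b ≫ T'.mor₂ ≫ x = b ≫ 0
      rw [← Category.assoc, ← comm₂, Category.assoc, hx, comp_zero, comp_zero]
    obtain ⟨y, rfl⟩ := Triangle.yoneda_exact₃ T' hT' x h1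
    have h2 : T.mor₃ ≫ a⟦(1 : ℤ)⟧' ≫ y = 0 := by
      rw [← Category.assoc, comm₃, Category.assoc]
      exact hx
    obtain ⟨z, hz⟩ := Triangle.yoneda_exact₃ T.rotate (rot_of_distTriang T hT) (a⟦(1 : ℤ)⟧' ≫ y) h2
    obtain ⟨z', rfl⟩ := (hb1 M hM).2 z
    have hy : y = - T'.mor₁⟦(1 : ℤ)⟧' ≫ z' := by
      apply (ha1 M hM).1
      show a⟦(1 : ℤ)⟧' ≫ y = a⟦(1 : ℤ)⟧' ≫ (- T'.mor₁⟦(1 : ℤ)⟧' ≫ z')
      have hz' : a⟦(1 : ℤ)⟧' ≫ y = -(T.mor₁⟦(1 : ℤ)⟧' ≫ b⟦(1 : ℤ)⟧' ≫ z') := by
        refine hz.trans ?_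
        exact Preadditive.neg_comp _ _
      rw [hz', Preadditive.comp_neg, ← Category.assoc, ← Functor.map_comp, comm₁,
        Functor.map_comp, Category.assoc]
    rw [hy, Preadditive.comp_neg, ← Category.assoc,
      comp_distTriang_mor_zero₃₁ T' hT', zero_comp, neg_zero]
  · -- surjectivity
    intro w
    obtain ⟨u, hu⟩ := (hb M hM).2 (T.mor₂ ≫ w)
    have hu' : b ≫ u = T.mor₂ ≫ w := hu
    have h1 : T'.mor₁ ≫ u = 0 := by
      apply (ha M hM).1
      show a ≫ T'.mor₁ ≫ u = a ≫ 0
      rw [← Category.assoc, ← comm₁, Category.assoc, hu', ← Category.assoc,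
        comp_distTriang_mor_zero₁₂ T hT, zero_comp, comp_zero]
    obtain ⟨v, rfl⟩ := Triangle.yoneda_exact₂ T' hT' u h1
    have h2 : T.mor₂ ≫ (w - c ≫ v) = 0 := by
      rw [Preadditive.comp_sub, sub_eq_zero, ← hu', ← Category.assoc, ← comm₂, Category.assoc]
    obtain ⟨t, ht⟩ := Triangle.yoneda_exact₃ T hT (w - c ≫ v) h2
    obtain ⟨t', rfl⟩ := (ha1 M hM).2 t
    refine ⟨v + T'.mor₃ ≫ t', ?_⟩
    show c ≫ (v + T'.mor₃ ≫ t') = w
    rw [Preadditive.comp_add, ← Category.assoc c, ← comm₃, Category.assoc, ← ht]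
    abel

end Cone


section Completion

open Pretriangulated

variable {A : Type u} [CommRing A] (I : Ideal A)

lemma isDerivedComplete_shift (M : Dual.D A) (hM : DRing.IsDerivedComplete I M) (m : ℤ) :
    DRing.IsDerivedComplete I (M⟦m⟧) :=
  fun f hf n => complete_shift f M (hM f hf) m n

lemma isDerivedComplete_third (T : Triangle (Dual.D A)) (hT : T ∈ distTriang _)
    (h1 : DRing.IsDerivedComplete I T.obj₁) (h2 : DRing.IsDerivedComplete I T.obj₂) :
    DRing.IsDerivedComplete I T.obj₃ :=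
  fun f hf n => Groth.Agent.Lib.helper23.DCompl.P_third _ T hT n (h2 f hf n) (h1 f hf (n + 1))

variable [DRing.HasDerivedCompletion I]

lemma isUniv_toDerivedCompletion (K : Dual.D A) :
    IsUniv (DRing.IsDerivedComplete I) (DRing.toDerivedCompletion I K) := by
  intro M hM
  let adj := DRing.derivedCompletionAdj I
  let M' : DRing.DComp I := ⟨M, hM⟩
  have hb := (adj.homEquiv K M').bijective
  constructor
  · intro ψ₁ ψ₂ h12
    have := hb.1 (a₁ := ObjectProperty.homMk ψ₁) (a₂ := ObjectProperty.homMk ψ₂) (by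
      rw [Adjunction.homEquiv_unit, Adjunction.homEquiv_unit]
      exact h12)
    exact congrArg (fun t => t.hom) this
  · intro χ
    obtain ⟨ψ, hψ⟩ := hb.2 χ
    rw [Adjunction.homEquiv_unit] at hψ
    exact ⟨ψ.hom, hψ⟩

lemma toDerivedCompletion_naturality {K L : Dual.D A} (φ : K ⟶ L) :
    DRing.toDerivedCompletion I K ≫ ((DRing.derivedCompletion I).map φ).hom =
      φ ≫ DRing.toDerivedCompletion I L :=
  ((DRing.derivedCompletionAdj I).unit.naturality φ).symm

/-- **the cone of the completion is the completion of the cone** -/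
theorem nonempty_completion_cone_iso {K L C C' : Dual.D A} (φ : K ⟶ L) (p : L ⟶ C)
    (δ : C ⟶ K⟦(1 : ℤ)⟧) (hT : Triangle.mk φ p δ ∈ distTriang _)
    (p' : ((DRing.derivedCompletion I).obj L).obj ⟶ C')
    (δ' : C' ⟶ (((DRing.derivedCompletion I).obj K).obj)⟦(1 : ℤ)⟧)
    (hT' : Triangle.mk ((DRing.derivedCompletion I).map φ).hom p' δ' ∈ distTriang _) :
    Nonempty (((DRing.derivedCompletion I).obj C).obj ≅ C') := by
  obtain ⟨c, hc₂, hc₃⟩ := complete_distinguished_triangle_morphism _ _ hT hT'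
    (DRing.toDerivedCompletion I K) (DRing.toDerivedCompletion I L)
    (toDerivedCompletion_naturality I φ).symm
  have hC' : DRing.IsDerivedComplete I C' :=
    isDerivedComplete_third I _ hT' ((DRing.derivedCompletion I).obj K).property
      ((DRing.derivedCompletion I).obj L).property
  have hu := isUniv_cone (DRing.IsDerivedComplete I)
    (fun M hM => isDerivedComplete_shift I M hM (-1)) _ _ hT hT'
    (DRing.toDerivedCompletion I K) (DRing.toDerivedCompletion I L) c
    (toDerivedCompletion_naturality I φ).symm hc₂ hc₃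
    (isUniv_toDerivedCompletion I K) (isUniv_toDerivedCompletion I L)
  obtain ⟨e, -⟩ := nonempty_derivedCompletion_iso I C C' c hC' hu
  exact ⟨e⟩

end Completion

section Homology

open Pretriangulated

variable {A : Type u} [CommRing A]

lemma isZero_homology_obj₃_iff (T : Triangle (Dual.D A)) (hT : T ∈ distTriang _) (n : ℤ) :
    IsZero ((DerivedCategory.homologyFunctor (ModuleCat.{u} A) n).obj T.obj₃) ↔
      Epi ((DerivedCategory.homologyFunctor (ModuleCat.{u} A) n).map T.mor₁) ∧
        Mono ((DerivedCategory.homologyFunctor (ModuleCat.{u} A) (n + 1)).map T.mor₁) := by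
  rw [DerivedCategory.HomologySequence.epi_homologyMap_mor₁_iff T hT n,
    DerivedCategory.HomologySequence.mono_homologyMap_mor₁_iff T hT n (n + 1) rfl]
  constructor
  · intro h
    exact ⟨h.eq_of_tgt _ _, h.eq_of_src _ _⟩
  · rintro ⟨h1, h2⟩
    exact (DerivedCategory.HomologySequence.exact₃ T hT n (n + 1) rfl).isZero_of_both_zeros h1 h2


variable (fs : List A) (I : Ideal A) (hI : Ideal.span {x : A | x ∈ fs} = I)
  [DRing.HasDerivedCompletion I]

include hI

/-- if `Hⁿ(φ)` is epi and `Hⁿ⁺¹(φ)` is mono for all `n > b`, the same holds for the completion of `φ` -/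
theorem epi_mono_completion_of_lt {K L : Dual.D A} (φ : K ⟶ L) (b : ℤ)
    (h : ∀ n : ℤ, b < n → Epi ((DerivedCategory.homologyFunctor (ModuleCat.{u} A) n).map φ) ∧
      Mono ((DerivedCategory.homologyFunctor (ModuleCat.{u} A) (n + 1)).map φ))
    (n : ℤ) (hn : b < n) :
    Epi ((DerivedCategory.homologyFunctor (ModuleCat.{u} A) n).map
        ((DRing.derivedCompletion I).map φ).hom) ∧
      Mono ((DerivedCategory.homologyFunctor (ModuleCat.{u} A) (n + 1)).map
        ((DRing.derivedCompletion I).map φ).hom) := by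
  obtain ⟨C, p, δ, hT⟩ := distinguished_cocone_triangle φ
  obtain ⟨C', p', δ', hT'⟩ := distinguished_cocone_triangle ((DRing.derivedCompletion I).map φ).hom
  obtain ⟨e⟩ := nonempty_completion_cone_iso I φ p δ hT p' δ' hT'
  have hC : ∀ j : ℤ, b < j →
      IsZero ((DerivedCategory.homologyFunctor (ModuleCat.{u} A) j).obj C) :=
    fun j hj => (isZero_homology_obj₃_iff _ hT j).2 (h j hj)
  have hC' := isZero_homology_derivedCompletion_of_lt fs I hI C b hC n hn
  exact (isZero_homology_obj₃_iff _ hT' n).1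
    (IsZero.of_iso hC' ((DerivedCategory.homologyFunctor (ModuleCat.{u} A) n).mapIso e.symm))

/-- if `Hⁿ(φ)` is epi and `Hⁿ⁺¹(φ)` is mono for all `n < a`, the same holds for the completion of `φ` for
`n < a - length fs` -/
theorem epi_mono_completion_of_gt {K L : Dual.D A} (φ : K ⟶ L) (a : ℤ)
    (h : ∀ n : ℤ, n < a → Epi ((DerivedCategory.homologyFunctor (ModuleCat.{u} A) n).map φ) ∧
      Mono ((DerivedCategory.homologyFunctor (ModuleCat.{u} A) (n + 1)).map φ))
    (n : ℤ) (hn : n + fs.length < a) :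
    Epi ((DerivedCategory.homologyFunctor (ModuleCat.{u} A) n).map
        ((DRing.derivedCompletion I).map φ).hom) ∧
      Mono ((DerivedCategory.homologyFunctor (ModuleCat.{u} A) (n + 1)).map
        ((DRing.derivedCompletion I).map φ).hom) := by
  obtain ⟨C, p, δ, hT⟩ := distinguished_cocone_triangle φ
  obtain ⟨C', p', δ', hT'⟩ := distinguished_cocone_triangle ((DRing.derivedCompletion I).map φ).hom
  obtain ⟨e⟩ := nonempty_completion_cone_iso I φ p δ hT p' δ' hT'
  have hC : ∀ j : ℤ, j < a →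
      IsZero ((DerivedCategory.homologyFunctor (ModuleCat.{u} A) j).obj C) :=
    fun j hj => (isZero_homology_obj₃_iff _ hT j).2 (h j hj)
  have hC' := isZero_homology_derivedCompletion_of_gt fs I hI C a hC n hn
  exact (isZero_homology_obj₃_iff _ hT' n).1
    (IsZero.of_iso hC' ((DerivedCategory.homologyFunctor (ModuleCat.{u} A) n).mapIso e.symm))

end Homology

end Groth.Agent.Lib.helper13.DComp
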