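import Mathlib
import Groth.Prelude.Def_DRing4
import Groth.Prelude.Def_DRing3
import Groth.Prelude.Def_DDual2
import Groth.Prelude.Def_DerCA
import Groth.Agent.Lib.Helper13.DComp7
import Groth.Agent.Lib.Helper13.KRes6

/-!
# Derived completion, part 8 (helper13): `RHom(K, L^∧)` is the derived completion of `RHom(K, L)`

* `bijective_smul_homCx_right`, additivity of `Hom•(K, -)`, `homCxSC₂_splitting` (`Hom•(K, -)` of a degreewise
  split short exact sequence).
* `bijective_precomp_proj₂`, `bijective_precomp_aug₂`: universal property of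
  `Hom•(K, Hom•(A[0], J)) ⟶ Hom•(K, Hom•(Č(fs), J))` (any `K`, `J`).
* `complete_homCx_of_complete`: `RHom(K, M)` is derived `f`-complete when `M` is (via a K-flat resolution of `K`).
* `RHomCx_map_Q_map`, `RHomCx_derivedCompletion` (S7101).
-/

set_option autoImplicit false
universe u
open CategoryTheory CategoryTheory.Limits MonoidalCategory DerivedCategory HomologicalComplex
open CochainComplex.HomComplex

attribute [local instance] HasDerivedCategory.standard

namespace Groth.Agent.Lib.helper13.DComp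

open Groth.Agent.Lib.helper23.RHomCx Groth.Agent.Lib.helper23.TensHom
  Groth.Agent.Lib.helper13.KFlat Groth.Agent.Lib.helper13.HomKFlat

variable {A : Type u} [CommRing A]

section Right

/-- `f` acts bijectively on `Hom•(K, Y)` when it acts bijectively on the terms of `Y` -/
lemma bijective_smul_homCx_right (f : A) (K Y : DRing.Cx A)
    (hY : ∀ p : ℤ, Function.Bijective (fun y : Y.X p => f • y)) (n : ℤ) :
    Function.Bijective (fun z : (DRing.homCx K Y).X n => f • z) := by
  have hiso : ∀ p : ℤ, IsIso (f • 𝟙 (Y.X p)) := by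
    intro p
    rw [ConcreteCategory.isIso_iff_bijective]
    exact hY p
  constructor
  · intro (z : Cochain K Y n) (z' : Cochain K Y n) (h : f • z = f • z')
    show z = z'
    refine Cochain.ext _ _ (fun p q hpq => ?_)
    have h1 := congrArg (fun w : Cochain K Y n => w.v p q hpq) h
    simp only [Cochain.smul_v] at h1
    haveI := hiso q
    rw [← cancel_mono (f • 𝟙 (Y.X q)), Linear.comp_smul, Linear.comp_smul, Category.comp_id,
      Category.comp_id]
    exact h1
  · intro (z : Cochain K Y n)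
    refine ⟨(Cochain.mk (fun p q hpq => z.v p q hpq ≫ (haveI := hiso q; inv (f • 𝟙 (Y.X q)))) :
      Cochain K Y n), ?_⟩
    show f • (Cochain.mk (fun p q hpq => z.v p q hpq ≫ (haveI := hiso q; inv (f • 𝟙 (Y.X q)))) :
      Cochain K Y n) = z
    refine Cochain.ext _ _ (fun p q hpq => ?_)
    haveI := hiso q
    simp only [Cochain.smul_v, Cochain.mk_v]
    rw [← Linear.comp_smul, ← Category.comp_id (inv (f • 𝟙 (Y.X q))), ← Linear.comp_smul,
      IsIso.inv_hom_id, Category.comp_id]

instance (K : DRing.Cx A) : (DRing.homCxFunctor K).Additive where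
  map_add {Y Y' f g} := by
    refine HomologicalComplex.hom_ext _ _ fun i => ModuleCat.hom_ext
      (LinearMap.ext fun (z : Cochain K Y i) => ?_)
    show z.comp (Cochain.ofHom (f + g)) (add_zero i) =
      z.comp (Cochain.ofHom f) (add_zero i) + z.comp (Cochain.ofHom g) (add_zero i)
    rw [Cochain.ofHom_add, Cochain.comp_add]

/-- postcomposition with a fixed cochain of degree `0`, as a linear map -/
noncomputable def postcompCochainLin (K : DRing.Cx A) {Y Y' : DRing.Cx A} (H : Cochain Y Y' 0)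
    (p : ℤ) : Cochain K Y p →ₗ[A] Cochain K Y' p where
  toFun z := z.comp H (add_zero p)
  map_add' z z' := by simp
  map_smul' a z := by simp

/-- `Hom•(K, -)` of a degreewise split short exact sequence is degreewise split -/
noncomputable def homCxSC₂_splitting (K : DRing.Cx A) (S : ShortComplex (DRing.Cx A))
    (hS : ∀ q : ℤ, (S.map (eval _ _ q)).Splitting) (i : ℤ) :
    ((S.map (DRing.homCxFunctor K)).map (eval _ _ i)).Splitting := by
  let ρ : Cochain S.X₂ S.X₁ 0 := Cochain.ofHoms (fun q => (hS q).r)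
  let σ : Cochain S.X₃ S.X₂ 0 := Cochain.ofHoms (fun q => (hS q).s)
  have c1 : (Cochain.ofHom S.f).comp ρ (zero_add 0) = Cochain.ofHom (𝟙 S.X₁) := by
    refine Cochain.ext₀ _ _ (fun p => ?_)
    simp only [Cochain.comp_zero_cochain_v, Cochain.ofHom_v, ρ, Cochain.ofHoms_v]
    exact (hS p).f_r
  have c2 : σ.comp (Cochain.ofHom S.g) (zero_add 0) = Cochain.ofHom (𝟙 S.X₃) := by
    refine Cochain.ext₀ _ _ (fun p => ?_)
    simp only [Cochain.comp_zero_cochain_v, Cochain.ofHom_v, σ, Cochain.ofHoms_v]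
    exact (hS p).s_g
  have c3 : ρ.comp (Cochain.ofHom S.f) (zero_add 0) + (Cochain.ofHom S.g).comp σ (zero_add 0) =
      Cochain.ofHom (𝟙 S.X₂) := by
    refine Cochain.ext₀ _ _ (fun p => ?_)
    simp only [Cochain.add_v, Cochain.comp_zero_cochain_v, Cochain.ofHom_v, ρ, σ,
      Cochain.ofHoms_v]
    exact (hS p).id
  exact
    { r := ModuleCat.ofHom (postcompCochainLin K ρ i)
      s := ModuleCat.ofHom (postcompCochainLin K σ i)
      f_r := by
        apply ModuleCat.hom_ext
        apply LinearMap.ext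
        intro (z : Cochain K S.X₁ i)
        show (z.comp (Cochain.ofHom S.f) (add_zero i)).comp ρ (add_zero i) = z
        rw [Cochain.comp_assoc_of_third_is_zero_cochain, c1, Cochain.comp_id]
      s_g := by
        apply ModuleCat.hom_ext
        apply LinearMap.ext
        intro (z : Cochain K S.X₃ i)
        show (z.comp σ (add_zero i)).comp (Cochain.ofHom S.g) (add_zero i) = z
        rw [Cochain.comp_assoc_of_third_is_zero_cochain, c2, Cochain.comp_id]
      id := by
        apply ModuleCat.hom_ext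
        apply LinearMap.ext
        intro (z : Cochain K S.X₂ i)
        show (z.comp ρ (add_zero i)).comp (Cochain.ofHom S.f) (add_zero i) +
          (z.comp (Cochain.ofHom S.g) (add_zero i)).comp σ (add_zero i) = z
        rw [Cochain.comp_assoc_of_third_is_zero_cochain,
          Cochain.comp_assoc_of_third_is_zero_cochain, ← Cochain.comp_add, c3,
          Cochain.comp_id] }

end Right

section Step₂

variable (K : DRing.Cx A) (f : A) (E J : DRing.Cx A)

open Groth.Agent.Lib.helper23.DCompl in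
/-- one step of the universal property, with an extra `Hom•(K, -)` -/
theorem bijective_precomp_proj₂ (M : Dual.D A) (hM : ∀ n : ℤ, Subsingleton (Af0 f ⟶ M⟦n⟧)) :
    Function.Bijective
      (fun ψ : Q.obj ((DRing.homCxFunctor K).obj (DRing.homCx (CochainComplex.mappingCocone (uE f E)) J)) ⟶ M =>
        Q.map ((DRing.homCxFunctor K).map (homCxMapLeft (proj f E) J)) ≫ ψ) := by
  let S' := homCxSC (coconeSC f E) J
  let S'' := S'.map (DRing.homCxFunctor K)
  have hS'' : S''.ShortExact := by
    refine HomologicalComplex.shortExact_of_degreewise_shortExact S'' (fun i => ?_)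
    exact (homCxSC₂_splitting K S'
      (homCxSC_splitting (coconeSC f E) J (coconeSplitting f E)) i).shortExact
  have hT := DerivedCategory.triangleOfSES_distinguished hS''
  have hY : ∀ n : ℤ, Function.Bijective
      (fun y : ((DRing.homCxFunctor K).obj (DRing.homCx (coconeSC f E).X₁ J)).X n => f • y) :=
    bijective_smul_homCx_right f K _
      (bijective_smul_homCx f _ J (fun p => isIso_smul_locFunctor f _))
  have h0 : Subsingleton ((DerivedCategory.triangleOfSES hS'').obj₃ ⟶ M) :=
    subsingleton_hom_of_local f _ hY M hM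
  have h1 : Subsingleton ((DerivedCategory.triangleOfSES hS'').obj₃ ⟶ M⟦(1 : ℤ)⟧) :=
    subsingleton_hom_of_local f _ hY _ (fun n => complete_shift f M hM 1 n)
  let m₁ : Q.obj ((DRing.homCxFunctor K).obj (DRing.homCx ((E⟦(1 : ℤ)⟧)⟦(-1 : ℤ)⟧) J)) ⟶
      Q.obj ((DRing.homCxFunctor K).obj (DRing.homCx (CochainComplex.mappingCocone (uE f E)) J)) :=
    (DerivedCategory.triangleOfSES hS'').mor₁
  have hb : Function.Bijective
      (fun ψ : Q.obj ((DRing.homCxFunctor K).obj (DRing.homCx (CochainComplex.mappingCocone (uE f E)) J)) ⟶ M =>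
        m₁ ≫ ψ) :=
    ⟨inj_of_subsingleton _ hT M h0, surj_of_subsingleton _ hT M h1⟩
  have hfac : Q.map ((DRing.homCxFunctor K).map (homCxMapLeft (proj f E) J)) =
      Q.map ((DRing.homCxFunctor K).map (homCxMapLeft (shiftIso E).hom J)) ≫ m₁ := by
    show _ = Q.map ((DRing.homCxFunctor K).map (homCxMapLeft (shiftIso E).hom J)) ≫
      Q.map ((DRing.homCxFunctor K).map
        (homCxMapLeft (show CochainComplex.mappingCocone (uE f E) ⟶ (E⟦(1 : ℤ)⟧)⟦(-1 : ℤ)⟧ from
          (coconeSC f E).g) J))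
    rw [← Functor.map_comp, ← Functor.map_comp, ← homCxMapLeft_comp]
    rfl
  haveI : IsIso (Q.map ((DRing.homCxFunctor K).map (homCxMapLeft (shiftIso E).hom J))) :=
    (Q.mapIso ((DRing.homCxFunctor K).mapIso (homCxIsoLeft (shiftIso E) J))).isIso_hom
  constructor
  · intro ψ₁ ψ₂ h
    have h' : Q.map ((DRing.homCxFunctor K).map (homCxMapLeft (shiftIso E).hom J)) ≫ m₁ ≫ ψ₁ =
        Q.map ((DRing.homCxFunctor K).map (homCxMapLeft (shiftIso E).hom J)) ≫ m₁ ≫ ψ₂ := by
      rw [← Category.assoc, ← Category.assoc, ← hfac]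
      exact h
    exact hb.1 ((cancel_epi _).1 h')
  · intro χ
    obtain ⟨ψ, hψ⟩ := hb.2
      (inv (Q.map ((DRing.homCxFunctor K).map (homCxMapLeft (shiftIso E).hom J))) ≫ χ)
    refine ⟨ψ, ?_⟩
    show Q.map ((DRing.homCxFunctor K).map (homCxMapLeft (proj f E) J)) ≫ ψ = χ
    have hψ' : m₁ ≫ ψ =
      inv (Q.map ((DRing.homCxFunctor K).map (homCxMapLeft (shiftIso E).hom J))) ≫ χ := hψ
    rw [hfac, Category.assoc, hψ', IsIso.hom_inv_id_assoc]

end Step₂

/-- the universal property of `Hom•(K, Hom•(A[0], J)) ⟶ Hom•(K, Hom•(Č(fs), J))` -/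
theorem bijective_precomp_aug₂ (K J : DRing.Cx A) : ∀ (fs : List A) (M : Dual.D A),
    (∀ g ∈ fs, ∀ n : ℤ, Subsingleton (Af0 g ⟶ M⟦n⟧)) →
    Function.Bijective (fun ψ : Q.obj ((DRing.homCxFunctor K).obj (DRing.homCx (Cech fs) J)) ⟶ M =>
      Q.map ((DRing.homCxFunctor K).map (homCxMapLeft (aug fs) J)) ≫ ψ)
  | [], M, _ => by
    have : (fun ψ : Q.obj ((DRing.homCxFunctor K).obj (DRing.homCx (Cech ([] : List A)) J)) ⟶ M =>
        Q.map ((DRing.homCxFunctor K).map (homCxMapLeft (aug ([] : List A)) J)) ≫ ψ) = id := by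
      funext ψ
      show Q.map ((DRing.homCxFunctor K).map (homCxMapLeft (𝟙 _) J)) ≫ ψ = ψ
      rw [homCxMapLeft_id, CategoryTheory.Functor.map_id, CategoryTheory.Functor.map_id,
        Category.id_comp]
    rw [this]
    exact Function.bijective_id
  | f :: fs, M, h => by
    have h1 := bijective_precomp_proj₂ K f (Cech fs) J M (h f List.mem_cons_self)
    have h2 := bijective_precomp_aug₂ K J fs M (fun g hg => h g (List.mem_cons_of_mem _ hg))
    have : (fun ψ : Q.obj ((DRing.homCxFunctor K).obj (DRing.homCx (Cech (f :: fs)) J)) ⟶ M =>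
        Q.map ((DRing.homCxFunctor K).map (homCxMapLeft (aug (f :: fs)) J)) ≫ ψ) =
        (fun ψ : Q.obj ((DRing.homCxFunctor K).obj (DRing.homCx (Cech fs) J)) ⟶ M =>
          Q.map ((DRing.homCxFunctor K).map (homCxMapLeft (aug fs) J)) ≫ ψ) ∘
          (fun ψ : Q.obj ((DRing.homCxFunctor K).obj
              (DRing.homCx (CochainComplex.mappingCocone (uE f (Cech fs))) J)) ⟶ M =>
            Q.map ((DRing.homCxFunctor K).map (homCxMapLeft (proj f (Cech fs)) J)) ≫ ψ) := by
      funext ψ
      show Q.map ((DRing.homCxFunctor K).map (homCxMapLeft (proj f (Cech fs) ≫ aug fs) J)) ≫ ψ = _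
      rw [homCxMapLeft_comp, Functor.map_comp, Functor.map_comp, Category.assoc]
      rfl
    rw [this]
    exact h2.comp h1


section Complete

/-- `Hom_D(A_f[0] ⊗ P, M) = 0` for `M` derived `f`-complete -/
lemma subsingleton_Sg_tensor_hom (f : A) (P : DRing.Cx A) (M : Dual.D A)
    (hM : ∀ n : ℤ, Subsingleton (Af0 f ⟶ M⟦n⟧)) : Subsingleton (Q.obj (Sg f ⊗ P) ⟶ M) := by
  have hY : ∀ m : ℤ, Function.Bijective
      (fun y : ((DerCA.locCx (Submonoid.powers f)).obj P).X m => f • y) := by
    intro m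
    have := isIso_smul_locFunctor f (P.X m)
    rw [ConcreteCategory.isIso_iff_bijective] at this
    exact this
  have h := subsingleton_hom_of_local f _ hY M hM
  let e : Q.obj (Sg f ⊗ P) ≅ Q.obj ((DerCA.locCx (Submonoid.powers f)).obj P) :=
    Q.mapIso (locCxTensorIso f P).symm
  exact ⟨fun a b => by rw [← cancel_epi e.inv]; exact Subsingleton.elim _ _⟩

/-- `RHom(K, M)` is derived `f`-complete when `M` is -/
theorem complete_homCx_of_complete (K J' : DRing.Cx A) [J'.IsKInjective] (f : A)
    (hJ' : ∀ n : ℤ, Subsingleton (Af0 f ⟶ (Q.obj J')⟦n⟧)) (n : ℤ) :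
    Subsingleton (Af0 f ⟶ (Q.obj (DRing.homCx K J'))⟦n⟧) := by
  obtain ⟨P, q, hP, -, hq, -⟩ := Groth.Agent.Lib.helper13.KRes.exists_isKFlatR_resolution K
  haveI := hq
  haveI := quasiIso_homCxMapLeft q J'
  haveI : IsIso (Q.map (homCxMapLeft q J')) := by
    rw [DerivedCategory.isIso_Q_map_iff_quasiIso]
    infer_instance
  let e0 : Q.obj (DRing.homCx K J') ≅ Q.obj (DRing.homCx P J') := asIso (Q.map (homCxMapLeft q J'))
  let e1 : Af0 f ≅ Q.obj (Sg f) :=
    (DerivedCategory.singleFunctorIsoCompQ (ModuleCat.{u} A) 0).app _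
  let e2 : (Q.obj (DRing.homCx P J'))⟦n⟧ ≅ Q.obj ((DRing.homCx P J')⟦n⟧) :=
    ((Q.commShiftIso n).app _).symm
  let e3 : Q.obj (J'⟦n⟧) ≅ (Q.obj J')⟦n⟧ := (Q.commShiftIso n).app _
  haveI hs : Subsingleton (Q.obj (Sg f ⊗ P) ⟶ (Q.obj J')⟦n⟧) :=
    subsingleton_Sg_tensor_hom f P _ (fun m => complete_shift f _ hJ' n m)
  have key : ∀ φ : Q.obj (Sg f) ⟶ Q.obj ((DRing.homCx P J')⟦n⟧), φ = 0 :=
    hom_homCx_eq_zero (Sg f) P J' hP n (fun ψ => by
      rw [← cancel_mono e3.hom, zero_comp]
      exact Subsingleton.elim _ _)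
  let e4 : (Q.obj (DRing.homCx K J'))⟦n⟧ ≅ Q.obj ((DRing.homCx P J')⟦n⟧) :=
    (shiftFunctor (Dual.D A) n).mapIso e0 ≪≫ e2
  refine ⟨fun a b => ?_⟩
  have ha : e1.inv ≫ a ≫ e4.hom = 0 := key _
  have hb : e1.inv ≫ b ≫ e4.hom = 0 := key _
  rw [← cancel_epi e1.inv, ← cancel_mono e4.hom, Category.assoc, Category.assoc, ha, hb]

end Complete


section Main

lemma isDerivedComplete_of_iso (I : Ideal A) {M M' : Dual.D A} (e : M ≅ M')
    (hM : DRing.IsDerivedComplete I M) : DRing.IsDerivedComplete I M' := by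
  intro f hf n
  haveI := hM f hf n
  let en : M⟦n⟧ ≅ M'⟦n⟧ := (shiftFunctor (Dual.D A) n).mapIso e
  exact ⟨fun a b => by rw [← cancel_mono en.inv]; exact Subsingleton.elim _ _⟩

omit [CommRing A] in
lemma bijective_precomp_of_isIso {C : Type*} [Category C] {X Y : C} (α : X ⟶ Y) [IsIso α] (Z : C) :
    Function.Bijective (fun φ : Y ⟶ Z => α ≫ φ) :=
  ⟨fun a b h => (cancel_epi α).1 h, fun c => ⟨inv α ≫ c, by simp⟩⟩

/-- `RHom(K, -)` on a chain map between K-injective complexes -/
lemma RHomCx_map_Q_map (K : DRing.Cx A) [DRing.HasRHomCx K] {X Y : DRing.Cx A} [X.IsKInjective]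
    [Y.IsKInjective] (g : X ⟶ Y) :
    (DRing.RHomCx K).map (Q.map g) =
      (RHomCxIso K X).inv ≫ Q.map ((DRing.homCxFunctor K).map g) ≫ (RHomCxIso K Y).hom := by
  rw [Iso.eq_inv_comp]
  exact ((η K).naturality g).symm

variable (fs : List A) (I : Ideal A) (hI : Ideal.span {x : A | x ∈ fs} = I)
  [DRing.HasDerivedCompletion I]

include hI

/-- **`RHom(K, L^∧)` is the derived completion of `RHom(K, L)`** (S7101) -/
theorem RHomCx_derivedCompletion (K : DRing.Cx A) [DRing.HasRHomCx K] (L : Dual.D A) :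
    DRing.IsDerivedComplete I ((DRing.RHomCx K).obj ((DRing.derivedCompletion I).obj L).obj) ∧
      ∀ E : Dual.D A, DRing.IsDerivedComplete I E →
        Function.Bijective
          (fun φ : (DRing.RHomCx K).obj ((DRing.derivedCompletion I).obj L).obj ⟶ E =>
            (DRing.RHomCx K).map (DRing.toDerivedCompletion I L) ≫ φ) := by
  subst hI
  obtain ⟨J, hJ, ⟨e⟩⟩ := exists_kInjective_model L
  haveI := hJ
  obtain ⟨e', he'⟩ := exists_derivedCompletion_iso_homCx_Cech fs J e
  haveI hJc : (DRing.homCx (Cech fs) J).IsKInjective :=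
    isKInjective_homCx (Cech fs) J (isKFlatR_extCech fs)
  haveI hJ0 : (DRing.homCx (Cech ([] : List A)) J).IsKInjective :=
    isKInjective_homCx (Cech ([] : List A)) J (isKFlatR_extCech [])
  constructor
  · refine isDerivedComplete_of_iso _
      ((RHomCxIso K (DRing.homCx (Cech fs) J)) ≪≫ (DRing.RHomCx K).mapIso e'.symm) ?_
    exact isDerivedComplete_of_generators _ _ (fun g hg n =>
      complete_homCx_of_complete K _ g (fun m => complete_homCx_Cech fs J g hg m) n)
  · intro E hE
    let u : J ≅ DRing.homCx (Cech ([] : List A)) J :=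
      ((shiftFunctorZero (DRing.Cx A) ℤ).app J).symm ≪≫ (singleShiftIso J 0).symm
    have htc : toCompletion fs J = Q.map u.hom ≫ Q.map (homCxMapLeft (aug fs) J) := by
      simp only [toCompletion, unitHomIso, u, Iso.trans_hom, Functor.mapIso_hom, Functor.map_comp]
    have hη : DRing.toDerivedCompletion (Ideal.span {x : A | x ∈ fs}) L =
        e.hom ≫ (Q.map u.hom ≫ Q.map (homCxMapLeft (aug fs) J)) ≫ e'.inv := by
      rw [← htc, ← Category.assoc, ← he', Category.assoc, Iso.hom_inv_id, Category.comp_id]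
    let α : (DRing.RHomCx K).obj L ⟶
        Q.obj ((DRing.homCxFunctor K).obj (DRing.homCx (Cech ([] : List A)) J)) :=
      (DRing.RHomCx K).map e.hom ≫ (RHomCxIso K J).inv ≫ Q.map ((DRing.homCxFunctor K).map u.hom)
    let β : Q.obj ((DRing.homCxFunctor K).obj (DRing.homCx (Cech fs) J)) ⟶
        (DRing.RHomCx K).obj ((DRing.derivedCompletion (Ideal.span {x : A | x ∈ fs})).obj L).obj :=
      (RHomCxIso K (DRing.homCx (Cech fs) J)).hom ≫ (DRing.RHomCx K).map e'.inv
    haveI : IsIso (Q.map ((DRing.homCxFunctor K).map u.hom)) :=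
      (Q.mapIso ((DRing.homCxFunctor K).mapIso u)).isIso_hom
    haveI : IsIso α :=
      ((DRing.RHomCx K).mapIso e ≪≫ (RHomCxIso K J).symm ≪≫
        Q.mapIso ((DRing.homCxFunctor K).mapIso u)).isIso_hom
    haveI : IsIso β :=
      (RHomCxIso K (DRing.homCx (Cech fs) J) ≪≫ (DRing.RHomCx K).mapIso e'.symm).isIso_hom
    have hfac : (DRing.RHomCx K).map (DRing.toDerivedCompletion (Ideal.span {x : A | x ∈ fs}) L) =
        α ≫ Q.map ((DRing.homCxFunctor K).map (homCxMapLeft (aug fs) J)) ≫ β := by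
      rw [hη]
      simp only [Functor.map_comp, α, β, Category.assoc]
      rw [RHomCx_map_Q_map K u.hom, RHomCx_map_Q_map K (homCxMapLeft (aug fs) J)]
      simp only [Category.assoc]
      congr 3
      exact Iso.hom_inv_id_assoc _ _
    have h2 := bijective_precomp_aug₂ K J fs E (fun g hg n => hE g (Ideal.subset_span hg) n)
    have : (fun φ : (DRing.RHomCx K).obj
          ((DRing.derivedCompletion (Ideal.span {x : A | x ∈ fs})).obj L).obj ⟶ E =>
        (DRing.RHomCx K).map (DRing.toDerivedCompletion (Ideal.span {x : A | x ∈ fs}) L) ≫ φ) =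
        (fun φ => α ≫ φ) ∘
          (fun ψ : Q.obj ((DRing.homCxFunctor K).obj (DRing.homCx (Cech fs) J)) ⟶ E =>
            Q.map ((DRing.homCxFunctor K).map (homCxMapLeft (aug fs) J)) ≫ ψ) ∘
          (fun φ => β ≫ φ) := by
      funext φ
      simp only [Function.comp_apply, hfac, Category.assoc]
    rw [this]
    exact ((bijective_precomp_of_isIso α E).comp h2).comp (bijective_precomp_of_isIso β E)

end Main

end Groth.Agent.Lib.helper13.DComp
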