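import Mathlib
import Groth.Agent.Lib.Helper13.DComp8

set_option autoImplicit false
universe u
open CategoryTheory CategoryTheory.Limits MonoidalCategory DerivedCategory
open CochainComplex.HomComplex HomologicalComplex

attribute [local instance] HasDerivedCategory.standard

namespace Groth.Agent.Lib.helper13.DCT

open Groth.Agent.Lib.helper23.RHomCx Groth.Agent.Lib.helper23.TensHom
  Groth.Agent.Lib.helper13.KFlat Groth.Agent.Lib.helper13.HomKFlat Groth.Agent.Lib.helper13.DComp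

variable {A : Type u} [CommRing A]

section Nat

variable {K K' L M : DRing.Cx A}

/-- naturality of `toT` in the first variable -/
lemma toT_precomp (g : K' ⟶ K) {n : ℤ} (z : Cochain K (DRing.homCx L M) n) :
    toT ((Cochain.ofHom g).comp z (zero_add n)) =
      (Cochain.ofHom (g ▷ L)).comp (toT z) (zero_add n) := by
  refine Cochain.ext _ _ (fun m m' hm => ?_)
  apply mapBifunctor.hom_ext
  intro p q hpq
  have hpq' : p + q = m := hpq
  subst hpq'
  rw [Cochain.zero_cochain_comp_v, Cochain.ofHom_v]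
  have h1 : ιTensorObj K' L p q (p + q) rfl ≫ (g ▷ L).f (p + q) =
      (g.f p ▷ L.X q) ≫ ιTensorObj K L p q (p + q) rfl := by
    have := ι_mapBifunctorMap g (𝟙 L) (curriedTensor (ModuleCat.{u} A)) (ComplexShape.up ℤ) p q (p + q) rfl
    rw [id_f, CategoryTheory.Functor.map_id, Category.id_comp] at this
    exact this
  have h2 := ι_toT_v z p q (p + q) m' rfl hm
  have h3 := ι_toT_v ((Cochain.ofHom g).comp z (zero_add n)) p q (p + q) m' rfl hm
  change ιTensorObj K' L p q (p + q) rfl ≫ _ = ιTensorObj K' L p q (p + q) rfl ≫ _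
  rw [h3, reassoc_of% h1, h2]
  apply ModuleCat.hom_ext
  apply TensorProduct.ext'
  intro x y
  rw [comp₂_tmul]
  change _ = (comp₂ z p q m' (by omega)).hom ((g.f p).hom x ⊗ₜ[A] y)
  rw [comp₂_tmul]
  rw [Cochain.zero_cochain_comp_v, Cochain.ofHom_v]
  rfl

lemma fromT_precomp (g : K' ⟶ K) {n : ℤ} (w : Cochain (K ⊗ L) M n) :
    fromT ((Cochain.ofHom (g ▷ L)).comp w (zero_add n)) =
      (Cochain.ofHom g).comp (fromT w) (zero_add n) := by
  have h := toT_precomp g (fromT w)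
  rw [toT_fromT] at h
  rw [← h, fromT_toT]

/-- the cocycle of `K ⊗ L → M` attached to a cocycle `K → Hom•(L, M)` -/
noncomputable def toTCocycle {n : ℤ} (z : Cocycle K (DRing.homCx L M) n) : Cocycle (K ⊗ L) M n :=
  Cocycle.mk (toT z.1) (n + 1) rfl (by rw [δ_toT rfl, Cocycle.δ_eq_zero]; exact (toTLin K L M (n + 1)).map_zero)

/-- the cocycle `K → Hom•(L, M)` attached to a cocycle of `K ⊗ L → M` -/
noncomputable def fromTCocycle {n : ℤ} (w : Cocycle (K ⊗ L) M n) : Cocycle K (DRing.homCx L M) n :=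
  Cocycle.mk (fromT w.1) (n + 1) rfl (by
    rw [fromT_δ rfl, Cocycle.δ_eq_zero]; exact (toTLin K L M (n + 1)).symm.map_zero)

@[simp] lemma toTCocycle_coe {n : ℤ} (z : Cocycle K (DRing.homCx L M) n) :
    (toTCocycle z).1 = toT z.1 := rfl

@[simp] lemma fromTCocycle_coe {n : ℤ} (w : Cocycle (K ⊗ L) M n) :
    (fromTCocycle w).1 = fromT w.1 := rfl

/-- `Ψ` kills a cocycle iff it is a coboundary, for `M` K-injective -/
lemma Ψ_eq_zero_iff [M.IsKInjective] {X : DRing.Cx A} {n : ℤ} (z : Cocycle X M n) :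
    Ψ X M n z = 0 ↔ ∃ β : Cochain X M (n - 1), δ (n - 1) n β = z.1 :=
  ⟨fun h => exists_coboundary_of_isKInjective z h, fun ⟨β, hβ⟩ => Ψ_eq_zero_of_coboundary z β hβ⟩

/-- `Ψ(toT z) = 0 ↔ Ψ(z) = 0` -/
lemma Ψ_toTCocycle_eq_zero_iff [M.IsKInjective] (hL : IsKFlatR L) {n : ℤ}
    (z : Cocycle K (DRing.homCx L M) n) :
    Ψ (K ⊗ L) M n (toTCocycle z) = 0 ↔ Ψ K (DRing.homCx L M) n z = 0 := by
  haveI := isKInjective_homCx L M hL
  rw [Ψ_eq_zero_iff, Ψ_eq_zero_iff]
  constructor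
  · rintro ⟨β, hβ⟩
    refine ⟨fromT β, ?_⟩
    rw [fromT_δ (by omega), hβ, toTCocycle_coe, fromT_toT]
  · rintro ⟨β, hβ⟩
    refine ⟨toT β, ?_⟩
    rw [δ_toT (by omega), hβ, toTCocycle_coe]

end Nat

section Transport

variable {X Y : DRing.Cx A} (g : X ⟶ Y) (F J : DRing.Cx A) [J.IsKInjective] (hF : IsKFlatR F) (n : ℤ)

include hF in
/-- tensor-Hom adjunction transports bijectivity of precomposition -/
theorem bijective_precomp_tensor
    (h : Function.Bijective (fun φ : Q.obj Y ⟶ Q.obj ((DRing.homCx F J)⟦n⟧) => Q.map g ≫ φ)) :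
    Function.Bijective (fun ψ : Q.obj (Y ⊗ F) ⟶ Q.obj (J⟦n⟧) => Q.map (g ▷ F) ≫ ψ) := by
  haveI := isKInjective_homCx F J hF
  -- key compatibility
  have hcomp : ∀ z : Cocycle Y (DRing.homCx F J) n,
      Q.map (g ▷ F) ≫ Ψ (Y ⊗ F) J n (toTCocycle z) = Ψ (X ⊗ F) J n (toTCocycle (z.precomp g)) := by
    intro z
    rw [← Ψ_precomp]
    congr 1
    apply Subtype.ext
    simp only [Cocycle.precomp_coe, toTCocycle_coe]
    exact (toT_precomp g z.1).symm
  have hsurjT : ∀ ψ : Q.obj (Y ⊗ F) ⟶ Q.obj (J⟦n⟧), ∃ z : Cocycle Y (DRing.homCx F J) n,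
      Ψ (Y ⊗ F) J n (toTCocycle z) = ψ := by
    intro ψ
    obtain ⟨w, rfl⟩ := Ψ_surjective_of_isKInjective ψ
    refine ⟨fromTCocycle w, ?_⟩
    congr 1
    apply Subtype.ext
    simp only [toTCocycle_coe, fromTCocycle_coe, toT_fromT]
  have hsurjT' : ∀ ψ : Q.obj (X ⊗ F) ⟶ Q.obj (J⟦n⟧), ∃ z : Cocycle X (DRing.homCx F J) n,
      Ψ (X ⊗ F) J n (toTCocycle z) = ψ := by
    intro ψ
    obtain ⟨w, rfl⟩ := Ψ_surjective_of_isKInjective ψ
    refine ⟨fromTCocycle w, ?_⟩
    congr 1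
    apply Subtype.ext
    simp only [toTCocycle_coe, fromTCocycle_coe, toT_fromT]
  constructor
  · -- injectivity
    intro a b hab
    have hab' : Q.map (g ▷ F) ≫ (a - b) = 0 := by
      rw [Preadditive.comp_sub]; exact sub_eq_zero.2 hab
    obtain ⟨z, hz⟩ := hsurjT (a - b)
    rw [← hz, hcomp, Ψ_toTCocycle_eq_zero_iff hF, Ψ_precomp] at hab'
    have h0 : Ψ Y (DRing.homCx F J) n z = 0 := by
      apply h.1
      simp only [comp_zero]
      exact hab'
    rw [← Ψ_toTCocycle_eq_zero_iff hF, hz] at h0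
    exact sub_eq_zero.1 h0
  · -- surjectivity
    intro ψ
    obtain ⟨z, hz⟩ := hsurjT' ψ
    obtain ⟨φ₁, hφ₁⟩ := h.2 (Ψ X (DRing.homCx F J) n z)
    obtain ⟨z₁, rfl⟩ := Ψ_surjective_of_isKInjective φ₁
    refine ⟨Ψ (Y ⊗ F) J n (toTCocycle z₁), ?_⟩
    simp only at hφ₁ ⊢
    rw [hcomp, ← hz]
    rw [← Ψ_precomp] at hφ₁
    have hd : Ψ X (DRing.homCx F J) n (z₁.precomp g - z) = 0 := by
      rw [map_sub, hφ₁, sub_self]
    have hd' := (Ψ_toTCocycle_eq_zero_iff hF _).2 hd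
    have hlin : toTCocycle (z₁.precomp g - z) = toTCocycle (z₁.precomp g) - toTCocycle z := by
      apply Subtype.ext
      simp only [toTCocycle_coe, AddSubgroupClass.coe_sub]
      exact (toTLin X F J n).map_sub _ _
    rw [hlin, map_sub, sub_eq_zero] at hd'
    exact hd'

end Transport

end Groth.Agent.Lib.helper13.DCT
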