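import Mathlib
import Groth.Prelude.Def_DRing4
import Groth.Prelude.Def_DTen
import Groth.Agent.Lib.Helper13.RKF2
import Groth.Agent.Lib.Helper13.KFlat14
import Groth.Agent.Lib.Helper13.KFlat13
import Groth.Agent.Lib.Helper25.LDerAdapted2

/-!
# The one-variable derived tensor product `DRing.LTensorCx A E` on K-flat complexes (helper13)

* `quasiIso_whiskerRight_kflat`: `α ▷ E` is a quasi-isomorphism for `α` a quasi-isomorphism between
  K-flat complexes (`E` arbitrary).
* `isIso_ε_app E P hP`: the counit `QP ⊗^L E ⟶ Q(P ⊗ E)` is invertible for K-flat `P`.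
* `isIso_ε_of_isKFlat E hE`: the counit is invertible for K-flat `E`.
* `isInvertedBy_tensorLeftQ P hP`: `P ⊗ - ⋙ Q` inverts quasi-isomorphisms for K-flat `P`.
* `nonempty_iso_of_inverts`.
* `nonempty_LTensorCx_iso`: `K ⊗^L E ≅ Q(P ⊗ E')` for `K ≅ QP`, `P` K-flat, `QE ≅ QE'`.
-/

set_option autoImplicit false
universe u
open CategoryTheory Limits HomologicalComplex MonoidalCategory

attribute [local instance] HasDerivedCategory.standard

namespace Groth.Agent.Lib.helper13.LTenCx

open Groth.Agent.Lib.helper13.KFlat Groth.Agent.Lib.helper13.RKF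
  Groth.Agent.Lib.Helper25.LDerAdapted

variable {A : Type u} [CommRing A]

/-- quasi-isomorphisms of complexes of `A`-modules -/
abbrev W (A : Type u) [CommRing A] : MorphismProperty (DRing.Cx A) :=
  HomologicalComplex.quasiIso (ModuleCat.{u} A) (ComplexShape.up ℤ)

lemma nonempty_iso_of_inverts {C D E : Type*} [Category C] [Category D] [Category E]
    (L : C ⥤ D) (W : MorphismProperty C) [L.IsLocalization W] (F : C ⥤ E)
    (hF : W.IsInvertedBy F) {X Y : C} (e : L.obj X ≅ L.obj Y) : Nonempty (F.obj X ≅ F.obj Y) :=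
  ⟨(Localization.fac F hF L).symm.app X ≪≫ (Localization.lift F hF L).mapIso e ≪≫
    (Localization.fac F hF L).app Y⟩

/-- `α ▷ E` is a quasi-isomorphism for `α` a quasi-isomorphism between K-flat complexes. -/
theorem quasiIso_whiskerRight_kflat {P Q : DRing.Cx A} (hP : IsKFlatR P) (hQ : IsKFlatR Q)
    (α : P ⟶ Q) [QuasiIso α] (E : DRing.Cx A) : QuasiIso (α ▷ E) := by
  haveI : QuasiIso (E ◁ α) := quasiIso_whiskerLeft_of_isKFlatR hP hQ α E
  have h := DTen.braidCx_naturality α (𝟙 E)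
  rw [MonoidalCategory.tensorHom_id, MonoidalCategory.id_tensorHom] at h
  have e : α ▷ E = (DTen.braidCx P E).hom ≫ (E ◁ α) ≫ (DTen.braidCx Q E).inv := by
    rw [← Category.assoc, ← h, Category.assoc, Iso.hom_inv_id, Category.comp_id]
  rw [e]
  infer_instance

/-- homotopy invariance of `- ⊗ E` followed by `Q` -/
lemma hF (E : DRing.Cx A) (K L : DRing.Cx A) (f g : K ⟶ L)
    (h : homotopic (ModuleCat.{u} A) (ComplexShape.up ℤ) f g) :
    (DRing.tensorCxQ A E).map f = (DRing.tensorCxQ A E).map g := by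
  obtain ⟨h⟩ := h
  have h' := mapBifunctorMapHomotopy₁ h (𝟙 E) (curriedTensor (ModuleCat.{u} A)) (ComplexShape.up ℤ)
  exact congrArg DerivedCategory.Qh.map (HomotopyCategory.eq_of_homotopy _ _ h')

/-- the counit of the derived tensor product -/
noncomputable abbrev ε (E : DRing.Cx A) [DRing.HasLTensorCx A E] :
    DerivedCategory.Q ⋙ DRing.LTensorCx A E ⟶ DRing.tensorCxQ A E :=
  (DRing.tensorCxQ A E).totalLeftDerivedCounit DerivedCategory.Q (W A)

/-- `P ⊗^L E = P ⊗ E` for K-flat `P` and any `E` -/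
theorem isIso_ε_app (E : DRing.Cx A) [DRing.HasLTensorCx A E] (P : DRing.Cx A)
    (hP : IsKFlatR P) : IsIso ((ε E).app P) :=
  isIso_counit_app_Q (fun K : DRing.Cx A => IsKFlatR K) hzeroR isKFlatR_shift
    (fun f h h' => isKFlatR_mappingCone f h h') exists_res (DRing.tensorCxQ A E) (hF E)
    (fun {E₁ E₂} f h₁ h₂ hf => by
      haveI : QuasiIso f := hf
      change IsIso (DerivedCategory.Q.map (f ▷ E))
      rw [DerivedCategory.isIso_Q_map_iff_quasiIso]
      exact quasiIso_whiskerRight_kflat h₁ h₂ f E)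
    (DRing.LTensorCx A E) (ε E) P hP

/-- for K-flat `E`, `- ⊗ E ⋙ Q` inverts quasi-isomorphisms -/
lemma isInvertedBy_tensorCxQ (E : DRing.Cx A) (hE : IsKFlatR E) :
    (W A).IsInvertedBy (DRing.tensorCxQ A E) := by
  intro K K' f hf
  haveI : QuasiIso f := hf
  change IsIso (DerivedCategory.Q.map (f ▷ E))
  rw [DerivedCategory.isIso_Q_map_iff_quasiIso]
  exact quasiIso_whiskerRight_of_isKFlatR E hE f

theorem isIso_ε_of_isKFlat (E : DRing.Cx A) (hE : IsKFlatR E) [DRing.HasLTensorCx A E] :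
    IsIso (ε E) :=
  Functor.isIso_of_isLeftDerivedFunctor_of_inverts (DRing.LTensorCx A E) (ε E)
    (isInvertedBy_tensorCxQ E hE)

/-- for K-flat `P`, `P ⊗ - ⋙ Q` inverts quasi-isomorphisms -/
lemma isInvertedBy_tensorLeftQ (P : DRing.Cx A) (hP : IsKFlatR P) :
    (W A).IsInvertedBy (tensorLeft P ⋙ DerivedCategory.Q) := by
  intro K K' f hf
  haveI : QuasiIso f := hf
  change IsIso (DerivedCategory.Q.map (P ◁ f))
  rw [DerivedCategory.isIso_Q_map_iff_quasiIso]
  have h := quasiIso_mapBifunctorMap_right (curriedTensor (ModuleCat.{u} A)) P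
    (fun K hK => isKFlatR_symm P hP K hK) f
  have e : P ◁ f = mapBifunctorMap (𝟙 P) f (curriedTensor (ModuleCat.{u} A))
      (ComplexShape.up ℤ) := (MonoidalCategory.id_tensorHom P f).symm
  rw [e]
  exact h

/-- `K ⊗^L E ≅ Q(P ⊗ E')` for `K ≅ QP` with `P` K-flat and `QE ≅ QE'`. -/
theorem nonempty_LTensorCx_iso (E E' P : DRing.Cx A) [DRing.HasLTensorCx A E]
    (hP : IsKFlatR P) (e : DerivedCategory.Q.obj E ≅ DerivedCategory.Q.obj E') {K : Dual.D A}
    (a : DerivedCategory.Q.obj P ≅ K) :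
    Nonempty ((DRing.LTensorCx A E).obj K ≅ DerivedCategory.Q.obj (P ⊗ E')) := by
  haveI := isIso_ε_app E P hP
  obtain ⟨i⟩ := nonempty_iso_of_inverts DerivedCategory.Q (W A) (tensorLeft P ⋙ DerivedCategory.Q)
    (isInvertedBy_tensorLeftQ P hP) e
  exact ⟨(DRing.LTensorCx A E).mapIso a.symm ≪≫ asIso ((ε E).app P) ≪≫ i⟩

end Groth.Agent.Lib.helper13.LTenCx
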