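import Mathlib
import Groth.Agent.Lib.Helper13.DCT1
import Groth.Agent.Lib.Helper13.LTenCx1

set_option autoImplicit false
universe u
open CategoryTheory CategoryTheory.Limits MonoidalCategory DerivedCategory
open CochainComplex.HomComplex HomologicalComplex

attribute [local instance] HasDerivedCategory.standard

namespace Groth.Agent.Lib.helper13.DCT

open Groth.Agent.Lib.helper23.RHomCx Groth.Agent.Lib.helper23.TensHom
  Groth.Agent.Lib.helper13.KFlat Groth.Agent.Lib.helper13.HomKFlat Groth.Agent.Lib.helper13.DComp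
  Groth.Agent.Lib.helper13.LTenCx

variable {A : Type u} [CommRing A]

omit [CommRing A] in
lemma bijective_precomp_of_iso_target {C : Type*} [Category C] {X Y Z Z' : C} (α : X ⟶ Y)
    (e : Z ≅ Z') (h : Function.Bijective (fun φ : Y ⟶ Z => α ≫ φ)) :
    Function.Bijective (fun φ : Y ⟶ Z' => α ≫ φ) := by
  constructor
  · intro a b hab
    have hab' : α ≫ a = α ≫ b := hab
    have := h.1 (a₁ := a ≫ e.inv) (a₂ := b ≫ e.inv) (by
      show α ≫ a ≫ e.inv = α ≫ b ≫ e.inv
      rw [← Category.assoc, ← Category.assoc, hab'])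
    exact (cancel_mono e.inv).1 this
  · intro c
    obtain ⟨φ, hφ⟩ := h.2 (c ≫ e.inv)
    refine ⟨φ ≫ e.hom, ?_⟩
    have hφ' : α ≫ φ = c ≫ e.inv := hφ
    show α ≫ φ ≫ e.hom = c
    rw [← Category.assoc, hφ', Category.assoc, Iso.inv_hom_id, Category.comp_id]

section

variable {X Y : DRing.Cx A} (g : X ⟶ Y) (F J : DRing.Cx A) [J.IsKInjective] (hF : IsKFlatR F)

include hF in
/-- unshifted version of `bijective_precomp_tensor` -/
theorem bijective_precomp_tensor₀
    (h : Function.Bijective (fun φ : Q.obj Y ⟶ Q.obj (DRing.homCx F J) => Q.map g ≫ φ)) :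
    Function.Bijective (fun ψ : Q.obj (Y ⊗ F) ⟶ Q.obj J => Q.map (g ▷ F) ≫ ψ) := by
  let s1 : Q.obj (DRing.homCx F J) ≅ Q.obj ((DRing.homCx F J)⟦(0 : ℤ)⟧) :=
    Q.mapIso ((shiftFunctorZero (DRing.Cx A) ℤ).app _).symm
  let s2 : Q.obj (J⟦(0 : ℤ)⟧) ≅ Q.obj J := Q.mapIso ((shiftFunctorZero (DRing.Cx A) ℤ).app _)
  have h' := bijective_precomp_of_iso_target (Q.map g) s1 h
  have h2 := bijective_precomp_tensor g F J hF 0 h'
  exact bijective_precomp_of_iso_target (Q.map (g ▷ F)) s2 h2

end

/-- tensor-Hom adjunction and the universal property of the derived completion -/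
theorem bijective_precomp_LTensorCx (I : Ideal A) {X Y : DRing.Cx A} (g : X ⟶ Y)
    (hg : ∀ M : Dual.D A, DRing.IsDerivedComplete I M →
      Function.Bijective (fun φ : Q.obj Y ⟶ M => Q.map g ≫ φ))
    (F : DRing.Cx A) (hF : IsKFlatR F) [DRing.HasLTensorCx A F] (E : Dual.D A)
    (hE : DRing.IsDerivedComplete I E) :
    Function.Bijective (fun ψ : (DRing.LTensorCx A F).obj (Q.obj Y) ⟶ E =>
      (DRing.LTensorCx A F).map (Q.map g) ≫ ψ) := by
  obtain ⟨J', hJ', ⟨eE⟩⟩ := exists_kInjective_model E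
  haveI := hJ'
  have hE' := isDerivedComplete_of_iso I eE hE
  have hc : DRing.IsDerivedComplete I (Q.obj (DRing.homCx F J')) := by
    intro f hf n
    exact complete_homCx_of_complete F J' f (fun m => hE' f hf m) n
  have h1 := bijective_precomp_tensor₀ g F J' hF (hg _ hc)
  have h2 := bijective_precomp_of_iso_target (Q.map (g ▷ F)) eE.symm h1
  haveI := isIso_ε_of_isKFlat F hF
  have hnat : (DRing.LTensorCx A F).map (Q.map g) ≫ (ε F).app Y =
      (ε F).app X ≫ Q.map (g ▷ F) := (ε F).naturality g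
  have hfac : (DRing.LTensorCx A F).map (Q.map g) =
      (ε F).app X ≫ Q.map (g ▷ F) ≫ inv ((ε F).app Y) := by
    rw [← Category.assoc, ← hnat, Category.assoc, IsIso.hom_inv_id, Category.comp_id]
  have : (fun ψ : (DRing.LTensorCx A F).obj (Q.obj Y) ⟶ E =>
        (DRing.LTensorCx A F).map (Q.map g) ≫ ψ) =
      (fun φ => (ε F).app X ≫ φ) ∘ (fun ψ : Q.obj (Y ⊗ F) ⟶ E => Q.map (g ▷ F) ≫ ψ) ∘
        (fun φ => inv ((ε F).app Y) ≫ φ) := by
    funext ψ
    simp only [Function.comp_apply, hfac, Category.assoc]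
  rw [this]
  exact ((bijective_precomp_of_isIso ((ε F).app X) E).comp h2).comp
    (bijective_precomp_of_isIso (inv ((ε F).app Y)) E)

section Main

variable (fs : List A) (I : Ideal A) (hI : Ideal.span {x : A | x ∈ fs} = I)
  [DRing.HasDerivedCompletion I]

include hI

/-- **the universal property of `K ⊗^L F ⟶ K^∧ ⊗^L F`** -/
theorem bijective_precomp_LTensorCx_toDerivedCompletion (F : DRing.Cx A) (hF : IsKFlatR F)
    [DRing.HasLTensorCx A F] (K : Dual.D A) (E : Dual.D A) (hE : DRing.IsDerivedComplete I E) :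
    Function.Bijective
      (fun φ : (DRing.LTensorCx A F).obj ((DRing.derivedCompletion I).obj K).obj ⟶ E =>
        (DRing.LTensorCx A F).map (DRing.toDerivedCompletion I K) ≫ φ) := by
  subst hI
  obtain ⟨J, hJ, ⟨e⟩⟩ := exists_kInjective_model K
  haveI := hJ
  obtain ⟨e', he'⟩ := exists_derivedCompletion_iso_homCx_Cech fs J e
  let u : J ≅ DRing.homCx (Cech ([] : List A)) J :=
    ((shiftFunctorZero (DRing.Cx A) ℤ).app J).symm ≪≫ (singleShiftIso J 0).symm
  let g : J ⟶ DRing.homCx (Cech fs) J := u.hom ≫ homCxMapLeft (aug fs) J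
  have htc : toCompletion fs J = Q.map g := by
    simp only [toCompletion, unitHomIso, u, g, Iso.trans_hom, Functor.mapIso_hom, Functor.map_comp]
  have hη : DRing.toDerivedCompletion (Ideal.span {x : A | x ∈ fs}) K =
      e.hom ≫ Q.map g ≫ e'.inv := by
    rw [← htc, ← Category.assoc, ← he', Category.assoc, Iso.hom_inv_id, Category.comp_id]
  have hg : ∀ M : Dual.D A, DRing.IsDerivedComplete (Ideal.span {x : A | x ∈ fs}) M →
      Function.Bijective (fun φ : Q.obj (DRing.homCx (Cech fs) J) ⟶ M => Q.map g ≫ φ) := by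
    intro M hM
    rw [← htc]
    exact bijective_precomp_toCompletion fs J M hM
  have h2 := bijective_precomp_LTensorCx _ g hg F hF E hE
  let T := DRing.LTensorCx A F
  have hfac : T.map (DRing.toDerivedCompletion (Ideal.span {x : A | x ∈ fs}) K) =
      T.map e.hom ≫ T.map (Q.map g) ≫ T.map e'.inv := by
    rw [hη, Functor.map_comp, Functor.map_comp]
  haveI : IsIso (T.map e.hom) := (T.mapIso e).isIso_hom
  haveI : IsIso (T.map e'.inv) := (T.mapIso e'.symm).isIso_hom
  have : (fun φ : T.obj ((DRing.derivedCompletion (Ideal.span {x : A | x ∈ fs})).obj K).obj ⟶ E =>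
        T.map (DRing.toDerivedCompletion (Ideal.span {x : A | x ∈ fs}) K) ≫ φ) =
      (fun φ => T.map e.hom ≫ φ) ∘
        (fun ψ : T.obj (Q.obj (DRing.homCx (Cech fs) J)) ⟶ E => T.map (Q.map g) ≫ ψ) ∘
        (fun φ => T.map e'.inv ≫ φ) := by
    funext φ
    simp only [Function.comp_apply, hfac, Category.assoc]
  show Function.Bijective (fun φ : T.obj
    ((DRing.derivedCompletion (Ideal.span {x : A | x ∈ fs})).obj K).obj ⟶ E =>
        T.map (DRing.toDerivedCompletion (Ideal.span {x : A | x ∈ fs}) K) ≫ φ)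
  rw [this]
  exact ((bijective_precomp_of_isIso (T.map e.hom) E).comp h2).comp
    (bijective_precomp_of_isIso (T.map e'.inv) E)

end Main

end Groth.Agent.Lib.helper13.DCT
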