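import Mathlib
import Groth.Prelude.Def_DRing2

/-!
# Terms of the tensor product of bounded (above) complexes of finite projective / free modules (helper13)

* `isZero_sigma`, `sigmaIsoOfSupport`, `sigmaFinSuccIso`: coproducts of families with finite support.
* `prop_sigma_of_finite_support`: a property of modules stable under isomorphisms, zero objects and
  binary biproducts passes to coproducts of families with finite support.
* `prop_tensor_X`: the terms of `K ⊗ L` for bounded above `K`, `L` with terms in a class `PP` stable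
  under tensor products.
* `vanishesAbove_tensor`, `vanishesOutside_tensor`,
  `termwiseFiniteProjective_tensor`, `termwiseFiniteFree_tensor`.
-/

set_option autoImplicit false
universe u
open CategoryTheory Limits HomologicalComplex MonoidalCategory

namespace Groth.Agent.Lib.helper13.LTenCx

section Cat

variable {C : Type*} [Category C] [HasZeroMorphisms C]

lemma isZero_sigma {J : Type*} (f : J → C) [HasCoproduct f] (h : ∀ j, IsZero (f j)) :
    IsZero (∐ f) := by
  rw [IsZero.iff_id_eq_zero]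
  apply Sigma.hom_ext
  intro j
  exact (h j).eq_of_src _ _

/-- a coproduct of a family supported on a finite set is the coproduct over that finite set -/
noncomputable def sigmaIsoOfSupport {J : Type*} [DecidableEq J] (f : J → C) [HasCoproduct f]
    (S : Finset J) [HasCoproduct (fun s : S => f s.1)]
    (h : ∀ j, j ∉ S → IsZero (f j)) : ∐ f ≅ ∐ (fun s : S => f s.1) where
  hom := Sigma.desc (fun j => if hj : j ∈ S then Sigma.ι (fun s : S => f s.1) ⟨j, hj⟩ else 0)
  inv := Sigma.desc (fun s => Sigma.ι f s.1)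
  hom_inv_id := by
    apply Sigma.hom_ext
    intro j
    by_cases hj : j ∈ S
    · simp [hj]
    · exact (h j hj).eq_of_src _ _
  inv_hom_id := by
    apply Sigma.hom_ext
    intro s
    simp [s.2]

end Cat

section Fin

variable {C : Type*} [Category C] [Preadditive C] [HasFiniteCoproducts C] [HasBinaryBiproducts C]

/-- `∐_{Fin (m+1)} A ≅ A 0 ⊞ ∐_{Fin m} (A ∘ succ)`. -/
noncomputable def sigmaFinSuccIso {m : ℕ} (A : Fin (m + 1) → C) :
    (∐ A) ≅ A 0 ⊞ ∐ (fun j : Fin m => A j.succ) :=
  (coproductIsCoproduct A).coconePointUniqueUpToIso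
    (extendCofanIsColimit A (c₁ := Cofan.mk (∐ fun j : Fin m => A j.succ) (Sigma.ι _))
      (c₂ := (BinaryBiproduct.bicone (A 0) (∐ fun j : Fin m => A j.succ)).toCocone)
      (coproductIsCoproduct _) (BinaryBiproduct.isColimit _ _))

end Fin

variable {A : Type u} [CommRing A]

section PropSec

variable (PP : ModuleCat.{u} A → Prop) (hiso : ∀ {M N : ModuleCat.{u} A}, (M ≅ N) → PP M → PP N)
  (hzero : ∀ M : ModuleCat.{u} A, IsZero M → PP M)
  (hbi : ∀ M N : ModuleCat.{u} A, PP M → PP N → PP (M ⊞ N))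

include hiso hzero hbi in
theorem prop_sigma_fin : ∀ {m : ℕ} (f : Fin m → ModuleCat.{u} A), (∀ j, PP (f j)) → PP (∐ f)
  | 0, f, _ => hzero _ (isZero_sigma f (fun j => j.elim0))
  | m + 1, f, h =>
    hiso (sigmaFinSuccIso f).symm
      (hbi _ _ (h 0) (prop_sigma_fin (fun j : Fin m => f j.succ) fun j => h _))

include hiso hzero hbi in
theorem prop_sigma_of_finite_support {J : Type*} (f : J → ModuleCat.{u} A) [HasCoproduct f]
    (hfin : Set.Finite {j | ¬ IsZero (f j)}) (hf : ∀ j, PP (f j)) : PP (∐ f) := by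
  classical
  let S : Finset J := hfin.toFinset
  have hS : ∀ j, j ∉ S → IsZero (f j) := by
    intro j hj
    by_contra hz
    exact hj (hfin.mem_toFinset.2 hz)
  let e : Fin (Fintype.card S) ≃ S := (Fintype.equivFin S).symm
  have h1 : PP (∐ (fun i : Fin (Fintype.card S) => f (e i).1)) :=
    prop_sigma_fin PP hiso hzero hbi _ (fun i => hf _)
  have h2 : PP (∐ (fun s : S => f s.1)) := hiso (Sigma.reindex e (fun s : S => f s.1)) h1
  exact hiso (sigmaIsoOfSupport f S hS).symm h2

end PropSec

lemma isZero_tensor_left {M : ModuleCat.{u} A} (hM : IsZero M) (N : ModuleCat.{u} A) :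
    IsZero (M ⊗ N) :=
  ((curriedTensor (ModuleCat.{u} A)).map_isZero hM).obj N

lemma isZero_tensor_right (M : ModuleCat.{u} A) {N : ModuleCat.{u} A} (hN : IsZero N) :
    IsZero (M ⊗ N) :=
  ((curriedTensor (ModuleCat.{u} A)).obj M).map_isZero hN

/-- the tensor product of bounded above complexes is bounded above -/
theorem vanishesAbove_tensor {K L : DRing.Cx A} {b₁ b₂ : ℤ} (hK : DRing.VanishesAbove K b₁)
    (hL : DRing.VanishesAbove L b₂) : DRing.VanishesAbove (K ⊗ L) (b₁ + b₂) := by
  intro n hn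
  refine isZero_sigma _ (fun ⟨⟨p, q⟩, hpq⟩ => ?_)
  have hpq' : p + q = n := hpq
  by_cases hp : b₁ < p
  · exact isZero_tensor_left (hK p hp) _
  · exact isZero_tensor_right _ (hL q (by omega))

/-- the tensor product of bounded complexes is bounded -/
theorem vanishesOutside_tensor {K L : DRing.Cx A} {a₁ b₁ a₂ b₂ : ℤ}
    (hK : DRing.VanishesOutside K a₁ b₁) (hL : DRing.VanishesOutside L a₂ b₂) :
    DRing.VanishesOutside (K ⊗ L) (a₁ + a₂) (b₁ + b₂) := by
  intro n hn
  refine isZero_sigma _ (fun ⟨⟨p, q⟩, hpq⟩ => ?_)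
  have hpq' : p + q = n := hpq
  by_cases hp : p < a₁ ∨ b₁ < p
  · exact isZero_tensor_left (hK p hp) _
  · exact isZero_tensor_right _ (hL q (by omega))

/-- the terms of `K ⊗ L` for bounded above `K`, `L` -/
theorem prop_tensor_X (PP : ModuleCat.{u} A → Prop)
    (hiso : ∀ {M N : ModuleCat.{u} A}, (M ≅ N) → PP M → PP N)
    (hzero : ∀ M : ModuleCat.{u} A, IsZero M → PP M)
    (hbi : ∀ M N : ModuleCat.{u} A, PP M → PP N → PP (M ⊞ N))
    (hten : ∀ M N : ModuleCat.{u} A, PP M → PP N → PP (M ⊗ N))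
    {K L : DRing.Cx A} {b₁ b₂ : ℤ} (hK : DRing.VanishesAbove K b₁)
    (hL : DRing.VanishesAbove L b₂) (hKP : ∀ i, PP (K.X i)) (hLP : ∀ i, PP (L.X i)) (n : ℤ) :
    PP ((K ⊗ L).X n) := by
  refine prop_sigma_of_finite_support PP hiso hzero hbi _ ?_ (fun ⟨⟨p, q⟩, hpq⟩ =>
    hten _ _ (hKP p) (hLP q))
  have hinj : Function.Injective
      (fun j : (ComplexShape.π (ComplexShape.up ℤ) (ComplexShape.up ℤ) (ComplexShape.up ℤ)) ⁻¹'
        {n} => j.1.1) := by
    rintro ⟨⟨p, q⟩, hpq⟩ ⟨⟨p', q'⟩, hpq'⟩ (h : p = p')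
    have e1 : p + q = n := hpq
    have e2 : p' + q' = n := hpq'
    subst h
    have : q = q' := by omega
    subst this
    rfl
  refine ((Set.finite_Icc (n - b₂) b₁).preimage (Set.injOn_of_injective hinj)).subset ?_
  rintro ⟨⟨p, q⟩, hpq⟩ hz
  have hpq' : p + q = n := hpq
  simp only [Set.mem_preimage, Set.mem_Icc]
  by_contra hp
  by_cases hp1 : b₁ < p
  · exact hz (isZero_tensor_left (hK p hp1) _)
  · exact hz (isZero_tensor_right _ (hL q (by omega)))

end Groth.Agent.Lib.helper13.LTenCx
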