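import Mathlib
import Groth.Agent.Lib.Helper13.DComp8
import Groth.Agent.Lib.Helper13.KFlat8
import Groth.Agent.Lib.Helper13.KFlat3
import Groth.Agent.Lib.Helper13.LTenCx2

set_option autoImplicit false
universe u
open CategoryTheory CategoryTheory.Limits MonoidalCategory DerivedCategory
open HomologicalComplex

attribute [local instance] HasDerivedCategory.standard

namespace Groth.Agent.Lib.helper13.DCT

open Groth.Agent.Lib.helper13.KFlat Groth.Agent.Lib.helper13.DComp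

variable {A : Type u} [CommRing A] (I : Ideal A) (Y : DRing.Cx A)

/-- the property: `Q(Y ⊗ G)` is derived complete -/
def PC (G : DRing.Cx A) : Prop := DRing.IsDerivedComplete I (Q.obj (Y ⊗ G))

variable {I Y}

lemma pc_iso {G G' : DRing.Cx A} (e : G ≅ G') (h : PC I Y G) : PC I Y G' :=
  isDerivedComplete_of_iso I (Q.mapIso ((tensorLeft Y).mapIso e)) h

lemma pc_zero {G : DRing.Cx A} (hG : IsZero G) : PC I Y G := by
  have h1 : IsZero (Y ⊗ G) := (Φ (curriedTensor (ModuleCat.{u} A)) Y).map_isZero hG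
  have h2 : IsZero (Q.obj (Y ⊗ G)) := Q.map_isZero h1
  intro f hf n
  have h3 : IsZero ((Q.obj (Y ⊗ G))⟦n⟧) := (shiftFunctor _ n).map_isZero h2
  exact ⟨fun a b => h3.eq_of_tgt _ _⟩

variable (Y) in
/-- tensoring a short exact sequence with termwise flat quotient -/
lemma shortExact_map_Φ_of_flat (S : ShortComplex (DRing.Cx A)) (hS : S.ShortExact)
    (h3 : DRing.TermwiseFlat S.X₃) :
    (S.map (Φ (curriedTensor (ModuleCat.{u} A)) Y)).ShortExact := by
  refine shortExact_map_Φ S (fun p q => ?_) (fun n => monoCoprod_moduleCat A _)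
  have hq : (S.map (eval _ _ q)).ShortExact := hS.map_of_exact (eval _ _ q)
  exact shortExact_map_tensorLeft _ hq (h3 q) (Y.X p)

lemma pc_ext (S : ShortComplex (DRing.Cx A)) (hS : S.ShortExact)
    (h3 : DRing.TermwiseFlat S.X₃) (h1 : PC I Y S.X₁) (h3' : PC I Y S.X₃) : PC I Y S.X₂ := by
  have key := shortExact_map_Φ_of_flat Y S hS h3
  have hT := DerivedCategory.triangleOfSES_distinguished key
  intro f hf n
  exact Groth.Agent.Lib.helper23.DCompl.P_mid (Af0 f) _ hT n (h1 f hf n) (h3' f hf n)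


/-- base case: `Y ⊗ A[-q₀] ≅ Y[-q₀]` -/
lemma pc_single_one (hY : DRing.IsDerivedComplete I (Q.obj Y)) (q₀ : ℤ) :
    PC I Y ((HomologicalComplex.single (ModuleCat.{u} A) (ComplexShape.up ℤ) q₀).obj
      (𝟙_ (ModuleCat.{u} A))) := by
  let e1 : ((𝟙_ (DRing.Cx A))⟦-q₀⟧) ≅
      (HomologicalComplex.single (ModuleCat.{u} A) (ComplexShape.up ℤ) q₀).obj (𝟙_ _) :=
    ((CochainComplex.singleFunctors (ModuleCat.{u} A)).shiftIso (-q₀) q₀ 0 (by omega)).app (𝟙_ _)
  let e2 : Y ⊗ ((𝟙_ (DRing.Cx A))⟦-q₀⟧) ≅ (Y ⊗ 𝟙_ (DRing.Cx A))⟦-q₀⟧ :=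
    CochainComplex.mapBifunctorShift₂Iso Y (𝟙_ (DRing.Cx A)) (curriedTensor (ModuleCat.{u} A)) (-q₀)
  let e3 : (Y ⊗ 𝟙_ (DRing.Cx A))⟦-q₀⟧ ≅ Y⟦-q₀⟧ := (shiftFunctor _ (-q₀)).mapIso (ρ_ Y)
  let e4 : Q.obj (Y⟦-q₀⟧) ≅ (Q.obj Y)⟦-q₀⟧ := (Q.commShiftIso (-q₀)).app Y
  refine pc_iso e1 ?_
  exact isDerivedComplete_of_iso I ((Q.mapIso (e2 ≪≫ e3) ≪≫ e4).symm)
    (isDerivedComplete_shift I _ hY (-q₀))


lemma termwiseFlat_single (q₀ : ℤ) (N : ModuleCat.{u} A) [Module.Flat A N] :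
    DRing.TermwiseFlat
      ((HomologicalComplex.single (ModuleCat.{u} A) (ComplexShape.up ℤ) q₀).obj N) := by
  intro n
  by_cases h : n = q₀
  · subst h
    exact Module.Flat.of_linearEquiv
      (HomologicalComplex.singleObjXSelf (ComplexShape.up ℤ) n N).toLinearEquiv
  · haveI := ModuleCat.subsingleton_of_isZero
      (HomologicalComplex.isZero_single_obj_X (ComplexShape.up ℤ) q₀ N n h)
    infer_instance

lemma pc_single_biprod (q₀ : ℤ) (M N : ModuleCat.{u} A) [Module.Flat A N]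
    (hM : PC I Y ((HomologicalComplex.single (ModuleCat.{u} A) (ComplexShape.up ℤ) q₀).obj M))
    (hN : PC I Y ((HomologicalComplex.single (ModuleCat.{u} A) (ComplexShape.up ℤ) q₀).obj N)) :
    PC I Y ((HomologicalComplex.single (ModuleCat.{u} A) (ComplexShape.up ℤ) q₀).obj (M ⊞ N)) := by
  let S₀ : ShortComplex (ModuleCat.{u} A) :=
    ShortComplex.mk (biprod.inl : M ⟶ M ⊞ N) (biprod.snd : M ⊞ N ⟶ N) (by simp)
  have s₀ : S₀.Splitting := ShortComplex.Splitting.ofHasBinaryBiproduct M N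
  let S := S₀.map (HomologicalComplex.single (ModuleCat.{u} A) (ComplexShape.up ℤ) q₀)
  have hS : S.ShortExact := (s₀.map _).shortExact
  exact pc_ext S hS (termwiseFlat_single q₀ N) hM hN

lemma pc_single_fin (hY : DRing.IsDerivedComplete I (Q.obj Y)) (q₀ : ℤ) : ∀ r : ℕ,
    PC I Y ((HomologicalComplex.single (ModuleCat.{u} A) (ComplexShape.up ℤ) q₀).obj
      (ModuleCat.of A (Fin r → A)))
  | 0 => pc_zero (Functor.map_isZero _ (ModuleCat.isZero_of_subsingleton _))
  | r + 1 => by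
    have ih := pc_single_fin hY q₀ r
    let e : ModuleCat.of A (Fin (r + 1) → A) ≅ ModuleCat.of A A ⊞ ModuleCat.of A (Fin r → A) :=
      (Fin.consLinearEquiv A (fun _ : Fin (r + 1) => A)).symm.toModuleIso ≪≫
        (ModuleCat.biprodIsoProd (ModuleCat.of A A) (ModuleCat.of A (Fin r → A))).symm
    refine pc_iso ((HomologicalComplex.single (ModuleCat.{u} A) (ComplexShape.up ℤ) q₀).mapIso
      e.symm) ?_
    exact pc_single_biprod q₀ _ _ (pc_single_one hY q₀) ih

lemma exists_iso_fin (M : ModuleCat.{u} A) [Module.Finite A M] [Module.Free A M] :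
    ∃ r : ℕ, Nonempty (M ≅ ModuleCat.of A (Fin r → A)) := by
  let b := Module.Free.chooseBasis A M
  let e1 := b.equivFun
  let e2 := LinearEquiv.funCongrLeft A A (Fintype.equivFin (Module.Free.ChooseBasisIndex A M))
  exact ⟨_, ⟨(e1 ≪≫ₗ e2.symm).toModuleIso⟩⟩


/-- complexes concentrated in one degree, with finite free term -/
lemma pc_of_concentrated (hY : DRing.IsDerivedComplete I (Q.obj Y)) (G : DRing.Cx A) (q₀ : ℤ)
    (hG : ∀ q, q ≠ q₀ → IsZero (G.X q))
    (hf : Module.Finite A (G.X q₀) ∧ Module.Free A (G.X q₀)) : PC I Y G := by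
  haveI : CochainComplex.IsStrictlyGE G q₀ := by
    rw [CochainComplex.isStrictlyGE_iff]
    intro i hi
    exact hG i (by omega)
  haveI : CochainComplex.IsStrictlyLE G q₀ := by
    rw [CochainComplex.isStrictlyLE_iff]
    intro i hi
    exact hG i (by omega)
  obtain ⟨M, ⟨e⟩⟩ := CochainComplex.exists_iso_single G q₀
  let eM : G.X q₀ ≅ M := (HomologicalComplex.eval _ _ q₀).mapIso e ≪≫
    HomologicalComplex.singleObjXSelf (ComplexShape.up ℤ) q₀ M
  haveI := hf.1
  haveI := hf.2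
  haveI : Module.Finite A M := Module.Finite.equiv eM.toLinearEquiv
  haveI : Module.Free A M := Module.Free.of_equiv eM.toLinearEquiv
  obtain ⟨r, ⟨e'⟩⟩ := exists_iso_fin M
  refine pc_iso (e ≪≫ (HomologicalComplex.single (ModuleCat.{u} A) (ComplexShape.up ℤ) q₀).mapIso
    e').symm ?_
  exact pc_single_fin hY q₀ r

/-- **`Q(Y ⊗ G)` is derived complete for `Q(Y)` derived complete and `G` a bounded complex of
finite free modules** -/
theorem pc_of_bounded (hY : DRing.IsDerivedComplete I (Q.obj Y)) (G : DRing.Cx A) (a : ℤ) (n : ℕ)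
    (h1 : ∀ q, q < a → IsZero (G.X q)) (h2 : ∀ q, a + n ≤ q → IsZero (G.X q))
    (hG : DRing.TermwiseFiniteFree G) : PC I Y G := by
  refine of_bounded (fun M : ModuleCat.{u} A => Module.Finite A M ∧ Module.Free A M) (PC I Y)
    ?_ ?_ ?_ ?_ n G a h1 h2 hG
  · rintro M N e ⟨hM1, hM2⟩
    exact ⟨Module.Finite.equiv e.toLinearEquiv, Module.Free.of_equiv e.toLinearEquiv⟩
  · intro M hM
    haveI := ModuleCat.subsingleton_of_isZero hM
    exact ⟨inferInstance, inferInstance⟩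
  · intro K q₀ hK hf
    exact pc_of_concentrated hY K q₀ hK hf
  · intro S hS h3 hS1 hS3
    refine pc_ext S hS (fun q => ?_) hS1 hS3
    haveI := (h3 q).2
    infer_instance

end Groth.Agent.Lib.helper13.DCT
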