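import Mathlib
import Groth.Agent.Lib.Helper13.DCT3
import Groth.Agent.Lib.Helper13.LTenCx1
import Groth.Agent.Lib.Helper13.KFlat9

set_option autoImplicit false
universe u
open CategoryTheory CategoryTheory.Limits MonoidalCategory DerivedCategory
open HomologicalComplex

attribute [local instance] HasDerivedCategory.standard

namespace Groth.Agent.Lib.helper13.DCT

open Groth.Agent.Lib.helper13.KFlat Groth.Agent.Lib.helper13.DComp
  Groth.Agent.Lib.helper13.LTenCx Groth.Agent.Lib.helper25.SigmaGE

variable {A : Type u} [CommRing A] {I : Ideal A} {Y : DRing.Cx A}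

/-- **`Q(Y ⊗ F)` is derived complete for `Y` bounded above with `Q(Y)` derived complete and `F` a
bounded above complex of finite free modules** -/
theorem isDerivedComplete_tensor_of_bounded_above (hY : DRing.IsDerivedComplete I (Q.obj Y))
    (b : ℤ) (hYb : DRing.VanishesAbove Y b) (F : DRing.Cx A) (c : ℤ)
    (hFc : DRing.VanishesAbove F c) (hFf : DRing.TermwiseFiniteFree F) :
    DRing.IsDerivedComplete I (Q.obj (Y ⊗ F)) := by
  intro f hf n
  let k : ℤ := n - b - 1
  let S := sigmaSC F k
  have hS : S.ShortExact := sigmaSC_shortExact F k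
  have hX3 : DRing.VanishesAbove S.X₃ (k - 1) := fun q hq =>
    isZero_sigmaSC_X₃_of_le F k q (by omega)
  have h3 : DRing.TermwiseFlat S.X₃ := by
    intro q
    by_cases hq : k ≤ q
    · haveI := ModuleCat.subsingleton_of_isZero (isZero_sigmaSC_X₃_of_le F k q hq)
      infer_instance
    · have hiso : IsIso (S.g.f q) := isIso_sigmaSC_g_of_lt F k q (by omega)
      haveI := (hFf q).2
      haveI : Module.Flat A (F.X q) := inferInstance
      let eq : F.X q ≅ S.X₃.X q := @asIso _ _ _ _ (S.g.f q) hiso
      exact Module.Flat.of_linearEquiv eq.symm.toLinearEquiv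
  have key := shortExact_map_Φ_of_flat Y S hS h3
  have hT := DerivedCategory.triangleOfSES_distinguished key
  refine Groth.Agent.Lib.helper23.DCompl.P_mid (Af0 f) _ hT n ?_ ?_
  · -- the truncation is a bounded complex of finite free modules
    have hG : DRing.TermwiseFiniteFree (sigmaGE F k) := by
      intro q
      by_cases hq : k ≤ q
      · haveI := isIso_sigmaGEι_f F k q hq
        haveI := (hFf q).1
        haveI := (hFf q).2
        exact ⟨Module.Finite.equiv (asIso ((sigmaGEι F k).f q)).symm.toLinearEquiv,
          Module.Free.of_equiv (asIso ((sigmaGEι F k).f q)).symm.toLinearEquiv⟩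
      · haveI := ModuleCat.subsingleton_of_isZero (isZero_sigmaGE_X F k q (by omega))
        exact ⟨inferInstance, inferInstance⟩
    have hpc : PC I Y (sigmaGE F k) := by
      refine pc_of_bounded hY (sigmaGE F k) k (c + 1 - k).toNat
        (fun q hq => isZero_sigmaGE_X F k q hq) (fun q hq => ?_) hG
      have hq' : k ≤ q := by omega
      haveI := isIso_sigmaGEι_f F k q hq'
      exact (hFc q (by omega)).of_iso (asIso ((sigmaGEι F k).f q))
    exact hpc f hf n
  · -- the quotient is concentrated in low degrees
    refine subsingleton_Af0_hom_of_isLE f _ (b + (k - 1)) n (fun i hi => ?_) (by omega)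
    show IsZero ((DerivedCategory.homologyFunctor (ModuleCat.{u} A) i).obj (Q.obj (Y ⊗ S.X₃)))
    rw [← exactAt_iff_isZero_homologyFunctor]
    exact ShortComplex.exact_of_isZero_X₂ _
      (Groth.Agent.Lib.helper13.LTenCx.vanishesAbove_tensor hYb hX3 i hi)


section Main

variable (fs : List A) (I : Ideal A) (hI : Ideal.span {x : A | x ∈ fs} = I)
  [DRing.HasDerivedCompletion I]

include hI

/-- **`K^∧ ⊗^L F` is derived complete** for `K` bounded above and `F` a bounded above complex of
finite free modules -/
theorem isDerivedComplete_LTensorCx_derivedCompletion (F : DRing.Cx A) (c : ℤ)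
    (hFc : DRing.VanishesAbove F c) (hFf : DRing.TermwiseFiniteFree F) [DRing.HasLTensorCx A F]
    (K : Dual.D A) (b : ℤ)
    (hK : ∀ j : ℤ, b < j → IsZero ((DerivedCategory.homologyFunctor (ModuleCat.{u} A) j).obj K)) :
    DRing.IsDerivedComplete I
      ((DRing.LTensorCx A F).obj ((DRing.derivedCompletion I).obj K).obj) := by
  have hb := isZero_homology_derivedCompletion_of_lt fs I hI K b hK
  haveI : (((DRing.derivedCompletion I).obj K).obj).IsLE b := (DerivedCategory.isLE_iff _ _).2 hb
  obtain ⟨Y, hY, ⟨e⟩⟩ :=
    DerivedCategory.exists_iso_Q_obj_of_isLE (((DRing.derivedCompletion I).obj K).obj) b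
  have hYc : DRing.IsDerivedComplete I (Q.obj Y) :=
    isDerivedComplete_of_iso I e ((DRing.derivedCompletion I).obj K).property
  have hYb : DRing.VanishesAbove Y b := fun i hi => CochainComplex.isZero_of_isStrictlyLE Y b i hi
  have hF : IsKFlatR F := isKFlatR_of_bounded_above F c hFc (fun i => by
    haveI := (hFf i).2
    infer_instance)
  haveI := isIso_ε_of_isKFlat F hF
  refine isDerivedComplete_of_iso I
    ((asIso ((ε F).app Y)).symm ≪≫ (DRing.LTensorCx A F).mapIso e.symm) ?_
  exact isDerivedComplete_tensor_of_bounded_above hYc b hYb F c hFc hFf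

end Main

end Groth.Agent.Lib.helper13.DCT
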