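import Mathlib
import Groth.Prelude.Def_DDual2
import Groth.Prelude.Def_DTen
import Groth.Agent.Lib.Helper13.DCT4
import Groth.Agent.Lib.Helper13.DCT2
import Groth.Agent.Lib.Helper23.LTenKFlat
import Groth.Agent.Lib.Helper14.KProjLift
import Groth.Agent.Lib.Helper25.TotSingle
import Groth.Agent.S6942

set_option autoImplicit false
universe u
open CategoryTheory CategoryTheory.Limits MonoidalCategory DerivedCategory
open HomologicalComplex

attribute [local instance] HasDerivedCategory.standard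

namespace Groth.Agent.Lib.helper13.DCT

open Groth.Agent.Lib.helper13.KFlat Groth.Agent.Lib.helper13.DComp
  Groth.Agent.Lib.helper13.LTenCx

variable {A : Type u} [CommRing A]

section Counit

variable (M : ModuleCat.{u} A) [DRing.HasLTensor A M]

/-- the counit `(QX) ⊗^L M ⟶ Q(X ⊗ M)` of the derived tensor product with a module, as a natural
transformation of functors on cochain complexes -/
noncomputable def αM : Q ⋙ DRing.LTensor A M ⟶
    (tensorRight M).mapHomologicalComplex (ComplexShape.up ℤ) ⋙ Q :=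
  Functor.whiskerRight (quotientCompQhIso (ModuleCat.{u} A)).inv (DRing.LTensor A M) ≫
    (Functor.associator _ _ _).hom ≫
    Functor.whiskerLeft (HomotopyCategory.quotient _ _)
      ((DRing.tensorKh A M).totalLeftDerivedCounit DerivedCategory.Qh
        (HomotopyCategory.quasiIso (ModuleCat.{u} A) (ComplexShape.up ℤ))) ≫
    (Functor.associator _ _ _).inv ≫
    Functor.whiskerRight ((tensorRight M).mapHomotopyCategoryFactors (ComplexShape.up ℤ)).hom
      DerivedCategory.Qh ≫
    (Functor.associator _ _ _).hom ≫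
    Functor.whiskerLeft _ (quotientCompQhIso (ModuleCat.{u} A)).hom

lemma isIso_αM_app (P : DRing.Cx A) (hP : IsKFlatR P) : IsIso ((αM M).app P) := by
  haveI := Groth.Agent.Lib.helper23.LTenK.isIso_counit_LTensor M P hP
  dsimp only [αM]
  simp only [NatTrans.comp_app, Functor.whiskerRight_app, Functor.whiskerLeft_app,
    Functor.associator_hom_app, Functor.associator_inv_app]
  infer_instance

end Counit


section Theta

variable (M : ModuleCat.{u} A)

/-- `M` in degree 0 -/
noncomputable abbrev S0 : DRing.Cx A :=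
  (HomologicalComplex.single (ModuleCat.{u} A) (ComplexShape.up ℤ) 0).obj M

lemma isZero_S0_X (p : ℤ) (hp : p ≠ 0) : IsZero ((S0 M).X p) :=
  isZero_single_obj_X _ _ _ _ hp

/-- `(S0 M).X 0 ⊗ - ≅ - ⊗ M` -/
noncomputable def leftRightIso :
    (curriedTensor (ModuleCat.{u} A)).obj ((S0 M).X 0) ≅ tensorRight M :=
  (curriedTensor (ModuleCat.{u} A)).mapIso (singleObjXSelf (ComplexShape.up ℤ) 0 M) ≪≫
    BraidedCategory.tensorLeftIsoTensorRight M

/-- `X ⊗ M[0] ≅ X ⊗ M` (termwise) -/
noncomputable def θ (X : DRing.Cx A) :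
    X ⊗ S0 M ≅ ((tensorRight M).mapHomologicalComplex (ComplexShape.up ℤ)).obj X :=
  DTen.braidCx X (S0 M) ≪≫
    (Groth.Agent.Lib.Helper25.TotSingle.totIso (curriedTensor (ModuleCat.{u} A)) (S0 M)
      (isZero_S0_X M) X).symm ≪≫
    (NatIso.mapHomologicalComplex (leftRightIso M) (ComplexShape.up ℤ)).app X

lemma θ_naturality {X Y : DRing.Cx A} (g : X ⟶ Y) :
    (g ▷ S0 M) ≫ (θ M Y).hom =
      (θ M X).hom ≫ ((tensorRight M).mapHomologicalComplex (ComplexShape.up ℤ)).map g := by
  have h1 := DTen.braidCx_naturality g (𝟙 (S0 M))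
  rw [MonoidalCategory.tensorHom_id, MonoidalCategory.id_tensorHom] at h1
  have h2 := Groth.Agent.Lib.Helper25.TotSingle.totIso_naturality
    (curriedTensor (ModuleCat.{u} A)) (S0 M) (isZero_S0_X M) g
  have h2' : (S0 M ◁ g) ≫ (Groth.Agent.Lib.Helper25.TotSingle.totIso
      (curriedTensor (ModuleCat.{u} A)) (S0 M) (isZero_S0_X M) Y).inv =
      (Groth.Agent.Lib.Helper25.TotSingle.totIso
        (curriedTensor (ModuleCat.{u} A)) (S0 M) (isZero_S0_X M) X).inv ≫
      (((curriedTensor (ModuleCat.{u} A)).obj ((S0 M).X 0)).mapHomologicalComplex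
        (ComplexShape.up ℤ)).map g := by
    rw [Iso.comp_inv_eq, Category.assoc, Iso.eq_inv_comp, ← h2]
    congr 1
  have h3 := (NatIso.mapHomologicalComplex (leftRightIso M) (ComplexShape.up ℤ)).hom.naturality g
  simp only [θ, Iso.trans_hom, Iso.symm_hom, Iso.app_hom, Category.assoc]
  rw [reassoc_of% h1, reassoc_of% h2', h3]

end Theta


section Resolution

/-- a finite module over a Noetherian ring has a resolution by a bounded above complex of finite
free modules -/
theorem exists_finite_free_resolution [IsNoetherianRing A] (M : Type u) [AddCommGroup M]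
    [Module A M] [Module.Finite A M] :
    ∃ (F : DRing.Cx A) (c : ℤ) (aug : F ⟶ S0 (ModuleCat.of A M)), DRing.VanishesAbove F c ∧
      DRing.TermwiseFiniteFree F ∧ QuasiIso aug := by
  have h : DRing.IsPseudoCoherentModule' A M :=
    ((Groth.Agent.S6942.result A 0 (Q.obj (S0 (ModuleCat.of A M))) M).2).2 inferInstance
  obtain ⟨E, b, hb, hf, ⟨e⟩⟩ := h
  haveI : CochainComplex.IsStrictlyLE E b := (CochainComplex.isStrictlyLE_iff E b).2 hb
  haveI : ∀ n, Projective (E.X n) := fun n => by
    haveI := (hf n).2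
    exact ModuleCat.projective_of_categoryTheory_projective (E.X n)
  haveI : E.IsKProjective := CochainComplex.isKProjective_of_projective E b
  let e' : Q.obj E ≅ Q.obj (S0 (ModuleCat.of A M)) :=
    e ≪≫ (DerivedCategory.singleFunctorIsoCompQ (ModuleCat.{u} A) 0).app (ModuleCat.of A M)
  obtain ⟨aug, haug⟩ :=
    Groth.Agent.Lib.Helper14.KProjLift.Q_map_surjective_of_isKProjective E _ e'.hom
  refine ⟨E, b, aug, hb, hf, ?_⟩
  rw [← DerivedCategory.isIso_Q_map_iff_quasiIso, haug]
  infer_instance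

end Resolution

section Kappa

variable (M : ModuleCat.{u} A) [DRing.HasLTensor A M] {F : DRing.Cx A} (aug : F ⟶ S0 M)
  [QuasiIso aug]

omit [DRing.HasLTensor A M] in
lemma isIso_Q_map_whiskerLeft (P : DRing.Cx A) (hP : IsKFlatR P) : IsIso (Q.map (P ◁ aug)) :=
  isInvertedBy_tensorLeftQ P hP aug (by
    change QuasiIso aug
    infer_instance)

/-- `(QP) ⊗^L M ≅ Q(P ⊗ F)` for `P` K-flat and `F ⟶ M[0]` a quasi-isomorphism -/
noncomputable def κ (P : DRing.Cx A) (hP : IsKFlatR P) :
    (DRing.LTensor A M).obj (Q.obj P) ≅ Q.obj (P ⊗ F) :=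
  (@asIso _ _ _ _ ((αM M).app P) (isIso_αM_app M P hP)) ≪≫ Q.mapIso (θ M P).symm ≪≫
    (@asIso _ _ _ _ (Q.map (P ◁ aug)) (isIso_Q_map_whiskerLeft M aug P hP)).symm

lemma κ_naturality {P P' : DRing.Cx A} (hP : IsKFlatR P) (hP' : IsKFlatR P') (g : P ⟶ P') :
    (DRing.LTensor A M).map (Q.map g) ≫ (κ M aug P' hP').hom =
      (κ M aug P hP).hom ≫ Q.map (g ▷ F) := by
  haveI := isIso_Q_map_whiskerLeft M aug P hP
  haveI := isIso_Q_map_whiskerLeft M aug P' hP'
  have h1 : (DRing.LTensor A M).map (Q.map g) ≫ (αM M).app P' =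
      (αM M).app P ≫ Q.map (((tensorRight M).mapHomologicalComplex (ComplexShape.up ℤ)).map g) :=
    (αM M).naturality g
  have h2 : Q.map (((tensorRight M).mapHomologicalComplex (ComplexShape.up ℤ)).map g) ≫
      Q.map (θ M P').inv = Q.map (θ M P).inv ≫ Q.map (g ▷ S0 M) := by
    rw [← Functor.map_comp, ← Functor.map_comp]
    congr 1
    rw [Iso.comp_inv_eq, Category.assoc, Iso.eq_inv_comp]
    exact (θ_naturality M g).symm
  have h3 : Q.map (g ▷ S0 M) ≫ inv (Q.map (P' ◁ aug)) =
      inv (Q.map (P ◁ aug)) ≫ Q.map (g ▷ F) := by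
    rw [IsIso.comp_inv_eq, Category.assoc, IsIso.eq_inv_comp, ← Functor.map_comp,
      ← Functor.map_comp, MonoidalCategory.whisker_exchange]
  simp only [κ, Iso.trans_hom, asIso_hom, Functor.mapIso_hom, Iso.symm_hom, asIso_inv,
    Category.assoc]
  rw [reassoc_of% h1, reassoc_of% h2, h3]

end Kappa


section Fractions

/-- every morphism of `D(A)` is represented by a chain map between K-flat complexes -/
theorem exists_kflat_rep_hom {K L : Dual.D A} (η : K ⟶ L) :
    ∃ (P P' : DRing.Cx A) (_ : IsKFlatR P) (_ : IsKFlatR P') (g : P ⟶ P') (e : K ≅ Q.obj P)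
      (e' : L ≅ Q.obj P'), η = e.hom ≫ Q.map g ≫ e'.inv := by
  obtain ⟨P', pY, hP', -, hpY, -⟩ :=
    Groth.Agent.Lib.helper13.KRes.exists_isKFlatR_resolution (Q.objPreimage L)
  haveI := hpY
  haveI : IsIso (Q.map pY) := by
    rw [DerivedCategory.isIso_Q_map_iff_quasiIso]
    infer_instance
  let eL : L ≅ Q.obj P' := (Q.objObjPreimageIso L).symm ≪≫ (asIso (Q.map pY)).symm
  let eK : K ≅ Q.obj (Q.objPreimage K) := (Q.objObjPreimageIso K).symm
  obtain ⟨X', s, hs, a, ha⟩ := DerivedCategory.right_fac (eK.inv ≫ η ≫ eL.hom)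
  obtain ⟨P, p, hP, -, hp, -⟩ := Groth.Agent.Lib.helper13.KRes.exists_isKFlatR_resolution X'
  haveI := hp
  haveI : IsIso (Q.map p) := by
    rw [DerivedCategory.isIso_Q_map_iff_quasiIso]
    infer_instance
  haveI := hs
  let e : K ≅ Q.obj P := eK ≪≫ (asIso (Q.map s)).symm ≪≫ (asIso (Q.map p)).symm
  refine ⟨P, P', hP, hP', p ≫ a, e, eL, ?_⟩
  have h1 : η = eK.hom ≫ (inv (Q.map s) ≫ Q.map a) ≫ eL.inv := by
    rw [← ha]
    simp
  rw [h1]
  simp only [e, Iso.trans_hom, Iso.symm_hom, asIso_inv, Functor.map_comp, Category.assoc,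
    IsIso.inv_hom_id_assoc]

end Fractions

end Groth.Agent.Lib.helper13.DCT
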