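import Mathlib
import Groth.Agent.Lib.Helper13.DCT5

set_option autoImplicit false
universe u
open CategoryTheory CategoryTheory.Limits MonoidalCategory DerivedCategory
open HomologicalComplex

attribute [local instance] HasDerivedCategory.standard

namespace Groth.Agent.Lib.helper13.DCT

open Groth.Agent.Lib.helper13.KFlat Groth.Agent.Lib.helper13.DComp
  Groth.Agent.Lib.helper13.LTenCx

variable {A : Type u} [CommRing A]

/-- chain-level version of the universal property of `Q(X ⊗ F) ⟶ Q(Y ⊗ F)` -/
theorem bijective_precomp_tensor_of_univ (I : Ideal A) {X Y : DRing.Cx A} (g : X ⟶ Y)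
    (hg : ∀ M : Dual.D A, DRing.IsDerivedComplete I M →
      Function.Bijective (fun φ : Q.obj Y ⟶ M => Q.map g ≫ φ))
    (F : DRing.Cx A) (hF : IsKFlatR F) (E : Dual.D A) (hE : DRing.IsDerivedComplete I E) :
    Function.Bijective (fun ψ : Q.obj (Y ⊗ F) ⟶ E => Q.map (g ▷ F) ≫ ψ) := by
  obtain ⟨J', hJ', ⟨eE⟩⟩ := exists_kInjective_model E
  haveI := hJ'
  have hE' := isDerivedComplete_of_iso I eE hE
  have hc : DRing.IsDerivedComplete I (Q.obj (DRing.homCx F J')) := by
    intro f hf n
    exact complete_homCx_of_complete F J' f (fun m => hE' f hf m) n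
  have h1 := bijective_precomp_tensor₀ g F J' hF (hg _ hc)
  exact bijective_precomp_of_iso_target (Q.map (g ▷ F)) eE.symm h1

section Main

variable (fs : List A) (I : Ideal A) (hI : Ideal.span {x : A | x ∈ fs} = I)
  [DRing.HasDerivedCompletion I]

include hI

/-- **derived completion commutes with `- ⊗^L M`** for `M` a module with a resolution by a bounded
above complex of finite free modules, on objects with bounded above cohomology -/
theorem LTensor_derivedCompletion (M : ModuleCat.{u} A) [DRing.HasLTensor A M] {F : DRing.Cx A}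
    (aug : F ⟶ S0 M) [QuasiIso aug] (c : ℤ) (hFc : DRing.VanishesAbove F c)
    (hFf : DRing.TermwiseFiniteFree F) (K : Dual.D A) (b : ℤ)
    (hK : ∀ j : ℤ, b < j → IsZero ((DerivedCategory.homologyFunctor (ModuleCat.{u} A) j).obj K)) :
    DRing.IsDerivedComplete I
        ((DRing.LTensor A M).obj ((DRing.derivedCompletion I).obj K).obj) ∧
      ∀ E : Dual.D A, DRing.IsDerivedComplete I E →
        Function.Bijective
          (fun φ : (DRing.LTensor A M).obj ((DRing.derivedCompletion I).obj K).obj ⟶ E =>
            (DRing.LTensor A M).map (DRing.toDerivedCompletion I K) ≫ φ) := by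
  obtain ⟨P, P', hP, hP', g, e, e', hη⟩ := exists_kflat_rep_hom (DRing.toDerivedCompletion I K)
  have hF : IsKFlatR F := isKFlatR_of_bounded_above F c hFc (fun i => by
    haveI := (hFf i).2
    infer_instance)
  let T := DRing.LTensor A M
  constructor
  · have hb := isZero_homology_derivedCompletion_of_lt fs I hI K b hK
    haveI : (((DRing.derivedCompletion I).obj K).obj).IsLE b :=
      (DerivedCategory.isLE_iff _ _).2 hb
    obtain ⟨Y, hY, ⟨eY⟩⟩ :=
      DerivedCategory.exists_iso_Q_obj_of_isLE (((DRing.derivedCompletion I).obj K).obj) b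
    have hYc : DRing.IsDerivedComplete I (Q.obj Y) :=
      isDerivedComplete_of_iso I eY ((DRing.derivedCompletion I).obj K).property
    have hYb : DRing.VanishesAbove Y b := fun i hi =>
      CochainComplex.isZero_of_isStrictlyLE Y b i hi
    obtain ⟨i⟩ := nonempty_iso_of_inverts Q (W A) (DRing.tensorCxQ A F)
      (isInvertedBy_tensorCxQ F hF) (e'.symm ≪≫ eY)
    refine isDerivedComplete_of_iso I (i.symm ≪≫ (κ M aug P' hP').symm ≪≫ T.mapIso e'.symm) ?_
    exact isDerivedComplete_tensor_of_bounded_above hYc b hYb F c hFc hFf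
  · intro E hE
    have hg : ∀ M' : Dual.D A, DRing.IsDerivedComplete I M' →
        Function.Bijective (fun φ : Q.obj P' ⟶ M' => Q.map g ≫ φ) := by
      intro M' hM'
      have hu := isUniv_toDerivedCompletion I K M' hM'
      have hQg : Q.map g = e.inv ≫ DRing.toDerivedCompletion I K ≫ e'.hom := by
        rw [hη]
        simp
      have : (fun φ : Q.obj P' ⟶ M' => Q.map g ≫ φ) =
          (fun φ => e.inv ≫ φ) ∘
            (fun ψ : ((DRing.derivedCompletion I).obj K).obj ⟶ M' =>
              DRing.toDerivedCompletion I K ≫ ψ) ∘ (fun φ => e'.hom ≫ φ) := by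
        funext φ
        simp only [Function.comp_apply, hQg, Category.assoc]
      rw [this]
      exact ((bijective_precomp_of_isIso e.inv M').comp hu).comp
        (bijective_precomp_of_isIso e'.hom M')
    have h2 := bijective_precomp_tensor_of_univ I g hg F hF E hE
    have hfac : T.map (DRing.toDerivedCompletion I K) =
        (T.map e.hom ≫ (κ M aug P hP).hom) ≫ Q.map (g ▷ F) ≫
          ((κ M aug P' hP').inv ≫ T.map e'.inv) := by
      rw [hη, Functor.map_comp, Functor.map_comp]
      have := κ_naturality M aug hP hP' g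
      simp only [Category.assoc]
      rw [← reassoc_of% this, Iso.hom_inv_id_assoc]
    haveI : IsIso (T.map e.hom ≫ (κ M aug P hP).hom) :=
      (T.mapIso e ≪≫ κ M aug P hP).isIso_hom
    haveI : IsIso ((κ M aug P' hP').inv ≫ T.map e'.inv) :=
      ((κ M aug P' hP').symm ≪≫ T.mapIso e'.symm).isIso_hom
    have : (fun φ : T.obj ((DRing.derivedCompletion I).obj K).obj ⟶ E =>
          T.map (DRing.toDerivedCompletion I K) ≫ φ) =
        (fun φ => (T.map e.hom ≫ (κ M aug P hP).hom) ≫ φ) ∘
          (fun ψ : Q.obj (P' ⊗ F) ⟶ E => Q.map (g ▷ F) ≫ ψ) ∘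
          (fun φ => ((κ M aug P' hP').inv ≫ T.map e'.inv) ≫ φ) := by
      funext φ
      simp only [Function.comp_apply, hfac, Category.assoc]
    show Function.Bijective (fun φ : T.obj ((DRing.derivedCompletion I).obj K).obj ⟶ E =>
          T.map (DRing.toDerivedCompletion I K) ≫ φ)
    rw [this]
    exact ((bijective_precomp_of_isIso _ E).comp h2).comp (bijective_precomp_of_isIso _ E)

end Main

end Groth.Agent.Lib.helper13.DCT
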