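import Mathlib
import Groth.Prelude.Def_DTen4
import Groth.Prelude.Def_DTen2
import Groth.Agent.Lib.Helper13.Adapted2D
import Groth.Agent.Lib.Helper13.RKF2

/-!
# The derived tensor product `DTen.LTen₂` is computed on K-flat complexes (helper13)

* `isAdaptedClass_kflat` : K-flat complexes over a ring form an adapted class.
* `homotopyEquivTensor`, `isInvertedBy_tensor₂`.
* `isIso_tensor₂_map` : `Q(f ⊗ g)` is invertible for quasi-isomorphisms `f` (arbitrary), `g`
  (between K-flat complexes).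
* `isIso_ε_right` : the counit `QK ⊗^L QL ⟶ Q(K ⊗ L)` is invertible for `L` K-flat.
-/

set_option autoImplicit false
universe u
open CategoryTheory Limits HomologicalComplex MonoidalCategory

attribute [local instance] HasDerivedCategory.standard

namespace Groth.Agent.Lib.helper13.DTenA

open Groth.Agent.Lib.helper13.KFlat Groth.Agent.Lib.helper13.RKF
  Groth.Agent.Lib.helper13.Adapted2

variable {A : Type u} [CommRing A]

lemma isAdaptedClass_kflat : IsAdaptedClass (fun K : DRing.Cx A => IsKFlatR K) where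
  hzero := hzeroR
  hshift := isKFlatR_shift
  hcone f h h' := isKFlatR_mappingCone f h h'
  hres₀ := exists_res

/-- The tensor product of two homotopy equivalences is a homotopy equivalence. -/
noncomputable def homotopyEquivTensor {K K' L L' : DRing.Cx A} (e₁ : HomotopyEquiv K K')
    (e₂ : HomotopyEquiv L L') : HomotopyEquiv (K ⊗ L) (K' ⊗ L') where
  hom := e₁.hom ⊗ₘ e₂.hom
  inv := e₁.inv ⊗ₘ e₂.inv
  homotopyHomInvId :=
    (Homotopy.ofEq (MonoidalCategory.tensorHom_comp_tensorHom _ _ _ _)).trans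
      (((mapBifunctorMapHomotopy₁ e₁.homotopyHomInvId (e₂.hom ≫ e₂.inv)
        (curriedTensor (ModuleCat.{u} A)) (ComplexShape.up ℤ)).trans
        (mapBifunctorMapHomotopy₂ (𝟙 K) e₂.homotopyHomInvId
          (curriedTensor (ModuleCat.{u} A)) (ComplexShape.up ℤ))).trans
        (Homotopy.ofEq (MonoidalCategory.id_tensorHom_id K L)))
  homotopyInvHomId :=
    (Homotopy.ofEq (MonoidalCategory.tensorHom_comp_tensorHom _ _ _ _)).trans
      (((mapBifunctorMapHomotopy₁ e₁.homotopyInvHomId (e₂.inv ≫ e₂.hom)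
        (curriedTensor (ModuleCat.{u} A)) (ComplexShape.up ℤ)).trans
        (mapBifunctorMapHomotopy₂ (𝟙 K') e₂.homotopyInvHomId
          (curriedTensor (ModuleCat.{u} A)) (ComplexShape.up ℤ))).trans
        (Homotopy.ofEq (MonoidalCategory.id_tensorHom_id K' L')))

lemma tensorT_map {X X' : DRing.Cx A × DRing.Cx A} (f : X ⟶ X') :
    (DTen.tensorT A).map f = f.1 ⊗ₘ f.2 := by
  dsimp [DTen.tensorT]
  exact (MonoidalCategory.tensorHom_def _ _).symm

lemma isInvertedBy_tensor₂ :
    ((HomologicalComplex.homotopyEquivalences (ModuleCat.{u} A) (ComplexShape.up ℤ)).prod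
      (HomologicalComplex.homotopyEquivalences (ModuleCat.{u} A) (ComplexShape.up ℤ))).IsInvertedBy
      (DTen.tensor₂ A) := by
  rintro ⟨K, L⟩ ⟨K', L'⟩ ⟨f, g⟩ ⟨⟨e₁, rfl⟩, ⟨e₂, rfl⟩⟩
  change IsIso (DerivedCategory.Q.map ((DTen.tensorT A).map _))
  rw [tensorT_map]
  haveI : QuasiIso (e₁.hom ⊗ₘ e₂.hom) := (homotopyEquivTensor e₁ e₂).quasiIso_hom
  infer_instance

/-- `Q(f ⊗ g)` is invertible for `f` a quasi-isomorphism and `g` a quasi-isomorphism between
K-flat complexes. -/
lemma isIso_tensor₂_map {X X' : DRing.Cx A × DRing.Cx A} (f : X ⟶ X')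
    (h : IsKFlatR X.2) (h' : IsKFlatR X'.2) (hf₁ : QuasiIso f.1) (hf₂ : QuasiIso f.2) :
    IsIso ((DTen.tensor₂ A).map f) := by
  change IsIso (DerivedCategory.Q.map ((DTen.tensorT A).map f))
  have : (DTen.tensorT A).map f = f.1 ▷ X.2 ≫ X'.1 ◁ f.2 := rfl
  rw [this]
  haveI : QuasiIso (f.1 ▷ X.2) := quasiIso_whiskerRight_of_isKFlatR X.2 h f.1
  haveI : QuasiIso (X'.1 ◁ f.2) := quasiIso_whiskerLeft_of_isKFlatR h h' f.2 X'.1
  infer_instance

/-- The counit `QK ⊗^L QL ⟶ Q(K ⊗ L)` of the derived tensor product is invertible for `L`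
K-flat. -/
theorem isIso_ε_right [DTen.HasLTen A] (K L : DRing.Cx A) (hL : IsKFlatR L) :
    IsIso ((DTen.ε A).app (K, L)) :=
  isIso_counit_app₂ (fun _ : DRing.Cx A => True) isAdaptedClass_top
    (fun K : DRing.Cx A => IsKFlatR K) isAdaptedClass_kflat (DTen.tensor₂ A)
    isInvertedBy_tensor₂
    (fun f _ h _ h' hf₁ hf₂ => isIso_tensor₂_map f h h' hf₁ hf₂)
    (DTen.LTen₂ A) (DTen.ε A) K L trivial hL

end Groth.Agent.Lib.helper13.DTenA
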