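import Mathlib
import Groth.Prelude.Def_DTen4
import Groth.Agent.Lib.Helper13.DTenA

/-!
# The mixed derived tensor product `DTen.LTenMix` on K-flat pairs; `DTen.split` is invertible (helper13)
-/

set_option autoImplicit false
universe u
open CategoryTheory Limits HomologicalComplex MonoidalCategory

attribute [local instance] HasDerivedCategory.standard

namespace Groth.Agent.Lib.helper13.DTenA

open Groth.Agent.Lib.helper13.KFlat Groth.Agent.Lib.helper13.RKF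
  Groth.Agent.Lib.helper13.Adapted2

variable {R A : Type u} [CommRing R] [CommRing A] (φ : R →+* A)

lemma isInvertedBy_mix₂ :
    ((HomologicalComplex.homotopyEquivalences (ModuleCat.{u} R) (ComplexShape.up ℤ)).prod
      (HomologicalComplex.homotopyEquivalences (ModuleCat.{u} A) (ComplexShape.up ℤ))).IsInvertedBy
      (DTen.mix₂ φ) := by
  rintro ⟨K, L⟩ ⟨K', L'⟩ ⟨f, g⟩ ⟨⟨e₁, rfl⟩, ⟨e₂, rfl⟩⟩
  exact isInvertedBy_tensor₂ (A := A)
    (((DTen.extCx φ).prod (𝟭 (DRing.Cx A))).map (Prod.mkHom e₁.hom e₂.hom))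
    ⟨⟨(ModuleCat.extendScalars.{u, u, u} φ).mapHomotopyEquiv e₁, rfl⟩, ⟨e₂, rfl⟩⟩

lemma isIso_mix₂_map {X X' : DRing.Cx R × DRing.Cx A} (f : X ⟶ X')
    (h₁ : IsKFlatR X.1) (h₂ : IsKFlatR X.2) (h₁' : IsKFlatR X'.1) (h₂' : IsKFlatR X'.2)
    (hf₁ : QuasiIso f.1) (hf₂ : QuasiIso f.2) : IsIso ((DTen.mix₂ φ).map f) :=
  isIso_tensor₂_map (A := A) (((DTen.extCx φ).prod (𝟭 (DRing.Cx A))).map f) h₂ h₂'
    (quasiIso_extendScalars_map φ h₁ h₁' f.1) hf₂

/-- The counit of the mixed derived tensor product is invertible at pairs of K-flat complexes. -/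
theorem isIso_εMix [DTen.HasLTenMix φ] (K : DRing.Cx R) (N : DRing.Cx A) (hK : IsKFlatR K)
    (hN : IsKFlatR N) : IsIso ((DTen.εMix φ).app (K, N)) :=
  isIso_counit_app₂ (fun K : DRing.Cx R => IsKFlatR K) isAdaptedClass_kflat
    (fun K : DRing.Cx A => IsKFlatR K) isAdaptedClass_kflat (DTen.mix₂ φ)
    (isInvertedBy_mix₂ φ)
    (fun f h₁ h₂ h₁' h₂' hf₁ hf₂ => isIso_mix₂_map φ f h₁ h₂ h₁' h₂' hf₁ hf₂)
    (DTen.LTenMix φ) (DTen.εMix φ) K N hK hN

/-- Every object of `D(R)` is the image of a K-flat complex. -/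
lemma exists_iso_Q_kflat (E : Dual.D R) :
    ∃ (P : DRing.Cx R), IsKFlatR P ∧ Nonempty (E ≅ DerivedCategory.Q.obj P) := by
  obtain ⟨K, ⟨e⟩⟩ : ∃ K : DRing.Cx R, Nonempty (DerivedCategory.Q.obj K ≅ E) :=
    ⟨_, ⟨DerivedCategory.Q.objObjPreimageIso E⟩⟩
  obtain ⟨P, f, hP, hf⟩ := exists_res K
  exact ⟨P, hP, ⟨e.symm ≪≫ (asIso (DerivedCategory.Q.map f)).symm⟩⟩

/-- `DTen.split` is invertible at images of K-flat pairs. -/
lemma isIso_split_app_Q [DTen.HasLTen A] [DTen.HasLBase φ] [DTen.HasLTenMix φ]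
    (K : DRing.Cx R) (N : DRing.Cx A) (hK : IsKFlatR K) (hN : IsKFlatR N) :
    IsIso ((DTen.split φ).app (DerivedCategory.Q.obj K, DerivedCategory.Q.obj N)) := by
  have h := DTen.split_fac φ (K, N)
  haveI := isIso_εMix φ K N hK hN
  haveI : IsIso ((DTen.baseCmp φ).app K) := isIso_baseCmp φ K hK
  haveI : IsIso ((DTen.ε A).app ((DTen.extCx φ).obj K, N)) := isIso_ε_right _ N hN
  haveI : IsIso ((DTen.splitβ φ).app (K, N)) := by
    dsimp [DTen.splitβ]
    haveI : IsIso (Prod.mkHom ((DTen.baseCmp φ).app K) (𝟙 (DerivedCategory.Q.obj N))) :=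
      (isIso_prod_iff _ _).2 ⟨inferInstance, inferInstance⟩
    infer_instance
  have h' : (DTen.split φ).app (DerivedCategory.Q.obj K, DerivedCategory.Q.obj N) =
      (DTen.splitβ φ).app (K, N) ≫ inv ((DTen.εMix φ).app (K, N)) := by
    rw [IsIso.eq_comp_inv]
    exact h
  rw [h']
  infer_instance

theorem isIso_split_app [DTen.HasLTen A] [DTen.HasLBase φ] [DTen.HasLTenMix φ]
    (E : Dual.D R) (N : Dual.D A) : IsIso ((DTen.split φ).app (E, N)) := by
  obtain ⟨P, hP, ⟨e₁⟩⟩ := exists_iso_Q_kflat E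
  obtain ⟨P', hP', ⟨e₂⟩⟩ := exists_iso_Q_kflat N
  haveI := isIso_split_app_Q φ P P' hP hP'
  let e : (E, N) ≅ (DerivedCategory.Q.obj P, DerivedCategory.Q.obj P') := Iso.prod e₁ e₂
  have hn := (DTen.split φ).naturality e.hom
  have : (DTen.split φ).app (E, N) = (DTen.LBaseTen φ).map e.hom ≫
      (DTen.split φ).app (DerivedCategory.Q.obj P, DerivedCategory.Q.obj P') ≫
      inv ((DTen.LTenMix φ).map e.hom) := by
    rw [← Category.assoc, IsIso.eq_comp_inv]
    exact hn.symm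
  rw [this]
  infer_instance

end Groth.Agent.Lib.helper13.DTenA
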