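import Mathlib
import Groth.Prelude.Def_DTen2
import Groth.Agent.Lib.Helper13.DTenB

/-!
# The derived triple tensor product on K-flat triples; the associativity legs are invertible (helper13)
-/

set_option autoImplicit false
universe u
open CategoryTheory Limits HomologicalComplex MonoidalCategory

attribute [local instance] HasDerivedCategory.standard

namespace Groth.Agent.Lib.helper13.DTenA

open Groth.Agent.Lib.helper13.KFlat Groth.Agent.Lib.helper13.RKF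
  Groth.Agent.Lib.helper13.Adapted2

variable {A : Type u} [CommRing A]

/-- The tensor product of two K-flat complexes is K-flat. -/
theorem isKFlatR_tensor (K L : DRing.Cx A) (hK : IsKFlatR K) (hL : IsKFlatR L) :
    IsKFlatR (K ⊗ L) := by
  intro M hM i
  have h1 := hL (M ⊗ K) (hK M hM) i
  exact h1.of_iso ((HomologicalComplex.homologyFunctor _ _ i).mapIso (α_ M K L).symm)

lemma quasiIso_tensorHom_of_isKFlatR {L L' M M' : DRing.Cx A} (g : L ⟶ L') (h : M ⟶ M')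
    (hM : IsKFlatR M) (hM' : IsKFlatR M') [QuasiIso g] [QuasiIso h] : QuasiIso (g ⊗ₘ h) := by
  rw [MonoidalCategory.tensorHom_def]
  haveI : QuasiIso (g ▷ M) := quasiIso_whiskerRight_of_isKFlatR M hM g
  haveI : QuasiIso (L' ◁ h) := quasiIso_whiskerLeft_of_isKFlatR hM hM' h L'
  infer_instance

lemma isInvertedBy_tensor₃ :
    ((HomologicalComplex.homotopyEquivalences (ModuleCat.{u} A) (ComplexShape.up ℤ)).prod
      ((HomologicalComplex.homotopyEquivalences (ModuleCat.{u} A) (ComplexShape.up ℤ)).prod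
      (HomologicalComplex.homotopyEquivalences (ModuleCat.{u} A)
        (ComplexShape.up ℤ)))).IsInvertedBy (DTen.tensor₃ A) := by
  rintro ⟨K, L, M⟩ ⟨K', L', M'⟩ ⟨f, g, h⟩ ⟨⟨e₁, rfl⟩, ⟨e₂, rfl⟩, ⟨e₃, rfl⟩⟩
  change IsIso (DerivedCategory.Q.map ((DTen.tensorT A).map
    (Prod.mkHom e₁.hom ((DTen.tensorT A).map (Prod.mkHom e₂.hom e₃.hom)))))
  rw [tensorT_map, tensorT_map]
  haveI : QuasiIso (e₁.hom ⊗ₘ (e₂.hom ⊗ₘ e₃.hom)) :=
    (homotopyEquivTensor e₁ (homotopyEquivTensor e₂ e₃)).quasiIso_hom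
  infer_instance

lemma isIso_tensor₃_map {X X' : DRing.Cx A × (DRing.Cx A × DRing.Cx A)} (f : X ⟶ X')
    (h₂ : IsKFlatR X.2.1) (h₃ : IsKFlatR X.2.2) (h₂' : IsKFlatR X'.2.1) (h₃' : IsKFlatR X'.2.2)
    (hf₁ : QuasiIso f.1) (hf₂ : QuasiIso f.2.1) (hf₃ : QuasiIso f.2.2) :
    IsIso ((DTen.tensor₃ A).map f) := by
  have hq : QuasiIso ((DTen.tensorT A).map f.2) := by
    rw [tensorT_map]
    exact quasiIso_tensorHom_of_isKFlatR f.2.1 f.2.2 h₃ h₃'
  exact isIso_tensor₂_map (A := A)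
    (X := (X.1, (DTen.tensorT A).obj X.2)) (X' := (X'.1, (DTen.tensorT A).obj X'.2))
    (Prod.mkHom f.1 ((DTen.tensorT A).map f.2))
    (isKFlatR_tensor _ _ h₂ h₃) (isKFlatR_tensor _ _ h₂' h₃') hf₁ hq

/-- The counit of the derived triple tensor product is invertible at `(K, (L, M))` with `L`, `M`
K-flat. -/
theorem isIso_ε₃ [DTen.HasLTen₃ A] (K L M : DRing.Cx A) (hL : IsKFlatR L) (hM : IsKFlatR M) :
    IsIso ((DTen.ε₃ A).app (K, (L, M))) :=
  isIso_counit_app₃ (fun _ : DRing.Cx A => True) isAdaptedClass_top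
    (fun K : DRing.Cx A => IsKFlatR K) isAdaptedClass_kflat
    (fun K : DRing.Cx A => IsKFlatR K) isAdaptedClass_kflat (DTen.tensor₃ A)
    isInvertedBy_tensor₃
    (fun f _ h₂ h₃ _ h₂' h₃' hf₁ hf₂ hf₃ => isIso_tensor₃_map f h₂ h₃ h₂' h₃' hf₁ hf₂ hf₃)
    (DTen.LTen₃ A) (DTen.ε₃ A) K L M trivial hL hM

lemma isIso_map_prod {C D E : Type*} [Category C] [Category D] [Category E] (F : C × D ⥤ E)
    {X Y : C × D} (p : X ⟶ Y) (h1 : IsIso p.1) (h2 : IsIso p.2) : IsIso (F.map p) := by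
  haveI : IsIso p := (isIso_prod_iff (P := X.1) (S := X.2) (Q := Y.1) (T := Y.2) (f := p)).2
    ⟨h1, h2⟩
  infer_instance

lemma isIso_βR_app [DTen.HasLTen A] (K L M : DRing.Cx A) (hL : IsKFlatR L) (hM : IsKFlatR M) :
    IsIso ((DTen.βR A).app (K, (L, M))) := by
  have h1 : IsIso ((DTen.ε A).app (L, M)) := isIso_ε_right L M hM
  have h2 : IsIso ((DTen.ε A).app (K, L ⊗ M)) :=
    isIso_ε_right K (L ⊗ M) (isKFlatR_tensor _ _ hL hM)
  exact IsIso.comp_isIso' (isIso_map_prod _ _ (by dsimp; infer_instance) h1) h2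

lemma isIso_βL_app [DTen.HasLTen A] (K L M : DRing.Cx A) (hL : IsKFlatR L) (hM : IsKFlatR M) :
    IsIso ((DTen.βL A).app (K, (L, M))) := by
  have h1 : IsIso ((DTen.ε A).app (K, L)) := isIso_ε_right K L hL
  have h2 : IsIso ((DTen.ε A).app (K ⊗ L, M)) := isIso_ε_right (K ⊗ L) M hM
  have h3 : IsIso (DerivedCategory.Q.map (α_ K L M).hom) := Functor.map_isIso _ _
  exact IsIso.comp_isIso' (isIso_map_prod _ _ h1 (by dsimp; infer_instance))
    (IsIso.comp_isIso' h2 h3)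

lemma isIso_of_fac {C : Type*} [Category C] {X Y Z : C} (f : X ⟶ Y) (g : Y ⟶ Z) (k : X ⟶ Z)
    (h : f ≫ g = k) [IsIso g] [IsIso k] : IsIso f := by
  have : f = k ≫ inv g := by rw [IsIso.eq_comp_inv]; exact h
  rw [this]; infer_instance

lemma isIso_app_of_iso {C D : Type*} [Category C] [Category D] {F G : C ⥤ D} (τ : F ⟶ G)
    {X Y : C} (e : X ≅ Y) [IsIso (τ.app Y)] : IsIso (τ.app X) := by
  have hn := τ.naturality e.hom
  have : τ.app X = F.map e.hom ≫ τ.app Y ≫ inv (G.map e.hom) := by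
    rw [← Category.assoc, IsIso.eq_comp_inv]
    exact hn.symm
  rw [this]; infer_instance

theorem isIso_assoc_app [DTen.HasLTen A] [DTen.HasLTen₃ A] (a b c : Dual.D A) :
    IsIso ((DTen.assocL A).app (a, (b, c))) ∧ IsIso ((DTen.assocR A).app (a, (b, c))) := by
  obtain ⟨P₁, hP₁, ⟨e₁⟩⟩ := exists_iso_Q_kflat a
  obtain ⟨P₂, hP₂, ⟨e₂⟩⟩ := exists_iso_Q_kflat b
  obtain ⟨P₃, hP₃, ⟨e₃⟩⟩ := exists_iso_Q_kflat c
  let e : (a, (b, c)) ≅ (DTen.QQQ A).obj (P₁, (P₂, P₃)) := Iso.prod e₁ (Iso.prod e₂ e₃)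
  haveI := isIso_ε₃ P₁ P₂ P₃ hP₂ hP₃
  haveI := isIso_βR_app P₁ P₂ P₃ hP₂ hP₃
  haveI := isIso_βL_app P₁ P₂ P₃ hP₂ hP₃
  haveI : IsIso ((DTen.assocL A).app ((DTen.QQQ A).obj (P₁, (P₂, P₃)))) :=
    isIso_of_fac _ _ _ (DTen.assocL_fac A (P₁, (P₂, P₃)))
  haveI : IsIso ((DTen.assocR A).app ((DTen.QQQ A).obj (P₁, (P₂, P₃)))) :=
    isIso_of_fac _ _ _ (DTen.assocR_fac A (P₁, (P₂, P₃)))
  exact ⟨isIso_app_of_iso _ e, isIso_app_of_iso _ e⟩

end Groth.Agent.Lib.helper13.DTenA
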