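import Mathlib
import Groth.Prelude.Def_DTen6
import Groth.Agent.Lib.Helper13.DTenC
import Groth.Agent.Lib.Helper13.ExtKFlat

/-!
# The triple mixed derived tensor product on K-flat triples; the legs `leg₃L`, `leg₃R` are
invertible (helper13)
-/

set_option autoImplicit false
universe u
open CategoryTheory Limits HomologicalComplex MonoidalCategory

attribute [local instance] HasDerivedCategory.standard

namespace Groth.Agent.Lib.helper13.DTenA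

open Groth.Agent.Lib.helper13.KFlat Groth.Agent.Lib.helper13.RKF
  Groth.Agent.Lib.helper13.Adapted2 Groth.Agent.Lib.helper13.ExtKFlat

variable {A B C : Type u} [CommRing A] [CommRing B] [CommRing C] (φ : A →+* B) (ψ : B →+* C)

lemma mixT_map {X X' : DRing.Cx A × DRing.Cx B} (f : X ⟶ X') :
    (DTen.mixT φ).map f = (DTen.extCx φ).map f.1 ⊗ₘ f.2 :=
  tensorT_map (A := B) (((DTen.extCx φ).prod (𝟭 (DRing.Cx B))).map f)

/-- the K-flatness of `(M ⊗_A B) ⊗_B N` -/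
lemma isKFlatR_mixT (M : DRing.Cx A) (N : DRing.Cx B) (hM : IsKFlatR M) (hN : IsKFlatR N) :
    IsKFlatR ((DTen.mixT φ).obj (M, N)) :=
  isKFlatR_tensor _ _ (isKFlatR_extCx φ M hM) hN

/-- `(f ⊗_A B) ⊗_B g` is a quasi-isomorphism for quasi-isomorphisms between K-flat complexes. -/
lemma quasiIso_mixT_map {X X' : DRing.Cx A × DRing.Cx B} (f : X ⟶ X')
    (h₁ : IsKFlatR X.1) (h₂ : IsKFlatR X.2) (h₁' : IsKFlatR X'.1) (h₂' : IsKFlatR X'.2)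
    (hf₁ : QuasiIso f.1) (hf₂ : QuasiIso f.2) : QuasiIso ((DTen.mixT φ).map f) := by
  rw [mixT_map]
  haveI := quasiIso_extendScalars_map φ h₁ h₁' f.1
  exact quasiIso_tensorHom_of_isKFlatR _ _ h₂ h₂'

/-- the mixed tensor product of homotopy equivalences -/
noncomputable def homotopyEquivMixT {K K' : DRing.Cx A} {L L' : DRing.Cx B}
    (e₁ : HomotopyEquiv K K') (e₂ : HomotopyEquiv L L') :
    HomotopyEquiv ((DTen.mixT φ).obj (K, L)) ((DTen.mixT φ).obj (K', L')) :=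
  homotopyEquivTensor ((ModuleCat.extendScalars.{u, u, u} φ).mapHomotopyEquiv e₁) e₂

lemma homotopyEquivMixT_hom {K K' : DRing.Cx A} {L L' : DRing.Cx B}
    (e₁ : HomotopyEquiv K K') (e₂ : HomotopyEquiv L L') :
    (homotopyEquivMixT φ e₁ e₂).hom = (DTen.mixT φ).map (Prod.mkHom e₁.hom e₂.hom) :=
  (mixT_map φ (Prod.mkHom e₁.hom e₂.hom)).symm

lemma isInvertedBy_mix₃ :
    ((HomologicalComplex.homotopyEquivalences (ModuleCat.{u} A) (ComplexShape.up ℤ)).prod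
      ((HomologicalComplex.homotopyEquivalences (ModuleCat.{u} B) (ComplexShape.up ℤ)).prod
      (HomologicalComplex.homotopyEquivalences (ModuleCat.{u} C)
        (ComplexShape.up ℤ)))).IsInvertedBy (DTen.mix₃ φ ψ) := by
  rintro ⟨K, L, M⟩ ⟨K', L', M'⟩ ⟨f, g, h⟩ ⟨⟨e₁, rfl⟩, ⟨e₂, rfl⟩, ⟨e₃, rfl⟩⟩
  change IsIso (DerivedCategory.Q.map ((DTen.mixT ψ).map
    (Prod.mkHom ((DTen.mixT φ).map (Prod.mkHom e₁.hom e₂.hom)) e₃.hom)))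
  rw [← homotopyEquivMixT_hom φ e₁ e₂, ← homotopyEquivMixT_hom ψ (homotopyEquivMixT φ e₁ e₂) e₃]
  infer_instance

lemma isIso_mix₃_map {X X' : DRing.Cx A × (DRing.Cx B × DRing.Cx C)} (f : X ⟶ X')
    (h₁ : IsKFlatR X.1) (h₂ : IsKFlatR X.2.1) (h₃ : IsKFlatR X.2.2)
    (h₁' : IsKFlatR X'.1) (h₂' : IsKFlatR X'.2.1) (h₃' : IsKFlatR X'.2.2)
    (hf₁ : QuasiIso f.1) (hf₂ : QuasiIso f.2.1) (hf₃ : QuasiIso f.2.2) :
    IsIso ((DTen.mix₃ φ ψ).map f) := by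
  have hq : QuasiIso ((DTen.mixT φ).map (Prod.mkHom f.1 f.2.1)) :=
    quasiIso_mixT_map φ (X := (X.1, X.2.1)) (X' := (X'.1, X'.2.1)) (Prod.mkHom f.1 f.2.1)
      h₁ h₂ h₁' h₂' hf₁ hf₂
  exact isIso_mix₂_map ψ
    (X := ((DTen.mixT φ).obj (X.1, X.2.1), X.2.2)) (X' := ((DTen.mixT φ).obj (X'.1, X'.2.1), X'.2.2))
    (Prod.mkHom ((DTen.mixT φ).map (Prod.mkHom f.1 f.2.1)) f.2.2)
    (isKFlatR_mixT φ _ _ h₁ h₂) h₃ (isKFlatR_mixT φ _ _ h₁' h₂') h₃' hq hf₃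

/-- The counit of the triple mixed derived tensor product is invertible at K-flat triples. -/
theorem isIso_εMix₃ [DTen.HasLTenMix₃ φ ψ] (M : DRing.Cx A) (N : DRing.Cx B) (K : DRing.Cx C)
    (hM : IsKFlatR M) (hN : IsKFlatR N) (hK : IsKFlatR K) :
    IsIso ((DTen.εMix₃ φ ψ).app (M, (N, K))) :=
  isIso_counit_app₃ (fun K : DRing.Cx A => IsKFlatR K) isAdaptedClass_kflat
    (fun K : DRing.Cx B => IsKFlatR K) isAdaptedClass_kflat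
    (fun K : DRing.Cx C => IsKFlatR K) isAdaptedClass_kflat (DTen.mix₃ φ ψ)
    (isInvertedBy_mix₃ φ ψ)
    (fun f h₁ h₂ h₃ h₁' h₂' h₃' hf₁ hf₂ hf₃ =>
      isIso_mix₃_map φ ψ f h₁ h₂ h₃ h₁' h₂' h₃' hf₁ hf₂ hf₃)
    (DTen.LTenMix₃ φ ψ) (DTen.εMix₃ φ ψ) M N K hM hN hK

lemma isIso_β₃L_app [DTen.HasLTenMix φ] [DTen.HasLTenMix ψ] (M : DRing.Cx A) (N : DRing.Cx B)
    (K : DRing.Cx C) (hM : IsKFlatR M) (hN : IsKFlatR N) (hK : IsKFlatR K) :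
    IsIso ((DTen.β₃L φ ψ).app (M, (N, K))) := by
  have h1 : IsIso ((DTen.εMix φ).app (M, N)) := isIso_εMix φ M N hM hN
  have h2 : IsIso ((DTen.εMix ψ).app ((DTen.mixT φ).obj (M, N), K)) :=
    isIso_εMix ψ _ K (isKFlatR_mixT φ M N hM hN) hK
  exact IsIso.comp_isIso' (isIso_map_prod _ _ h1 (by dsimp; infer_instance)) h2

lemma isIso_β₃R_app [DTen.HasLTenMix ψ] [DTen.HasLTenMix (ψ.comp φ)] (M : DRing.Cx A)
    (N : DRing.Cx B) (K : DRing.Cx C) (hM : IsKFlatR M) (hN : IsKFlatR N) (hK : IsKFlatR K) :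
    IsIso ((DTen.β₃R φ ψ).app (M, (N, K))) := by
  have h1 : IsIso ((DTen.εMix ψ).app (N, K)) := isIso_εMix ψ N K hN hK
  have h2 : IsIso ((DTen.εMix (ψ.comp φ)).app (M, (DTen.mixT ψ).obj (N, K))) :=
    isIso_εMix (ψ.comp φ) M _ hM (isKFlatR_mixT ψ N K hN hK)
  have h3 : IsIso (DerivedCategory.Q.map ((DTen.θ₃ φ ψ).inv.app (M, (N, K)))) :=
    Functor.map_isIso _ _
  exact IsIso.comp_isIso' (isIso_map_prod _ _ (by dsimp; infer_instance) h1)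
    (IsIso.comp_isIso' h2 h3)

theorem isIso_leg₃_app [DTen.HasLTenMix φ] [DTen.HasLTenMix ψ] [DTen.HasLTenMix (ψ.comp φ)]
    [DTen.HasLTenMix₃ φ ψ] (E : Dual.D A) (F : Dual.D B) (G : Dual.D C) :
    IsIso ((DTen.leg₃L φ ψ).app (E, (F, G))) ∧ IsIso ((DTen.leg₃R φ ψ).app (E, (F, G))) := by
  obtain ⟨P₁, hP₁, ⟨e₁⟩⟩ := exists_iso_Q_kflat E
  obtain ⟨P₂, hP₂, ⟨e₂⟩⟩ := exists_iso_Q_kflat F
  obtain ⟨P₃, hP₃, ⟨e₃⟩⟩ := exists_iso_Q_kflat G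
  let e : (E, (F, G)) ≅ (DTen.QMix₃ A B C).obj (P₁, (P₂, P₃)) := Iso.prod e₁ (Iso.prod e₂ e₃)
  haveI := isIso_εMix₃ φ ψ P₁ P₂ P₃ hP₁ hP₂ hP₃
  haveI := isIso_β₃L_app φ ψ P₁ P₂ P₃ hP₁ hP₂ hP₃
  haveI := isIso_β₃R_app φ ψ P₁ P₂ P₃ hP₁ hP₂ hP₃
  haveI : IsIso ((DTen.leg₃L φ ψ).app ((DTen.QMix₃ A B C).obj (P₁, (P₂, P₃)))) :=
    isIso_of_fac _ _ _ (DTen.leg₃L_fac φ ψ (P₁, (P₂, P₃)))
  haveI : IsIso ((DTen.leg₃R φ ψ).app ((DTen.QMix₃ A B C).obj (P₁, (P₂, P₃)))) :=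
    isIso_of_fac _ _ _ (DTen.leg₃R_fac φ ψ (P₁, (P₂, P₃)))
  exact ⟨isIso_app_of_iso _ e, isIso_app_of_iso _ e⟩

end Groth.Agent.Lib.helper13.DTenA
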