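import Mathlib
import Groth.Prelude.Def_DRing4
import Groth.Prelude.Def_DTen
import Groth.Agent.Lib.Helper13.LTenCx1
import Groth.Agent.Lib.Helper13.LTenCx2
import Groth.Agent.Lib.Helper13.KFlat7
import Groth.Agent.Lib.Helper13.KFlat9
import Groth.Agent.Lib.Helper13.KRes6
import Groth.Agent.Lib.Helper23.TA8

/-!
# Lower tor amplitude via the one-variable derived tensor product `DRing.LTensorCx` (helper13)

* `exactAt_tensor_single_iff`: for `K` concentrated in degree `0`, `L ⊗ K` is exact at `n` iff the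
  termwise tensor product `L ⊗ K⁰` is.
* `exactAt_single_tensor_iff`: `M[0] ⊗ P` is exact at `n` iff `M ⊗ P` (termwise) is.
* `isZero_homology_LTensorCx_single_iff`: `H^i(M[0] ⊗^L K) = 0` iff `M ⊗ P` is exact at `i`, for a
  K-flat `P` with `QK ≅ QP`.
-/

set_option autoImplicit false
universe u
open CategoryTheory Limits HomologicalComplex MonoidalCategory

attribute [local instance] HasDerivedCategory.standard

namespace Groth.Agent.Lib.helper13.TorLow

open Groth.Agent.Lib.helper13.KFlat Groth.Agent.Lib.helper13.LTenCx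
  Groth.Agent.Lib.helper23.TA

variable {R : Type u} [CommRing R]

/-- for `K` concentrated in degree `0`, `L ⊗ K` is exact at `n` iff `L ⊗ K⁰` (termwise) is -/
theorem exactAt_tensor_single_iff (L K : DRing.Cx R) (hK : ∀ q, q ≠ 0 → IsZero (K.X q)) (n : ℤ) :
    (L ⊗ K).ExactAt n ↔
      (((tensorRight (K.X 0)).mapHomologicalComplex (ComplexShape.up ℤ)).obj L).ExactAt n := by
  rw [exactAt_iff' (L ⊗ K) (n - 1) n (n + 1) (by simp) (by simp),
    exactAt_iff' _ (n - 1) n (n + 1) (by simp) (by simp)]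
  have hd : K.d 0 (0 + 1) = 0 := (hK (0 + 1) (by omega)).eq_of_tgt _ _
  have h1 : ComplexShape.π (ComplexShape.up ℤ) (ComplexShape.up ℤ) (ComplexShape.up ℤ)
      (n - 1, 0) = n - 1 := by
    change n - 1 + 0 = n - 1
    omega
  have h2 : ComplexShape.π (ComplexShape.up ℤ) (ComplexShape.up ℤ) (ComplexShape.up ℤ)
      (n, 0) = n := by
    change n + 0 = n
    omega
  have h3 : ComplexShape.π (ComplexShape.up ℤ) (ComplexShape.up ℤ) (ComplexShape.up ℤ)
      (n + 1, 0) = n + 1 := by
    change n + 1 + 0 = n + 1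
    omega
  have i1 := isIso_ι_of_isZero (curriedTensor (ModuleCat.{u} R)) L K (n - 1) 0 (n - 1) h1 hK
  have i2 := isIso_ι_of_isZero (curriedTensor (ModuleCat.{u} R)) L K n 0 n h2 hK
  have i3 := isIso_ι_of_isZero (curriedTensor (ModuleCat.{u} R)) L K (n + 1) 0 (n + 1) h3 hK
  refine (ShortComplex.exact_iff_of_iso (ShortComplex.isoMk
    (@asIso _ _ _ _ (ιMapBifunctor L K (curriedTensor (ModuleCat.{u} R)) (ComplexShape.up ℤ)
      (n - 1) 0 (n - 1) h1) i1)
    (@asIso _ _ _ _ (ιMapBifunctor L K (curriedTensor (ModuleCat.{u} R)) (ComplexShape.up ℤ)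
      n 0 n h2) i2)
    (@asIso _ _ _ _ (ιMapBifunctor L K (curriedTensor (ModuleCat.{u} R)) (ComplexShape.up ℤ)
      (n + 1) 0 (n + 1) h3) i3)
    ?_ ?_)).symm
  · exact ι_d_of_d_eq_zero (curriedTensor (ModuleCat.{u} R)) L K (n - 1) n 0 (n - 1) n
      (by omega) h1 h2 hd
  · exact ι_d_of_d_eq_zero (curriedTensor (ModuleCat.{u} R)) L K n (n + 1) 0 n (n + 1)
      (by omega) h2 h3 hd

/-- `M[0] ⊗ P` is exact at `n` iff `M ⊗ P` (termwise) is -/
theorem exactAt_single_tensor_iff (M : ModuleCat.{u} R) (P : DRing.Cx R) (n : ℤ) :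
    (((CochainComplex.singleFunctor (ModuleCat.{u} R) 0).obj M) ⊗ P).ExactAt n ↔
      (((tensorLeft M).mapHomologicalComplex (ComplexShape.up ℤ)).obj P).ExactAt n := by
  set S : DRing.Cx R := (CochainComplex.singleFunctor (ModuleCat.{u} R) 0).obj M with hS
  have hK : ∀ q, q ≠ 0 → IsZero (S.X q) := fun q hq =>
    HomologicalComplex.isZero_single_obj_X (ComplexShape.up ℤ) 0 M q hq
  have e0 : S.X 0 ≅ M := HomologicalComplex.singleObjXSelf (ComplexShape.up ℤ) 0 M
  have e1 : ((tensorRight (S.X 0)).mapHomologicalComplex (ComplexShape.up ℤ)).obj P ≅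
      ((tensorRight M).mapHomologicalComplex (ComplexShape.up ℤ)).obj P :=
    (NatIso.mapHomologicalComplex ((tensoringRight (ModuleCat.{u} R)).mapIso e0)
      (ComplexShape.up ℤ)).app P
  rw [exactAt_tensorLeft_iff]
  constructor
  · intro h
    have h1 : (P ⊗ S).ExactAt n := exactAt_of_iso (DTen.braidCx S P) n h
    exact exactAt_of_iso e1 n ((exactAt_tensor_single_iff P S hK n).1 h1)
  · intro h
    have h1 : (P ⊗ S).ExactAt n :=
      (exactAt_tensor_single_iff P S hK n).2 (exactAt_of_iso e1.symm n h)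
    exact exactAt_of_iso (DTen.braidCx S P).symm n h1

/-- `H^i(M[0] ⊗^L K)` vanishes iff `M ⊗ P` is exact at `i`, for `P` K-flat with `QK ≅ QP` -/
theorem isZero_homology_LTensorCx_single_iff (K : DRing.Cx R) [DRing.HasLTensorCx R K]
    (P : DRing.Cx R) (hP : IsKFlatR P) (e : DerivedCategory.Q.obj K ≅ DerivedCategory.Q.obj P)
    (M : ModuleCat.{u} R) (i : ℤ) :
    Subsingleton (Dual.HD R ((DRing.LTensorCx R K).obj
        (DRing.toD ((CochainComplex.singleFunctor (ModuleCat.{u} R) 0).obj M))) i) ↔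
      (((tensorLeft M).mapHomologicalComplex (ComplexShape.up ℤ)).obj P).ExactAt i := by
  obtain ⟨P', f, hP', -, hf, -⟩ :=
    Groth.Agent.Lib.helper13.KRes.exists_isKFlatR_resolution
      ((CochainComplex.singleFunctor (ModuleCat.{u} R) 0).obj M)
  haveI : QuasiIso f := hf
  obtain ⟨j⟩ := nonempty_LTensorCx_iso K P P' hP' e (asIso (DerivedCategory.Q.map f))
  haveI : QuasiIso (f ▷ P) := quasiIso_whiskerRight_of_isKFlatR P hP f
  have j2 : (DRing.LTensorCx R K).obj
      (DRing.toD ((CochainComplex.singleFunctor (ModuleCat.{u} R) 0).obj M)) ≅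
      DerivedCategory.Q.obj (((CochainComplex.singleFunctor (ModuleCat.{u} R) 0).obj M) ⊗ P) :=
    j ≪≫ asIso (DerivedCategory.Q.map (f ▷ P))
  rw [← exactAt_single_tensor_iff, exactAt_iff_isZero_homology]
  have j3 : (DerivedCategory.homologyFunctor (ModuleCat.{u} R) i).obj ((DRing.LTensorCx R K).obj
      (DRing.toD ((CochainComplex.singleFunctor (ModuleCat.{u} R) 0).obj M))) ≅
      (((CochainComplex.singleFunctor (ModuleCat.{u} R) 0).obj M) ⊗ P).homology i :=
    (DerivedCategory.homologyFunctor (ModuleCat.{u} R) i).mapIso j2 ≪≫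
      (DerivedCategory.homologyFunctorFactors _ i).app _
  constructor
  · intro h
    exact (ModuleCat.isZero_of_subsingleton _).of_iso j3.symm
  · intro h
    exact ModuleCat.subsingleton_of_isZero (h.of_iso j3)

end Groth.Agent.Lib.helper13.TorLow
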