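import Mathlib
import Groth.Prelude.Def_DTen6
import Groth.Agent.Lib.Helper13.TorLow1
import Groth.Agent.Lib.Helper13.ExtKFlat
import Groth.Agent.Lib.Helper23.TA12

/-!
# Lower tor amplitude, part 3 (helper13): tor amplitude and tensor products with K-flat
resolutions; change of rings

* `exactAt_tensor_of_hasTorAmplitudeIn`: if `Y` has tor amplitude in `[a, b]` and `G` is a K-flat
  resolution of a complex concentrated in degree `0`, then `Y ⊗ G` is exact in degrees `< a`.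
* `hasTorAmplitudeIn_of_exactAt_tensor`: conversely, if `X` is exact above `b` and `X ⊗ F` is exact
  in degrees `< a` for every K-flat resolution `F` of a module, then `X` has tor amplitude in
  `[a, b]`.
* `exactAt_res_tensor_iff`: `(K|_A ⊗_A F)` is exact at `j` iff `K ⊗_B (B ⊗_A F)` is.
* `extSquareIso`: for a commutative square of rings, `B' ⊗_B (K ⊗_B (B ⊗_A F)) ≅
  (B' ⊗_B K) ⊗_{B'} (B' ⊗_{A'} (A' ⊗_A F))`.
-/

set_option autoImplicit false
universe u
open CategoryTheory Limits HomologicalComplex MonoidalCategory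

attribute [local instance] HasDerivedCategory.standard

namespace Groth.Agent.Lib.helper13.TorLow

open Groth.Agent.Lib.helper13.KFlat Groth.Agent.Lib.helper13.LTenCx
  Groth.Agent.Lib.helper23.TA Groth.Agent.Lib.helper13.ExtKFlat

variable {A : Type u} [CommRing A]

lemma exactAt_iff_of_iso_Q {K L : DRing.Cx A}
    (e : DerivedCategory.Q.obj K ≅ DerivedCategory.Q.obj L) (i : ℤ) :
    K.ExactAt i ↔ L.ExactAt i :=
  ⟨exactAt_of_iso_Q e i, exactAt_of_iso_Q e.symm i⟩

lemma exactAt_iff_of_quasiIso {K L : DRing.Cx A} (f : K ⟶ L) [QuasiIso f] (i : ℤ) :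
    K.ExactAt i ↔ L.ExactAt i :=
  exactAt_iff_of_iso_Q (asIso (DerivedCategory.Q.map f)) i

/-- for `F` K-flat, `F ◁ u` is a quasi-isomorphism for every quasi-isomorphism `u` -/
lemma quasiIso_whiskerLeft_of_isKFlatR' (F : DRing.Cx A) (hF : IsKFlatR F) {X Y : DRing.Cx A}
    (u : X ⟶ Y) [QuasiIso u] : QuasiIso (F ◁ u) := by
  have h := isInvertedBy_tensorLeftQ F hF u (inferInstance : QuasiIso u)
  exact (DerivedCategory.isIso_Q_map_iff_quasiIso _ _).1 h

/-- if `Y` has tor amplitude in `[a, b]` and `G` is a K-flat resolution of a complex `S`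
concentrated in degree `0`, then `Y ⊗ G` is exact in degrees `< a` -/
theorem exactAt_tensor_of_hasTorAmplitudeIn (Y : DRing.Cx A) (a b : ℤ)
    (hY : DRing.HasTorAmplitudeIn A a b (DRing.toD Y)) (G S : DRing.Cx A) (hG : IsKFlatR G)
    (g : G ⟶ S) [QuasiIso g] (hS : ∀ q, q ≠ 0 → IsZero (S.X q)) (j : ℤ) (hj : j < a) :
    (Y ⊗ G).ExactAt j := by
  obtain ⟨E, hV, hfl, ⟨e⟩⟩ := hY
  have hE : IsKFlatR E :=
    isKFlatR_of_bounded_above E b (fun i hi => hV i (Or.inr hi)) hfl
  -- `Y ⊗ G ≃ E ⊗ G`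
  obtain ⟨i1⟩ := nonempty_iso_of_inverts DerivedCategory.Q (W A) (DRing.tensorCxQ A G)
    (isInvertedBy_tensorCxQ G hG) e
  have i1' : DerivedCategory.Q.obj (E ⊗ G) ≅ DerivedCategory.Q.obj (Y ⊗ G) := i1
  rw [← exactAt_iff_of_iso_Q i1' j]
  -- `E ⊗ G ≃ E ⊗ S`
  haveI : QuasiIso (E ◁ g) := quasiIso_whiskerLeft_of_isKFlatR' E hE g
  rw [exactAt_iff_of_quasiIso (E ◁ g) j, exactAt_tensor_single_iff E S hS j]
  exact HomologicalComplex.ExactAt.of_isZero ((tensorRight (S.X 0)).map_isZero (hV j (Or.inl hj)))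

/-- if `X` is exact above `b` and `X ⊗ F` is exact in degrees `< a` for every K-flat resolution
`F` of a module, then `X` has tor amplitude in `[a, b]` -/
theorem hasTorAmplitudeIn_of_exactAt_tensor (X : DRing.Cx A) (a b : ℤ)
    (hb : ∀ i : ℤ, b < i → X.ExactAt i)
    (h : ∀ (N : ModuleCat.{u} A) (F : DRing.Cx A)
      (f : F ⟶ (CochainComplex.singleFunctor (ModuleCat.{u} A) 0).obj N), IsKFlatR F → QuasiIso f →
        ∀ j : ℤ, j < a → (X ⊗ F).ExactAt j) :
    DRing.HasTorAmplitudeIn A a b (DRing.toD X) := by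
  obtain ⟨P, u, hP, hPb, hu⟩ := exists_projective_resolution_map X b hb
  have hPfl : DRing.TermwiseFlat P := fun i => flat_of_projective_obj _ (hP i)
  have hPK : IsKFlatR P := isKFlatR_of_bounded_above P b hPb hPfl
  haveI : QuasiIso u := (DerivedCategory.isIso_Q_map_iff_quasiIso _ _).1 hu
  refine hasTorAmplitudeIn_of_iso (asIso (DerivedCategory.Q.map u)) ?_
  refine hasTorAmplitudeIn_of_tvl P b hPb hPfl a b ?_
    (fun j hj => HomologicalComplex.ExactAt.of_isZero (hPb j hj))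
  intro N j hj
  obtain ⟨F, f, hF, -, hf, -⟩ :=
    Groth.Agent.Lib.helper13.KRes.exists_isKFlatR_resolution
      ((CochainComplex.singleFunctor (ModuleCat.{u} A) 0).obj N)
  haveI : QuasiIso f := hf
  rw [← exactAt_single_tensor_iff]
  haveI : QuasiIso (f ▷ P) := quasiIso_whiskerRight_of_isKFlatR P hPK f
  rw [← exactAt_iff_of_quasiIso (f ▷ P) j]
  haveI : QuasiIso (F ◁ u) := quasiIso_whiskerLeft_of_isKFlatR' F hF u
  rw [exactAt_iff_of_quasiIso (F ◁ u) j]
  exact exactAt_of_iso (DTen.braidCx X F) j (h N F f hF hf j hj)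

section ChangeOfRings

variable {B : Type u} [CommRing B] (φ : A →+* B)

/-- `(K|_A ⊗_A F)` is exact at `j` iff `K ⊗_B (B ⊗_A F)` is -/
theorem exactAt_res_tensor_iff (K : DRing.Cx B) (F : DRing.Cx A) (j : ℤ) :
    (((resCx φ).obj K) ⊗ F).ExactAt j ↔ (K ⊗ (extCx φ).obj F).ExactAt j := by
  rw [exactAt_iff_isZero_homology, exactAt_iff_isZero_homology,
    ← isZero_homology_map_iff (ModuleCat.restrictScalars.{u} φ) (K ⊗ (extCx φ).obj F) j]
  exact ⟨fun h => h.of_iso ((HomologicalComplex.homologyFunctor _ _ j).mapIso (resTenExtIso φ K F)),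
    fun h => h.of_iso ((HomologicalComplex.homologyFunctor _ _ j).mapIso (resTenExtIso φ K F).symm)⟩

variable {A' B' : Type u} [CommRing A'] [CommRing B'] (α : A →+* A') (l : B →+* B')
  (ψ : A' →+* B') (hsq : l.comp φ = ψ.comp α)

/-- for a commutative square of rings, `B' ⊗_B (K ⊗_B (B ⊗_A F)) ≅
(B' ⊗_B K) ⊗_{B'} (B' ⊗_{A'} (A' ⊗_A F))` -/
noncomputable def extSquareIso (K : DRing.Cx B) (F : DRing.Cx A) :
    (extCx l).obj (K ⊗ (extCx φ).obj F) ≅
      ((extCx l).obj K) ⊗ (extCx ψ).obj ((extCx α).obj F) :=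
  DTen.extTenCxIso l K ((extCx φ).obj F) ≪≫
    whiskerLeftIso ((extCx l).obj K) ((DTen.extCompCx φ l).app F ≪≫
      eqToIso (by rw [hsq]) ≪≫ ((DTen.extCompCx α ψ).app F).symm)

end ChangeOfRings

end Groth.Agent.Lib.helper13.TorLow
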