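import Mathlib
import Groth.Agent.Lib.Helper13.TorLow3
import Groth.Agent.Lib.Helper23.ExtSc2

/-!
# Tor amplitude over `R` of a complex of `A`-modules and flat extensions of `A` (helper13)

`φ : R →+* A`, `l : A →+* B` flat, `K` a complex of `A`-modules.

* `hasTorAmplitudeIn_res_ext_of_flat`: if `K|_R` has tor amplitude in `[a, b]` then so has
  `(B ⊗_A K)|_R`.
* `hasTorAmplitudeIn_res_of_forall_res_ext`: conversely, for a jointly conservative family of flat
  maps `l i : A →+* B i`, if every `(B i ⊗_A K)|_R` has tor amplitude in `[a, b]` then so has `K|_R`.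
-/

set_option autoImplicit false
universe u
open CategoryTheory Limits HomologicalComplex MonoidalCategory

attribute [local instance] HasDerivedCategory.standard

namespace Groth.Agent.Lib.helper13.TorLow

open Groth.Agent.Lib.helper13.KFlat Groth.Agent.Lib.helper13.LTenCx
  Groth.Agent.Lib.helper23.TA Groth.Agent.Lib.helper13.ExtKFlat

variable {R A : Type u} [CommRing R] [CommRing A] (φ : R →+* A)

lemma exactAt_resCx_iff {S T : Type u} [CommRing S] [CommRing T] (g : S →+* T) (M : DRing.Cx T)
    (i : ℤ) : ((resCx g).obj M).ExactAt i ↔ M.ExactAt i := by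
  rw [exactAt_iff_isZero_homology, exactAt_iff_isZero_homology]
  exact isZero_homology_map_iff (ModuleCat.restrictScalars.{u} g) M i

section One

variable {B : Type u} [CommRing B] (l : A →+* B)

/-- `B ⊗_A (K ⊗_A (A ⊗_R F)) ≅ (B ⊗_A K) ⊗_B (B ⊗_R F)` -/
noncomputable def extTenExtIso' (K : DRing.Cx A) (F : DRing.Cx R) :
    (extCx l).obj (K ⊗ (extCx φ).obj F) ≅
      ((extCx l).obj K) ⊗ (extCx (l.comp φ)).obj F :=
  DTen.extTenCxIso l K ((extCx φ).obj F) ≪≫
    whiskerLeftIso ((extCx l).obj K) ((DTen.extCompCx φ l).app F)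

lemma exactAt_extCx_of_flat (hl : l.Flat) (M : DRing.Cx A) (j : ℤ) (h : M.ExactAt j) :
    ((extCx l).obj M).ExactAt j := by
  haveI := Groth.Agent.Lib.helper23.ExtSc.preservesFiniteLimits_extendScalars l hl
  haveI := Groth.Agent.Lib.helper23.ExtSc.preservesFiniteColimits_extendScalars l
  exact ShortComplex.Exact.map h (ModuleCat.extendScalars.{u, u, u} l)

theorem exactAt_res_ext_tensor_of_flat (hl : l.Flat) (K : DRing.Cx A) (F : DRing.Cx R) (j : ℤ)
    (h : (((resCx φ).obj K) ⊗ F).ExactAt j) :
    (((resCx (l.comp φ)).obj ((extCx l).obj K)) ⊗ F).ExactAt j := by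
  rw [exactAt_res_tensor_iff] at h ⊢
  exact exactAt_of_iso (extTenExtIso' φ l K F) j (exactAt_extCx_of_flat l hl _ j h)

/-- if `K|_R` has tor amplitude in `[a, b]` then so has `(B ⊗_A K)|_R`, for `A → B` flat -/
theorem hasTorAmplitudeIn_res_ext_of_flat (hl : l.Flat) (K : DRing.Cx A) (a b : ℤ)
    (h : DRing.HasTorAmplitudeIn R a b (DRing.toD ((resCx φ).obj K))) :
    DRing.HasTorAmplitudeIn R a b
      (DRing.toD ((resCx (l.comp φ)).obj ((extCx l).obj K))) := by
  refine hasTorAmplitudeIn_of_exactAt_tensor _ a b ?_ ?_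
  · intro i hi
    rw [exactAt_resCx_iff]
    exact exactAt_extCx_of_flat l hl K i
      ((exactAt_resCx_iff φ K i).1 (exactAt_of_hasTorAmplitudeIn _ a b h i (Or.inr hi)))
  · intro N F f hF hf j hj
    haveI : QuasiIso f := hf
    exact exactAt_res_ext_tensor_of_flat φ l hl K F j
      (exactAt_tensor_of_hasTorAmplitudeIn _ a b h F _ hF f
        (fun q hq => HomologicalComplex.isZero_single_obj_X (ComplexShape.up ℤ) 0 N q hq) j hj)

end One

section Family

variable {ι : Type*} {B : ι → Type u} [∀ i, CommRing (B i)] (l : ∀ i, A →+* B i)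
  (hflat : ∀ i, (l i).Flat)
  (hzero : ∀ M : ModuleCat.{u} A,
      (∀ i, Subsingleton ((ModuleCat.extendScalars.{u, u, u} (l i)).obj M)) → Subsingleton M)

include hflat hzero in
/-- for a jointly conservative family of flat maps `l i : A →+* B i`, if every `(B i ⊗_A K)|_R`
has tor amplitude in `[a, b]` then so has `K|_R` -/
theorem hasTorAmplitudeIn_res_of_forall_res_ext (K : DRing.Cx A) (a b : ℤ)
    (h : ∀ i, DRing.HasTorAmplitudeIn R a b
      (DRing.toD ((resCx ((l i).comp φ)).obj ((extCx (l i)).obj K)))) :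
    DRing.HasTorAmplitudeIn R a b (DRing.toD ((resCx φ).obj K)) := by
  refine hasTorAmplitudeIn_of_exactAt_tensor _ a b ?_ ?_
  · intro i hi
    rw [exactAt_resCx_iff]
    refine exactAt_of_exactAt_extend_family l hflat hzero K i (fun m => ?_)
    exact (exactAt_resCx_iff _ _ i).1 (exactAt_of_hasTorAmplitudeIn _ a b (h m) i (Or.inr hi))
  · intro N F f hF hf j hj
    haveI : QuasiIso f := hf
    rw [exactAt_res_tensor_iff]
    refine exactAt_of_exactAt_extend_family l hflat hzero _ j (fun m => ?_)
    refine exactAt_of_iso (extTenExtIso' φ (l m) K F).symm j ?_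
    rw [← exactAt_res_tensor_iff]
    exact exactAt_tensor_of_hasTorAmplitudeIn _ a b (h m) F _ hF f
      (fun q hq => HomologicalComplex.isZero_single_obj_X (ComplexShape.up ℤ) 0 N q hq) j hj

end Family

end Groth.Agent.Lib.helper13.TorLow
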