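import Mathlib
import Groth.Prelude.Def_DRing2
import Groth.Prelude.Def_DDual2
import Groth.Agent.Lib.Helper23.LBCComp
import Groth.Agent.Lib.Helper23.FBCR1
import Groth.Agent.Lib.Helper23.TA13
import Groth.Agent.Lib.Helper23.TA11
import Groth.Agent.Lib.Helper13.TorLow7
import Groth.Agent.Lib.Helper13.RKF2

/-!
# Tor-independent base change of tor amplitude of a module (helper13)

Pushout square of rings `P → E`, `P → K`, `C = K ⊗_P E`.  If `M` is an `E`-module which is flat over
`P`, `E` is flat over `P` and `M` has tor amplitude in `[-n, 0]` over `E`, then `C ⊗_E M` has tor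
amplitude in `[-n, 0]` over `C`.
-/

set_option autoImplicit false
universe u
open CategoryTheory CategoryTheory.Limits TensorProduct

attribute [local instance] HasDerivedCategory.standard

namespace Groth.Agent.Lib.helper13.DiagTor

open Groth.Agent.Lib.helper23.TA Groth.Agent.Lib.helper23.LBCComp Groth.Agent.Lib.helper23.FBCR
  Groth.Agent.Lib.helper13.TorLow Groth.Agent.Lib.helper13.ExtKFlat

section

variable {P K E C : Type u} [CommRing P] [CommRing K] [CommRing E] [CommRing C]
  [Algebra P K] [Algebra P E] [Algebra E C] [Algebra K C] [Algebra P C]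
  [IsScalarTower P E C] [IsScalarTower P K C] [Algebra.IsPushout P K E C]

/-- a complex concentrated in degree `0` on a flat module is termwise flat -/
lemma termwiseFlat_single {A : Type u} [CommRing A] (M : ModuleCat.{u} A) (hM : Module.Flat A M) :
    DRing.TermwiseFlat ((CochainComplex.singleFunctor (ModuleCat.{u} A) 0).obj M) := by
  intro i
  by_cases hi : i = 0
  · subst hi
    exact (FlatP A).prop_of_iso (HomologicalComplex.singleObjXSelf (ComplexShape.up ℤ) 0 M).symm hM
  · exact flatP_of_isZero _ (HomologicalComplex.isZero_single_obj_X (ComplexShape.up ℤ) 0 M i hi)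

lemma vanishesAbove_single {A : Type u} [CommRing A] (M : ModuleCat.{u} A) :
    DRing.VanishesAbove ((CochainComplex.singleFunctor (ModuleCat.{u} A) 0).obj M) 0 :=
  fun i hi => HomologicalComplex.isZero_single_obj_X (ComplexShape.up ℤ) 0 M i (by omega)

/-- restriction of scalars of a module placed in degree zero, in the derived category -/
noncomputable def restrictDSingleIso {A B : Type u} [CommRing A] [CommRing B] [Algebra A B]
    (M : ModuleCat.{u} B) :
    (DRing.restrictD (algebraMap A B)).obj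
        ((DerivedCategory.singleFunctor (ModuleCat.{u} B) 0).obj M) ≅
      DerivedCategory.Q.obj ((CochainComplex.singleFunctor (ModuleCat.{u} A) 0).obj
        ((ModuleCat.restrictScalars.{u} (algebraMap A B)).obj M)) :=
  (DRing.restrictD (algebraMap A B)).mapIso
      ((DerivedCategory.singleFunctorIsoCompQ (ModuleCat.{u} B) 0).app M) ≪≫
    restrictDQIso ((CochainComplex.singleFunctor (ModuleCat.{u} B) 0).obj M) ≪≫
    DerivedCategory.Q.mapIso
      ((HomologicalComplex.singleMapHomologicalComplex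
        (ModuleCat.restrictScalars.{u} (algebraMap A B)) (ComplexShape.up ℤ) 0).app M)

include K in
/-- **Tor independence**: the termwise base change to `C` of a bounded above complex of `E`-modules,
flat over `P`, resolving an `E`-module flat over `P`, is exact outside degree `0`. -/
theorem exactAt_extend_of_pushout (F : DRing.Cx E) (c : ℤ) (hc : DRing.VanishesAbove F c)
    (hfl : DRing.TermwiseFlat ((resCx (algebraMap P E)).obj F))
    (M : ModuleCat.{u} E)
    (hM : Module.Flat P ((ModuleCat.restrictScalars.{u} (algebraMap P E)).obj M))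
    (e : DerivedCategory.Q.obj F ≅ (DerivedCategory.singleFunctor (ModuleCat.{u} E) 0).obj M)
    (j : ℤ) (hj : j ≠ 0) : ((extCx (algebraMap E C)).obj F).ExactAt j := by
  haveI : DRing.HasLBaseChange (algebraMap P K) := Groth.Agent.Lib.helper13.RKF.hasLBaseChange _
  let F₁ : DRing.Cx P := (resCx (algebraMap P E)).obj F
  let M₁ : ModuleCat.{u} P := (ModuleCat.restrictScalars.{u} (algebraMap P E)).obj M
  let S₁ : DRing.Cx P := (CochainComplex.singleFunctor (ModuleCat.{u} P) 0).obj M₁
  have hF₁b : DRing.VanishesAbove F₁ c := fun i hi =>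
    (ModuleCat.restrictScalars.{u} (algebraMap P E)).map_isZero (hc i hi)
  -- `F₁ ≅ S₁` in `D(P)`
  let i1 : DerivedCategory.Q.obj F₁ ≅ DerivedCategory.Q.obj S₁ :=
    (restrictDQIso (A := P) (B := E) F).symm ≪≫
      (DRing.restrictD (algebraMap P E)).mapIso e ≪≫ restrictDSingleIso (A := P) (B := E) M
  obtain ⟨e1⟩ := lbc_iso (algebraMap P K) F₁ c hF₁b hfl
  obtain ⟨e2⟩ := lbc_iso (algebraMap P K) S₁ 0 (vanishesAbove_single M₁) (termwiseFlat_single M₁ hM)
  let i2 : DerivedCategory.Q.obj ((extCx (algebraMap P K)).obj F₁) ≅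
      DerivedCategory.Q.obj ((extCx (algebraMap P K)).obj S₁) :=
    e1.symm ≪≫ (DRing.LBaseChange (algebraMap P K)).mapIso i1 ≪≫ e2
  -- `ext S₁` is exact at `j`
  have h1 : ((extCx (algebraMap P K)).obj S₁).ExactAt j :=
    HomologicalComplex.ExactAt.of_isZero
      ((ModuleCat.extendScalars.{u, u, u} (algebraMap P K)).map_isZero
        (HomologicalComplex.isZero_single_obj_X (ComplexShape.up ℤ) 0 M₁ j hj))
  have h2 : ((extCx (algebraMap P K)).obj F₁).ExactAt j := (exactAt_iff_of_iso_Q i2 j).2 h1
  -- base change square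
  let e3 : (extCx (algebraMap P K)).obj F₁ ≅
      (resCx (algebraMap K C)).obj ((extCx (algebraMap E C)).obj F) :=
    (NatIso.mapHomologicalComplex (γ₀ P K E C) (ComplexShape.up ℤ)).app F
  have h3 : ((resCx (algebraMap K C)).obj ((extCx (algebraMap E C)).obj F)).ExactAt j :=
    exactAt_of_iso e3 j h2
  exact (exactAt_resCx_iff (algebraMap K C) _ j).1 h3

end

section RightExact

variable {E C : Type u} [CommRing E] [CommRing C] (φ : E →+* C)

/-- right exactness of extension of scalars: `H⁰` of the termwise extension of a complex vanishing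
in degree `1` -/
theorem nonempty_homology_extend_iso (F : DRing.Cx E) (h1 : IsZero (F.X 1)) :
    Nonempty (((extCx φ).obj F).homology 0 ≅
      (ModuleCat.extendScalars.{u, u, u} φ).obj (F.homology 0)) := by
  let G := ModuleCat.extendScalars.{u, u, u} φ
  let F₂ : DRing.Cx C := (extCx φ).obj F
  have hd : F.d 0 1 = 0 := h1.eq_of_tgt _ _
  have hd₂ : F₂.d 0 1 = 0 := by
    show G.map (F.d 0 1) = 0
    rw [hd, G.map_zero]
  let a1 : F.homology 0 ≅ F.opcycles 0 := F.isoHomologyι 0 1 (by simp) hd
  let a2 : F₂.homology 0 ≅ F₂.opcycles 0 := F₂.isoHomologyι 0 1 (by simp) hd₂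
  haveI : PreservesColimitsOfSize.{0, 0} G :=
    (ModuleCat.extendRestrictScalarsAdj.{u, u, u} φ).leftAdjoint_preservesColimits
  let c₁ : CokernelCofork (F.d (-1) 0) :=
    CokernelCofork.ofπ (F.pOpcycles 0) (F.d_pOpcycles (-1) 0)
  have hc₁ : IsColimit c₁ := F.opcyclesIsCokernel (-1) 0 (by simp)
  have hc₁' : IsColimit (c₁.map G) := CokernelCofork.mapIsColimit c₁ hc₁ G
  let c₂ : CokernelCofork (F₂.d (-1) 0) :=
    CokernelCofork.ofπ (F₂.pOpcycles 0) (F₂.d_pOpcycles (-1) 0)
  have hc₂ : IsColimit c₂ := F₂.opcyclesIsCokernel (-1) 0 (by simp)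
  let a3 : G.obj (F.opcycles 0) ≅ F₂.opcycles 0 :=
    IsColimit.coconePointUniqueUpToIso hc₁' hc₂
  exact ⟨a2 ≪≫ a3.symm ≪≫ G.mapIso a1.symm⟩

end RightExact

section Generic

variable {E C : Type u} [CommRing E] [CommRing C] (φ : E →+* C)

/-- generic form: if the termwise extension of a flat resolution `F` of `M` (in degrees `[-n, 0]`)
is exact outside degree `0`, then `C ⊗_E M` has tor amplitude in `[-n, 0]`. -/
theorem hasTorAmplitudeIn_extend_of_exact (n : ℕ) (M : ModuleCat.{u} E) (F : DRing.Cx E)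
    (hV : DRing.VanishesOutside F (-(n : ℤ)) 0) (hfl : DRing.TermwiseFlat F)
    (e : DerivedCategory.Q.obj F ≅ (DerivedCategory.singleFunctor (ModuleCat.{u} E) 0).obj M)
    (hex : ∀ j : ℤ, j ≠ 0 → ((extCx φ).obj F).ExactAt j) :
    DRing.HasTorAmplitudeIn C (-(n : ℤ)) 0
      ((DerivedCategory.singleFunctor (ModuleCat.{u} C) 0).obj
        ((ModuleCat.extendScalars.{u, u, u} φ).obj M)) := by
  let F₂ : DRing.Cx C := (extCx φ).obj F
  -- `F₂` is concentrated in degree `0`
  have hV₂ : DRing.VanishesOutside F₂ (-(n : ℤ)) 0 := fun i hi =>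
    (ModuleCat.extendScalars.{u, u, u} φ).map_isZero (hV i hi)
  have hfl₂ : DRing.TermwiseFlat F₂ := termwiseFlat_extend φ F hfl
  haveI : (DerivedCategory.Q.obj F₂).IsGE 0 := by
    rw [DerivedCategory.isGE_Q_obj_iff, CochainComplex.isGE_iff]
    intro i hi
    exact hex i (by omega)
  haveI : (DerivedCategory.Q.obj F₂).IsLE 0 := by
    rw [DerivedCategory.isLE_Q_obj_iff, CochainComplex.isLE_iff]
    intro i hi
    exact hex i (by omega)
  obtain ⟨Y, ⟨eY⟩⟩ := DerivedCategory.exists_iso_singleFunctor_obj_of_isGE_of_isLE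
    (DerivedCategory.Q.obj F₂) 0
  -- identify `Y`
  obtain ⟨a⟩ := nonempty_homology_extend_iso φ F (hV 1 (Or.inr (by omega)))
  let b1 : Y ≅ F₂.homology 0 :=
    ((DerivedCategory.singleFunctorCompHomologyFunctorIso (ModuleCat.{u} C) 0).app Y).symm ≪≫
      (DerivedCategory.homologyFunctor (ModuleCat.{u} C) 0).mapIso eY.symm ≪≫
      (DerivedCategory.homologyFunctorFactors (ModuleCat.{u} C) 0).app F₂
  let b2 : F.homology 0 ≅ M :=
    ((DerivedCategory.homologyFunctorFactors (ModuleCat.{u} E) 0).app F).symm ≪≫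
      (DerivedCategory.homologyFunctor (ModuleCat.{u} E) 0).mapIso e ≪≫
      (DerivedCategory.singleFunctorCompHomologyFunctorIso (ModuleCat.{u} E) 0).app M
  let b : Y ≅ (ModuleCat.extendScalars.{u, u, u} φ).obj M :=
    b1 ≪≫ a ≪≫ (ModuleCat.extendScalars.{u, u, u} φ).mapIso b2
  exact ⟨F₂, hV₂, hfl₂, ⟨eY ≪≫ (DerivedCategory.singleFunctor (ModuleCat.{u} C) 0).mapIso b⟩⟩

/-- flat base change of the tor amplitude of a module -/
theorem hasTorAmplitudeIn_extend_of_flat (hφ : φ.Flat) (n : ℕ) (M : ModuleCat.{u} E)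
    (h : DRing.HasTorAmplitudeIn E (-(n : ℤ)) 0
      ((DerivedCategory.singleFunctor (ModuleCat.{u} E) 0).obj M)) :
    DRing.HasTorAmplitudeIn C (-(n : ℤ)) 0
      ((DerivedCategory.singleFunctor (ModuleCat.{u} C) 0).obj
        ((ModuleCat.extendScalars.{u, u, u} φ).obj M)) := by
  obtain ⟨F, hV, hfl, ⟨e⟩⟩ := h
  refine hasTorAmplitudeIn_extend_of_exact φ n M F hV hfl e (fun j hj => ?_)
  refine exactAt_extCx_of_flat φ hφ F j ?_
  let e' : DerivedCategory.Q.obj F ≅
      DerivedCategory.Q.obj ((CochainComplex.singleFunctor (ModuleCat.{u} E) 0).obj M) :=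
    e ≪≫ (DerivedCategory.singleFunctorIsoCompQ (ModuleCat.{u} E) 0).app M
  rw [exactAt_iff_of_iso_Q e' j]
  exact HomologicalComplex.ExactAt.of_isZero
    (HomologicalComplex.isZero_single_obj_X (ComplexShape.up ℤ) 0 M j hj)

end Generic

section Main

variable {P K E C : Type u} [CommRing P] [CommRing K] [CommRing E] [CommRing C]
  [Algebra P K] [Algebra P E] [Algebra E C] [Algebra K C] [Algebra P C]
  [IsScalarTower P E C] [IsScalarTower P K C] [Algebra.IsPushout P K E C]

include K in
/-- **Tor-independent base change of the tor amplitude of a module.** -/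
theorem hasTorAmplitudeIn_extend_of_pushout [Module.Flat P E] (n : ℕ) (M : ModuleCat.{u} E)
    (hM : Module.Flat P ((ModuleCat.restrictScalars.{u} (algebraMap P E)).obj M))
    (h : DRing.HasTorAmplitudeIn E (-(n : ℤ)) 0
      ((DerivedCategory.singleFunctor (ModuleCat.{u} E) 0).obj M)) :
    DRing.HasTorAmplitudeIn C (-(n : ℤ)) 0
      ((DerivedCategory.singleFunctor (ModuleCat.{u} C) 0).obj
        ((ModuleCat.extendScalars.{u, u, u} (algebraMap E C)).obj M)) := by
  obtain ⟨F, hV, hfl, ⟨e⟩⟩ := h
  have hc : DRing.VanishesAbove F 0 := fun i hi => hV i (Or.inr hi)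
  have hflP : DRing.TermwiseFlat ((resCx (algebraMap P E)).obj F) := by
    intro i
    letI : Module P (F.X i) := Module.compHom (F.X i) (algebraMap P E)
    haveI : IsScalarTower P E (F.X i) := IsScalarTower.of_algebraMap_smul (fun _ _ => rfl)
    haveI := hfl i
    exact Module.Flat.trans P E (F.X i)
  exact hasTorAmplitudeIn_extend_of_exact (algebraMap E C) n M F hV hfl e (fun j hj =>
    exactAt_extend_of_pushout (K := K) F 0 hc hflP M hM e j hj)

end Main

end Groth.Agent.Lib.helper13.DiagTor
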