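import Mathlib
import Groth.Agent.Lib.Helper13.DiagTor1
import Groth.Agent.Lib.Helper13.BiTriv3

/-!
# Base change of a diagonal of finite tor dimension (helper13)

`B` flat over `A`, the diagonal `B ⊗[A] B → B` of tor amplitude `[-n, 0]`, `K` a `B`-algebra.  Then the
`K ⊗[A] B`-module `K` (via `x ⊗ b ↦ x * b`) has tor amplitude `[-n, 0]`.
-/

set_option autoImplicit false
universe u
open CategoryTheory CategoryTheory.Limits TensorProduct

attribute [local instance] HasDerivedCategory.standard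

namespace Groth.Agent.Lib.helper13.DiagTor

section LemmaA

variable {A B : Type u} [CommRing A] [CommRing B] [Algebra A B]
variable (K : Type u) [CommRing K] [Algebra A K] [Algebra B K] [IsScalarTower A B K]

/-- the algebra structure of `K ⊗[A] B` over `B ⊗[A] B` -/
@[reducible] noncomputable def diagBaseAlgebra : Algebra (B ⊗[A] B) (K ⊗[A] B) :=
  (Algebra.TensorProduct.map (IsScalarTower.toAlgHom A B K) (AlgHom.id A B)).toRingHom.toAlgebra

attribute [local instance] diagBaseAlgebra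

lemma diagBase_algebraMap_tmul (x y : B) :
    algebraMap (B ⊗[A] B) (K ⊗[A] B) (x ⊗ₜ[A] y) = algebraMap B K x ⊗ₜ[A] y := rfl

instance : IsScalarTower B (B ⊗[A] B) (K ⊗[A] B) :=
  IsScalarTower.of_algebraMap_eq (fun b => by
    rw [Algebra.TensorProduct.algebraMap_apply, Algebra.TensorProduct.algebraMap_apply]
    rfl)

instance isPushout_diagBase : Algebra.IsPushout B K (B ⊗[A] B) (K ⊗[A] B) :=
  Algebra.IsPushout.tensorProduct_tensorProduct A B B K (by
    ext b
    show algebraMap (B ⊗[A] B) (K ⊗[A] B) ((1 : B) ⊗ₜ[A] b) = (1 : K) ⊗ₜ[A] b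
    rw [diagBase_algebraMap_tmul, map_one])

variable {K}
variable [Algebra (B ⊗[A] B) B] (hmul : ∀ x y : B, algebraMap (B ⊗[A] B) B (x ⊗ₜ[A] y) = x * y)

include hmul in
lemma flat_restrict_diag :
    Module.Flat B ((ModuleCat.restrictScalars.{u} (algebraMap B (B ⊗[A] B))).obj
      (ModuleCat.of (B ⊗[A] B) B)) := by
  let l : B ≃ₗ[B] ((ModuleCat.restrictScalars.{u} (algebraMap B (B ⊗[A] B))).obj
      (ModuleCat.of (B ⊗[A] B) B)) :=
    { toFun := fun a => a
      invFun := fun a => a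
      left_inv := fun _ => rfl
      right_inv := fun _ => rfl
      map_add' := fun _ _ => rfl
      map_smul' := fun r a => by
        change r • a = (algebraMap B (B ⊗[A] B) r) • a
        rw [Algebra.smul_def (algebraMap B (B ⊗[A] B) r) a,
          Algebra.TensorProduct.algebraMap_apply, hmul]
        simp }
  exact Module.Flat.of_linearEquiv l.symm

include hmul in
/-- **Lemma A**: base change of the diagonal along `B → K`. -/
theorem hasTorAmplitudeIn_diag_extend [Module.Flat A B] (n : ℕ)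
    (h : DRing.HasTorAmplitudeIn (B ⊗[A] B) (-(n : ℤ)) 0
      ((DerivedCategory.singleFunctor (ModuleCat.{u} (B ⊗[A] B)) 0).obj
        (ModuleCat.of (B ⊗[A] B) B))) :
    DRing.HasTorAmplitudeIn (K ⊗[A] B) (-(n : ℤ)) 0
      ((DerivedCategory.singleFunctor (ModuleCat.{u} (K ⊗[A] B)) 0).obj
        ((ModuleCat.extendScalars.{u, u, u} (algebraMap (B ⊗[A] B) (K ⊗[A] B))).obj
          (ModuleCat.of (B ⊗[A] B) B))) :=
  hasTorAmplitudeIn_extend_of_pushout (P := B) (K := K) (E := B ⊗[A] B) (C := K ⊗[A] B) n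
    (ModuleCat.of (B ⊗[A] B) B) (flat_restrict_diag hmul) h

variable [Algebra (K ⊗[A] B) K]
  (hK : ∀ (x : K) (b : B), algebraMap (K ⊗[A] B) K (x ⊗ₜ[A] b) = x * algebraMap B K b)

include hmul hK in
lemma algebraMap_diag_comm (e : B ⊗[A] B) :
    algebraMap B K (algebraMap (B ⊗[A] B) B e) =
      algebraMap (K ⊗[A] B) K (algebraMap (B ⊗[A] B) (K ⊗[A] B) e) := by
  induction e with
  | zero => simp
  | tmul x y => rw [hmul, diagBase_algebraMap_tmul, hK, map_mul]
  | add x y hx hy => simp only [map_add, hx, hy]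

include hmul in
lemma isScalarTower_diag : IsScalarTower B (B ⊗[A] B) B :=
  IsScalarTower.of_algebraMap_eq (fun b => by
    rw [Algebra.TensorProduct.algebraMap_apply, hmul]
    simp)

include hmul hK in
/-- **Lemma A'**: `(K ⊗[A] B) ⊗_{B ⊗[A] B} B ≃ K`. -/
theorem nonempty_extend_diag_equiv :
    Nonempty (((K ⊗[A] B) ⊗[B ⊗[A] B] B) ≃ₗ[K ⊗[A] B] K) := by
  haveI := isScalarTower_diag (A := A) (B := B) hmul
  letI : Module (B ⊗[A] B) K := Module.compHom K (algebraMap (B ⊗[A] B) (K ⊗[A] B))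
  haveI : IsScalarTower (B ⊗[A] B) (K ⊗[A] B) K :=
    IsScalarTower.of_algebraMap_smul (fun _ _ => rfl)
  let χ : B →ₗ[B ⊗[A] B] K :=
    { toFun := fun b => algebraMap B K b
      map_add' := fun x y => map_add _ x y
      map_smul' := fun e x => by
        change algebraMap B K (e • x) = (algebraMap (B ⊗[A] B) (K ⊗[A] B) e) • algebraMap B K x
        rw [Algebra.smul_def, Algebra.smul_def, map_mul, algebraMap_diag_comm hmul hK] }
  let f : ((K ⊗[A] B) ⊗[B ⊗[A] B] B) →ₗ[K ⊗[A] B] K := LinearMap.liftBaseChange (K ⊗[A] B) χ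
  let g : ((K ⊗[A] B) ⊗[B ⊗[A] B] B) ≃ₗ[K] K :=
    (Algebra.IsPushout.cancelBaseChange B K (B ⊗[A] B) (K ⊗[A] B) B).trans
      (TensorProduct.AlgebraTensorModule.rid B K K)
  have h1 : ∀ y : K, f (g.symm y) = y := by
    intro y
    have : g.symm y = algebraMap K (K ⊗[A] B) y ⊗ₜ[B ⊗[A] B] (1 : B) := by
      simp [g]
    rw [this, LinearMap.liftBaseChange_tmul, Algebra.smul_def,
      Algebra.TensorProduct.algebraMap_apply, hK]
    simp [χ]
  have h2 : ∀ z, f z = g z := by
    intro z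
    obtain ⟨y, rfl⟩ := g.symm.surjective z
    rw [h1, LinearEquiv.apply_symm_apply]
  have hbij : Function.Bijective f := by
    have : (f : _ → K) = g := funext h2
    rw [this]
    exact g.bijective
  exact ⟨LinearEquiv.ofBijective f hbij⟩

include hmul hK in
/-- **Lemma A + A'**: the `K ⊗[A] B`-module `K` has tor amplitude in `[-n, 0]`. -/
theorem hasTorAmplitudeIn_diag_baseChange [Module.Flat A B] (n : ℕ)
    (h : DRing.HasTorAmplitudeIn (B ⊗[A] B) (-(n : ℤ)) 0
      ((DerivedCategory.singleFunctor (ModuleCat.{u} (B ⊗[A] B)) 0).obj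
        (ModuleCat.of (B ⊗[A] B) B))) :
    DRing.HasTorAmplitudeIn (K ⊗[A] B) (-(n : ℤ)) 0
      ((DerivedCategory.singleFunctor (ModuleCat.{u} (K ⊗[A] B)) 0).obj
        (ModuleCat.of (K ⊗[A] B) K)) := by
  obtain ⟨l⟩ := nonempty_extend_diag_equiv (A := A) (B := B) (K := K) hmul hK
  let l' : ((ModuleCat.extendScalars.{u, u, u} (algebraMap (B ⊗[A] B) (K ⊗[A] B))).obj
      (ModuleCat.of (B ⊗[A] B) B)) ≃ₗ[K ⊗[A] B] K :=
    (Groth.Agent.Lib.helper13.BiTriv.extendObjEquiv (A := B ⊗[A] B) (B := K ⊗[A] B)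
      (ModuleCat.of (B ⊗[A] B) B)).trans l
  exact Groth.Agent.Lib.helper23.TA.hasTorAmplitudeIn_of_iso
    ((DerivedCategory.singleFunctor (ModuleCat.{u} (K ⊗[A] B)) 0).mapIso l'.toModuleIso)
    (hasTorAmplitudeIn_diag_extend hmul n h)

end LemmaA

end Groth.Agent.Lib.helper13.DiagTor
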