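import Mathlib
import Groth.Prelude.Def_DRing2
import Groth.Prelude.Def_PBC
import Groth.Agent.Lib.Helper23.TA11
import Groth.Agent.Lib.Helper24.FlatOverIndEtale

/-!
# Tor amplitude over ind-étale (weakly étale) ring maps (helper13)

* `hasTorAmplitudeIn_of_flat_opcycles`: a bounded above complex `F` of flat modules, exact in
  degrees `< a`, with flat `a`-th opcycles, has tor amplitude in `[a, b]`.
* `hasTorAmplitudeIn_restrict_of_flat`: restriction of scalars along a flat ring map preserves
  tor amplitude.
* `hasTorAmplitudeIn_of_restrict_of_isIndEtale`: for `A → B` ind-étale and flat, an object `K` of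
  `D(B)` whose restriction to `A` has tor amplitude in `[a, b]` has tor amplitude in `[a, b]`.
* `hasTorAmplitudeIn_restrict_iff_of_isIndEtale`.
-/

set_option autoImplicit false
universe u
open CategoryTheory CategoryTheory.Limits MonoidalCategory

attribute [local instance] HasDerivedCategory.standard

namespace Groth.Agent.Lib.helper13.TorLow

open Groth.Agent.Lib.helper23.TA

section

variable {A : Type u} [CommRing A]

/-- a bounded above complex of flat modules, exact below `a`, with flat `a`-th opcycles, has tor
amplitude in `[a, b]` -/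
theorem hasTorAmplitudeIn_of_flat_opcycles (F : DRing.Cx A) (a b : ℤ)
    (hc : DRing.VanishesAbove F b) (hfl : DRing.TermwiseFlat F)
    (hex : ∀ i : ℤ, i < a → F.ExactAt i) (hop : Module.Flat A (F.opcycles a)) :
    DRing.HasTorAmplitudeIn A a b (DerivedCategory.Q.obj F) := by
  haveI : F.IsGE a := (CochainComplex.isGE_iff F a).2 hex
  haveI : IsIso (DerivedCategory.Q.map (F.πTruncGE a)) :=
    (DerivedCategory.isIso_Q_map_iff_quasiIso _ _).2 inferInstance
  refine ⟨F.truncGE a, ?_, ?_, ⟨(asIso (DerivedCategory.Q.map (F.πTruncGE a))).symm⟩⟩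
  · intro i hi
    rcases lt_trichotomy i a with hi' | rfl | hi'
    · exact CochainComplex.isZero_of_isStrictlyGE _ a i hi'
    · have h0 : IsZero (F.X i) := hc i (hi.elim (fun h => absurd h (lt_irrefl _)) id)
      haveI : Epi (F.pOpcycles i) := inferInstance
      exact (IsZero.of_epi (F.pOpcycles i) h0).of_iso (F.truncGEXIsoOpcycles i)
    · exact (hc i (hi.elim (fun h => absurd h (by omega)) id)).of_iso (F.truncGEXIso a i hi')
  · intro i
    rcases lt_trichotomy i a with hi | rfl | hi
    · exact flatP_of_isZero _ (CochainComplex.isZero_of_isStrictlyGE _ a i hi)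
    · exact (FlatP A).prop_of_iso (F.truncGEXIsoOpcycles i).symm hop
    · exact (FlatP A).prop_of_iso (F.truncGEXIso a i hi).symm (hfl i)

/-- the `a`-th opcycles of a bounded above complex of flat modules representing an object of tor
amplitude in `[a, b]` are flat -/
theorem flat_opcycles_of_rep {a b : ℤ} {K : Dual.D A} (h : DRing.HasTorAmplitudeIn A a b K)
    (F : DRing.Cx A) (c : ℤ) (hc : DRing.VanishesAbove F c) (hfl : DRing.TermwiseFlat F)
    (e : DerivedCategory.Q.obj F ≅ K) : Module.Flat A (F.opcycles a) := by
  have htvl := tvl_of_rep h F c hc hfl e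
  have hop : F.opcycles a ≅ ModuleCat.of A ((F.X a) ⧸ LinearMap.range (F.d (a - 1) a).hom) :=
    IsColimit.coconePointUniqueUpToIso (F.opcyclesIsCokernel (a - 1) a (by simp))
      (cokernelIsCokernel _) ≪≫ ModuleCat.cokernelIsoRangeQuotient _
  exact (FlatP A).prop_of_iso hop.symm (flat_quotient_of_tvl F hfl a htvl)

end

section ChangeOfRings

variable {A B : Type u} [CommRing A] [CommRing B] [Algebra A B]

/-- restriction of scalars along a flat ring map preserves tor amplitude -/
theorem hasTorAmplitudeIn_restrict_of_flat [Module.Flat A B] (K : Dual.D B) (a b : ℤ)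
    (hK : DRing.HasTorAmplitudeIn B a b K) :
    DRing.HasTorAmplitudeIn A a b ((DRing.restrictD (algebraMap A B)).obj K) := by
  have h0 : DRing.HasTorAmplitudeIn A (-((0 : ℕ) : ℤ)) 0 (Dual.inD A B) := by
    have := hasTorAmplitudeIn_single_flat (ModuleCat.of A B) (inferInstance : Module.Flat A B) 0
    simpa using this
  have := hasTorAmplitudeIn_restrict 0 h0 K a b hK
  simpa using this

/-- a `B`-module flat over `A` is flat over `B`, for `A → B` ind-étale (bundled form) -/
lemma flat_of_flat_restrict (hind : EtPBC.IsIndEtale A B) (M : ModuleCat.{u} B)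
    (h : Module.Flat A ((ModuleCat.restrictScalars.{u} (algebraMap A B)).obj M)) :
    Module.Flat B M := by
  letI : Module A M := Module.compHom M (algebraMap A B)
  haveI : IsScalarTower A B M := IsScalarTower.of_algebraMap_smul (fun r x => rfl)
  haveI : Module.Flat A M := h
  exact Groth.Agent.Lib.Helper24.FlatOverIndEtale.flat_of_isIndEtale hind M

/-- for `A → B` ind-étale and flat, a complex `K` of `B`-modules whose restriction to `A` has tor
amplitude in `[a, b]` has tor amplitude in `[a, b]` -/
theorem hasTorAmplitudeIn_of_restrict_of_isIndEtale (hind : EtPBC.IsIndEtale A B)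
    [Module.Flat A B] (K : Dual.D B) (a b : ℤ)
    (h : DRing.HasTorAmplitudeIn A a b ((DRing.restrictD (algebraMap A B)).obj K)) :
    DRing.HasTorAmplitudeIn B a b K := by
  set res := ModuleCat.restrictScalars.{u} (algebraMap A B) with hres
  have eK : DerivedCategory.Q.obj (DerivedCategory.Q.objPreimage K) ≅ K :=
    DerivedCategory.Q.objObjPreimageIso K
  set K₀ : DRing.Cx B := DerivedCategory.Q.objPreimage K with hK₀
  -- `K₀|_A` has tor amplitude in `[a, b]`
  have h1 : DRing.HasTorAmplitudeIn A a b (DerivedCategory.Q.obj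
      ((res.mapHomologicalComplex (ComplexShape.up ℤ)).obj K₀)) :=
    hasTorAmplitudeIn_of_iso ((DRing.restrictD (algebraMap A B)).mapIso eK.symm ≪≫
      restrictDQIso K₀) h
  have hexact : ∀ (M : DRing.Cx B) (i : ℤ),
      ((res.mapHomologicalComplex (ComplexShape.up ℤ)).obj M).ExactAt i → M.ExactAt i :=
    fun M i hM => (ShortComplex.exact_map_iff_of_faithful (M.sc i) res).1 hM
  have hb : ∀ i : ℤ, b < i → K₀.ExactAt i := fun i hi =>
    hexact K₀ i (exactAt_of_hasTorAmplitudeIn _ a b h1 i (Or.inr hi))
  obtain ⟨P, u, hP, hPb, hu⟩ := exists_projective_resolution_map K₀ b hb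
  have hPfl : DRing.TermwiseFlat P := fun i => flat_of_projective_obj _ (hP i)
  -- the restriction of `P`
  have hRb : DRing.VanishesAbove ((res.mapHomologicalComplex (ComplexShape.up ℤ)).obj P) b :=
    fun i hi => res.map_isZero (hPb i hi)
  have hRfl : DRing.TermwiseFlat ((res.mapHomologicalComplex (ComplexShape.up ℤ)).obj P) := by
    intro i
    haveI := hPfl i
    letI : Module A (P.X i) := Module.compHom (P.X i) (algebraMap A B)
    haveI : IsScalarTower A B (P.X i) := IsScalarTower.of_algebraMap_smul (fun r x => rfl)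
    exact (Module.Flat.trans A B (P.X i) : Module.Flat A (P.X i))
  have eR : DerivedCategory.Q.obj ((res.mapHomologicalComplex (ComplexShape.up ℤ)).obj P) ≅
      DerivedCategory.Q.obj ((res.mapHomologicalComplex (ComplexShape.up ℤ)).obj K₀) :=
    (restrictDQIso P).symm ≪≫ (DRing.restrictD (algebraMap A B)).mapIso
      (asIso (DerivedCategory.Q.map u)) ≪≫ restrictDQIso K₀
  have htvl := tvl_of_rep h1 _ b hRb hRfl eR
  have hexP : ∀ i : ℤ, i < a → P.ExactAt i := fun i hi =>
    hexact P i (exactAt_of_tvl _ a htvl i hi)
  have hopR := flat_opcycles_of_rep h1 _ b hRb hRfl eR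
  -- the opcycles of the restriction are the restriction of the opcycles
  have eop : ((res.mapHomologicalComplex (ComplexShape.up ℤ)).obj P).opcycles a ≅
      res.obj (P.opcycles a) := (P.sc a).mapOpcyclesIso res
  have hop : Module.Flat B (P.opcycles a) :=
    flat_of_flat_restrict hind _ ((FlatP A).prop_of_iso eop hopR)
  exact hasTorAmplitudeIn_of_iso (asIso (DerivedCategory.Q.map u) ≪≫ eK)
    (hasTorAmplitudeIn_of_flat_opcycles P a b hPb hPfl hexP hop)

theorem hasTorAmplitudeIn_restrict_iff_of_isIndEtale (hind : EtPBC.IsIndEtale A B)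
    [Module.Flat A B] (K : Dual.D B) (a b : ℤ) :
    DRing.HasTorAmplitudeIn A a b ((DRing.restrictD (algebraMap A B)).obj K) ↔
      DRing.HasTorAmplitudeIn B a b K :=
  ⟨hasTorAmplitudeIn_of_restrict_of_isIndEtale hind K a b,
    hasTorAmplitudeIn_restrict_of_flat K a b⟩

end ChangeOfRings

end Groth.Agent.Lib.helper13.TorLow
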