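import Mathlib
import Groth.Agent.Lib.Helper13.DiagTor2
import Groth.Agent.Lib.Helper13.TorLow4
import Groth.Agent.Lib.Helper3.PdTor
import Groth.Agent.Lib.Helper23.DRingPC8
import Groth.Agent.Lib.Helper26.SerreConverse

/-!
# Fibres of a flat algebra with diagonal of finite tor dimension are regular (helper13)

* `hasTorAmplitudeIn_restrict_extend`: restriction along a flat map followed by a flat extension.
* `hasTorAmplitudeIn_residue`: for `B` flat over `A` with diagonal of tor amplitude `[-n, 0]`, a field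
  `k` over `A`, a flat `k ⊗[A] B`-algebra `R` and an `R`-algebra `κ` with `R ⊗ κ = κ`: the `R`-module
  `κ` has tor amplitude `[-n, 0]`.
* `isRegularRing_tensor_of_diag`: `k ⊗[A] B` is a regular ring.
-/

set_option autoImplicit false
universe u
open CategoryTheory CategoryTheory.Limits TensorProduct

attribute [local instance] HasDerivedCategory.standard

namespace Groth.Agent.Lib.helper13.DiagTor

open Groth.Agent.Lib.helper23.TA Groth.Agent.Lib.helper13.TorLow

section LemmaBC

variable {C₀ C R : Type u} [CommRing C₀] [CommRing C] [CommRing R]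
  [Algebra C₀ C] [Module.Flat C₀ C] [Algebra C₀ R] [Module.Flat C₀ R]
  (N : Type u) [AddCommGroup N] [Module C₀ N] [Module C N] [Module R N]
  [IsScalarTower C₀ C N] [IsScalarTower C₀ R N]

/-- **Lemma B + C**: restrict along a flat map `C₀ → C`, then extend along a flat map `C₀ → R`
for which `R ⊗ N = N`. -/
theorem hasTorAmplitudeIn_restrict_extend
    (hbc : IsBaseChange R (LinearMap.id : N →ₗ[C₀] N)) (n : ℕ)
    (h : DRing.HasTorAmplitudeIn C (-(n : ℤ)) 0
      ((DerivedCategory.singleFunctor (ModuleCat.{u} C) 0).obj (ModuleCat.of C N))) :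
    DRing.HasTorAmplitudeIn R (-(n : ℤ)) 0
      ((DerivedCategory.singleFunctor (ModuleCat.{u} R) 0).obj (ModuleCat.of R N)) := by
  have h1 := hasTorAmplitudeIn_restrict_of_flat (A := C₀) (B := C) _ _ _ h
  let l : ((ModuleCat.restrictScalars.{u} (algebraMap C₀ C)).obj (ModuleCat.of C N)) ≃ₗ[C₀] N :=
    { toFun := fun a => a
      invFun := fun a => a
      left_inv := fun _ => rfl
      right_inv := fun _ => rfl
      map_add' := fun _ _ => rfl
      map_smul' := fun r a => by
        let a' : N := a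
        change (algebraMap C₀ C r) • a' = r • a'
        rw [algebraMap_smul] }
  have h2 : DRing.HasTorAmplitudeIn C₀ (-(n : ℤ)) 0
      ((DerivedCategory.singleFunctor (ModuleCat.{u} C₀) 0).obj (ModuleCat.of C₀ N)) := by
    refine hasTorAmplitudeIn_of_iso
      ((DerivedCategory.singleFunctor (ModuleCat.{u} C₀) 0).mapIso l.toModuleIso) ?_
    exact hasTorAmplitudeIn_of_iso
      (((ModuleCat.restrictScalars.{u} (algebraMap C₀ C)).mapDerivedCategorySingleFunctor 0).app
        (ModuleCat.of C N)) h1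
  have hfl : (algebraMap C₀ R).Flat := by
    rw [RingHom.flat_algebraMap_iff]
    infer_instance
  have h3 := hasTorAmplitudeIn_extend_of_flat (algebraMap C₀ R) hfl n (ModuleCat.of C₀ N) h2
  let l' : ((ModuleCat.extendScalars.{u, u, u} (algebraMap C₀ R)).obj (ModuleCat.of C₀ N)) ≃ₗ[R] N :=
    (Groth.Agent.Lib.helper13.BiTriv.extendObjEquiv (A := C₀) (B := R) (ModuleCat.of C₀ N)).trans
      hbc.equiv
  exact hasTorAmplitudeIn_of_iso
    ((DerivedCategory.singleFunctor (ModuleCat.{u} R) 0).mapIso l'.toModuleIso) h3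

end LemmaBC

section LemmaD

variable {A B : Type u} [CommRing A] [CommRing B] [Algebra A B]
variable (k κ : Type u) [CommRing k] [CommRing κ] [Algebra A k] [Algebra A κ] [Algebra k κ]
  [IsScalarTower A k κ]

/-- the algebra structure of `κ ⊗[A] B` over `k ⊗[A] B` -/
@[reducible] noncomputable def fieldBaseAlgebra : Algebra (k ⊗[A] B) (κ ⊗[A] B) :=
  (Algebra.TensorProduct.map (IsScalarTower.toAlgHom A k κ) (AlgHom.id A B)).toRingHom.toAlgebra

attribute [local instance] fieldBaseAlgebra

lemma fieldBase_algebraMap_tmul (x : k) (y : B) :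
    algebraMap (k ⊗[A] B) (κ ⊗[A] B) (x ⊗ₜ[A] y) = algebraMap k κ x ⊗ₜ[A] y := rfl

instance : IsScalarTower k (k ⊗[A] B) (κ ⊗[A] B) :=
  IsScalarTower.of_algebraMap_eq (fun b => by
    rw [Algebra.TensorProduct.algebraMap_apply, Algebra.TensorProduct.algebraMap_apply]
    rfl)

instance isPushout_fieldBase : Algebra.IsPushout k κ (k ⊗[A] B) (κ ⊗[A] B) :=
  Algebra.IsPushout.tensorProduct_tensorProduct A B k κ (by
    ext b
    show algebraMap (k ⊗[A] B) (κ ⊗[A] B) ((1 : k) ⊗ₜ[A] b) = (1 : κ) ⊗ₜ[A] b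
    rw [fieldBase_algebraMap_tmul, map_one])

lemma flat_fieldBase [Module.Flat k κ] : Module.Flat (k ⊗[A] B) (κ ⊗[A] B) := by
  have h : Algebra.IsPushout k (k ⊗[A] B) κ (κ ⊗[A] B) := Algebra.IsPushout.symm inferInstance
  exact Module.Flat.isBaseChange k (k ⊗[A] B) κ (κ ⊗[A] B) h.out

variable {k κ}

/-- **Lemma D**: the residue-field type module `κ` over a flat `k ⊗[A] B`-algebra `R` with
`R ⊗ κ = κ` has tor amplitude in `[-n, 0]`. -/
theorem hasTorAmplitudeIn_residue [Module.Flat A B] [Algebra (B ⊗[A] B) B]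
    (hmul : ∀ x y : B, algebraMap (B ⊗[A] B) B (x ⊗ₜ[A] y) = x * y) (n : ℕ)
    (h : DRing.HasTorAmplitudeIn (B ⊗[A] B) (-(n : ℤ)) 0
      ((DerivedCategory.singleFunctor (ModuleCat.{u} (B ⊗[A] B)) 0).obj
        (ModuleCat.of (B ⊗[A] B) B)))
    [Algebra B κ] [IsScalarTower A B κ] [Module.Flat k κ]
    (R : Type u) [CommRing R] [Algebra (k ⊗[A] B) R] [Module.Flat (k ⊗[A] B) R]
    [Algebra R κ] [Algebra (k ⊗[A] B) κ] [IsScalarTower (k ⊗[A] B) R κ]
    (hκ : ∀ (x : k) (b : B),
      algebraMap (k ⊗[A] B) κ (x ⊗ₜ[A] b) = algebraMap k κ x * algebraMap B κ b)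
    (hbc : IsBaseChange R (LinearMap.id : κ →ₗ[k ⊗[A] B] κ)) :
    DRing.HasTorAmplitudeIn R (-(n : ℤ)) 0
      ((DerivedCategory.singleFunctor (ModuleCat.{u} R) 0).obj (ModuleCat.of R κ)) := by
  letI algC : Algebra (κ ⊗[A] B) κ :=
    (Algebra.TensorProduct.lift (AlgHom.id A κ) (IsScalarTower.toAlgHom A B κ)
      (fun _ _ => Commute.all _ _)).toRingHom.toAlgebra
  have hK : ∀ (x : κ) (b : B), algebraMap (κ ⊗[A] B) κ (x ⊗ₜ[A] b) = x * algebraMap B κ b := by
    intro x b
    exact Algebra.TensorProduct.lift_tmul _ _ _ x b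
  have hA := hasTorAmplitudeIn_diag_baseChange (A := A) (B := B) (K := κ) hmul hK n h
  have htow : @IsScalarTower (k ⊗[A] B) (κ ⊗[A] B) κ (fieldBaseAlgebra k κ).toSMul algC.toSMul
      Algebra.toSMul :=
    @IsScalarTower.of_algebraMap_eq (k ⊗[A] B) (κ ⊗[A] B) κ _ _ _ (fieldBaseAlgebra k κ) algC _
      (fun c => by
        induction c with
        | zero => simp
        | tmul x b => rw [hκ, fieldBase_algebraMap_tmul, hK]
        | add x y hx hy => simp only [map_add, hx, hy])
  have hflat := flat_fieldBase (A := A) (B := B) k κ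
  exact @hasTorAmplitudeIn_restrict_extend (k ⊗[A] B) (κ ⊗[A] B) R _ _ _ (fieldBaseAlgebra k κ)
    hflat _ _ κ _ _ _ _ htow _ hbc n hA

end LemmaD

section Key

variable {A B : Type u} [CommRing A] [CommRing B] [Algebra A B]

attribute [local instance] Algebra.TensorProduct.rightAlgebra in
/-- **Key theorem**: if `B` is flat over `A` with diagonal of finite tor dimension, then `k ⊗[A] B`
is a regular ring for every field `k` over `A` (for which it is Noetherian). -/
theorem isRegularRing_tensor_of_diag [Module.Flat A B] [Algebra (B ⊗[A] B) B]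
    (hmul : ∀ x y : B, algebraMap (B ⊗[A] B) B (x ⊗ₜ[A] y) = x * y)
    (h : DRing.HasFiniteTorDim (B ⊗[A] B) B)
    (k : Type u) [Field k] [Algebra A k] [IsNoetherianRing (k ⊗[A] B)] :
    IsRegularRing (k ⊗[A] B) := by
  obtain ⟨n, hn⟩ := h
  have h1 : DRing.HasTorAmplitudeIn (B ⊗[A] B) (-(n : ℤ)) 0
      ((DerivedCategory.singleFunctor (ModuleCat.{u} (B ⊗[A] B)) 0).obj
        (ModuleCat.of (B ⊗[A] B) B)) :=
    (torVan_iff_hasTorAmplitudeIn n _).1 ((hasTorDimLE_iff_torVan n B).1 hn)
  rw [isRegularRing_iff]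
  intro q hq
  haveI : IsScalarTower (k ⊗[A] B) (Localization.AtPrime q)
      (IsLocalRing.ResidueField (Localization.AtPrime q)) :=
    IsScalarTower.of_algebraMap_eq (fun x => rfl)
  have hκ : ∀ (x : k) (b : B),
      algebraMap (k ⊗[A] B) (IsLocalRing.ResidueField (Localization.AtPrime q)) (x ⊗ₜ[A] b) =
        algebraMap k (IsLocalRing.ResidueField (Localization.AtPrime q)) x *
          algebraMap B (IsLocalRing.ResidueField (Localization.AtPrime q)) b := by
    intro x b
    have : x ⊗ₜ[A] b = algebraMap k (k ⊗[A] B) x * algebraMap B (k ⊗[A] B) b := by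
      rw [Algebra.TensorProduct.algebraMap_apply, Algebra.TensorProduct.right_algebraMap_apply,
        Algebra.TensorProduct.tmul_mul_tmul]
      simp
    rw [this, map_mul, ← IsScalarTower.algebraMap_apply, ← IsScalarTower.algebraMap_apply]
  have hbc : IsBaseChange (Localization.AtPrime q)
      (LinearMap.id : (IsLocalRing.ResidueField (Localization.AtPrime q)) →ₗ[k ⊗[A] B] _) :=
    (isLocalizedModule_iff_isBaseChange q.primeCompl (Localization.AtPrime q) LinearMap.id).1
      (isLocalizedModule_id q.primeCompl _ (Localization.AtPrime q))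
  have h2 := hasTorAmplitudeIn_residue (A := A) (B := B) hmul n h1 (k := k)
    (κ := IsLocalRing.ResidueField (Localization.AtPrime q)) (Localization.AtPrime q) hκ hbc
  have h3 := (torVan_iff_hasTorAmplitudeIn n _).2 h2
  have h4 : Groth.Agent.Lib.helper23.DRingPC.PCMod (Localization.AtPrime q)
      (ModuleCat.of (Localization.AtPrime q) (IsLocalRing.ResidueField (Localization.AtPrime q))) :=
    (Groth.Agent.Lib.helper23.DRingPC.forall_npc_single_iff_of_noetherian _ _).2 inferInstance
  have h5 := Groth.Agent.Lib.helper3.PdTor.hasProjectiveDimensionLT_of_pcMod_of_torVan n _ h4 h3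
  exact Groth.Agent.Lib.helper26.SerreConv.isRegularLocalRing_of_hasProjectiveDimensionLT _ (n + 1) h5

end Key

end Groth.Agent.Lib.helper13.DiagTor
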