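import Mathlib
import Groth.Agent.Lib.Helper13.DiagTor3
import Groth.Agent.Lib.Helper17.RegSmooth
import Groth.Agent.Lib.Helper19.CohenK4

/-!
# Flat finite type algebras with diagonal of finite tor dimension are smooth (helper13, S2206)

* `smooth_tensor_of_diag`: for a perfect field `k` over `A`, `k ⊗[A] B` is smooth over `k`.
* `smooth_of_diag`: `A` Noetherian, `B` flat of finite type with diagonal of finite tor dimension
  ⇒ `B` smooth over `A`.
-/

set_option autoImplicit false
universe u
open TensorProduct

namespace Groth.Agent.Lib.helper13.DiagTor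

section Smooth

variable {A B : Type u} [CommRing A] [CommRing B] [Algebra A B]

/-- for a perfect field `k` over `A`: `k ⊗[A] B` is smooth over `k`. -/
theorem smooth_tensor_of_diag [Module.Flat A B] [Algebra.FiniteType A B] [Algebra (B ⊗[A] B) B]
    (hmul : ∀ x y : B, algebraMap (B ⊗[A] B) B (x ⊗ₜ[A] y) = x * y)
    (h : DRing.HasFiniteTorDim (B ⊗[A] B) B)
    (k : Type u) [Field k] [Algebra A k] [PerfectField k] :
    Algebra.Smooth k (k ⊗[A] B) := by
  haveI : Algebra.FiniteType k (k ⊗[A] B) := inferInstance
  haveI : IsNoetherianRing (k ⊗[A] B) := Algebra.FiniteType.isNoetherianRing k _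
  haveI : Algebra.FinitePresentation k (k ⊗[A] B) :=
    Algebra.FinitePresentation.of_finiteType.mp inferInstance
  haveI := isRegularRing_tensor_of_diag (A := A) (B := B) hmul h k
  refine ⟨Algebra.smoothLocus_eq_univ_iff.mp (Set.eq_univ_iff_forall.mpr fun q => ?_), inferInstance⟩
  show Algebra.FormallySmooth k (Localization.AtPrime q.asIdeal)
  haveI : Algebra.FormallySmooth k (IsLocalRing.ResidueField (Localization.AtPrime q.asIdeal)) :=
    Groth.Agent.Lib.helper19.CohenK.formallySmooth_of_perfectField k _
  exact Groth.Agent.Lib.helper17.RegSmooth.formallySmooth_of_isRegularLocalRing k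
    (Localization.AtPrime q.asIdeal)

/-- **S2206** -/
theorem smooth_of_diag [IsNoetherianRing A] [Module.Flat A B] [Algebra.FiniteType A B]
    [Algebra (B ⊗[A] B) B]
    (hmul : ∀ x y : B, algebraMap (B ⊗[A] B) B (x ⊗ₜ[A] y) = x * y)
    (h : DRing.HasFiniteTorDim (B ⊗[A] B) B) : Algebra.Smooth A B := by
  haveI : Algebra.FinitePresentation A B :=
    Algebra.FinitePresentation.of_finiteType.mp inferInstance
  refine Algebra.Smooth.of_formallySmooth_fiber (fun p _ => ?_)
  haveI : Algebra.Smooth (AlgebraicClosure p.ResidueField)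
      ((AlgebraicClosure p.ResidueField) ⊗[A] B) :=
    smooth_tensor_of_diag hmul h (AlgebraicClosure p.ResidueField)
  haveI : Algebra.Smooth (AlgebraicClosure p.ResidueField)
      ((AlgebraicClosure p.ResidueField) ⊗[p.ResidueField] (p.ResidueField ⊗[A] B)) :=
    Algebra.Smooth.of_equiv (Algebra.TensorProduct.cancelBaseChange A p.ResidueField
      (AlgebraicClosure p.ResidueField) (AlgebraicClosure p.ResidueField) B).symm
  haveI : Algebra.Smooth p.ResidueField (p.ResidueField ⊗[A] B) :=
    Algebra.Smooth.of_smooth_tensorProduct_of_faithfullyFlat (AlgebraicClosure p.ResidueField)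
  infer_instance

end Smooth

end Groth.Agent.Lib.helper13.DiagTor
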