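import Mathlib
import Groth.Agent.Lib.Helper13.DiagTor3
import Groth.Agent.Lib.Helper17.RegSmooth
import Groth.Agent.Lib.Helper19.CohenK4
import Groth.Agent.Lib.Helper19.FSDiff3

/-!
# Local flat ess. finite type algebras with diagonal of finite tor dimension are essentially smooth
(helper13, S6503)

* `isLocalRing_residue_tensor`: the closed fibre of a flat local homomorphism is local.
* `formallySmooth_residue_tensor_of_diag`: the closed fibre is formally smooth over the residue field
  (geometric regularity via helper19's `p`-radical test).
* `isLocalization_atPrime_of_isLocalRing`: a local localization of `R` is the localization at a prime.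
* `exists_smooth_isLocalization_of_diag`: `B` is the localization of a smooth `A`-algebra at a prime.
-/

set_option autoImplicit false
universe u
open TensorProduct IsLocalRing

namespace Groth.Agent.Lib.helper13.DiagTor

section Local

variable {A B : Type u} [CommRing A] [CommRing B] [Algebra A B]

lemma isLocalRing_residue_tensor [IsLocalRing A] [IsLocalRing B] [IsLocalHom (algebraMap A B)]
    [Module.Flat A B] : IsLocalRing (ResidueField A ⊗[A] B) := by
  haveI : Module.FaithfullyFlat A B := Module.FaithfullyFlat.of_flat_of_isLocalHom
  haveI : Nontrivial (ResidueField A ⊗[A] B) := inferInstance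
  have hs : Function.Surjective
      (Algebra.TensorProduct.includeRight : B →ₐ[A] ResidueField A ⊗[A] B) :=
    Algebra.TensorProduct.includeRight_surjective B IsLocalRing.residue_surjective
  exact IsLocalRing.of_surjective' (Algebra.TensorProduct.includeRight :
    B →ₐ[A] ResidueField A ⊗[A] B).toRingHom hs

/-- the closed fibre is formally smooth over the residue field -/
theorem formallySmooth_residue_tensor_of_diag [IsLocalRing A] [IsLocalRing B]
    [IsLocalHom (algebraMap A B)] [Module.Flat A B] [Algebra.EssFiniteType A B]
    [Algebra (B ⊗[A] B) B]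
    (hmul : ∀ x y : B, algebraMap (B ⊗[A] B) B (x ⊗ₜ[A] y) = x * y)
    (h : DRing.HasFiniteTorDim (B ⊗[A] B) B) :
    Algebra.FormallySmooth (ResidueField A) (ResidueField A ⊗[A] B) := by
  haveI := isLocalRing_residue_tensor (A := A) (B := B)
  haveI : IsNoetherianRing (ResidueField A ⊗[A] B) :=
    Algebra.EssFiniteType.isNoetherianRing (ResidueField A) _
  have hreg : ∀ (k : Type u) [Field k] [Algebra A k], IsRegularRing (k ⊗[A] B) := by
    intro k _ _
    haveI : IsNoetherianRing (k ⊗[A] B) := Algebra.EssFiniteType.isNoetherianRing k _
    exact isRegularRing_tensor_of_diag hmul h k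
  obtain ⟨p, hp⟩ := CharP.exists (ResidueField A)
  rcases CharP.char_is_prime_or_zero (ResidueField A) p with hpp | hp0
  · -- characteristic `p`
    haveI : Fact p.Prime := ⟨hpp⟩
    refine Groth.Agent.Lib.helper17.RegSmooth.formallySmooth_of_isAdicFormallySmooth _ _ ?_
    refine Groth.Agent.Lib.helper19.FSDiff.isAdicFormallySmooth_of_pRadical (ResidueField A)
      (ResidueField A ⊗[A] B) p ?_
    intro k' _ _ _ _
    letI : Algebra A k' := ((algebraMap (ResidueField A) k').comp
      (algebraMap A (ResidueField A))).toAlgebra
    haveI : IsScalarTower A (ResidueField A) k' := IsScalarTower.of_algebraMap_eq (fun _ => rfl)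
    haveI := hreg k'
    exact IsRegularRing.of_ringEquiv
      (Algebra.TensorProduct.cancelBaseChange A (ResidueField A) k' k' B).symm.toRingEquiv
  · -- characteristic zero
    subst hp0
    haveI : CharZero (ResidueField A) := CharP.charP_to_charZero _
    haveI := hreg (ResidueField A)
    haveI : IsRegularLocalRing (ResidueField A ⊗[A] B) :=
      IsRegularLocalRing.of_isRegularRing_of_isLocalRing _
    haveI : Algebra.FormallySmooth (ResidueField A)
        (ResidueField (ResidueField A ⊗[A] B)) :=
      Groth.Agent.Lib.helper19.CohenK.formallySmooth_of_perfectField _ _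
    exact Groth.Agent.Lib.helper17.RegSmooth.formallySmooth_of_isRegularLocalRing _ _

end Local

section Loc

/-- a local ring which is a localization of `R` is the localization of `R` at the preimage of its
maximal ideal -/
lemma isLocalization_atPrime_of_isLocalRing {R : Type*} [CommRing R] (M : Submonoid R)
    (B : Type*) [CommRing B] [Algebra R B] [IsLocalization M B] [IsLocalRing B] :
    IsLocalization.AtPrime B ((maximalIdeal B).comap (algebraMap R B)) := by
  haveI : IsLocalization.AtPrime B (maximalIdeal B) :=
    IsLocalization.of_le_isUnit (fun x hx => by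
      have : x ∉ maximalIdeal B := hx
      rwa [IsLocalRing.notMem_maximalIdeal] at this)
  exact IsLocalization.isLocalization_isLocalization_atPrime_isLocalization M B (maximalIdeal B)

end Loc

section Main

variable {A B : Type u} [CommRing A] [CommRing B] [Algebra A B]

/-- **S6503** -/
theorem exists_smooth_isLocalization_of_diag [IsNoetherianRing A] [IsLocalRing A] [IsLocalRing B]
    [IsLocalHom (algebraMap A B)] [Module.Flat A B] [Algebra.EssFiniteType A B]
    [Algebra (B ⊗[A] B) B]
    (hmul : ∀ x y : B, algebraMap (B ⊗[A] B) B (x ⊗ₜ[A] y) = x * y)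
    (h : DRing.HasFiniteTorDim (B ⊗[A] B) B) :
    ∃ (C : Type u) (_ : CommRing C) (_ : Algebra A C) (_ : Algebra C B) (_ : IsScalarTower A C B)
      (q : Ideal C) (_ : q.IsPrime), Algebra.Smooth A C ∧ IsLocalization.AtPrime B q := by
  haveI := formallySmooth_residue_tensor_of_diag (A := A) (B := B) hmul h
  let P := Algebra.EssFiniteType.subalgebra A B
  let M := Algebra.EssFiniteType.submonoid A B
  haveI : Algebra.FinitePresentation A P :=
    Algebra.FinitePresentation.of_finiteType.mp inferInstance
  haveI : Algebra.FormallySmooth A B :=
    Algebra.FormallySmooth.of_formallySmooth_residueField_tensor (R := A) (S := B) (P := P) M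
  -- `B` is the localization of `P` at `q₀`
  let q₀ : Ideal P := (maximalIdeal B).comap (algebraMap P B)
  haveI hq₀ : IsLocalization.AtPrime B q₀ := isLocalization_atPrime_of_isLocalRing M B
  haveI : Algebra.IsSmoothAt A q₀ :=
    Algebra.FormallySmooth.of_equiv
      ((IsLocalization.algEquiv q₀.primeCompl B (Localization.AtPrime q₀)).restrictScalars A)
  obtain ⟨f, hf, hsm⟩ := Algebra.IsSmoothAt.exists_notMem_smooth A q₀
  have hfu : IsUnit (algebraMap P B f) := by
    rw [← IsLocalRing.notMem_maximalIdeal]
    exact hf
  letI algCB : Algebra (Localization.Away f) B :=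
    (IsLocalization.Away.lift (S := Localization.Away f) f hfu).toAlgebra
  haveI tow1 : IsScalarTower P (Localization.Away f) B :=
    IsScalarTower.of_algebraMap_eq (fun x =>
      (IsLocalization.Away.lift_eq (S := Localization.Away f) f hfu x).symm)
  haveI tow2 : IsScalarTower A (Localization.Away f) B :=
    IsScalarTower.of_algebraMap_eq (fun a => by
      rw [IsScalarTower.algebraMap_apply A P (Localization.Away f),
        ← IsScalarTower.algebraMap_apply P (Localization.Away f) B,
        ← IsScalarTower.algebraMap_apply A P B])
  have hle : Submonoid.powers f ≤ q₀.primeCompl := by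
    rintro _ ⟨n, rfl⟩
    exact q₀.primeCompl.pow_mem hf n
  haveI : IsLocalization (q₀.primeCompl.map (algebraMap P (Localization.Away f))) B :=
    IsLocalization.isLocalization_of_submonoid_le (Localization.Away f) B (Submonoid.powers f)
      q₀.primeCompl hle
  have hloc := isLocalization_atPrime_of_isLocalRing
    (q₀.primeCompl.map (algebraMap P (Localization.Away f))) B
  exact ⟨Localization.Away f, inferInstance, inferInstance, algCB, tow2,
    (maximalIdeal B).comap (algebraMap (Localization.Away f) B), inferInstance, hsm, hloc⟩

end Main

end Groth.Agent.Lib.helper13.DiagTor
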