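import Groth.Prelude.Def_QuadGrp
import Mathlib

/-!
# The universal discriminant in odd rank is twice the universal half-discriminant (helper13)
-/

set_option autoImplicit false

namespace Groth.Agent.Lib.helper13.DiscParity

open MvPolynomial

/-- A symmetric matrix of odd size with zero diagonal over a ring of characteristic two has
determinant zero. -/
theorem det_eq_zero_of_symm_zero_diag {K : Type*} [CommRing K] [CharP K 2] {n : ℕ} (hn : Odd n)
    (M : Matrix (Fin n) (Fin n) K) (hsymm : ∀ i j, M i j = M j i) (hdiag : ∀ i, M i i = 0) :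
    M.det = 0 := by
  rw [Matrix.det_apply]
  apply Finset.sum_ninvolution (fun σ => σ⁻¹)
  · intro σ
    have : (Equiv.Perm.sign σ⁻¹ • ∏ i, M (σ⁻¹ i) i) = Equiv.Perm.sign σ • ∏ i, M (σ i) i := by
      rw [Equiv.Perm.sign_inv]
      congr 1
      rw [← Equiv.prod_comp σ]
      refine Finset.prod_congr rfl fun i _ => ?_
      rw [show σ⁻¹ (σ i) = i from σ.symm_apply_apply i, hsymm]
    rw [this]
    exact CharTwo.add_self_eq_zero _
  · intro σ hσ hinv
    apply hσ
    have hσ2 : σ ^ 2 ^ 1 = 1 := by
      rw [pow_one, sq]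
      nth_rewrite 1 [← hinv]
      exact inv_mul_cancel σ
    have : Fact (Nat.Prime 2) := ⟨Nat.prime_two⟩
    obtain ⟨i, hi⟩ := Equiv.Perm.exists_fixed_point_of_prime (p := 2) (n := 1)
      (by rw [Fintype.card_fin]; exact hn.not_two_dvd_nat) hσ2
    rw [Finset.prod_eq_zero (Finset.mem_univ i) (by rw [hi, hdiag]), smul_zero]
  · intro σ
    exact Finset.mem_univ _
  · intro σ
    exact inv_inv σ

variable {n : ℕ}

theorem two_dvd_coeff_discUniv (hn : Odd n) (s : Sym2 (Fin n) →₀ ℕ) :
    (2 : ℤ) ∣ coeff s (QuadGrp.discUniv n) := by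
  have h0 : (MvPolynomial.map (Int.castRingHom (ZMod 2))) (QuadGrp.discUniv n) = 0 := by
    rw [QuadGrp.discUniv, RingHom.map_det]
    apply det_eq_zero_of_symm_zero_diag hn
    · intro i j
      simp only [RingHom.mapMatrix_apply, Matrix.map_apply, QuadGrp.univPolarMat, Matrix.of_apply]
      by_cases hij : i = j
      · subst hij; rfl
      · rw [if_neg hij, if_neg (Ne.symm hij), Sym2.eq_swap]
    · intro i
      simp only [RingHom.mapMatrix_apply, Matrix.map_apply, QuadGrp.univPolarMat, Matrix.of_apply,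
        if_true, map_mul]
      have : (MvPolynomial.map (Int.castRingHom (ZMod 2))) (2 : MvPolynomial (Sym2 (Fin n)) ℤ) = 0 := by
        rw [map_ofNat]
        exact CharTwo.two_eq_zero
      rw [this, zero_mul]
  have h1 := congrArg (coeff s) h0
  rw [coeff_map, coeff_zero] at h1
  exact (ZMod.intCast_zmod_eq_zero_iff_dvd _ 2).mp h1

theorem discUniv_eq_two_mul_halfDiscUniv (hn : Odd n) :
    QuadGrp.discUniv n = 2 * QuadGrp.halfDiscUniv n := by
  ext s
  rw [two_mul, coeff_add, QuadGrp.coeff_halfDiscUniv]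
  have := two_dvd_coeff_discUniv hn s
  omega

end Groth.Agent.Lib.helper13.DiscParity
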