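import Groth.Prelude.Def_QuadGrp
import Mathlib
import Groth.Agent.Lib.Helper13.DiscParity

/-!
# Discriminant and half-discriminant of a composite `Q ∘ g` (helper13)
-/

set_option autoImplicit false

namespace Groth.Agent.Lib.helper13.DiscComp

open QuadraticMap MvPolynomial
open scoped Matrix

section Disc

variable {R : Type*} [CommRing R] {M : Type*} [AddCommGroup M] [Module R M] {n : ℕ}

/-- The polar matrix of `Q` in the basis `b`. -/
noncomputable def polarMat (b : Module.Basis (Fin n) R M) (Q : QuadraticForm R M) :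
    Matrix (Fin n) (Fin n) R :=
  LinearMap.toMatrix₂ b b (polarBilin Q)

theorem polarMat_apply (b : Module.Basis (Fin n) R M) (Q : QuadraticForm R M) (i j : Fin n) :
    polarMat b Q i j = polar Q (b i) (b j) := by
  rw [polarMat, LinearMap.toMatrix₂_apply, polarBilin_apply_apply]

theorem disc_eq_det (b : Module.Basis (Fin n) R M) (Q : QuadraticForm R M) :
    QuadGrp.disc b (LinearEquiv.refl R R) Q = (polarMat b Q).det := by
  rw [QuadGrp.disc, QuadGrp.discUniv]
  have h := RingHom.map_det
    (eval₂Hom (Int.castRingHom R) (QuadGrp.coeffs b (LinearEquiv.refl R R) Q))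
    (QuadGrp.univPolarMat n)
  rw [coe_eval₂Hom] at h
  rw [h]
  congr 1
  ext i j
  rw [polarMat_apply, RingHom.mapMatrix_apply, Matrix.map_apply, QuadGrp.univPolarMat,
    Matrix.of_apply, coe_eval₂Hom]
  by_cases hij : i = j
  · subst hij
    rw [if_pos rfl, eval₂_mul, eval₂_X, QuadGrp.coeffs_mk, if_pos rfl, polar_self,
      LinearEquiv.refl_apply]
    have : eval₂ (Int.castRingHom R) (QuadGrp.coeffs b (LinearEquiv.refl R R) Q)
        (2 : MvPolynomial (Sym2 (Fin n)) ℤ) = 2 := by
      rw [← coe_eval₂Hom, map_ofNat]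
    rw [this, two_smul, two_mul]
  · rw [if_neg hij, eval₂_X, QuadGrp.coeffs_mk, if_neg hij, LinearEquiv.refl_apply]

theorem polarMat_comp (b : Module.Basis (Fin n) R M) (Q : QuadraticForm R M) (g : M →ₗ[R] M) :
    polarMat b (Q.comp g) =
      (LinearMap.toMatrix b b g)ᵀ * polarMat b Q * LinearMap.toMatrix b b g := by
  rw [polarMat, polarBilin_comp, LinearMap.toMatrix₂_compl₁₂ b b]
  rfl

theorem disc_comp (b : Module.Basis (Fin n) R M) (Q : QuadraticForm R M) (g : M →ₗ[R] M) :
    QuadGrp.disc b (LinearEquiv.refl R R) (Q.comp g) =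
      LinearMap.det g ^ 2 * QuadGrp.disc b (LinearEquiv.refl R R) Q := by
  rw [disc_eq_det, disc_eq_det, polarMat_comp, Matrix.det_mul, Matrix.det_mul,
    Matrix.det_transpose, LinearMap.det_toMatrix]
  ring

theorem disc_eq_two_mul_halfDisc (hn : Odd n) (b : Module.Basis (Fin n) R M)
    (Q : QuadraticForm R M) :
    QuadGrp.disc b (LinearEquiv.refl R R) Q = 2 * QuadGrp.halfDisc b (LinearEquiv.refl R R) Q := by
  rw [QuadGrp.disc, QuadGrp.halfDisc, DiscParity.discUniv_eq_two_mul_halfDiscUniv hn, eval₂_mul]
  congr 1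
  rw [← coe_eval₂Hom, map_ofNat]

/-- Over a ring in which `2` is a non-zero-divisor the half-discriminant of `Q ∘ g` is
`(det g)²` times that of `Q`. -/
theorem halfDisc_comp_of_two_regular (hn : Odd n) (h2 : IsLeftRegular (2 : R))
    (b : Module.Basis (Fin n) R M) (Q : QuadraticForm R M) (g : M →ₗ[R] M) :
    QuadGrp.halfDisc b (LinearEquiv.refl R R) (Q.comp g) =
      LinearMap.det g ^ 2 * QuadGrp.halfDisc b (LinearEquiv.refl R R) Q := by
  apply h2
  change 2 * _ = 2 * _
  rw [← disc_eq_two_mul_halfDisc hn, disc_comp, disc_eq_two_mul_halfDisc hn]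
  ring

end Disc


section Std

variable {S : Type*} [CommRing S] {n : ℕ}

/-- The triangular matrix of a family of coefficients. -/
def triMat (c : Sym2 (Fin n) → S) : Matrix (Fin n) (Fin n) S :=
  Matrix.of fun k l => if k = l then c s(k, l) else if k < l then c s(k, l) else 0

/-- The value at `x` of the quadratic form with coefficients `c`. -/
def quadVal (c : Sym2 (Fin n) → S) (x : Fin n → S) : S :=
  ∑ k, ∑ l, x k * x l * triMat c k l

/-- The coefficients of `Q ∘ g` as polynomial expressions in those of `Q` and the matrix of `g`. -/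
def newCoeff (c : Sym2 (Fin n) → S) (G : Matrix (Fin n) (Fin n) S) (i j : Fin n) : S :=
  if i = j then quadVal c (fun k => G k i)
  else quadVal c (fun k => G k i + G k j) - quadVal c (fun k => G k i) - quadVal c (fun k => G k j)

theorem map_triMat {T : Type*} [CommRing T] (φ : S →+* T) (c : Sym2 (Fin n) → S) (k l : Fin n) :
    φ (triMat c k l) = triMat (φ ∘ c) k l := by
  simp only [triMat, Matrix.of_apply, Function.comp_apply]
  split_ifs <;> simp

theorem map_quadVal {T : Type*} [CommRing T] (φ : S →+* T) (c : Sym2 (Fin n) → S)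
    (x : Fin n → S) : φ (quadVal c x) = quadVal (φ ∘ c) (φ ∘ x) := by
  simp only [quadVal, map_sum, map_mul, map_triMat, Function.comp_apply]

theorem map_newCoeff {T : Type*} [CommRing T] (φ : S →+* T) (c : Sym2 (Fin n) → S)
    (G : Matrix (Fin n) (Fin n) S) (i j : Fin n) :
    φ (newCoeff c G i j) = newCoeff (φ ∘ c) (φ.mapMatrix G) i j := by
  simp only [newCoeff]
  split_ifs
  · rw [map_quadVal]; rfl
  · rw [map_sub, map_sub, map_quadVal, map_quadVal, map_quadVal]
    congr 3
    funext k
    simp

/-- The quadratic form on `Sⁿ` with coefficients `c`. -/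
noncomputable def formOf (c : Sym2 (Fin n) → S) : QuadraticForm S (Fin n → S) :=
  LinearMap.BilinMap.toQuadraticMap
    (Matrix.toLinearMap₂' S (triMat c) : LinearMap.BilinMap S (Fin n → S) S)

theorem formOf_apply (c : Sym2 (Fin n) → S) (x : Fin n → S) : formOf c x = quadVal c x := by
  rw [formOf, LinearMap.BilinMap.toQuadraticMap_apply, Matrix.toLinearMap₂'_apply, quadVal]
  simp only [smul_eq_mul, mul_assoc]

theorem bil_single (T : Matrix (Fin n) (Fin n) S) (i j : Fin n) :
    (Matrix.toLinearMap₂' S T : LinearMap.BilinMap S (Fin n → S) S)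
      (Pi.single i 1) (Pi.single j 1) = T i j := by
  rw [Matrix.toLinearMap₂'_apply]
  rw [Finset.sum_eq_single i (fun k _ hk => by simp [Pi.single_apply, hk]) (by simp),
    Finset.sum_eq_single j (fun l _ hl => by simp [Pi.single_apply, hl]) (by simp)]
  simp

theorem coeffs_formOf (c : Sym2 (Fin n) → S) :
    QuadGrp.coeffs (Pi.basisFun S (Fin n)) (LinearEquiv.refl S S) (formOf c) = c := by
  funext s
  induction s using Sym2.ind with
  | _ i j =>
    rw [QuadGrp.coeffs_mk]
    by_cases hij : i = j
    · subst hij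
      rw [if_pos rfl, LinearEquiv.refl_apply, formOf, LinearMap.BilinMap.toQuadraticMap_apply,
        Pi.basisFun_apply]
      refine (bil_single (triMat c) i i).trans ?_
      rw [triMat, Matrix.of_apply, if_pos rfl]
    · rw [if_neg hij, LinearEquiv.refl_apply, formOf, LinearMap.BilinMap.polar_toQuadraticMap,
        Pi.basisFun_apply, Pi.basisFun_apply]
      refine (congrArg₂ (· + ·) (bil_single (triMat c) i j)
        (bil_single (triMat c) j i)).trans ?_
      rw [triMat, Matrix.of_apply, Matrix.of_apply, if_neg hij, if_neg (Ne.symm hij)]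
      rcases lt_or_gt_of_ne hij with h | h
      · rw [if_pos h, if_neg (not_lt.mpr h.le), add_zero]
      · rw [if_neg (not_lt.mpr h.le), if_pos h, zero_add, Sym2.eq_swap]

end Std


section Formula

variable {R : Type*} [CommRing R] {M : Type*} [AddCommGroup M] [Module R M] {n : ℕ}

theorem apply_sum_smul (b : Module.Basis (Fin n) R M) (Q : QuadraticForm R M) (x : Fin n → R) :
    Q (∑ k, x k • b k) = quadVal (QuadGrp.coeffs b (LinearEquiv.refl R R) Q) x := by
  conv_lhs => rw [← QuadraticMap.toQuadraticMap_toBilin Q b]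
  rw [LinearMap.BilinMap.toQuadraticMap_apply, quadVal]
  simp only [map_sum, LinearMap.sum_apply, map_smul, LinearMap.smul_apply,
    QuadraticMap.toBilin_apply, smul_eq_mul]
  rw [Finset.sum_comm]
  refine Finset.sum_congr rfl fun k _ => ?_
  rw [Finset.mul_sum]
  refine Finset.sum_congr rfl fun l _ => ?_
  simp only [triMat, Matrix.of_apply, QuadGrp.coeffs_mk, LinearEquiv.refl_apply]
  split_ifs <;> ring

theorem apply_basis_eq_sum (b : Module.Basis (Fin n) R M) (g : M →ₗ[R] M) (i : Fin n) :
    g (b i) = ∑ k, (LinearMap.toMatrix b b g) k i • b k := by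
  simp only [LinearMap.toMatrix_apply]
  exact (b.sum_repr (g (b i))).symm

theorem coeffs_comp (b : Module.Basis (Fin n) R M) (Q : QuadraticForm R M) (g : M →ₗ[R] M)
    (i j : Fin n) :
    QuadGrp.coeffs b (LinearEquiv.refl R R) (Q.comp g) s(i, j) =
      newCoeff (QuadGrp.coeffs b (LinearEquiv.refl R R) Q) (LinearMap.toMatrix b b g) i j := by
  rw [QuadGrp.coeffs_mk, newCoeff]
  by_cases hij : i = j
  · rw [if_pos hij, if_pos hij, LinearEquiv.refl_apply, QuadraticMap.comp_apply,
      apply_basis_eq_sum b g i, apply_sum_smul]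
  · rw [if_neg hij, if_neg hij, LinearEquiv.refl_apply, polar, QuadraticMap.comp_apply,
      QuadraticMap.comp_apply, QuadraticMap.comp_apply, map_add, apply_basis_eq_sum b g i,
      apply_basis_eq_sum b g j, ← Finset.sum_add_distrib]
    simp only [← add_smul]
    rw [apply_sum_smul, apply_sum_smul, apply_sum_smul]

end Formula


section Universal

variable (n : ℕ)

/-- The universal ring: coefficients of a quadratic form and entries of a matrix. -/
abbrev URing : Type := MvPolynomial (Sym2 (Fin n) ⊕ (Fin n × Fin n)) ℤ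

/-- The universal coefficients. -/
noncomputable def uA : Sym2 (Fin n) → URing n := fun s => X (Sum.inl s)

/-- The universal matrix. -/
noncomputable def uG : Matrix (Fin n) (Fin n) (URing n) := Matrix.of fun k l => X (Sum.inr (k, l))

theorem halfDisc_universal (hn : Odd n) :
    QuadGrp.halfDisc (Pi.basisFun (URing n) (Fin n)) (LinearEquiv.refl _ _)
        ((formOf (uA n)).comp (Matrix.toLin' (uG n))) =
      (uG n).det ^ 2 *
        QuadGrp.halfDisc (Pi.basisFun (URing n) (Fin n)) (LinearEquiv.refl _ _) (formOf (uA n)) := by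
  rw [halfDisc_comp_of_two_regular hn (IsRegular.of_ne_zero two_ne_zero).left,
    LinearMap.det_toLin']

variable {n}

/-- The half-discriminant of `Q ∘ g` is `(det g)²` times that of `Q` (odd rank, any ring). -/
theorem halfDisc_comp {R : Type*} [CommRing R] {M : Type*} [AddCommGroup M] [Module R M]
    (hn : Odd n) (b : Module.Basis (Fin n) R M) (Q : QuadraticForm R M) (g : M →ₗ[R] M) :
    QuadGrp.halfDisc b (LinearEquiv.refl R R) (Q.comp g) =
      LinearMap.det g ^ 2 * QuadGrp.halfDisc b (LinearEquiv.refl R R) Q := by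
  set c := QuadGrp.coeffs b (LinearEquiv.refl R R) Q with hc
  set G := LinearMap.toMatrix b b g with hG
  let φ : URing n →+* R :=
    eval₂Hom (Int.castRingHom R) (Sum.elim c (fun p => G p.1 p.2))
  have hφA : (φ : URing n → R) ∘ uA n = c := by
    funext s
    simp [uA, φ]
  have hφG : φ.mapMatrix (uG n) = G := by
    ext k l
    simp [uG, φ]
  have hcast : φ.comp (Int.castRingHom (URing n)) = Int.castRingHom R := RingHom.ext_int _ _
  have hN : QuadGrp.coeffs b (LinearEquiv.refl R R) (Q.comp g) =
      (φ : URing n → R) ∘ QuadGrp.coeffs (Pi.basisFun (URing n) (Fin n)) (LinearEquiv.refl _ _)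
        ((formOf (uA n)).comp (Matrix.toLin' (uG n))) := by
    funext s
    induction s using Sym2.ind with
    | _ i j =>
      rw [coeffs_comp, Function.comp_apply, coeffs_comp, map_newCoeff, coeffs_formOf, hφA,
        LinearMap.toMatrix_eq_toMatrix', LinearMap.toMatrix'_toLin', hφG]
  have h1 : QuadGrp.halfDisc b (LinearEquiv.refl R R) (Q.comp g) =
      φ (QuadGrp.halfDisc (Pi.basisFun (URing n) (Fin n)) (LinearEquiv.refl _ _)
        ((formOf (uA n)).comp (Matrix.toLin' (uG n)))) := by
    rw [QuadGrp.halfDisc, QuadGrp.halfDisc, hN, MvPolynomial.eval₂_comp_left φ, hcast]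
  have h2 : φ (QuadGrp.halfDisc (Pi.basisFun (URing n) (Fin n)) (LinearEquiv.refl _ _)
      (formOf (uA n))) = QuadGrp.halfDisc b (LinearEquiv.refl R R) Q := by
    rw [QuadGrp.halfDisc, QuadGrp.halfDisc, coeffs_formOf, MvPolynomial.eval₂_comp_left φ, hcast,
      hφA]
  rw [h1, halfDisc_universal n hn, map_mul, map_pow, RingHom.map_det, hφG, h2,
    LinearMap.det_toMatrix]

end Universal

end Groth.Agent.Lib.helper13.DiscComp
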