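import Mathlib

set_option autoImplicit false
universe u u' v' w w'

open CategoryTheory CategoryTheory.Limits

/-!
# Eilenberg–Watts via corepresentability (helper13)

`B` a preadditive category, `K : B`, `κ : A →+* End K` (`A` commutative).  `HomK K κ Y` is `K ⟶ Y` as an `A`-module
(`a • φ = κ a ≫ φ`).  `IsCorep K κ M X η` says that `(X, η : M →ₗ[A] HomK K κ X)` corepresents
`Y ↦ (M →ₗ[A] HomK K κ Y)`, i.e. `X = M ⊗_A K`.

* `IsCorep.lift`, `IsCorep.fac`, `IsCorep.hom_ext`, `IsCorep.map` (functoriality), `IsCorep.of_equiv`.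
* `isCorep_finsupp`: a coproduct `∐_J K` corepresents `J →₀ A`.
* `isCorep_of_cokernel`: cokernels.
-/

namespace Groth.Agent.Lib.helper13.EW

variable {A : Type u} [CommRing A] {B : Type u'} [Category.{v'} B] [Preadditive B]

/-- `K ⟶ Y` as an `A`-module through `κ : A →+* End K`. -/
def HomK (K : B) (_κ : A →+* End K) (Y : B) : Type v' := K ⟶ Y

namespace HomK

variable (K : B) (κ : A →+* End K)

instance (Y : B) : AddCommGroup (HomK K κ Y) := inferInstanceAs (AddCommGroup (K ⟶ Y))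

variable {K κ} in
/-- The underlying morphism. -/
def hom {Y : B} (φ : HomK K κ Y) : K ⟶ Y := φ

/-- Constructor. -/
def mk {Y : B} (φ : K ⟶ Y) : HomK K κ Y := φ

variable {K κ}

@[simp] lemma hom_mk {Y : B} (φ : K ⟶ Y) : (mk K κ φ).hom = φ := rfl
@[simp] lemma mk_hom {Y : B} (φ : HomK K κ Y) : mk K κ φ.hom = φ := rfl
@[ext] lemma ext {Y : B} {φ ψ : HomK K κ Y} (h : φ.hom = ψ.hom) : φ = ψ := h
@[simp] lemma hom_add {Y : B} (φ ψ : HomK K κ Y) : (φ + ψ).hom = φ.hom + ψ.hom := rfl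
@[simp] lemma hom_zero {Y : B} : (0 : HomK K κ Y).hom = 0 := rfl
@[simp] lemma hom_neg {Y : B} (φ : HomK K κ Y) : (-φ).hom = -φ.hom := rfl
@[simp] lemma hom_sub {Y : B} (φ ψ : HomK K κ Y) : (φ - ψ).hom = φ.hom - ψ.hom := rfl

instance (Y : B) : Module A (HomK K κ Y) where
  smul a φ := mk K κ ((κ a : K ⟶ K) ≫ φ.hom)
  one_smul φ := by
    show (κ 1 : K ⟶ K) ≫ φ.hom = φ.hom
    rw [map_one]; exact Category.id_comp _
  mul_smul a b φ := by
    show (κ (a * b) : K ⟶ K) ≫ φ.hom = (κ a : K ⟶ K) ≫ (κ b : K ⟶ K) ≫ φ.hom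
    rw [mul_comm, map_mul, End.mul_def, Category.assoc]
  smul_zero a := by
    show (κ a : K ⟶ K) ≫ (0 : K ⟶ _) = 0
    exact comp_zero
  smul_add a φ ψ := by
    show (κ a : K ⟶ K) ≫ (φ.hom + ψ.hom) = (κ a : K ⟶ K) ≫ φ.hom + (κ a : K ⟶ K) ≫ ψ.hom
    exact Preadditive.comp_add _ _ _ _ _ _
  add_smul a b φ := by
    show (κ (a + b) : K ⟶ K) ≫ φ.hom = (κ a : K ⟶ K) ≫ φ.hom + (κ b : K ⟶ K) ≫ φ.hom
    rw [map_add]; exact Preadditive.add_comp _ _ _ _ _ _
  zero_smul φ := by
    show (κ 0 : K ⟶ K) ≫ φ.hom = 0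
    rw [map_zero]; exact zero_comp

@[simp] lemma hom_smul {Y : B} (a : A) (φ : HomK K κ Y) : (a • φ).hom = (κ a : K ⟶ K) ≫ φ.hom := rfl

variable (K κ) in
/-- Postcomposition, `A`-linear. -/
def post {Y Z : B} (g : Y ⟶ Z) : HomK K κ Y →ₗ[A] HomK K κ Z where
  toFun φ := mk K κ (φ.hom ≫ g)
  map_add' φ ψ := by
    show (φ.hom + ψ.hom) ≫ g = φ.hom ≫ g + ψ.hom ≫ g
    exact Preadditive.add_comp _ _ _ _ _ _
  map_smul' a φ := by
    show ((κ a : K ⟶ K) ≫ φ.hom) ≫ g = (κ a : K ⟶ K) ≫ φ.hom ≫ g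
    exact Category.assoc _ _ _

@[simp] lemma post_apply_hom {Y Z : B} (g : Y ⟶ Z) (φ : HomK K κ Y) : (post K κ g φ).hom = φ.hom ≫ g := rfl

lemma post_comp {Y Z W : B} (g : Y ⟶ Z) (g' : Z ⟶ W) :
    post K κ (g ≫ g') = (post K κ g').comp (post K κ g) := by
  ext φ; simp

@[simp] lemma post_id {Y : B} : post K κ (𝟙 Y) = LinearMap.id := by
  ext φ; simp

end HomK

/-- `(X, η)` corepresents `Y ↦ (M →ₗ[A] HomK K κ Y)`. -/
structure IsCorep (K : B) (κ : A →+* End K) (M : Type w) [AddCommGroup M] [Module A M] (X : B)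
    (η : M →ₗ[A] HomK K κ X) : Prop where
  bij : ∀ Y : B, Function.Bijective (fun g : X ⟶ Y => (HomK.post K κ g).comp η)

namespace IsCorep

variable {K : B} {κ : A →+* End K} {M : Type w} [AddCommGroup M] [Module A M] {X : B}
  {η : M →ₗ[A] HomK K κ X} (h : IsCorep K κ M X η)

include h

/-- The morphism induced by a linear map. -/
noncomputable def lift {Y : B} (ψ : M →ₗ[A] HomK K κ Y) : X ⟶ Y := ((h.bij Y).2 ψ).choose

lemma post_lift {Y : B} (ψ : M →ₗ[A] HomK K κ Y) : (HomK.post K κ (h.lift ψ)).comp η = ψ :=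
  ((h.bij Y).2 ψ).choose_spec

@[reassoc]
lemma fac {Y : B} (ψ : M →ₗ[A] HomK K κ Y) (m : M) : (η m).hom ≫ h.lift ψ = (ψ m).hom := by
  have := congrArg (fun l => (l m).hom) (h.post_lift ψ)
  simpa using this

lemma hom_ext {Y : B} {g g' : X ⟶ Y} (hg : ∀ m, (η m).hom ≫ g = (η m).hom ≫ g') : g = g' := by
  apply (h.bij Y).1
  ext m
  exact hg m

lemma lift_eq {Y : B} (ψ : M →ₗ[A] HomK K κ Y) (g : X ⟶ Y) (hg : ∀ m, (η m).hom ≫ g = (ψ m).hom) :
    h.lift ψ = g :=
  h.hom_ext fun m => by rw [h.fac, hg]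

omit h in
/-- Transport along a linear equivalence. -/
lemma of_equiv {M' : Type w'} [AddCommGroup M'] [Module A M'] (h : IsCorep K κ M X η) (e : M' ≃ₗ[A] M) :
    IsCorep K κ M' X (η.comp e.toLinearMap) := by
  refine ⟨fun Y => ⟨fun g g' hg => ?_, fun ψ => ?_⟩⟩
  · apply (h.bij Y).1
    ext m
    have := congrArg (fun l => (l (e.symm m)).hom) hg
    simpa using this
  · refine ⟨h.lift (ψ.comp e.symm.toLinearMap), ?_⟩
    ext m
    simp [h.fac]

end IsCorep

section map

variable {K : B} {κ : A →+* End K} {M : Type w} [AddCommGroup M] [Module A M] {X : B}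
  {η : M →ₗ[A] HomK K κ X} (h : IsCorep K κ M X η)
  {M' : Type w'} [AddCommGroup M'] [Module A M'] {X' : B}
  {η' : M' →ₗ[A] HomK K κ X'} (h' : IsCorep K κ M' X' η')

/-- Functoriality of corepresenting objects. -/
noncomputable def IsCorep.map (_ : IsCorep K κ M' X' η') (f : M →ₗ[A] M') : X ⟶ X' := h.lift (η'.comp f)

@[reassoc]
lemma IsCorep.map_fac (f : M →ₗ[A] M') (m : M) : (η m).hom ≫ h.map h' f = (η' (f m)).hom :=
  h.fac _ m

lemma IsCorep.map_id : h.map h LinearMap.id = 𝟙 X :=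
  h.lift_eq _ _ fun m => by simp

lemma IsCorep.map_comp {M'' : Type*} [AddCommGroup M''] [Module A M''] {X'' : B}
    {η'' : M'' →ₗ[A] HomK K κ X''} (h'' : IsCorep K κ M'' X'' η'') (f : M →ₗ[A] M') (f' : M' →ₗ[A] M'') :
    h.map h'' (f'.comp f) = h.map h' f ≫ h'.map h'' f' :=
  h.lift_eq _ _ fun m => by
    rw [IsCorep.map_fac_assoc, IsCorep.map_fac]; rfl

lemma IsCorep.map_add (f g : M →ₗ[A] M') : h.map h' (f + g) = h.map h' f + h.map h' g :=
  h.lift_eq _ _ fun m => by
    rw [Preadditive.comp_add, IsCorep.map_fac, IsCorep.map_fac]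
    simp

lemma IsCorep.map_zero : h.map h' (0 : M →ₗ[A] M') = 0 :=
  h.lift_eq _ _ fun m => by simp

end map

section finsupp

variable (K : B) (κ : A →+* End K)

/-- The structure map of the coproduct. -/
noncomputable def ηFinsupp {J : Type w} (c : Cofan (fun _ : J => K)) : (J →₀ A) →ₗ[A] HomK K κ c.pt :=
  Finsupp.lift (HomK K κ c.pt) A J (fun j => HomK.mk K κ (c.inj j))

lemma ηFinsupp_single {J : Type w} (c : Cofan (fun _ : J => K)) (j : J) (a : A) :
    (ηFinsupp K κ c (Finsupp.single j a)).hom = (κ a : K ⟶ K) ≫ c.inj j := by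
  simp [ηFinsupp]

/-- A coproduct `∐_J K` corepresents `J →₀ A`. -/
theorem isCorep_finsupp {J : Type w} (c : Cofan (fun _ : J => K)) (hc : IsColimit c) :
    IsCorep K κ (J →₀ A) c.pt (ηFinsupp K κ c) := by
  refine ⟨fun Y => ⟨fun g g' hg => ?_, fun ψ => ?_⟩⟩
  · refine Cofan.IsColimit.hom_ext hc _ _ fun j => ?_
    have := congrArg (fun l => (l (Finsupp.single j 1)).hom) hg
    simpa [ηFinsupp_single] using this
  · refine ⟨Cofan.IsColimit.desc hc (fun j => (ψ (Finsupp.single j 1)).hom), ?_⟩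
    refine Finsupp.lhom_ext fun j a => ?_
    apply HomK.ext
    have : ψ (Finsupp.single j a) = a • ψ (Finsupp.single j 1) := by
      rw [← map_smul, Finsupp.smul_single, smul_eq_mul, mul_one]
    simp [ηFinsupp_single, this]

end finsupp

section cokernel

variable {K : B} {κ : A →+* End K} {M N P : Type w} [AddCommGroup M] [Module A M]
  [AddCommGroup N] [Module A N] [AddCommGroup P] [Module A P]
  {XM XN : B} {ηM : M →ₗ[A] HomK K κ XM} {ηN : N →ₗ[A] HomK K κ XN}

/-- Cokernels: if `XM`, `XN` corepresent `M`, `N`, `p : N → P` is surjective with `p ∘ f = 0`, `q : XN ⟶ Q` is a cokernel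
of the induced map `XM ⟶ XN` and `ηP ∘ p = (q ∘ -) ∘ ηN`, then `(Q, ηP)` corepresents `P`. -/
theorem isCorep_of_cokernel (hM : IsCorep K κ M XM ηM) (hN : IsCorep K κ N XN ηN) (f : M →ₗ[A] N)
    (p : N →ₗ[A] P) (hp : Function.Surjective p) (hpf : p.comp f = 0)
    {Q : B} (q : XN ⟶ Q) (hq0 : hM.map hN f ≫ q = 0) (hq : IsColimit (CokernelCofork.ofπ q hq0))
    (ηP : P →ₗ[A] HomK K κ Q) (hη : ηP.comp p = (HomK.post K κ q).comp ηN) : IsCorep K κ P Q ηP := by
  have hη' : ∀ n, (ηP (p n)).hom = (ηN n).hom ≫ q := fun n => by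
    have := congrArg (fun l => (l n).hom) hη
    simpa using this
  refine ⟨fun Y => ⟨fun g g' hg => ?_, fun ψ => ?_⟩⟩
  · refine Cofork.IsColimit.hom_ext hq ?_
    show q ≫ g = q ≫ g'
    refine hN.hom_ext fun n => ?_
    have := congrArg (fun l => (l (p n)).hom) hg
    simp only [LinearMap.comp_apply, HomK.post_apply_hom, hη', Category.assoc] at this
    exact this
  · have h0 : hM.map hN f ≫ hN.lift (ψ.comp p) = 0 := by
      refine hM.hom_ext fun m => ?_
      rw [IsCorep.map_fac_assoc, hN.fac, comp_zero]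
      have : p (f m) = 0 := LinearMap.congr_fun hpf m
      simp [this]
    refine ⟨hq.desc (CokernelCofork.ofπ _ h0), ?_⟩
    have hfac : q ≫ hq.desc (CokernelCofork.ofπ _ h0) = hN.lift (ψ.comp p) :=
      hq.fac (CokernelCofork.ofπ _ h0) WalkingParallelPair.one
    ext x
    obtain ⟨n, rfl⟩ := hp x
    simp only [LinearMap.comp_apply, HomK.post_apply_hom, hη', Category.assoc, hfac, hN.fac]

end cokernel

section iso

variable {K : B} {κ : A →+* End K} {M : Type w} [AddCommGroup M] [Module A M] {X X' : B}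
  {η : M →ₗ[A] HomK K κ X} {η' : M →ₗ[A] HomK K κ X'}

/-- Two corepresenting objects of the same module are isomorphic. -/
@[simps]
noncomputable def IsCorep.iso (h : IsCorep K κ M X η) (h' : IsCorep K κ M X' η') : X ≅ X' where
  hom := h.map h' LinearMap.id
  inv := h'.map h LinearMap.id
  hom_inv_id := by rw [← IsCorep.map_comp, LinearMap.comp_id, IsCorep.map_id]
  inv_hom_id := by rw [← IsCorep.map_comp, LinearMap.comp_id, IsCorep.map_id]

end iso

section self

variable (K : B) (κ : A →+* End K)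

/-- `K` itself corepresents `A`. -/
theorem isCorep_self : IsCorep K κ A K (LinearMap.toSpanSingleton A (HomK K κ K) (HomK.mk K κ (𝟙 K))) := by
  refine ⟨fun Y => ⟨fun g g' hg => ?_, fun ψ => ?_⟩⟩
  · have := congrArg (fun l => (l (1 : A)).hom) hg
    simpa using this
  · refine ⟨(ψ 1).hom, ?_⟩
    ext
    simp

lemma isCorep_self_map_lsmul (a : A) :
    (isCorep_self K κ).map (isCorep_self K κ) (LinearMap.lsmul A A a) = κ a :=
  (isCorep_self K κ).lift_eq _ _ fun x => by
    simp only [LinearMap.toSpanSingleton_apply, HomK.hom_smul, HomK.hom_mk, Category.comp_id,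
      LinearMap.comp_apply, LinearMap.lsmul_apply, smul_eq_mul, map_mul, End.mul_def]

end self

section cokernelMap

variable {K : B} {κ : A →+* End K} {M N P : Type w} [AddCommGroup M] [Module A M]
  [AddCommGroup N] [Module A N] [AddCommGroup P] [Module A P]
  {XM XN XP : B} {ηM : M →ₗ[A] HomK K κ XM} {ηN : N →ₗ[A] HomK K κ XN} {ηP : P →ₗ[A] HomK K κ XP}

lemma IsCorep.map_comp_eq_zero (hM : IsCorep K κ M XM ηM) (hN : IsCorep K κ N XN ηN) (hP : IsCorep K κ P XP ηP)
    (f : M →ₗ[A] N) (p : N →ₗ[A] P) (hpf : p.comp f = 0) : hM.map hN f ≫ hN.map hP p = 0 := by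
  rw [← IsCorep.map_comp, hpf, IsCorep.map_zero]

/-- Corepresenting objects turn right exact sequences into cokernel sequences. -/
noncomputable def isColimitCokernelCoforkMap (hM : IsCorep K κ M XM ηM) (hN : IsCorep K κ N XN ηN)
    (hP : IsCorep K κ P XP ηP) (f : M →ₗ[A] N) (p : N →ₗ[A] P) (hp : Function.Surjective p)
    (hex : LinearMap.ker p = LinearMap.range f) :
    IsColimit (CokernelCofork.ofπ (hN.map hP p) (hM.map_comp_eq_zero hN hP f p (by
      ext x
      have : f x ∈ LinearMap.ker p := hex ▸ LinearMap.mem_range_self _ x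
      simpa using this))) :=
  CokernelCofork.IsColimit.ofπ _ _
    (fun {Y} g hg => hP.lift (((LinearMap.ker p).liftQ ((HomK.post K κ g).comp ηN) (by
        rw [hex]
        rintro _ ⟨x, rfl⟩
        apply HomK.ext
        simp only [LinearMap.comp_apply, HomK.post_apply_hom, HomK.hom_zero]
        rw [← hM.map_fac_assoc hN f x, hg, comp_zero])).comp
        (LinearMap.quotKerEquivOfSurjective p hp).symm.toLinearMap))
    (fun {Y} g hg => hN.hom_ext fun n => by
      rw [IsCorep.map_fac_assoc, hP.fac]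
      have : (LinearMap.quotKerEquivOfSurjective p hp).symm (p n) = Submodule.Quotient.mk n := by
        rw [LinearEquiv.symm_apply_eq]; rfl
      simp only [LinearMap.comp_apply, LinearEquiv.coe_coe, this]
      rfl)
    (fun {Y} g hg m hm => by
      subst hm
      exact hP.hom_ext fun x => by
        obtain ⟨n, rfl⟩ := hp x
        rw [hP.fac]
        have : (LinearMap.quotKerEquivOfSurjective p hp).symm (p n) = Submodule.Quotient.mk n := by
          rw [LinearEquiv.symm_apply_eq]; rfl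
        simp only [LinearMap.comp_apply, LinearEquiv.coe_coe, this]
        rw [← IsCorep.map_fac_assoc hN hP p n]
        rfl)

end cokernelMap

end Groth.Agent.Lib.helper13.EW
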