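import Groth.Agent.Lib.Helper13.EW1

set_option autoImplicit false
universe u u' v' w w'

open CategoryTheory CategoryTheory.Limits

/-!
# The category of finitely presented modules (helper13)

`FP A` = full subcategory of `ModuleCat A` of finitely presented modules.  It is preadditive with zero object, binary
biproducts, cokernels (`FP.isColimitCokernelCofork`: a surjection with kernel the range of `f` is a cokernel of `f`),
finite coproducts and coequalizers.  `FP.isColimitFreeCofan`: `Fin n → A` is the coproduct of `n` copies of `A`.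
`FP.exists_presentation`: every object is a cokernel of a map `A^m ⟶ A^n`.
-/

namespace Groth.Agent.Lib.helper13.EW

variable (A : Type u) [CommRing A]

/-- The category of finitely presented `A`-modules. -/
abbrev FP := ObjectProperty.FullSubcategory (fun M : ModuleCat.{u} A => Module.FinitePresentation A M)

variable {A}

instance (M : FP A) : Module.FinitePresentation A M.obj := M.property

/-- Constructor for objects. -/
abbrev FP.of (M : Type u) [AddCommGroup M] [Module A M] [Module.FinitePresentation A M] : FP A :=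
  ⟨ModuleCat.of A M, inferInstance⟩

/-- Constructor for morphisms. -/
abbrev FP.homOf {M N : FP A} (f : M.obj →ₗ[A] N.obj) : M ⟶ N := ObjectProperty.homMk (ModuleCat.ofHom f)

/-- The underlying linear map. -/
abbrev FP.lin {M N : FP A} (f : M ⟶ N) : M.obj →ₗ[A] N.obj := f.hom.hom

lemma FP.hom_ext {M N : FP A} {f g : M ⟶ N} (h : FP.lin f = FP.lin g) : f = g := by
  apply ObjectProperty.hom_ext
  exact ModuleCat.hom_ext h

@[simp] lemma FP.lin_homOf {M N : FP A} (f : M.obj →ₗ[A] N.obj) : FP.lin (FP.homOf f) = f := rfl
@[simp] lemma FP.lin_comp {M N P : FP A} (f : M ⟶ N) (g : N ⟶ P) :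
    FP.lin (f ≫ g) = (FP.lin g).comp (FP.lin f) := rfl
@[simp] lemma FP.lin_id (M : FP A) : FP.lin (𝟙 M) = LinearMap.id := rfl
@[simp] lemma FP.lin_zero (M N : FP A) : FP.lin (0 : M ⟶ N) = 0 := rfl
@[simp] lemma FP.lin_add {M N : FP A} (f g : M ⟶ N) : FP.lin (f + g) = FP.lin f + FP.lin g := rfl
lemma FP.homOf_lin {M N : FP A} (f : M ⟶ N) : FP.homOf (FP.lin f) = f := rfl

lemma FP.comp_eq_zero_of_exact {M N P : FP A} (f : M ⟶ N) (p : N ⟶ P)
    (hex : LinearMap.ker (FP.lin p) = LinearMap.range (FP.lin f)) : f ≫ p = 0 :=
  FP.hom_ext (by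
    ext x
    have : FP.lin f x ∈ LinearMap.ker (FP.lin p) := hex ▸ LinearMap.mem_range_self _ x
    simpa using this)

/-- A cokernel cofork in `FP A` from a surjection with the right kernel. -/
noncomputable def FP.isColimitCokernelCofork {M N P : FP A} (f : M ⟶ N) (p : N ⟶ P)
    (hp : Function.Surjective (FP.lin p)) (hex : LinearMap.ker (FP.lin p) = LinearMap.range (FP.lin f)) :
    IsColimit (CokernelCofork.ofπ p (FP.comp_eq_zero_of_exact f p hex)) :=
  CokernelCofork.IsColimit.ofπ _ _
    (fun {Z} g hg => FP.homOf (((LinearMap.ker (FP.lin p)).liftQ (FP.lin g) (by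
        rw [hex]
        rintro _ ⟨x, rfl⟩
        have := congrArg (fun l => FP.lin l x) hg
        simpa using this)).comp (LinearMap.quotKerEquivOfSurjective _ hp).symm.toLinearMap))
    (fun {Z} g hg => FP.hom_ext (by
      ext x
      simp only [FP.lin_comp, FP.lin_homOf, LinearMap.comp_apply, LinearEquiv.coe_coe]
      have : (LinearMap.quotKerEquivOfSurjective _ hp).symm (FP.lin p x) = Submodule.Quotient.mk x := by
        rw [LinearEquiv.symm_apply_eq]; rfl
      rw [this]; rfl))
    (fun {Z} g hg m hm => FP.hom_ext (by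
      ext y
      obtain ⟨x, rfl⟩ := hp y
      simp only [FP.lin_homOf, LinearMap.comp_apply, LinearEquiv.coe_coe]
      have : (LinearMap.quotKerEquivOfSurjective _ hp).symm (FP.lin p x) = Submodule.Quotient.mk x := by
        rw [LinearEquiv.symm_apply_eq]; rfl
      rw [this]
      have := congrArg (fun l => FP.lin l x) hm
      simpa using this))

lemma FP.finitePresentation_quot {M N : FP A} (f : M ⟶ N) :
    Module.FinitePresentation A (N.obj ⧸ LinearMap.range (FP.lin f)) := by
  have hfg : (LinearMap.range (FP.lin f)).FG := by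
    rw [LinearMap.range_eq_map]
    exact Submodule.FG.map _ (Module.Finite.fg_top)
  exact Module.finitePresentation_of_surjective (LinearMap.range (FP.lin f)).mkQ
    (Submodule.mkQ_surjective _) (by rw [Submodule.ker_mkQ]; exact hfg)

/-- The explicit cokernel. -/
noncomputable def FP.quot {M N : FP A} (f : M ⟶ N) : FP A :=
  haveI := FP.finitePresentation_quot f
  FP.of (N.obj ⧸ LinearMap.range (FP.lin f))

/-- The projection to the explicit cokernel. -/
noncomputable def FP.quotπ {M N : FP A} (f : M ⟶ N) : N ⟶ FP.quot f :=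
  FP.homOf (LinearMap.range (FP.lin f)).mkQ

lemma FP.quotπ_surjective {M N : FP A} (f : M ⟶ N) : Function.Surjective (FP.lin (FP.quotπ f)) :=
  Submodule.mkQ_surjective _

lemma FP.ker_quotπ {M N : FP A} (f : M ⟶ N) :
    LinearMap.ker (FP.lin (FP.quotπ f)) = LinearMap.range (FP.lin f) :=
  Submodule.ker_mkQ _

instance : HasCokernels (FP A) where
  has_colimit {M N} f :=
    ⟨⟨_, FP.isColimitCokernelCofork f (FP.quotπ f) (FP.quotπ_surjective f) (FP.ker_quotπ f)⟩⟩

instance : HasZeroObject (FP A) := by
  refine ⟨⟨FP.of PUnit.{u+1}, ?_⟩⟩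
  rw [IsZero.iff_id_eq_zero]
  apply FP.hom_ext
  ext x

instance : HasBinaryBiproducts (FP A) where
  has_binary_biproduct M N := HasBinaryBiproduct.mk
    { bicone :=
        { pt := FP.of (M.obj × N.obj)
          fst := FP.homOf (LinearMap.fst A M.obj N.obj)
          snd := FP.homOf (LinearMap.snd A M.obj N.obj)
          inl := FP.homOf (LinearMap.inl A M.obj N.obj)
          inr := FP.homOf (LinearMap.inr A M.obj N.obj)
          inl_fst := FP.hom_ext (by ext x; rfl)
          inl_snd := FP.hom_ext (by ext x; rfl)
          inr_fst := FP.hom_ext (by ext x; rfl)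
          inr_snd := FP.hom_ext (by ext x; rfl) }
      isBilimit := isBinaryBilimitOfTotal _ (FP.hom_ext (by
        ext x
        all_goals simp)) }

instance : HasFiniteCoproducts (FP A) := hasFiniteCoproducts_of_has_binary_and_initial

instance : HasCoequalizers (FP A) := Preadditive.hasCoequalizers_of_hasCokernels

/-- `A` as an object of `FP A`. -/
abbrev FP.unit : FP A := FP.of A

/-- `Fin n → A` as an object of `FP A`. -/
abbrev FP.free (n : ℕ) : FP A := FP.of (Fin n → A)

/-- `Fin n → A` with the coordinate inclusions. -/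
noncomputable def FP.freeCofan (n : ℕ) : Cofan (fun _ : Fin n => (FP.unit : FP A)) :=
  Cofan.mk (FP.free n) (fun j => FP.homOf (LinearMap.single A (fun _ => A) j))

lemma lsum_comp_single {n : ℕ} {N : Type*} [AddCommGroup N] [Module A N] (f : Fin n → (A →ₗ[A] N)) (j : Fin n) :
    (LinearMap.lsum A (fun _ => A) A f).comp (LinearMap.single A (fun _ => A) j) = f j := by
  ext
  simp [Pi.single_apply, apply_ite]

/-- `Fin n → A` is the coproduct of `n` copies of `A`. -/
noncomputable def FP.isColimitFreeCofan (n : ℕ) : IsColimit (FP.freeCofan (A := A) n) :=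
  mkCofanColimit _ (fun s => FP.homOf (LinearMap.lsum A (fun _ => A) A (fun j => FP.lin (s.inj j))))
    (fun s j => FP.hom_ext (lsum_comp_single (fun j => FP.lin (s.inj j)) j))
    (fun s m hm => FP.hom_ext (by
      refine LinearMap.pi_ext' fun j => ?_
      have := congrArg FP.lin (hm j)
      exact this.trans (lsum_comp_single (fun j => FP.lin (s.inj j)) j).symm))

/-- Every object of `FP A` is a cokernel of a map between free objects. -/
theorem FP.exists_presentation (M : FP A) :
    ∃ (n m : ℕ) (f : FP.free (A := A) m ⟶ FP.free n) (p : FP.free n ⟶ M),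
      Function.Surjective (FP.lin p) ∧ LinearMap.ker (FP.lin p) = LinearMap.range (FP.lin f) := by
  obtain ⟨n, m, p, f, hp, hex⟩ := Module.FinitePresentation.exists_fin' A M.obj
  exact ⟨n, m, FP.homOf f, FP.homOf p, hp, (LinearMap.exact_iff.1 hex)⟩

end Groth.Agent.Lib.helper13.EW
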