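import Groth.Agent.Lib.Helper13.EW2

set_option autoImplicit false
universe u u' v' w w'

open CategoryTheory CategoryTheory.Limits

/-!
# `- ⊗_A K` on finitely presented modules with values in an additive category with cokernels (helper13)

For `K : B` and `κ : A →+* End K`, `tensorFunctor K κ : FP A ⥤ B` is right exact and sends `A` to `K`
(`tensorUnitIso`, compatible with the `A`-actions: `tensorFunctor_map_lsmul`).  Main statement `main` = S6725.
-/

namespace Groth.Agent.Lib.helper13.EW

variable {A : Type u} [CommRing A]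

section existence

variable {B : Type u'} [Category.{v'} B] [Preadditive B] [HasFiniteBiproducts B]
  (K : B) (κ : A →+* End K)

theorem exists_isCorep_free (n : ℕ) :
    ∃ (X : B) (η : (Fin n → A) →ₗ[A] HomK K κ X), IsCorep K κ (Fin n → A) X η :=
  ⟨_, _, (isCorep_finsupp K κ (biproduct.bicone fun _ : Fin n => K).toCocone (biproduct.isColimit _)).of_equiv
    (Finsupp.linearEquivFunOnFinite A A (Fin n)).symm⟩

variable [HasCokernels B]

theorem exists_isCorep (M : Type u) [AddCommGroup M] [Module A M] [Module.FinitePresentation A M] :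
    ∃ (X : B) (η : M →ₗ[A] HomK K κ X), IsCorep K κ M X η := by
  obtain ⟨n, m, p, f, hp, hex⟩ := Module.FinitePresentation.exists_fin' A M
  obtain ⟨XM, ηM, hM⟩ := exists_isCorep_free K κ m
  obtain ⟨XN, ηN, hN⟩ := exists_isCorep_free K κ n
  have hpf : p.comp f = 0 := by
    ext x
    simpa using hex.apply_apply_eq_zero (Pi.single x 1)
  have hle : LinearMap.ker p ≤ LinearMap.ker ((HomK.post K κ (cokernel.π (hM.map hN f))).comp ηN) := by
    intro y hy
    obtain ⟨x, rfl⟩ := (hex y).1 hy
    apply HomK.ext
    simp only [LinearMap.comp_apply, HomK.post_apply_hom, HomK.hom_zero]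
    rw [← hM.map_fac_assoc hN f x, cokernel.condition, comp_zero]
  refine ⟨cokernel (hM.map hN f),
    ((LinearMap.ker p).liftQ _ hle).comp (LinearMap.quotKerEquivOfSurjective p hp).symm.toLinearMap, ?_⟩
  refine isCorep_of_cokernel hM hN f p hp hpf (cokernel.π _) (cokernel.condition _)
    (cokernelIsCokernel _) _ ?_
  refine LinearMap.ext fun y => ?_
  have : (LinearMap.quotKerEquivOfSurjective p hp).symm (p y) = Submodule.Quotient.mk y := by
    rw [LinearEquiv.symm_apply_eq]; rfl
  simp only [LinearMap.comp_apply, LinearEquiv.coe_coe, this]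
  rfl

/-- The chosen corepresenting object `M ⊗_A K`. -/
noncomputable def tObj (M : FP A) : B := (exists_isCorep K κ M.obj).choose

/-- The universal map `M → Hom(K, M ⊗_A K)`. -/
noncomputable def tη (M : FP A) : M.obj →ₗ[A] HomK K κ (tObj K κ M) :=
  (exists_isCorep K κ M.obj).choose_spec.choose

lemma tCorep (M : FP A) : IsCorep K κ M.obj (tObj K κ M) (tη K κ M) :=
  (exists_isCorep K κ M.obj).choose_spec.choose_spec

/-- The functor `- ⊗_A K : FP A ⥤ B`. -/
noncomputable def tensorFunctor : FP A ⥤ B where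
  obj := tObj K κ
  map {M N} f := (tCorep K κ M).map (tCorep K κ N) (FP.lin f)
  map_id M := IsCorep.map_id _
  map_comp f g := IsCorep.map_comp _ _ _ _ _

instance : (tensorFunctor (A := A) K κ).Additive where
  map_add {M N f g} := IsCorep.map_add (tCorep K κ M) (tCorep K κ N) _ _

instance preservesCokernel_tensorFunctor {M N : FP A} (f : M ⟶ N) :
    PreservesColimit (parallelPair f 0) (tensorFunctor K κ) :=
  preservesColimit_of_preserves_colimit_cocone
    (FP.isColimitCokernelCofork f (FP.quotπ f) (FP.quotπ_surjective f) (FP.ker_quotπ f))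
    ((isColimitMapCoconeCoforkEquiv' (tensorFunctor K κ)
      (FP.comp_eq_zero_of_exact f (FP.quotπ f) (FP.ker_quotπ f))).symm
      (isColimitCokernelCoforkMap (tCorep K κ M) (tCorep K κ N) (tCorep K κ (FP.quot f)) (FP.lin f)
        (FP.lin (FP.quotπ f)) (FP.quotπ_surjective f) (FP.ker_quotπ f)))

instance : PreservesFiniteColimits (tensorFunctor (A := A) K κ) := by
  haveI : HasZeroObject B := hasZeroObject_of_hasFiniteBiproducts B
  exact Functor.preservesFiniteColimits_of_preservesCokernels _

/-- `A ⊗_A K ≅ K`. -/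
noncomputable def tensorUnitIso : (tensorFunctor K κ).obj (FP.unit : FP A) ≅ K :=
  (tCorep K κ FP.unit).iso (isCorep_self K κ)

lemma tensorFunctor_map_lsmul (a : A) :
    (tensorFunctor K κ).map (FP.homOf (LinearMap.lsmul A A a) : (FP.unit : FP A) ⟶ FP.unit) ≫
      (tensorUnitIso K κ).hom = (tensorUnitIso K κ).hom ≫ κ a := by
  show (tCorep K κ FP.unit).map (tCorep K κ FP.unit) (LinearMap.lsmul A A a) ≫
    (tCorep K κ FP.unit).map (isCorep_self K κ) LinearMap.id =
    (tCorep K κ FP.unit).map (isCorep_self K κ) LinearMap.id ≫ κ a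
  rw [← isCorep_self_map_lsmul K κ a, ← IsCorep.map_comp, ← IsCorep.map_comp]
  rfl

/-- Essential surjectivity of `F ↦ (F(A), A-action)` on right exact functors `FP A ⥤ B` (= S6725). -/
theorem main :
    ∃ (F : FP A ⥤ B) (_ : PreservesFiniteColimits F) (e : F.obj (FP.unit : FP A) ≅ K),
      ∀ a : A, F.map (FP.homOf (LinearMap.lsmul A A a) : (FP.unit : FP A) ⟶ FP.unit) ≫ e.hom = e.hom ≫ κ a :=
  ⟨tensorFunctor K κ, inferInstance, tensorUnitIso K κ, tensorFunctor_map_lsmul K κ⟩

end existence

end Groth.Agent.Lib.helper13.EW
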