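import Groth.Agent.Lib.Helper13.EW2

set_option autoImplicit false
universe u u' v' w w'

open CategoryTheory CategoryTheory.Limits

/-!
# Right exact functors on finitely presented modules are tensor products (helper13)

For an additive `F : FP A ⥤ B`: `κF F : A →+* End (F A)`, `unitF F M : M → Hom(F A, F M)`, `m ↦ F(m̂)`.
If `F` preserves finite colimits then `(F M, unitF F M)` corepresents `M` (`isCorep_unitF`), i.e. `F M = M ⊗_A F(A)`.
Consequences (`ff_unique`, `ff_exists` = S6726): natural transformations between right exact functors are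
determined by / can be prescribed on the component at `A`.
-/

namespace Groth.Agent.Lib.helper13.EW

variable {A : Type u} [CommRing A]

/-- `isCorep_of_cokernel` with the induced map given up to propositional equality. -/
theorem isCorep_of_cokernel' {B : Type u'} [Category.{v'} B] [Preadditive B] {K : B} {κ : A →+* End K}
    {M N P : Type w} [AddCommGroup M] [Module A M] [AddCommGroup N] [Module A N] [AddCommGroup P] [Module A P]
    {XM XN : B} {ηM : M →ₗ[A] HomK K κ XM} {ηN : N →ₗ[A] HomK K κ XN}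
    (hM : IsCorep K κ M XM ηM) (hN : IsCorep K κ N XN ηN) (f : M →ₗ[A] N)
    (p : N →ₗ[A] P) (hp : Function.Surjective p) (hpf : p.comp f = 0)
    (g : XM ⟶ XN) (hg : ∀ m, (ηM m).hom ≫ g = (ηN (f m)).hom)
    {Q : B} (q : XN ⟶ Q) (hq0 : g ≫ q = 0) (hq : IsColimit (CokernelCofork.ofπ q hq0))
    (ηP : P →ₗ[A] HomK K κ Q) (hη : ηP.comp p = (HomK.post K κ q).comp ηN) : IsCorep K κ P Q ηP := by
  obtain rfl : hM.map hN f = g := hM.lift_eq _ _ hg
  exact isCorep_of_cokernel hM hN f p hp hpf q hq0 hq ηP hη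

section finsupp'

variable {B : Type u'} [Category.{v'} B] [Preadditive B] (K : B) (κ : A →+* End K)

/-- Variant of `ηFinsupp` for a cofan given by its point and injections. -/
noncomputable def ηFinsupp' {J : Type w} (X : B) (ι : J → (K ⟶ X)) : (J →₀ A) →ₗ[A] HomK K κ X :=
  Finsupp.lift (HomK K κ X) A J (fun j => HomK.mk K κ (ι j))

lemma ηFinsupp'_single {J : Type w} (X : B) (ι : J → (K ⟶ X)) (j : J) (a : A) :
    (ηFinsupp' K κ X ι (Finsupp.single j a)).hom = (κ a : K ⟶ K) ≫ ι j := by
  simp [ηFinsupp']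

theorem isCorep_finsupp' {J : Type w} (X : B) (ι : J → (K ⟶ X)) (hc : IsColimit (Cofan.mk X ι)) :
    IsCorep K κ (J →₀ A) X (ηFinsupp' K κ X ι) :=
  isCorep_finsupp K κ (Cofan.mk X ι) hc

end finsupp'

/-- `m̂ : A ⟶ M`, `1 ↦ m`. -/
abbrev FP.pt {M : FP A} (m : M.obj) : (FP.unit : FP A) ⟶ M := FP.homOf (LinearMap.toSpanSingleton A M.obj m)

/-- Multiplication by `a` on `A`. -/
abbrev FP.smulHom (a : A) : (FP.unit : FP A) ⟶ FP.unit := FP.homOf (LinearMap.lsmul A A a)

lemma FP.pt_add {M : FP A} (m m' : M.obj) : FP.pt (m + m') = FP.pt m + FP.pt m' :=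
  FP.hom_ext (by ext; simp)

lemma FP.pt_smul {M : FP A} (a : A) (m : M.obj) :
    FP.pt (a • m) = FP.smulHom a ≫ FP.pt m :=
  FP.hom_ext (by ext; simp)

lemma FP.pt_comp {M N : FP A} (m : M.obj) (g : M ⟶ N) : FP.pt m ≫ g = FP.pt (FP.lin g m) :=
  FP.hom_ext (by ext; simp)

lemma FP.pt_unit (a : A) : (FP.pt (M := FP.unit) a : (FP.unit : FP A) ⟶ FP.unit) = FP.smulHom a :=
  FP.hom_ext (by ext; simp)

section unit

variable {B : Type u'} [Category.{v'} B] [Preadditive B] (F : FP A ⥤ B) [F.Additive]

/-- The action of `A` on `F(A)`. -/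
def κF : A →+* End (F.obj FP.unit) where
  toFun a := F.map (FP.smulHom a)
  map_one' := by
    have : FP.smulHom (1 : A) = 𝟙 _ :=
      FP.hom_ext (by ext; simp)
    rw [this, F.map_id]; rfl
  map_mul' a b := by
    have : FP.smulHom (a * b) =
        FP.smulHom b ≫ FP.smulHom a :=
      FP.hom_ext (by ext; simp)
    rw [this, F.map_comp, End.mul_def]
  map_zero' := by
    have : FP.smulHom (0 : A) = 0 :=
      FP.hom_ext (by ext; simp)
    rw [this, F.map_zero]
  map_add' a b := by
    have : FP.smulHom (a + b) =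
        FP.smulHom a + FP.smulHom b :=
      FP.hom_ext (by ext; simp)
    rw [this, F.map_add]

@[simp] lemma κF_apply (a : A) : (κF F a : F.obj FP.unit ⟶ F.obj FP.unit) =
    F.map (FP.smulHom a) := rfl

/-- `m ↦ F(m̂)`. -/
def unitF (M : FP A) : M.obj →ₗ[A] HomK (F.obj FP.unit) (κF F) (F.obj M) where
  toFun m := HomK.mk _ _ (F.map (FP.pt m))
  map_add' m m' := by
    apply HomK.ext
    simp [FP.pt_add, F.map_add]
  map_smul' a m := by
    apply HomK.ext
    simp [FP.pt_smul, F.map_comp]

@[simp] lemma unitF_apply_hom (M : FP A) (m : M.obj) : (unitF F M m).hom = F.map (FP.pt m) := rfl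

@[reassoc]
lemma unitF_naturality {M N : FP A} (g : M ⟶ N) (m : M.obj) :
    (unitF F M m).hom ≫ F.map g = (unitF F N (FP.lin g m)).hom := by
  simp [← F.map_comp, FP.pt_comp]

lemma unitF_map {M N : FP A} (hM : IsCorep _ (κF F) M.obj (F.obj M) (unitF F M))
    (hN : IsCorep _ (κF F) N.obj (F.obj N) (unitF F N)) (g : M ⟶ N) : hM.map hN (FP.lin g) = F.map g :=
  hM.lift_eq _ _ fun m => unitF_naturality F g m

variable [PreservesFiniteColimits F]

lemma isCorep_unitF_free (n : ℕ) :
    IsCorep _ (κF F) (Fin n → A) (F.obj (FP.free n)) (unitF F (FP.free n)) := by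
  have hc : IsColimit (Cofan.mk (F.obj (FP.free n)) (fun j : Fin n =>
      F.map (FP.homOf (LinearMap.single A (fun _ => A) j) : (FP.unit : FP A) ⟶ FP.free n))) :=
    isColimitMapCoconeCofanMkEquiv F _ _ (isColimitOfPreserves F (FP.isColimitFreeCofan n))
  have h := (isCorep_finsupp' _ (κF F) _ _ hc).of_equiv (Finsupp.linearEquivFunOnFinite A A (Fin n)).symm
  have key : unitF F (FP.free n) = (ηFinsupp' (F.obj FP.unit) (κF F) (F.obj (FP.free n))
      (fun j => F.map (FP.homOf (LinearMap.single A (fun _ => A) j) :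
        (FP.unit : FP A) ⟶ FP.free n))).comp
      (Finsupp.linearEquivFunOnFinite A A (Fin n)).symm.toLinearMap := by
    refine LinearMap.pi_ext fun j a => ?_
    apply HomK.ext
    have hs : (Finsupp.linearEquivFunOnFinite A A (Fin n)).symm (Pi.single j a) = Finsupp.single j a := by
      rw [LinearEquiv.symm_apply_eq, Finsupp.linearEquivFunOnFinite_single]
    rw [LinearMap.comp_apply, LinearEquiv.coe_coe, hs]
    refine (?_ : F.map (FP.pt (M := FP.free n) (Pi.single j a)) = _).trans
      (ηFinsupp'_single _ (κF F) _ _ j a).symm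
    show F.map _ = F.map (FP.smulHom a) ≫
      F.map (FP.homOf (LinearMap.single A (fun _ => A) j) : (FP.unit : FP A) ⟶ FP.free n)
    rw [← F.map_comp]
    congr 1
    apply FP.hom_ext
    refine LinearMap.ext_ring ?_
    show (1 : A) • (Pi.single j a : Fin n → A) = Pi.single j (a • (1 : A))
    rw [one_smul, smul_eq_mul, mul_one]
  rw [key]
  exact h

/-- A right exact functor on `FP A` is `- ⊗_A F(A)`. -/
theorem isCorep_unitF (M : FP A) : IsCorep _ (κF F) M.obj (F.obj M) (unitF F M) := by
  obtain ⟨n, m, f, p, hp, hex⟩ := FP.exists_presentation M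
  have h0 : f ≫ p = 0 := FP.comp_eq_zero_of_exact f p hex
  refine isCorep_of_cokernel' (isCorep_unitF_free F m) (isCorep_unitF_free F n) (FP.lin f) (FP.lin p) hp
    (congrArg FP.lin h0) (F.map f) (fun x => unitF_naturality F f x) (F.map p)
    (by rw [← F.map_comp, h0, F.map_zero]) ?_ (unitF F M) ?_
  · exact isColimitMapCoconeCoforkEquiv' F h0 (isColimitOfPreserves F (FP.isColimitCokernelCofork f p hp hex))
  · ext x
    exact (unitF_naturality F p _).symm

end unit

section ff

variable {B : Type u'} [Category.{v'} B] [Preadditive B] (F F' : FP A ⥤ B) [F.Additive] [F'.Additive]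
  [PreservesFiniteColimits F]

/-- A natural transformation out of a right exact functor on `FP A` is determined by its component at `A`. -/
theorem ff_unique (t t' : F ⟶ F') (h : t.app (FP.unit : FP A) = t'.app FP.unit) : t = t' := by
  ext M
  refine (isCorep_unitF F M).hom_ext fun m => ?_
  simp only [unitF_apply_hom, NatTrans.naturality, h]

/-- A morphism `F(A) ⟶ F'(A)` commuting with the `A`-actions extends to a natural transformation. -/
theorem ff_exists (φ : F.obj (FP.unit : FP A) ⟶ F'.obj FP.unit)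
    (hφ : ∀ a : A, F.map (FP.smulHom a) ≫ φ =
      φ ≫ F'.map (FP.smulHom a)) :
    ∃ t : F ⟶ F', t.app FP.unit = φ := by
  let ψ : ∀ M : FP A, M.obj →ₗ[A] HomK (F.obj FP.unit) (κF F) (F'.obj M) := fun M =>
    { toFun := fun m => HomK.mk _ _ (φ ≫ F'.map (FP.pt m))
      map_add' := fun m m' => by
        apply HomK.ext
        simp [FP.pt_add, F'.map_add]
      map_smul' := fun a m => by
        apply HomK.ext
        simp only [FP.pt_smul, F'.map_comp, HomK.hom_mk, RingHom.id_apply, HomK.hom_smul, κF_apply]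
        rw [reassoc_of% (hφ a)] }
  have hψ : ∀ (M : FP A) (m : M.obj), (ψ M m).hom = φ ≫ F'.map (FP.pt m) := fun M m => rfl
  refine ⟨{ app := fun M => (isCorep_unitF F M).lift (ψ M), naturality := fun M N g => ?_ }, ?_⟩
  · refine (isCorep_unitF F M).hom_ext fun m => ?_
    rw [unitF_naturality_assoc, IsCorep.fac, IsCorep.fac_assoc, hψ, hψ, Category.assoc, ← F'.map_comp,
      FP.pt_comp]
  · refine (isCorep_unitF F FP.unit).hom_ext fun a => ?_
    rw [IsCorep.fac, hψ, unitF_apply_hom, FP.pt_unit]
    exact (hφ a).symm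

end ff

end Groth.Agent.Lib.helper13.EW
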