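import Groth.Agent.Lib.Helper13.EW4

set_option autoImplicit false
universe u u' v' w w'

open CategoryTheory CategoryTheory.Limits

/-!
# Eilenberg–Watts on all modules (helper13)

For an additive `F : ModuleCat A ⥤ ℬ` preserving finite colimits and coproducts: `κM F : A →+* End (F A)`,
`unitM F M : M → Hom(F A, F M)`, and `(F M, unitM F M)` corepresents `M` (`isCorep_unitM`).  Consequences
`ffM_unique`, `ffM_exists`.
-/

namespace Groth.Agent.Lib.helper13.EW

variable {A : Type u} [CommRing A]

/-- `A` as an `A`-module. -/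
abbrev MC.unit : ModuleCat.{u} A := ModuleCat.of A A

/-- Multiplication by `a` on `A`. -/
abbrev MC.smulHom (a : A) : (MC.unit : ModuleCat.{u} A) ⟶ MC.unit := ModuleCat.ofHom (LinearMap.lsmul A A a)

/-- `m̂ : A ⟶ M`, `1 ↦ m`. -/
abbrev MC.pt {M : ModuleCat.{u} A} (m : M) : (MC.unit : ModuleCat.{u} A) ⟶ M :=
  ModuleCat.ofHom (LinearMap.toSpanSingleton A M m)

lemma MC.pt_add {M : ModuleCat.{u} A} (m m' : M) : MC.pt (m + m') = MC.pt m + MC.pt m' := by
  ext; simp

lemma MC.pt_smul {M : ModuleCat.{u} A} (a : A) (m : M) : MC.pt (a • m) = MC.smulHom a ≫ MC.pt m := by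
  ext; simp

lemma MC.pt_comp {M N : ModuleCat.{u} A} (m : M) (g : M ⟶ N) : MC.pt m ≫ g = MC.pt (g.hom m) := by
  ext; simp

lemma MC.pt_unit (a : A) : (MC.pt (M := MC.unit) a : (MC.unit : ModuleCat.{u} A) ⟶ MC.unit) = MC.smulHom a := by
  ext; simp

/-- A cokernel cofork in `ModuleCat A` from a surjection with the right kernel. -/
noncomputable def MC.isColimitCokernelCofork {M N P : ModuleCat.{u} A} (f : M ⟶ N) (p : N ⟶ P)
    (hp : Function.Surjective p.hom) (hex : LinearMap.ker p.hom = LinearMap.range f.hom) (h0 : f ≫ p = 0) :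
    IsColimit (CokernelCofork.ofπ p h0) :=
  CokernelCofork.IsColimit.ofπ _ _
    (fun {Z} g hg => ModuleCat.ofHom (((LinearMap.ker p.hom).liftQ g.hom (by
        rw [hex]
        rintro _ ⟨x, rfl⟩
        have := congrArg (fun l => l.hom x) hg
        simpa using this)).comp (LinearMap.quotKerEquivOfSurjective _ hp).symm.toLinearMap))
    (fun {Z} g hg => by
      ext x
      simp only [ModuleCat.hom_comp, ModuleCat.hom_ofHom, LinearMap.comp_apply, LinearEquiv.coe_coe]
      have : (LinearMap.quotKerEquivOfSurjective _ hp).symm (p.hom x) = Submodule.Quotient.mk x := by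
        rw [LinearEquiv.symm_apply_eq]; rfl
      rw [this]; rfl)
    (fun {Z} g hg m hm => by
      ext y
      obtain ⟨x, rfl⟩ := hp y
      simp only [ModuleCat.hom_ofHom, LinearMap.comp_apply, LinearEquiv.coe_coe]
      have : (LinearMap.quotKerEquivOfSurjective _ hp).symm (p.hom x) = Submodule.Quotient.mk x := by
        rw [LinearEquiv.symm_apply_eq]; rfl
      rw [this]
      have := congrArg (fun l => l.hom x) hm
      simpa using this)

/-- `J →₀ A` with the coordinate inclusions. -/
noncomputable def MC.freeCofan (J : Type u) : Cofan (fun _ : J => (MC.unit : ModuleCat.{u} A)) :=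
  Cofan.mk (ModuleCat.of A (J →₀ A)) (fun j => ModuleCat.ofHom (Finsupp.lsingle j))

/-- `J →₀ A` is the coproduct of `J` copies of `A`. -/
noncomputable def MC.isColimitFreeCofan (J : Type u) : IsColimit (MC.freeCofan (A := A) J) :=
  mkCofanColimit _ (fun s => ModuleCat.ofHom (Finsupp.lsum A (fun j => (s.inj j).hom)))
    (fun s j => by
      ext : 1
      exact Finsupp.lsum_comp_lsingle (S := A) (fun j => (s.inj j).hom) j)
    (fun s m hm => by
      ext : 1
      refine Finsupp.lhom_ext' fun j => ?_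
      have := congrArg ModuleCat.Hom.hom (hm j)
      exact this.trans (Finsupp.lsum_comp_lsingle (S := A) (fun j => (s.inj j).hom) j).symm)

section unit

variable {ℬ : Type u'} [Category.{v'} ℬ] [Preadditive ℬ] (F : ModuleCat.{u} A ⥤ ℬ) [F.Additive]

/-- The action of `A` on `F(A)`. -/
def κM : A →+* End (F.obj MC.unit) where
  toFun a := F.map (MC.smulHom a)
  map_one' := by
    have : MC.smulHom (1 : A) = 𝟙 _ := by ext; simp
    rw [this, F.map_id]; rfl
  map_mul' a b := by
    have : MC.smulHom (a * b) = MC.smulHom b ≫ MC.smulHom a := by ext; simp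
    rw [this, F.map_comp, End.mul_def]
  map_zero' := by
    have : MC.smulHom (0 : A) = 0 := by ext; simp
    rw [this, F.map_zero]
  map_add' a b := by
    have : MC.smulHom (a + b) = MC.smulHom a + MC.smulHom b := by ext; simp
    rw [this, F.map_add]

@[simp] lemma κM_apply (a : A) : (κM F a : F.obj MC.unit ⟶ F.obj MC.unit) = F.map (MC.smulHom a) := rfl

/-- `m ↦ F(m̂)`. -/
def unitM (M : ModuleCat.{u} A) : M →ₗ[A] HomK (F.obj MC.unit) (κM F) (F.obj M) where
  toFun m := HomK.mk _ _ (F.map (MC.pt m))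
  map_add' m m' := by
    apply HomK.ext
    simp [MC.pt_add, F.map_add]
  map_smul' a m := by
    apply HomK.ext
    simp [MC.pt_smul, F.map_comp]

@[simp] lemma unitM_apply_hom (M : ModuleCat.{u} A) (m : M) : (unitM F M m).hom = F.map (MC.pt m) := rfl

@[reassoc]
lemma unitM_naturality {M N : ModuleCat.{u} A} (g : M ⟶ N) (m : M) :
    (unitM F M m).hom ≫ F.map g = (unitM F N (g.hom m)).hom := by
  simp [← F.map_comp, MC.pt_comp]

lemma unitM_map {M N : ModuleCat.{u} A} (hM : IsCorep _ (κM F) M (F.obj M) (unitM F M))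
    (hN : IsCorep _ (κM F) N (F.obj N) (unitM F N)) (g : M ⟶ N) : hM.map hN g.hom = F.map g :=
  hM.lift_eq _ _ fun m => unitM_naturality F g m

variable [PreservesFiniteColimits F] [∀ J : Type u, PreservesColimitsOfShape (Discrete J) F]

lemma isCorep_unitM_free (J : Type u) :
    IsCorep _ (κM F) (J →₀ A) (F.obj (ModuleCat.of A (J →₀ A))) (unitM F (ModuleCat.of A (J →₀ A))) := by
  have hc : IsColimit (Cofan.mk (F.obj (ModuleCat.of A (J →₀ A))) (fun j : J =>
      F.map (ModuleCat.ofHom (Finsupp.lsingle j) : (MC.unit : ModuleCat.{u} A) ⟶ ModuleCat.of A (J →₀ A)))) :=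
    isColimitMapCoconeCofanMkEquiv F _ _ (isColimitOfPreserves F (MC.isColimitFreeCofan J))
  have h := isCorep_finsupp' _ (κM F) _ _ hc
  have key : unitM F (ModuleCat.of A (J →₀ A)) = ηFinsupp' (F.obj MC.unit) (κM F)
      (F.obj (ModuleCat.of A (J →₀ A)))
      (fun j => F.map (ModuleCat.ofHom (Finsupp.lsingle j) :
        (MC.unit : ModuleCat.{u} A) ⟶ ModuleCat.of A (J →₀ A))) := by
    refine Finsupp.lhom_ext fun j a => ?_
    apply HomK.ext
    refine (?_ : F.map (MC.pt (M := ModuleCat.of A (J →₀ A)) (Finsupp.single j a)) = _).trans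
      (ηFinsupp'_single _ (κM F) _ _ j a).symm
    show F.map _ = F.map (MC.smulHom a) ≫
      F.map (ModuleCat.ofHom (Finsupp.lsingle j) : (MC.unit : ModuleCat.{u} A) ⟶ ModuleCat.of A (J →₀ A))
    rw [← F.map_comp]
    congr 1
    ext : 1
    refine LinearMap.ext_ring ?_
    show (1 : A) • (Finsupp.single j a : J →₀ A) = Finsupp.single j (a • (1 : A))
    rw [one_smul, smul_eq_mul, mul_one]
  rw [key]
  exact h

/-- A right exact functor on `ModuleCat A` preserving coproducts is `- ⊗_A F(A)`. -/
theorem isCorep_unitM (M : ModuleCat.{u} A) : IsCorep _ (κM F) M (F.obj M) (unitM F M) := by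
  let p : (M →₀ A) →ₗ[A] M := Finsupp.linearCombination A (id : M → M)
  have hp : Function.Surjective p := Finsupp.linearCombination_id_surjective A M
  let S := LinearMap.ker p
  let f : (S →₀ A) →ₗ[A] (M →₀ A) := Finsupp.linearCombination A (Subtype.val : S → (M →₀ A))
  have hex : LinearMap.ker p = LinearMap.range f := by
    rw [Finsupp.range_linearCombination, Subtype.range_coe_subtype]
    exact (Submodule.span_eq _).symm
  have hpf : p.comp f = 0 := by
    refine LinearMap.ext fun x => ?_
    have : f x ∈ LinearMap.ker p := hex ▸ LinearMap.mem_range_self _ x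
    simpa using this
  have h0 : (ModuleCat.ofHom f : ModuleCat.of A (S →₀ A) ⟶ ModuleCat.of A (M →₀ A)) ≫
      (ModuleCat.ofHom p : ModuleCat.of A (M →₀ A) ⟶ M) = 0 := by
    rw [← ModuleCat.ofHom_comp, hpf]; rfl
  refine isCorep_of_cokernel' (isCorep_unitM_free F S) (isCorep_unitM_free F M) f p hp hpf
    (F.map (ModuleCat.ofHom f)) (fun x => unitM_naturality F (ModuleCat.ofHom f) x) (F.map (ModuleCat.ofHom p))
    (by rw [← F.map_comp, h0, F.map_zero]) ?_ (unitM F M) ?_
  · exact isColimitMapCoconeCoforkEquiv' F h0 (isColimitOfPreserves F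
      (MC.isColimitCokernelCofork (ModuleCat.ofHom f) (ModuleCat.ofHom p) hp hex h0))
  · ext x
    exact (unitM_naturality F (ModuleCat.ofHom p) _).symm

end unit

section ff

variable {ℬ : Type u'} [Category.{v'} ℬ] [Preadditive ℬ] (F F' : ModuleCat.{u} A ⥤ ℬ) [F.Additive] [F'.Additive]
  [PreservesFiniteColimits F] [∀ J : Type u, PreservesColimitsOfShape (Discrete J) F]

/-- A natural transformation out of a right exact, coproduct preserving functor on `ModuleCat A` is determined by
its component at `A`. -/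
theorem ffM_unique (t t' : F ⟶ F') (h : t.app (MC.unit : ModuleCat.{u} A) = t'.app MC.unit) : t = t' := by
  ext M
  refine (isCorep_unitM F M).hom_ext fun m => ?_
  simp only [unitM_apply_hom, NatTrans.naturality, h]

/-- A morphism `F(A) ⟶ F'(A)` commuting with the `A`-actions extends to a natural transformation. -/
theorem ffM_exists (φ : F.obj (MC.unit : ModuleCat.{u} A) ⟶ F'.obj MC.unit)
    (hφ : ∀ a : A, F.map (MC.smulHom a) ≫ φ = φ ≫ F'.map (MC.smulHom a)) :
    ∃ t : F ⟶ F', t.app MC.unit = φ := by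
  let ψ : ∀ M : ModuleCat.{u} A, M →ₗ[A] HomK (F.obj MC.unit) (κM F) (F'.obj M) := fun M =>
    { toFun := fun m => HomK.mk _ _ (φ ≫ F'.map (MC.pt m))
      map_add' := fun m m' => by
        apply HomK.ext
        simp [MC.pt_add, F'.map_add]
      map_smul' := fun a m => by
        apply HomK.ext
        simp only [MC.pt_smul, F'.map_comp, HomK.hom_mk, RingHom.id_apply, HomK.hom_smul, κM_apply]
        rw [reassoc_of% (hφ a)] }
  have hψ : ∀ (M : ModuleCat.{u} A) (m : M), (ψ M m).hom = φ ≫ F'.map (MC.pt m) := fun M m => rfl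
  refine ⟨{ app := fun M => (isCorep_unitM F M).lift (ψ M), naturality := fun M N g => ?_ }, ?_⟩
  · refine (isCorep_unitM F M).hom_ext fun m => ?_
    rw [unitM_naturality_assoc, IsCorep.fac, IsCorep.fac_assoc, hψ, hψ, Category.assoc, ← F'.map_comp,
      MC.pt_comp]
  · refine (isCorep_unitM F MC.unit).hom_ext fun a => ?_
    rw [IsCorep.fac, hψ, unitM_apply_hom, MC.pt_unit]
    exact (hφ a).symm

end ff

end Groth.Agent.Lib.helper13.EW
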