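import Groth.Agent.Lib.Helper13.EW5

set_option autoImplicit false
universe u u' v' w w'

open CategoryTheory CategoryTheory.Limits TensorProduct

/-!
# Eilenberg–Watts: right exact coproduct preserving functors between module categories are tensor products (helper13)

For additive `F : ModuleCat A ⥤ ModuleCat R₂` preserving finite colimits and coproducts, `KT F = F(A)` is an
`(A, R₂)`-bimodule and `tensorEquiv F M : KT F ⊗[A] M ≃ₗ[R₂] F.obj M` is natural in `M` (`tensorEquiv_naturality`).
-/

namespace Groth.Agent.Lib.helper13.EW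

variable {A : Type u} [CommRing A] {R₂ : Type u} [CommRing R₂]

section

variable (F : ModuleCat.{u} A ⥤ ModuleCat.{u} R₂) [F.Additive]

/-- The underlying type of `F(A)`. -/
def KT : Type u := F.obj (MC.unit : ModuleCat.{u} A)

instance : AddCommGroup (KT F) := inferInstanceAs (AddCommGroup (F.obj (MC.unit : ModuleCat.{u} A)))
instance : Module R₂ (KT F) := inferInstanceAs (Module R₂ (F.obj (MC.unit : ModuleCat.{u} A)))

/-- The action of `A` on `F(A)` by `R₂`-linear endomorphisms. -/
def actM : A →+* Module.End R₂ (KT F) where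
  toFun a := (F.map (MC.smulHom a)).hom
  map_one' := by
    have : MC.smulHom (1 : A) = 𝟙 _ := by ext; simp
    rw [this, F.map_id]; rfl
  map_mul' a b := by
    have : MC.smulHom (a * b) = MC.smulHom b ≫ MC.smulHom a := by ext; simp
    rw [this, F.map_comp]; rfl
  map_zero' := by
    have : MC.smulHom (0 : A) = 0 := by ext; simp
    rw [this, F.map_zero]; rfl
  map_add' a b := by
    have : MC.smulHom (a + b) = MC.smulHom a + MC.smulHom b := by ext; simp
    rw [this, F.map_add]; rfl

instance : Module A (KT F) := Module.compHom (KT F) (actM F)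

lemma KT.smul_def (a : A) (k : KT F) : a • k = (F.map (MC.smulHom a)).hom k := rfl

instance : SMulCommClass A R₂ (KT F) where
  smul_comm a b k := by
    rw [KT.smul_def, KT.smul_def]
    exact (F.map (MC.smulHom a)).hom.map_smul b k

/-- `k ↦ k ⊗ m`, `R₂`-linear. -/
def tmulRight (M : ModuleCat.{u} A) (m : M) : KT F →ₗ[R₂] KT F ⊗[A] M where
  toFun k := k ⊗ₜ m
  map_add' k k' := add_tmul k k' m
  map_smul' b k := rfl

/-- The universal map for the tensor product. -/
def ηT (M : ModuleCat.{u} A) :
    M →ₗ[A] HomK (F.obj MC.unit) (κM F) (ModuleCat.of R₂ (KT F ⊗[A] M)) where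
  toFun m := HomK.mk _ _ (ModuleCat.ofHom (tmulRight F M m))
  map_add' m m' := by
    apply HomK.ext
    refine ModuleCat.hom_ext (LinearMap.ext fun (k : KT F) => ?_)
    show k ⊗ₜ[A] (m + m') = k ⊗ₜ[A] m + k ⊗ₜ[A] m'
    exact tmul_add k m m'
  map_smul' a m := by
    apply HomK.ext
    refine ModuleCat.hom_ext (LinearMap.ext fun (k : KT F) => ?_)
    show k ⊗ₜ[A] (a • m) = (a • k) ⊗ₜ[A] m
    exact (smul_tmul a k m).symm

lemma ηT_apply (M : ModuleCat.{u} A) (m : M) (k : KT F) :
    (ηT F M m).hom.hom k = k ⊗ₜ[A] m := rfl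

/-- `KT F ⊗[A] M` corepresents `M`. -/
theorem isCorep_tensor (M : ModuleCat.{u} A) :
    IsCorep _ (κM F) M (ModuleCat.of R₂ (KT F ⊗[A] M)) (ηT F M) := by
  refine ⟨fun Y => ⟨fun g g' hg => ?_, fun ψ => ?_⟩⟩
  · refine ModuleCat.hom_ext (LinearMap.ext fun (x : KT F ⊗[A] M) => ?_)
    induction x using TensorProduct.induction_on with
    | zero => rw [map_zero, map_zero]
    | tmul k m =>
      have := congrArg (fun l => (l m).hom.hom k) hg
      exact this
    | add x y hx hy => rw [map_add, map_add, hx, hy]
  · let f : KT F →+ M →+ Y :=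
      { toFun := fun k =>
          { toFun := fun m => (ψ m).hom.hom k
            map_zero' := by rw [map_zero]; rfl
            map_add' := fun m m' => by rw [map_add]; rfl }
        map_zero' := by ext m; exact map_zero ((ψ m).hom.hom)
        map_add' := fun k k' => by ext m; exact map_add ((ψ m).hom.hom) k k' }
    have hf : ∀ (a : A) (k : KT F) (m : M), f (a • k) m = f k (a • m) := fun a k m => by
      show (ψ m).hom.hom (a • k) = (ψ (a • m)).hom.hom k
      rw [map_smul]
      rfl
    let g₀ : KT F ⊗[A] M →+ Y := TensorProduct.liftAddHom f hf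
    have hg₀ : ∀ (k : KT F) (m : M), g₀ (k ⊗ₜ m) = (ψ m).hom.hom k := fun k m => rfl
    let g : KT F ⊗[A] M →ₗ[R₂] Y :=
      { toFun := g₀
        map_add' := g₀.map_add
        map_smul' := fun b x => by
          induction x using TensorProduct.induction_on with
          | zero => simp
          | tmul k m =>
            rw [TensorProduct.smul_tmul', hg₀, hg₀]
            exact ((ψ m).hom.hom).map_smul b k
          | add x y hx hy => rw [smul_add, map_add, hx, hy, map_add, smul_add] }
    exact ⟨ModuleCat.ofHom g, LinearMap.ext fun m => HomK.ext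
      (ModuleCat.hom_ext (LinearMap.ext fun (k : KT F) => hg₀ k m))⟩

variable [PreservesFiniteColimits F] [∀ J : Type u, PreservesColimitsOfShape (Discrete J) F]

/-- Eilenberg–Watts: `F(A) ⊗_A M ≃ F(M)`. -/
noncomputable def tensorEquiv (M : ModuleCat.{u} A) : (KT F ⊗[A] M) ≃ₗ[R₂] F.obj M :=
  ((isCorep_tensor F M).iso (isCorep_unitM F M)).toLinearEquiv

lemma tensorEquiv_naturality {M N : ModuleCat.{u} A} (f : M ⟶ N) (x : KT F ⊗[A] M) :
    tensorEquiv F N (LinearMap.lTensor (KT F) f.hom x) = F.map f (tensorEquiv F M x) := by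
  have key : (isCorep_tensor F M).map (isCorep_tensor F N) f.hom ≫
      ((isCorep_tensor F N).iso (isCorep_unitM F N)).hom =
      ((isCorep_tensor F M).iso (isCorep_unitM F M)).hom ≫ F.map f := by
    rw [← unitM_map F (isCorep_unitM F M) (isCorep_unitM F N) f]
    simp only [IsCorep.iso_hom, ← IsCorep.map_comp]
    rfl
  have hl : ∀ y : KT F ⊗[A] M, ((isCorep_tensor F M).map (isCorep_tensor F N) f.hom).hom y =
      LinearMap.lTensor (KT F) f.hom y := fun y => by
    induction y using TensorProduct.induction_on with
    | zero => rw [map_zero, map_zero]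
    | tmul k m =>
      have := congrArg (fun l => l.hom k) ((isCorep_tensor F M).map_fac (isCorep_tensor F N) f.hom m)
      exact this
    | add x y hx hy => rw [map_add, map_add, hx, hy]
  have := congrArg (fun l => l.hom x) key
  simp only [ModuleCat.hom_comp, LinearMap.comp_apply, hl] at this
  exact this

end

end Groth.Agent.Lib.helper13.EW
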