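import Mathlib
set_option autoImplicit false
universe w w' w'' u u' u'' v v' v''

namespace Groth.Agent.Lib.Helper13.ExtNat

open CategoryTheory CategoryTheory.Limits CategoryTheory.Abelian

variable {C : Type u} [Category.{v} C] [Abelian C]

/-- Induction principle for `Ext` classes in an abelian category with enough injectives:
a property holding for `mk₀`, for extension classes and stable under composition holds for all
classes. -/
theorem ext_induction [EnoughInjectives C] [HasExt.{w} C]
    (P : ∀ {X Y : C} {n : ℕ}, Ext.{w} X Y n → Prop)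
    (h0 : ∀ {X Y : C} (f : X ⟶ Y), P (Ext.mk₀ f))
    (h1 : ∀ {S : ShortComplex C} (hS : S.ShortExact), P hS.extClass)
    (hc : ∀ {X Y Z : C} {a b c : ℕ} (x : Ext.{w} X Y a) (y : Ext.{w} Y Z b) (h : a + b = c),
      P x → P y → P (x.comp y h)) :
    ∀ {n : ℕ} {X Y : C} (x : Ext.{w} X Y n), P x := by
  intro n
  induction n with
  | zero =>
    intro X Y x
    obtain ⟨f, rfl⟩ := (Ext.mk₀_bijective X Y).2 x
    exact h0 f
  | succ n ih =>
    intro X Y x
    let S : ShortComplex C := ShortComplex.mk (Injective.ι Y) (cokernel.π (Injective.ι Y))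
      (cokernel.condition _)
    have hS : S.ShortExact :=
      { exact := ShortComplex.exact_cokernel _
        mono_f := (inferInstance : Mono (Injective.ι Y))
        epi_g := (inferInstance : Epi (cokernel.π (Injective.ι Y))) }
    have hx : x.comp (Ext.mk₀ S.f) (add_zero (n + 1)) = 0 :=
      Ext.eq_zero_of_injective (I := Injective.under Y) _
    obtain ⟨x₃, rfl⟩ := Ext.covariant_sequence_exact₁ X hS x hx rfl
    exact hc _ _ _ (ih x₃) (h1 hS)


section id
variable [EnoughInjectives C] [HasExt.{w} C]

/-- Mapping `Ext` classes along the identity functor does nothing. -/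
theorem mapExactFunctor_id {X Y : C} {n : ℕ} (x : Ext.{w} X Y n) :
    x.mapExactFunctor (𝟭 C) = x := by
  refine ext_induction (P := fun {X Y n} (x : Ext.{w} X Y n) => x.mapExactFunctor (𝟭 C) = x)
    ?_ ?_ ?_ x
  · intro X Y f
    rw [Ext.mapExactFunctor_mk₀]
    rfl
  · intro S hS
    rw [Ext.mapExactFunctor_extClass]
    rfl
  · intro X Y Z a b c x y h hx hy
    rw [Ext.mapExactFunctor_comp, hx, hy]

end id

section natIso
variable {D : Type u'} [Category.{v'} D] [Abelian D]
variable [EnoughInjectives C] [HasExt.{w} C] [HasExt.{w'} D]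
variable (F G : C ⥤ D) [F.Additive] [PreservesFiniteLimits F] [PreservesFiniteColimits F]
  [G.Additive] [PreservesFiniteLimits G] [PreservesFiniteColimits G]

/-- Naturality of `Ext.mapExactFunctor` with respect to a natural transformation of exact
functors. -/
theorem mapExactFunctor_natTrans (θ : F ⟶ G) {X Y : C} {n : ℕ} (x : Ext.{w} X Y n) :
    (x.mapExactFunctor F).comp (Ext.mk₀ (θ.app Y)) (add_zero n) =
      (Ext.mk₀ (θ.app X)).comp (x.mapExactFunctor G) (zero_add n) := by
  refine ext_induction (P := fun {X Y n} (x : Ext.{w} X Y n) =>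
    (x.mapExactFunctor F).comp (Ext.mk₀ (θ.app Y)) (add_zero n) =
      (Ext.mk₀ (θ.app X)).comp (x.mapExactFunctor G) (zero_add n)) ?_ ?_ ?_ x
  · intro X Y f
    rw [Ext.mapExactFunctor_mk₀, Ext.mapExactFunctor_mk₀, Ext.mk₀_comp_mk₀, Ext.mk₀_comp_mk₀,
      θ.naturality]
  · intro S hS
    rw [Ext.mapExactFunctor_extClass, Ext.mapExactFunctor_extClass]
    exact ShortComplex.ShortExact.extClass_naturality (hS.map_of_exact F) (hS.map_of_exact G)
      (S.mapNatTrans θ)
  · intro X Y Z a b c x y h hx hy
    rw [Ext.mapExactFunctor_comp, Ext.mapExactFunctor_comp]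
    rw [Ext.comp_assoc_of_third_deg_zero, hy, ← Ext.comp_assoc_of_second_deg_zero, hx]
    exact Ext.comp_assoc _ _ _ (zero_add a) h (by omega)

end natIso


section comp
variable {D : Type u'} [Category.{v'} D] [Abelian D] {E : Type u''} [Category.{v''} E] [Abelian E]
variable [EnoughInjectives C] [HasExt.{w} C] [HasExt.{w'} D] [HasExt.{w''} E]
variable (F : C ⥤ D) (G : D ⥤ E) [F.Additive] [PreservesFiniteLimits F] [PreservesFiniteColimits F]
  [G.Additive] [PreservesFiniteLimits G] [PreservesFiniteColimits G]

/-- `Ext.mapExactFunctor` is compatible with composition of exact functors. -/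
theorem mapExactFunctor_comp_functor {X Y : C} {n : ℕ} (x : Ext.{w} X Y n) :
    (x.mapExactFunctor F).mapExactFunctor G = x.mapExactFunctor (F ⋙ G) := by
  refine ext_induction (P := fun {X Y n} (x : Ext.{w} X Y n) =>
    (x.mapExactFunctor F).mapExactFunctor G = x.mapExactFunctor (F ⋙ G)) ?_ ?_ ?_ x
  · intro X Y f
    rw [Ext.mapExactFunctor_mk₀, Ext.mapExactFunctor_mk₀, Ext.mapExactFunctor_mk₀]
    rfl
  · intro S hS
    rw [Ext.mapExactFunctor_extClass, Ext.mapExactFunctor_extClass]
    exact (Ext.mapExactFunctor_extClass G (hS.map_of_exact F)).trans rfl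
  · intro X Y Z a b c x y h hx hy
    rw [Ext.mapExactFunctor_comp, Ext.mapExactFunctor_comp, Ext.mapExactFunctor_comp, hx, hy]

end comp

end Groth.Agent.Lib.Helper13.ExtNat


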