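import Mathlib

/-!
# Finite flat modules with locally constant rank are locally free, ring level (helper13, S9352)

Mathlib only.  `M` a finite flat module over a commutative ring `R`.
* `exists_map_away_surjective`: for a prime `p` with `n = rankAtStalk M p` there are
  `φ : R^n → M` and `a ∉ p` with `φ_a` surjective.
* `exists_rankAtStalk_le`: upper semicontinuity of the rank: `∃ a ∉ p`, `rank_q M ≤ rank_p M` for all
  primes `q ∌ a`.
* `exists_free_away`: if the rank is constant (`= rank_p M`) on `D(b) ∋ p` then `M_c` is free over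
  `R_c` for some `c ∉ p`.
-/

set_option autoImplicit false
open Module

namespace Groth.Agent.Lib.helper13.FFLF

variable {R : Type*} [CommRing R] {M : Type*} [AddCommGroup M] [Module R M]

/-- vanishing of a localization is inherited by a localization inverting more. -/
theorem subsingleton_localizedModule_of_dvd (S T : Submonoid R)
    (hST : ∀ s ∈ S, ∃ t ∈ T, s ∣ t) [h : Subsingleton (LocalizedModule S M)] :
    Subsingleton (LocalizedModule T M) := by
  rw [LocalizedModule.subsingleton_iff] at h ⊢
  intro m
  obtain ⟨s, hs, hsm⟩ := h m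
  obtain ⟨t, ht, u, rfl⟩ := hST s hs
  refine ⟨s * u, ht, ?_⟩
  rw [mul_comm, mul_smul, hsm, smul_zero]

theorem surjective_map_of_dvd {N : Type*} [AddCommGroup N] [Module R N] (φ : N →ₗ[R] M)
    (S T : Submonoid R) (hST : ∀ s ∈ S, ∃ t ∈ T, s ∣ t)
    (h : Function.Surjective (LocalizedModule.map S φ)) :
    Function.Surjective (LocalizedModule.map T φ) := by
  rw [φ.localizedMap_surjective_iff_subsingleton_localized_coker] at h ⊢
  exact subsingleton_localizedModule_of_dvd S T hST

variable [Module.Finite R M] [Module.Flat R M]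

attribute [local instance] Module.free_of_flat_of_isLocalRing

variable (M) in
theorem exists_map_away_surjective (p : Ideal R) [p.IsPrime] :
    ∃ (φ : (Fin (rankAtStalk M ⟨p, inferInstance⟩) →₀ R) →ₗ[R] M) (a : R), a ∉ p ∧
      Function.Surjective (LocalizedModule.map (Submonoid.powers a) φ) := by
  let Rₚ := Localization.AtPrime p
  let n := rankAtStalk M ⟨p, inferInstance⟩
  let f : (Fin n →₀ R) →ₗ[R] Fin n →₀ Rₚ := Finsupp.mapRange.linearMap (Algebra.linearMap R Rₚ)
  let g : M →ₗ[R] LocalizedModule.AtPrime p M := LocalizedModule.mkLinearMap p.primeCompl M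
  obtain ⟨φ, -, -, hφps⟩ := exists_localizedMap_surjective_of_surjective p.primeCompl f g
    ((finBasis Rₚ (LocalizedModule.AtPrime p M)).repr.restrictScalars R).symm.surjective
  obtain ⟨a, hap, hφas⟩ := by
    refine exists_localizedMap_away_surjective_of_localizedMap_atPrime_surjective p φ ?_
    simpa [LocalizedModule.coe_map_eq f g]
  exact ⟨φ, a, hap, hφas⟩

variable (M) in
/-- upper semicontinuity of the rank of a finite flat module. -/
theorem exists_rankAtStalk_le (p : Ideal R) [p.IsPrime] :
    ∃ a : R, a ∉ p ∧ ∀ q : PrimeSpectrum R, a ∉ q.asIdeal →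
      rankAtStalk M q ≤ rankAtStalk M ⟨p, inferInstance⟩ := by
  obtain ⟨φ, a, hap, hφ⟩ := exists_map_away_surjective M p
  refine ⟨a, hap, fun q haq => ?_⟩
  have hle : ∀ s ∈ Submonoid.powers a, ∃ t ∈ q.asIdeal.primeCompl, s ∣ t := by
    rintro _ ⟨k, rfl⟩
    exact ⟨a ^ k, fun h => haq (q.isPrime.mem_of_pow_mem k h), dvd_rfl⟩
  have hq := surjective_map_of_dvd φ _ _ hle hφ
  haveI : Nontrivial R := q.nontrivial
  generalize rankAtStalk M ⟨p, inferInstance⟩ = n at φ hφ hq ⊢
  have h1 : Module.finrank (Localization.AtPrime q.asIdeal)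
      (LocalizedModule q.asIdeal.primeCompl (Fin n →₀ R)) = n := by
    rw [Module.finrank_of_isLocalizedModule_of_free (M := Fin n →₀ R)
      (Mₛ := LocalizedModule q.asIdeal.primeCompl (Fin n →₀ R)) (Localization.AtPrime q.asIdeal)
      q.asIdeal.primeCompl (LocalizedModule.mkLinearMap q.asIdeal.primeCompl (Fin n →₀ R))]
    simp
  calc rankAtStalk M q
      = Module.finrank (Localization.AtPrime q.asIdeal)
          (LocalizedModule q.asIdeal.primeCompl M) := rfl
    _ ≤ Module.finrank (Localization.AtPrime q.asIdeal)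
          (LocalizedModule q.asIdeal.primeCompl (Fin n →₀ R)) :=
        LinearMap.finrank_le_finrank_of_surjective
          (f := LocalizedModule.map q.asIdeal.primeCompl φ) hq
    _ = n := h1

variable (M) in
/-- a finite flat module whose rank is constant near `p` is free near `p`. -/
theorem exists_free_away (p : Ideal R) [p.IsPrime] (b : R) (hb : b ∉ p)
    (h : ∀ q : PrimeSpectrum R, b ∉ q.asIdeal →
      rankAtStalk M q = rankAtStalk M ⟨p, inferInstance⟩) :
    ∃ c : R, c ∉ p ∧ Module.Free (Localization.Away c) (LocalizedModule.Away c M) := by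
  obtain ⟨φ, a, hap, hφ⟩ := exists_map_away_surjective M p
  generalize hn : rankAtStalk M ⟨p, inferInstance⟩ = n at φ hφ h
  refine ⟨a * b, fun hab => (Ideal.IsPrime.mem_or_mem inferInstance hab).elim hap hb, ?_⟩
  have hle : ∀ s ∈ Submonoid.powers a, ∃ t ∈ Submonoid.powers (a * b), s ∣ t := by
    rintro _ ⟨k, rfl⟩
    exact ⟨(a * b) ^ k, ⟨k, rfl⟩, by rw [mul_pow]; exact dvd_mul_right _ _⟩
  have hc := surjective_map_of_dvd φ _ _ hle hφ
  have : Module.Free (Localization.Away (a * b)) (LocalizedModule.Away (a * b) (Fin n →₀ R)) :=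
    Module.free_of_isLocalizedModule (M := Fin n →₀ R) (Rₛ := Localization.Away (a * b))
      (Mₛ := LocalizedModule.Away (a * b) (Fin n →₀ R)) (Submonoid.powers (a * b))
      (LocalizedModule.mkLinearMap (Submonoid.powers (a * b)) (Fin n →₀ R))
  let φc : LocalizedModule.Away (a * b) (Fin n →₀ R) →ₗ[Localization.Away (a * b)]
      LocalizedModule.Away (a * b) M := LocalizedModule.map (Submonoid.powers (a * b)) φ
  refine Module.Free.of_equiv <| LinearEquiv.ofBijective φc <|
    bijective_of_surjective_of_rankAtStalk_eq hc <| fun m _ => ?_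
  have hbm : b ∉ (PrimeSpectrum.comap (algebraMap R (Localization.Away (a * b)))
      ⟨m, inferInstance⟩).asIdeal := by
    intro hbm
    have h1 : algebraMap R (Localization.Away (a * b)) (a * b) ∈ m := by
      rw [map_mul]
      exact Ideal.mul_mem_left _ _ hbm
    have h2 : IsUnit (algebraMap R (Localization.Away (a * b)) (a * b)) :=
      IsLocalization.Away.algebraMap_isUnit (a * b)
    exact (Ideal.IsPrime.ne_top inferInstance) (Ideal.eq_top_of_isUnit_mem _ h1 h2)
  haveI : Nontrivial R := (PrimeSpectrum.comap (algebraMap R (Localization.Away (a * b)))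
      ⟨m, inferInstance⟩).nontrivial
  rw [rankAtStalk_isBaseChange (LocalizedModule.isBaseChange (Submonoid.powers (a * b)) _),
    rankAtStalk_isBaseChange (LocalizedModule.isBaseChange (Submonoid.powers (a * b)) _),
    h _ hbm, rankAtStalk_eq_finrank_of_free]
  simp

end Groth.Agent.Lib.helper13.FFLF
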