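import Groth.Prelude.Def_FlatMod2
import Mathlib
import Groth.Agent.Lib.Helper16.FLF8
import Groth.Agent.Lib.Helper17.FlatOver7
import Groth.Agent.Lib.Helper13.FFLF1

/-!
# Finite type flat quasi-coherent modules are finite locally free when closed sets stable under
generalization are open (helper13, S9352, direction `⇐`)

* `flat_sections`: sections over affine opens of a flat quasi-coherent module are flat.
* `finrank_stalk_eq_rankAtStalk`: the rank of the (free) stalk is `Module.rankAtStalk` of the sections.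
* `isOpen_setOf_finrank_stalk_lt`, `stableUnderGeneralization_setOf_le_finrank_stalk`.
* `isFinLocFree_of_finite_flat`.
-/

set_option autoImplicit false
set_option linter.style.haveILetI false
universe u
open CategoryTheory CategoryTheory.Limits AlgebraicGeometry TopologicalSpace Opposite

namespace Groth.Agent.Lib.helper13.FFLF

open Scheme.Modules Groth.Agent.Lib.helper16.FLF Groth.Agent.Lib.helper16.CohFinite
  Groth.Agent.Lib.helper16.CohStalk Groth.Agent.Lib.helper17.FlatOver1
  Groth.Agent.Lib.helper17.FlatOver7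

variable {X : Scheme.{u}} (F : X.Modules)

/-- sections of a flat quasi-coherent module over an affine open are flat. -/
theorem flat_sections [F.IsQuasicoherent] (hF : FlatMod.IsFlat F) {U : X.Opens}
    (hU : IsAffineOpen U) : Module.Flat Γ(X, U) Γ(F, U) := by
  have h1 : ∀ x ∈ U, FlatMod.IsFlatOverAt (𝟙 X) F x :=
    fun x _ => (isFlatOverAt_id_iff F x).2 (hF x)
  have hUV : U ≤ (𝟙 X : X ⟶ X) ⁻¹ᵁ U := le_rfl
  have h2 := flat_sections_of_isFlatOverAt (𝟙 X) F hUV hU hU h1
  have heq : modSecBase (𝟙 X) F hUV = (inferInstance : Module Γ(X, U) Γ(F, U)) := by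
    refine Module.ext' _ _ (fun a m => ?_)
    change ((𝟙 X : X ⟶ X).appLE U U hUV).hom a • m = a • m
    have : ((𝟙 X : X ⟶ X).appLE U U hUV) = 𝟙 _ := by
      simp only [Scheme.Hom.appLE, Scheme.Hom.id_app]
      exact X.presheaf.map_id _
    rw [this]
    rfl
  rw [heq] at h2
  exact h2

/-- the rank of the stalk of a quasi-coherent module with finite flat sections. -/
theorem finrank_stalk_eq_rankAtStalk [F.IsQuasicoherent] {U : X.Opens} (hU : IsAffineOpen U)
    (y : X) (hy : y ∈ U) [Module.Finite Γ(X, U) Γ(F, U)] [Module.Flat Γ(X, U) Γ(F, U)] :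
    Module.finrank (X.presheaf.stalk y) (F.presheaf.stalk y) =
      Module.rankAtStalk Γ(F, U) (hU.primeIdealOf ⟨y, hy⟩) := by
  letI := TopCat.Presheaf.algebra_section_stalk X.presheaf (⟨y, hy⟩ : U)
  letI := modStalk F y hy
  haveI := isScalarTower_stalk F y hy
  haveI : IsLocalization.AtPrime (X.presheaf.stalk y) (hU.primeIdealOf ⟨y, hy⟩).asIdeal :=
    hU.isLocalization_stalk ⟨y, hy⟩
  haveI := isLocalizedModule_stalk F hU y hy
  haveI : Module.Free (Localization.AtPrime (hU.primeIdealOf ⟨y, hy⟩).asIdeal)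
      (LocalizedModule (hU.primeIdealOf ⟨y, hy⟩).asIdeal.primeCompl Γ(F, U)) :=
    Module.free_of_flat_of_isLocalRing
  obtain ⟨e⟩ := nonempty_equivFun_of_basis_localizedModule
    (hU.primeIdealOf ⟨y, hy⟩).asIdeal.primeCompl (X.presheaf.stalk y) (germLin F y hy)
    (Module.finBasis (Localization.AtPrime (hU.primeIdealOf ⟨y, hy⟩).asIdeal)
      (LocalizedModule (hU.primeIdealOf ⟨y, hy⟩).asIdeal.primeCompl Γ(F, U)))
  rw [e.finrank_eq, Module.finrank_fin_fun]
  rfl

section Main

variable [F.IsQuasicoherent] (hft : SheafOfModules.IsFiniteType (R := X.ringCatSheaf) F)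
  (hfl : FlatMod.IsFlat F)

include hft hfl

/-- upper semicontinuity of the stalk rank. -/
theorem isOpen_setOf_finrank_stalk_lt (i : ℕ) :
    IsOpen {y : X | Module.finrank (X.presheaf.stalk y) (F.presheaf.stalk y) < i} := by
  rw [isOpen_iff_forall_mem_open]
  intro y hy
  obtain ⟨U, hU, hyU, -⟩ := Opens.isBasis_iff_nbhd.mp X.isBasis_affineOpens
    (show y ∈ (⊤ : X.Opens) from trivial)
  haveI : Module.Finite Γ(X, U) Γ(F, U) := finite_sections_of_isFiniteType F hft hU
  haveI : Module.Flat Γ(X, U) Γ(F, U) := flat_sections F hfl hU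
  obtain ⟨a, hap, hle⟩ := exists_rankAtStalk_le Γ(F, U) (hU.primeIdealOf ⟨y, hyU⟩).asIdeal
  refine ⟨X.basicOpen a, fun z hz => ?_, (X.basicOpen a).2,
    (Groth.Agent.Lib.helper28.mem_basicOpen_iff hU y hyU a).2 hap⟩
  have hzU : z ∈ U := X.basicOpen_le a hz
  have haz := (Groth.Agent.Lib.helper28.mem_basicOpen_iff hU z hzU a).1 hz
  have h1 := hle (hU.primeIdealOf ⟨z, hzU⟩) haz
  rw [Set.mem_setOf_eq, finrank_stalk_eq_rankAtStalk F hU z hzU]
  rw [Set.mem_setOf_eq, finrank_stalk_eq_rankAtStalk F hU y hyU] at hy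
  exact lt_of_le_of_lt h1 hy

/-- the stalk rank is constant along specializations. -/
theorem finrank_stalk_eq_of_specializes {y' y : X} (h : y' ⤳ y) :
    Module.finrank (X.presheaf.stalk y') (F.presheaf.stalk y') =
      Module.finrank (X.presheaf.stalk y) (F.presheaf.stalk y) := by
  obtain ⟨U, hU, hyU, -⟩ := Opens.isBasis_iff_nbhd.mp X.isBasis_affineOpens
    (show y ∈ (⊤ : X.Opens) from trivial)
  have hy'U : y' ∈ U := h.mem_open U.2 hyU
  haveI : Module.Finite Γ(X, U) Γ(F, U) := finite_sections_of_isFiniteType F hft hU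
  haveI : Module.Flat Γ(X, U) Γ(F, U) := flat_sections F hfl hU
  rw [finrank_stalk_eq_rankAtStalk F hU y hyU, finrank_stalk_eq_rankAtStalk F hU y' hy'U]
  apply Module.rankAtStalk_eq_of_le_of_finite_of_flat
  rw [PrimeSpectrum.le_iff_specializes]
  have h2 : hU.fromSpec (IsAffineOpen.primeIdealOf hU ⟨y', hy'U⟩) ⤳
      hU.fromSpec (IsAffineOpen.primeIdealOf hU ⟨y, hyU⟩) := by
    rw [IsAffineOpen.fromSpec_primeIdealOf hU ⟨y', hy'U⟩,
      IsAffineOpen.fromSpec_primeIdealOf hU ⟨y, hyU⟩]
    exact h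
  exact hU.fromSpec.isOpenEmbedding.isInducing.specializes_iff.1 h2

theorem stableUnderGeneralization_setOf_le_finrank_stalk (i : ℕ) :
    StableUnderGeneralization
      {y : X | i ≤ Module.finrank (X.presheaf.stalk y) (F.presheaf.stalk y)} := by
  intro y y' h hy
  rw [Set.mem_setOf_eq] at hy ⊢
  rw [finrank_stalk_eq_of_specializes F hft hfl h]
  exact hy

theorem isClosed_setOf_le_finrank_stalk (i : ℕ) :
    IsClosed {y : X | i ≤ Module.finrank (X.presheaf.stalk y) (F.presheaf.stalk y)} := by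
  rw [← isOpen_compl_iff]
  convert isOpen_setOf_finrank_stalk_lt F hft hfl i using 1
  ext y
  simp

/-- **Finite type flat quasi-coherent modules are finite locally free** when every closed subset
stable under generalization is open. -/
theorem isFinLocFree_of_finite_flat
    (H : ∀ Z : Set X, IsClosed Z → StableUnderGeneralization Z → IsOpen Z) :
    FlatMod.IsFinLocFree F := by
  rw [isFinLocFree_iff_sections]
  intro x
  set rk : X → ℕ := fun y => Module.finrank (X.presheaf.stalk y) (F.presheaf.stalk y) with hrk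
  have hopen : ∀ i : ℕ, IsOpen {y : X | i ≤ rk y} := fun i =>
    H _ (isClosed_setOf_le_finrank_stalk F hft hfl i)
      (stableUnderGeneralization_setOf_le_finrank_stalk F hft hfl i)
  have hW : IsOpen ({y : X | rk x ≤ rk y} ∩ {y : X | rk y < rk x + 1}) :=
    (hopen (rk x)).inter (isOpen_setOf_finrank_stalk_lt F hft hfl (rk x + 1))
  obtain ⟨U, hU, hxU, -⟩ := Opens.isBasis_iff_nbhd.mp X.isBasis_affineOpens
    (show x ∈ (⊤ : X.Opens) from trivial)
  haveI : Module.Finite Γ(X, U) Γ(F, U) := finite_sections_of_isFiniteType F hft hU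
  haveI : Module.Flat Γ(X, U) Γ(F, U) := flat_sections F hfl hU
  have hxW : x ∈ ({y : X | rk x ≤ rk y} ∩ {y : X | rk y < rk x + 1}) :=
    ⟨le_refl (rk x), Nat.lt_succ_self (rk x)⟩
  obtain ⟨b, hbW, hxb⟩ := hU.exists_basicOpen_le (V := ⟨_, hW⟩) ⟨x, hxW⟩ hxU
  have hbp : b ∉ (hU.primeIdealOf ⟨x, hxU⟩).asIdeal :=
    (Groth.Agent.Lib.helper28.mem_basicOpen_iff hU x hxU b).1 hxb
  have hconst : ∀ q : PrimeSpectrum Γ(X, U), b ∉ q.asIdeal →
      Module.rankAtStalk Γ(F, U) q = Module.rankAtStalk Γ(F, U) (hU.primeIdealOf ⟨x, hxU⟩) := by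
    intro q hbq
    have hyU : hU.fromSpec q ∈ U := by
      have := Set.mem_range_self (f := hU.fromSpec) q
      rw [hU.range_fromSpec] at this
      exact this
    have hq : hU.primeIdealOf ⟨hU.fromSpec q, hyU⟩ = q :=
      hU.fromSpec.isOpenEmbedding.injective (hU.fromSpec_primeIdealOf ⟨_, hyU⟩)
    have hyb : hU.fromSpec q ∈ X.basicOpen b := by
      rw [Groth.Agent.Lib.helper28.mem_basicOpen_iff hU _ hyU b, hq]
      exact hbq
    have hyW := hbW hyb
    have h1 : rk (hU.fromSpec q) = rk x := le_antisymm (Nat.lt_succ_iff.mp hyW.2) hyW.1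
    rw [hrk] at h1
    simp only at h1
    rw [finrank_stalk_eq_rankAtStalk F hU _ hyU, finrank_stalk_eq_rankAtStalk F hU x hxU, hq] at h1
    exact h1
  obtain ⟨c, hcp, hfree⟩ := exists_free_away Γ(F, U) (hU.primeIdealOf ⟨x, hxU⟩).asIdeal b hbp hconst
  have hxc : x ∈ X.basicOpen c := (Groth.Agent.Lib.helper28.mem_basicOpen_iff hU x hxU c).2 hcp
  refine ⟨X.basicOpen c, Module.finrank (Localization (Submonoid.powers c))
      (LocalizedModule (Submonoid.powers c) Γ(F, U)), hU.basicOpen c, hxc, ?_⟩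
  have h : X.basicOpen c ≤ U := X.basicOpen_le c
  letI := algOfLE (X := X) h
  letI := modOfLE F h
  haveI := isScalarTower_ofLE F h
  haveI : IsLocalization.Away c Γ(X, X.basicOpen c) := hU.isLocalization_basicOpen c
  haveI := isLocalizedModule_of_eq_basicOpen F hU c h rfl
  haveI : Module.Free (Localization (Submonoid.powers c))
      (LocalizedModule (Submonoid.powers c) Γ(F, U)) := hfree
  haveI : Module.Finite (Localization (Submonoid.powers c))
      (LocalizedModule (Submonoid.powers c) Γ(F, U)) := inferInstance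
  haveI : Nontrivial (Localization (Submonoid.powers c)) := by
    rw [← not_subsingleton_iff_nontrivial,
      IsLocalization.subsingleton_iff (M := Submonoid.powers c)]
    rintro ⟨k, hk⟩
    have hk' : c ^ k = 0 := hk
    have hp : (hU.primeIdealOf ⟨x, hxU⟩).asIdeal.IsPrime := inferInstance
    exact hcp (hp.mem_of_pow_mem k (hk' ▸ Ideal.zero_mem _))
  exact nonempty_equivFun_of_basis_localizedModule (Submonoid.powers c) Γ(X, X.basicOpen c)
    (resLin F h) (Module.finBasis _ _)

end Main

end Groth.Agent.Lib.helper13.FFLF
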