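import Groth.Prelude.Def_FlatMod2
import Mathlib
import Groth.Agent.Lib.Helper16.FLF8
import Groth.Agent.Lib.Helper16.QCohAffinePush
import Groth.Agent.Lib.Helper17.FlatOver5
import Groth.Agent.Lib.Helper17.FlatOver7
import Groth.Agent.LibPureIdeal29b

/-!
# Closed subsets stable under generalization are open when finite type flat quasi-coherent modules
are finite locally free (helper13, S9352, direction `⇒`)

For an ideal sheaf `I` with flat closed subscheme `ι : V(I) → X`, the module `O_X/I = ι_* O_{V(I)}`
(`quotMod I`) is quasi-coherent, of finite type and flat; if it is finite locally free then the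
support of `I` is open.
-/

set_option autoImplicit false
set_option linter.style.haveILetI false
universe u
open CategoryTheory CategoryTheory.Limits AlgebraicGeometry TopologicalSpace Opposite

namespace Groth.Agent.Lib.helper13.FFLF

open Scheme.Modules Groth.Agent.Lib.helper16.FLF Groth.Agent.Lib.helper16.CohFinite
  Groth.Agent.Lib.helper16.CohStalk Groth.Agent.Lib.helper17.FlatOver1
  Groth.Agent.Lib.helper17.FlatOver5 Groth.Agent.Lib.helper17.FlatOver7

/-- the structure sheaf of the source of a flat morphism is flat over the base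
(as helper21 `GCStein.isFlatOver_structureModule`, re-proved here to keep the import closure small). -/
theorem isFlatOver_structureModule {X Y : Scheme.{u}} (f : X ⟶ Y) [Flat f] :
    FlatMod.IsFlatOver f (Coh.structureModule X) := by
  intro x
  unfold FlatMod.IsFlatOverAt
  letI := FlatMod.moduleStalkOver f (Coh.structureModule X) x
  letI : Algebra (Y.presheaf.stalk (f.base x)) (X.presheaf.stalk x) :=
    (f.stalkMap x).hom.toAlgebra
  haveI : IsScalarTower (Y.presheaf.stalk (f.base x)) (X.presheaf.stalk x)
      ((Coh.structureModule X).presheaf.stalk x) :=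
    IsScalarTower.of_algebraMap_smul (fun r m => rfl)
  obtain ⟨hfree, hfin⟩ := free_stalk_of_isFinLocFree _ (isFinLocFree_structureModule X) x
  haveI : Module.Flat (X.presheaf.stalk x) ((Coh.structureModule X).presheaf.stalk x) :=
    inferInstance
  haveI : Module.Flat (Y.presheaf.stalk (f.base x)) (X.presheaf.stalk x) := Flat.stalkMap f x
  exact Module.Flat.trans _ (X.presheaf.stalk x) _

variable {X : Scheme.{u}} (I : X.IdealSheafData)

/-- `O_X / I` as an `O_X`-module: the direct image of the structure sheaf of `V(I)`. -/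
noncomputable def quotMod : X.Modules :=
  (Scheme.Modules.pushforward I.subschemeι).obj (Coh.structureModule I.subscheme)

instance isQuasicoherent_quotMod : (quotMod I).IsQuasicoherent := by
  haveI : (Coh.structureModule I.subscheme).IsQuasicoherent :=
    isQuasicoherent_of_isFinLocFree _ (isFinLocFree_structureModule _)
  exact Groth.Agent.Lib.helper16.QCohAffinePush.isQuasicoherent_push I.subschemeι _

theorem isFlat_quotMod (hflat : Flat I.subschemeι) : FlatMod.IsFlat (quotMod I) := by
  haveI := hflat
  haveI : (Coh.structureModule I.subscheme).IsQuasicoherent :=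
    isQuasicoherent_of_isFinLocFree _ (isFinLocFree_structureModule _)
  rw [← isFlatOver_id_iff]
  refine (isFlatOver_push_iff (f := I.subschemeι) (q := 𝟙 X)
    (F := Coh.structureModule I.subscheme)).1 ?_
  rw [isFlatOver_congr (Category.comp_id I.subschemeι)]
  exact isFlatOver_structureModule I.subschemeι

/-- the unit section of `O_X / I`. -/
noncomputable def one (U : X.Opens) : Γ(quotMod I, U) :=
  (1 : Γ(I.subscheme, I.subschemeι ⁻¹ᵁ U))

theorem smul_one_eq (U : X.Opens) (a : Γ(X, U)) :
    a • one I U = (show Γ(quotMod I, U) from (I.subschemeι.app U).hom a) := by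
  change ((I.subschemeι.app U).hom a * 1 : Γ(I.subscheme, I.subschemeι ⁻¹ᵁ U)) = _
  rw [mul_one]

theorem exists_smul_one_eq (U : X.affineOpens) (m : Γ(quotMod I, U.1)) :
    ∃ a : Γ(X, U.1), a • one I U.1 = m := by
  obtain ⟨a, ha⟩ := I.subschemeι_app_surjective U
    (show Γ(I.subscheme, I.subschemeι ⁻¹ᵁ U.1) from m)
  exact ⟨a, (smul_one_eq I U.1 a).trans ha⟩

theorem finite_sections_quotMod (U : X.affineOpens) :
    Module.Finite Γ(X, U.1) Γ(quotMod I, U.1) := by
  refine ⟨⟨{one I U.1}, ?_⟩⟩
  rw [eq_top_iff]
  intro m _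
  obtain ⟨a, rfl⟩ := exists_smul_one_eq I U m
  exact Submodule.smul_mem _ _ (Submodule.subset_span (by simp))

theorem isFiniteType_quotMod :
    SheafOfModules.IsFiniteType (R := X.ringCatSheaf) (quotMod I) :=
  (isFiniteType_iff_finite_sections _).2 (finite_sections_quotMod I)

theorem smul_eq_zero_of_mem (U : X.affineOpens) (a : Γ(X, U.1)) (ha : a ∈ I.ideal U)
    (m : Γ(quotMod I, U.1)) : a • m = 0 := by
  have h0 : (I.subschemeι.app U.1).hom a = 0 := by
    rw [← RingHom.mem_ker, I.ker_subschemeι_app U]
    exact ha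
  change ((I.subschemeι.app U.1).hom a *
    (show Γ(I.subscheme, I.subschemeι ⁻¹ᵁ U.1) from m) :
      Γ(I.subscheme, I.subschemeι ⁻¹ᵁ U.1)) = 0
  rw [h0, zero_mul]

theorem one_mem_of_one_eq_zero (U : X.affineOpens) (h : one I U.1 = 0) :
    (1 : Γ(X, U.1)) ∈ I.ideal U := by
  rw [← I.ker_subschemeι_app U, RingHom.mem_ker, map_one]
  exact h

open Groth.Agent.LibPureIdeal29 in
/-- if every finite type flat quasi-coherent module is finite locally free, closed subsets stable
under generalization are open. -/
theorem isOpen_of_forall_isFinLocFree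
    (H : ∀ F : X.Modules, Coh.IsQCoh F → CohB1.IsFT F → FlatMod.IsFlat F →
      FlatMod.IsFinLocFree F)
    (Z : Set X) (hc : IsClosed Z) (hg : StableUnderGeneralization Z) : IsOpen Z := by
  have hflat : Flat (idealOfClosed Z hc hg).subschemeι :=
    (flat_subschemeι_iff _).2 (fun U => pure_pureIdeal hc hg U)
  have hFLF := H (quotMod (idealOfClosed Z hc hg)) (isQuasicoherent_quotMod _)
    (isFiniteType_quotMod _) (isFlat_quotMod _ hflat)
  rw [isFinLocFree_iff_sections] at hFLF
  rw [isOpen_iff_forall_mem_open]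
  intro x hxZ
  obtain ⟨U, n, hU, hxU, ⟨e⟩⟩ := hFLF x
  refine ⟨U, ?_, U.2, hxU⟩
  have hJ : ∀ a ∈ (idealOfClosed Z hc hg).ideal ⟨U, hU⟩, a = 0 := by
    intro a ha
    rcases Nat.eq_zero_or_pos n with rfl | hn
    · have h0 : one (idealOfClosed Z hc hg) U = 0 :=
        e.injective (Subsingleton.elim _ _)
      have h1 := one_mem_of_one_eq_zero (idealOfClosed Z hc hg) ⟨U, hU⟩ h0
      have h2 := (mem_iff_mem_zeroLocus_pureIdeal hc hg ⟨U, hU⟩ x hxU).1 hxZ
      rw [Scheme.mem_zeroLocus_iff] at h2
      refine absurd ?_ (h2 1 h1)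
      rw [Scheme.basicOpen_of_isUnit _ isUnit_one]
      exact hxU
    · have h1 : a • (e.symm (Pi.single ⟨0, hn⟩ 1)) = 0 :=
        smul_eq_zero_of_mem (idealOfClosed Z hc hg) ⟨U, hU⟩ a ha _
      have h2 := congrArg e h1
      rw [LinearEquiv.map_smul, e.apply_symm_apply, LinearEquiv.map_zero] at h2
      have h3 := congrFun h2 ⟨0, hn⟩
      simpa using h3
  intro y hyU
  rw [mem_iff_mem_zeroLocus_pureIdeal hc hg ⟨U, hU⟩ y hyU, Scheme.mem_zeroLocus_iff]
  intro a ha
  rw [hJ a ha, Scheme.basicOpen_zero]
  exact fun h => h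

end Groth.Agent.Lib.helper13.FFLF
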