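import Mathlib

/-!
# Extending a ring map from a domain to its integral closure, into a locally normal ring
-/

set_option autoImplicit false

namespace Groth.Agent.Lib.helper13.Fac

universe u

open Polynomial

/-- `φ : A → C` is *locally good* if at every prime `P` of `C` the localization `C_P` is a normal
domain into which `A` injects. -/
def LocGood {A C : Type u} [CommRing A] [CommRing C] (φ : A →+* C) : Prop :=
  ∀ (P : Ideal C) [P.IsPrime], ∃ (D : Type u) (_ : CommRing D) (_ : Algebra C D),
    IsLocalization.AtPrime D P ∧ IsDomain D ∧ IsIntegrallyClosed D ∧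
      Function.Injective ((algebraMap C D).comp φ)

section

variable {A C : Type u} [CommRing A] [CommRing C] (φ : A →+* C)

/-- Nonzero elements of `A` become nonzerodivisors of `C`. -/
lemma eq_zero_of_mul_eq_zero (hφ : LocGood φ) {b : A} (hb : b ≠ 0) {c : C} (h : φ b * c = 0) :
    c = 0 := by
  by_contra hc
  let I : Ideal C := Ideal.span {c} |>.annihilator
  have hI : I ≠ ⊤ := by
    intro htop
    have h1 : (1 : C) ∈ I := htop ▸ Submodule.mem_top
    rw [Submodule.mem_annihilator_span_singleton] at h1
    exact hc (by simpa using h1)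
  obtain ⟨P, hP, hIP⟩ := Ideal.exists_le_maximal I hI
  haveI := hP.isPrime
  obtain ⟨D, _, _, hloc, hdom, -, hinj⟩ := hφ P
  have h2 : algebraMap C D (φ b) * algebraMap C D c = 0 := by
    rw [← map_mul, h, map_zero]
  have h3 : algebraMap C D (φ b) ≠ 0 := by
    intro h0
    apply hb
    apply hinj
    rw [RingHom.comp_apply, h0, map_zero]
  have h4 : algebraMap C D c = 0 := (mul_eq_zero.mp h2).resolve_left h3
  rw [← map_zero (algebraMap C D), IsLocalization.eq_iff_exists P.primeCompl] at h4
  obtain ⟨s, hs⟩ := h4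
  rw [mul_zero] at hs
  have : (s : C) ∈ I := by
    rw [Submodule.mem_annihilator_span_singleton]
    exact hs
  exact s.2 (hIP this)

end

section

variable {A K A' C : Type u} [CommRing A] [IsDomain A] [Field K] [Algebra A K] [IsFractionRing A K]
  [CommRing A'] [Algebra A A'] [Algebra A' K] [IsScalarTower A A' K] [IsIntegralClosure A' A K]
  [CommRing C] (φ : A →+* C)

include K in
/-- Divisibility: if `a' = a / b` is integral over `A`, then `φ b ∣ φ a` in `C`. -/
lemma exists_mul_eq (hφ : LocGood φ) (a' : A') (a b : A)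
    (hab : algebraMap A' K a' * algebraMap A K b = algebraMap A K a) :
    ∃ c : C, c * φ b = φ a := by
  let I : Ideal C :=
    { carrier := {c | c * φ a ∈ Ideal.span {φ b}}
      add_mem' := fun {x y} hx hy => by
        show (x + y) * φ a ∈ Ideal.span {φ b}
        rw [add_mul]
        exact Ideal.add_mem _ hx hy
      zero_mem' := by
        show (0 : C) * φ a ∈ Ideal.span {φ b}
        rw [zero_mul]
        exact Ideal.zero_mem _
      smul_mem' := fun r x hx => by
        show (r • x) * φ a ∈ Ideal.span {φ b}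
        rw [smul_eq_mul, mul_assoc]
        exact Ideal.mul_mem_left _ r hx }
  suffices hI : I = ⊤ by
    have h1 : (1 : C) ∈ I := hI ▸ Submodule.mem_top
    have h2 : (1 : C) * φ a ∈ Ideal.span {φ b} := h1
    rw [one_mul, Ideal.mem_span_singleton'] at h2
    exact h2
  by_contra hI
  obtain ⟨P, hP, hIP⟩ := Ideal.exists_le_maximal I hI
  haveI := hP.isPrime
  obtain ⟨D, _, _, hloc, hdom, hic, hinj⟩ := hφ P
  let f : A →+* D := (algebraMap C D).comp φ
  let lft : K →+* FractionRing D := IsFractionRing.lift (g := (algebraMap D (FractionRing D)).comp f)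
    ((IsFractionRing.injective D (FractionRing D)).comp hinj)
  have hlft : ∀ r : A, lft (algebraMap A K r) = algebraMap D (FractionRing D) (f r) :=
    fun r => IsFractionRing.lift_algebraMap _ r
  -- the image of `a'` is integral over `D`
  have hint : IsIntegral D (lft (algebraMap A' K a')) := by
    obtain ⟨p, hp, hpa⟩ := IsIntegralClosure.isIntegral A K a'
    refine ⟨p.map f, hp.map f, ?_⟩
    rw [Polynomial.eval₂_map]
    have h1 : (algebraMap D (FractionRing D)).comp f = lft.comp (algebraMap A K) := by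
      ext r
      exact (hlft r).symm
    rw [h1, ← Polynomial.hom_eval₂]
    have h2 : Polynomial.eval₂ (algebraMap A K) (algebraMap A' K a') p =
        algebraMap A' K (Polynomial.eval₂ (algebraMap A A') a' p) := by
      rw [IsScalarTower.algebraMap_eq A A' K, ← Polynomial.hom_eval₂]
    rw [h2, hpa, map_zero, map_zero]
  obtain ⟨d, hd⟩ := IsIntegrallyClosed.isIntegral_iff.mp hint
  have hdfb : d * f b = f a := by
    apply IsFractionRing.injective D (FractionRing D)
    rw [map_mul, hd, ← hlft, ← hlft, ← map_mul, hab]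
  obtain ⟨⟨c₀, s₀⟩, hcs⟩ := IsLocalization.surj P.primeCompl d
  have h5 : algebraMap C D ((s₀ : C) * φ a) = algebraMap C D (c₀ * φ b) := by
    rw [map_mul, map_mul]
    show algebraMap C D s₀ * f a = algebraMap C D c₀ * f b
    rw [← hdfb, ← hcs]
    ring
  rw [IsLocalization.eq_iff_exists P.primeCompl] at h5
  obtain ⟨s₁, hs₁⟩ := h5
  have hmem : (s₁ : C) * (s₀ : C) ∈ I := by
    show (s₁ : C) * (s₀ : C) * φ a ∈ Ideal.span {φ b}
    rw [mul_assoc, hs₁, Ideal.mem_span_singleton']
    exact ⟨s₁ * c₀, by ring⟩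
  exact (hP.isPrime.mem_or_mem (hIP hmem)).elim s₁.2 s₀.2

include K in
/-- Every element of `A'` is a fraction of elements of `A`. -/
lemma exists_frac (a' : A') :
    ∃ a b : A, b ≠ 0 ∧ algebraMap A' K a' * algebraMap A K b = algebraMap A K a := by
  obtain ⟨⟨a, b⟩, h⟩ := IsLocalization.surj (nonZeroDivisors A) (algebraMap A' K a')
  exact ⟨a, b, nonZeroDivisors.ne_zero b.2, h⟩

include K in
/-- Uniqueness of the extension. -/
theorem ext_of_comp_eq (hφ : LocGood φ) (ψ₁ ψ₂ : A' →+* C)
    (h₁ : ψ₁.comp (algebraMap A A') = φ) (h₂ : ψ₂.comp (algebraMap A A') = φ) : ψ₁ = ψ₂ := by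
  ext a'
  obtain ⟨a, b, hb, hab⟩ := exists_frac (A := A) (K := K) a'
  have hA' : a' * algebraMap A A' b = algebraMap A A' a := by
    apply IsIntegralClosure.algebraMap_injective A' A K
    rw [map_mul, ← IsScalarTower.algebraMap_apply, ← IsScalarTower.algebraMap_apply, hab]
  have e₁ := congrArg ψ₁ hA'
  have e₂ := congrArg ψ₂ hA'
  rw [map_mul] at e₁ e₂
  have k₁ : ∀ r, ψ₁ (algebraMap A A' r) = φ r := fun r => congrFun (congrArg DFunLike.coe h₁) r
  have k₂ : ∀ r, ψ₂ (algebraMap A A' r) = φ r := fun r => congrFun (congrArg DFunLike.coe h₂) r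
  rw [k₁, k₁] at e₁
  rw [k₂, k₂] at e₂
  have : φ b * (ψ₁ a' - ψ₂ a') = 0 := by
    rw [mul_sub, mul_comm, e₁, mul_comm, e₂, sub_self]
  exact sub_eq_zero.mp (eq_zero_of_mul_eq_zero φ hφ hb this)

include K in
/-- Existence of the extension. -/
theorem exists_extension (hφ : LocGood φ) :
    ∃ ψ : A' →+* C, ψ.comp (algebraMap A A') = φ := by
  classical
  -- the total ring of fractions of `C`
  let Q := Localization (nonZeroDivisors C)
  have hιinj : Function.Injective (algebraMap C Q) :=
    IsLocalization.injective Q le_rfl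
  have hnzd : ∀ b : A, b ≠ 0 → φ b ∈ nonZeroDivisors C := by
    intro b hb
    rw [mem_nonZeroDivisors_iff_right]
    intro c hc
    rw [mul_comm] at hc
    exact eq_zero_of_mul_eq_zero φ hφ hb hc
  have hunit : ∀ y : nonZeroDivisors A, IsUnit (((algebraMap C Q).comp φ) y) := by
    intro y
    exact IsLocalization.map_units Q ⟨φ y, hnzd y (nonZeroDivisors.ne_zero y.2)⟩
  let F : K →+* Q := IsLocalization.lift hunit
  have hF : ∀ r : A, F (algebraMap A K r) = algebraMap C Q (φ r) :=
    fun r => IsLocalization.lift_eq hunit r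
  have hex : ∀ a' : A', ∃ c : C, algebraMap C Q c = F (algebraMap A' K a') := by
    intro a'
    obtain ⟨a, b, hb, hab⟩ := exists_frac (A := A) (K := K) a'
    obtain ⟨c, hc⟩ := exists_mul_eq (K := K) φ hφ a' a b hab
    refine ⟨c, ?_⟩
    have h1 := congrArg F hab
    rw [map_mul, hF, hF, ← hc, map_mul] at h1
    have hu : IsUnit (algebraMap C Q (φ b)) :=
      IsLocalization.map_units Q ⟨φ b, hnzd b hb⟩
    exact (hu.mul_left_inj.mp h1).symm
  let G : A' →+* (algebraMap C Q).range :=
    (F.comp (algebraMap A' K)).codRestrict (algebraMap C Q).range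
      (fun a' => by obtain ⟨c, hc⟩ := hex a'; exact ⟨c, hc⟩)
  let e : C ≃+* (algebraMap C Q).range :=
    RingEquiv.ofBijective (algebraMap C Q).rangeRestrict
      ⟨fun x y hxy => hιinj (congrArg Subtype.val hxy), (algebraMap C Q).rangeRestrict_surjective⟩
  refine ⟨e.symm.toRingHom.comp G, ?_⟩
  ext r
  show e.symm (G (algebraMap A A' r)) = φ r
  rw [RingEquiv.symm_apply_eq]
  apply Subtype.ext
  show F (algebraMap A' K (algebraMap A A' r)) = algebraMap C Q (φ r)
  rw [← IsScalarTower.algebraMap_apply, hF]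

end

end Groth.Agent.Lib.helper13.Fac
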