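import Mathlib
import Groth.Prelude.Def_Pi1
import Groth.Agent.Lib.Helper13.Fac1
import Groth.Agent.Lib.Helper13.Normal1

set_option autoImplicit false

namespace Groth.Agent.Lib.helper13.Fac

universe u

open AlgebraicGeometry CategoryTheory Limits

noncomputable section

/-- In a scheme whose local ring at `z` is a domain, the point of the generic point of
`Spec O_{Z,z}` is a maximal point of `Z` specializing to `z`. -/
theorem exists_maximal_point_specializes {Z : Scheme.{u}} (z : Z)
    [IsDomain (Z.presheaf.stalk z)] :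
    ∃ ξ : Z, ξ ⤳ z ∧ closure {ξ} ∈ irreducibleComponents Z := by
  let ξ₀ : Spec (Z.presheaf.stalk z) := (⟨⊥, Ideal.isPrime_bot⟩ : PrimeSpectrum (Z.presheaf.stalk z))
  let ξ : Z := (Z.fromSpecStalk z) ξ₀
  have hξz : ξ ⤳ z := by
    have : ξ ∈ Set.range (Z.fromSpecStalk z) := ⟨ξ₀, rfl⟩
    rw [Scheme.range_fromSpecStalk] at this
    exact this
  refine ⟨ξ, hξz, ?_⟩
  rw [irreducibleComponents_eq_maximals_closed]
  refine ⟨⟨isClosed_closure, isIrreducible_singleton.closure⟩, ?_⟩
  rintro T ⟨hTc, hTi⟩ hle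
  -- generic point of `T`
  let t := hTi.genericPoint
  have ht : IsGenericPoint t T := hTi.isGenericPoint_genericPoint hTc
  have htξ : t ⤳ ξ := by
    rw [specializes_iff_mem_closure, ht.def]
    exact hle (subset_closure rfl)
  have htz : t ⤳ z := htξ.trans hξz
  have : t ∈ Set.range (Z.fromSpecStalk z) := by
    rw [Scheme.range_fromSpecStalk]
    exact htz
  obtain ⟨t₀, ht₀⟩ := this
  have h1 : t₀ ⤳ ξ₀ := by
    rw [← (Z.fromSpecStalk z).isEmbedding.specializes_iff, ht₀]
    exact htξ
  have h2 : t₀.asIdeal ≤ ξ₀.asIdeal :=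
    (PrimeSpectrum.asIdeal_le_asIdeal _ _).mpr
      ((PrimeSpectrum.le_iff_specializes (R := Z.presheaf.stalk z) t₀ ξ₀).mpr h1)
  have h3 : t₀ = ξ₀ := by
    apply PrimeSpectrum.ext
    exact le_antisymm h2 bot_le
  have h4 : t = ξ := by rw [← ht₀, h3]
  rw [← ht.def, h4]

/-- A morphism from a scheme with domain stalks to an integral scheme which sends maximal points
to the generic point is injective on stalks. -/
theorem stalkMap_injective_of_dominant {X Z : Scheme.{u}} [IsIntegral X] (g : Z ⟶ X)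
    (hdom : ∀ z : Z, closure {z} ∈ irreducibleComponents Z → g z = genericPoint X) (z : Z)
    [IsDomain (Z.presheaf.stalk z)] :
    Function.Injective (g.stalkMap z).hom := by
  obtain ⟨ξ, hξz, hξ⟩ := exists_maximal_point_specializes z
  have hgξ : g ξ = genericPoint X := hdom ξ hξ
  have hfield : IsField (X.presheaf.stalk (g ξ)) := by
    rw [hgξ]
    exact Field.toIsField X.functionField
  have hinjξ : Function.Injective (g.stalkMap ξ).hom := by
    letI := hfield.toField
    exact (g.stalkMap ξ).hom.injective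
  rw [injective_iff_map_eq_zero]
  intro a ha
  obtain ⟨U, hU, s, rfl⟩ := X.presheaf.exists_germ_eq a
  -- the germ at `z` of `g.app U s` vanishes
  have h0 : (Z.presheaf.germ (g ⁻¹ᵁ U) z hU).hom ((g.app U).hom s) = 0 := by
    have := Scheme.Hom.germ_stalkMap_apply g U z hU s
    rw [← this]
    exact ha
  -- hence also the germ at `ξ`
  have hξU : ξ ∈ g ⁻¹ᵁ U := hξz.mem_open (g ⁻¹ᵁ U).isOpen hU
  have h1 : (Z.presheaf.germ (g ⁻¹ᵁ U) ξ hξU).hom ((g.app U).hom s) = 0 := by
    have := TopCat.Presheaf.germ_stalkSpecializes_apply Z.presheaf hU hξz ((g.app U).hom s)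
    rw [← this, h0, map_zero]
  have h2 : (g.stalkMap ξ).hom ((X.presheaf.germ U (g ξ) hξU).hom s) = 0 := by
    rw [Scheme.Hom.germ_stalkMap_apply g U ξ hξU s]
    exact h1
  have h3 : (X.presheaf.germ U (g ξ) hξU).hom s = 0 := by
    apply hinjξ
    rw [h2, map_zero]
  have h4 : s = 0 := by
    apply germ_injective_of_isIntegral X (g ξ) hξU
    rw [map_zero]
    exact h3
  rw [h4, map_zero]

/-- A morphism `t : T ⟶ X` is *stalkwise good* if the stalks of `T` are normal domains and the
stalk maps of `t` are injective. -/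
def Good {T X : Scheme.{u}} (t : T ⟶ X) : Prop :=
  ∀ x : T, (IsDomain (T.presheaf.stalk x) ∧ IsIntegrallyClosed (T.presheaf.stalk x)) ∧
    Function.Injective (t.stalkMap x).hom

theorem good_of_dominant {X Z : Scheme.{u}} [IsIntegral X] (g : Z ⟶ X)
    (hZ : Pi1.IsNormalScheme Z)
    (hdom : ∀ z : Z, closure {z} ∈ irreducibleComponents Z → g z = genericPoint X) : Good g := by
  intro z
  haveI := (hZ z).1
  exact ⟨hZ z, stalkMap_injective_of_dominant g hdom z⟩

theorem Good.comp_openImmersion {T' T X : Scheme.{u}} (ι : T' ⟶ T) [IsOpenImmersion ι]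
    {t : T ⟶ X} (ht : Good t) : Good (ι ≫ t) := by
  intro x
  have hiso : IsIso (ι.stalkMap x) := inferInstance
  let e := (asIso (ι.stalkMap x)).commRingCatIsoToRingEquiv
  obtain ⟨⟨h1, h2⟩, h3⟩ := ht (ι x)
  refine ⟨⟨e.symm.injective.isDomain e.symm.toRingHom, IsIntegrallyClosed.of_equiv e⟩, ?_⟩
  rw [Scheme.Hom.stalkMap_comp]
  show Function.Injective ((ι.stalkMap x).hom.comp (t.stalkMap (ι x)).hom)
  rw [RingHom.coe_comp]
  exact e.injective.comp h3

theorem Good.locGood {T X : Scheme.{u}} [IsIntegral X] {t : T ⟶ X} (ht : Good t)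
    {U : X.Opens} {W : T.Opens} (hW : IsAffineOpen W) (e : W ≤ t ⁻¹ᵁ U) :
    LocGood (t.appLE U W e).hom := by
  intro P _
  let y : PrimeSpectrum Γ(T, W) := ⟨P, inferInstance⟩
  have hx : hW.fromSpec y ∈ W := by
    have : hW.fromSpec y ∈ Set.range hW.fromSpec := ⟨y, rfl⟩
    rw [hW.range_fromSpec] at this
    exact this
  obtain ⟨⟨h1, h2⟩, h3⟩ := ht (hW.fromSpec y)
  refine ⟨T.presheaf.stalk (hW.fromSpec y), inferInstance,
    (T.presheaf.germ W _ hx).hom.toAlgebra, hW.isLocalization_stalk' y hx, h1, h2, ?_⟩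
  have hcomp : (T.presheaf.germ W _ hx).hom.comp (t.appLE U W e).hom =
      (t.stalkMap (hW.fromSpec y)).hom.comp (X.presheaf.germ U (t (hW.fromSpec y)) (e hx)).hom := by
    rw [← CommRingCat.hom_comp, ← CommRingCat.hom_comp]
    congr 1
    rw [Scheme.Hom.germ_stalkMap, Scheme.Hom.appLE, Category.assoc, TopCat.Presheaf.germ_res]
  show Function.Injective ((T.presheaf.germ W _ hx).hom.comp (t.appLE U W e).hom)
  rw [hcomp, RingHom.coe_comp]
  exact h3.comp (germ_injective_of_isIntegral X _ (e hx))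

end

end Groth.Agent.Lib.helper13.Fac
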