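import Mathlib
import Groth.Agent.Lib.Helper13.Fac2
import Groth.Agent.Lib.Helper13.KrAk3

set_option autoImplicit false

namespace Groth.Agent.Lib.helper13.Fac

universe u

open AlgebraicGeometry CategoryTheory Limits Groth.Agent.Lib.helper13.KrAk

noncomputable section

variable (X : Scheme.{u}) [IsIntegral X] [QuasiCompact (X.fromSpecStalk (genericPoint X))]
  [QuasiSeparated (X.fromSpecStalk (genericPoint X))]

/-- Sections of the normalization over the preimage of a nonempty affine open form the integral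
closure of the coordinate ring in the function field. -/
theorem exists_isIntegralClosure (U : X.Opens) (hU : IsAffineOpen U) [Nonempty U] :
    letI : Algebra Γ(X, U) Γ((X.fromSpecStalk (genericPoint X)).normalization,
        (X.fromSpecStalk (genericPoint X)).fromNormalization ⁻¹ᵁ U) :=
      ((X.fromSpecStalk (genericPoint X)).fromNormalization.app U).hom.toAlgebra
    ∃ (_ : Algebra Γ((X.fromSpecStalk (genericPoint X)).normalization,
        (X.fromSpecStalk (genericPoint X)).fromNormalization ⁻¹ᵁ U) X.functionField),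
      IsScalarTower Γ(X, U) Γ((X.fromSpecStalk (genericPoint X)).normalization,
        (X.fromSpecStalk (genericPoint X)).fromNormalization ⁻¹ᵁ U) X.functionField ∧
      IsIntegralClosure Γ((X.fromSpecStalk (genericPoint X)).normalization,
        (X.fromSpecStalk (genericPoint X)).fromNormalization ⁻¹ᵁ U) Γ(X, U) X.functionField := by
  letI algN : Algebra Γ(X, U) Γ((X.fromSpecStalk (genericPoint X)).normalization,
      (X.fromSpecStalk (genericPoint X)).fromNormalization ⁻¹ᵁ U) :=
    ((X.fromSpecStalk (genericPoint X)).fromNormalization.app U).hom.toAlgebra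
  letI algKU : Algebra Γ(X, U)
      Γ(Spec X.functionField, X.fromSpecStalk (genericPoint X) ⁻¹ᵁ U) :=
    ((X.fromSpecStalk (genericPoint X)).app U).hom.toAlgebra
  obtain ⟨e, he⟩ := exists_ringEquiv_functionField X U
  obtain ⟨ι, hι⟩ := exists_ringEquiv_normalization X U hU
  let eK : X.functionField ≃ₐ[Γ(X, U)]
      Γ(Spec X.functionField, X.fromSpecStalk (genericPoint X) ⁻¹ᵁ U) :=
    AlgEquiv.ofRingEquiv (f := e) he
  let E : Γ((X.fromSpecStalk (genericPoint X)).normalization,
      (X.fromSpecStalk (genericPoint X)).fromNormalization ⁻¹ᵁ U) →+* X.functionField :=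
    (eK.symm : _ →+* X.functionField).comp
      ((integralClosure Γ(X, U)
        Γ(Spec X.functionField, X.fromSpecStalk (genericPoint X) ⁻¹ᵁ U)).val.toRingHom.comp
        ι.toRingHom)
  have hE : ∀ y, E y = eK.symm (ι y : Γ(Spec X.functionField,
      X.fromSpecStalk (genericPoint X) ⁻¹ᵁ U)) := fun y => rfl
  letI algE : Algebra Γ((X.fromSpecStalk (genericPoint X)).normalization,
      (X.fromSpecStalk (genericPoint X)).fromNormalization ⁻¹ᵁ U) X.functionField := E.toAlgebra
  refine ⟨algE, ?_, ?_⟩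
  · apply IsScalarTower.of_algebraMap_eq
    intro r
    show _ = E (((X.fromSpecStalk (genericPoint X)).fromNormalization.app U).hom r)
    rw [hE, hι]
    show _ = eK.symm (algebraMap Γ(X, U) _ r)
    rw [AlgEquiv.commutes]
  · refine ⟨?_, ?_⟩
    · intro y₁ y₂ h
      have h' : E y₁ = E y₂ := h
      rw [hE, hE] at h'
      exact ι.injective (Subtype.ext (eK.symm.injective h'))
    · intro x
      constructor
      · intro hx
        have hx' : IsIntegral Γ(X, U) (eK x) := hx.map eK
        refine ⟨ι.symm ⟨eK x, hx'⟩, ?_⟩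
        show E _ = x
        rw [hE, RingEquiv.apply_symm_apply]
        exact eK.symm_apply_apply x
      · rintro ⟨y, rfl⟩
        show IsIntegral Γ(X, U) (E y)
        rw [hE]
        exact (ι y).2.map eK.symm

/-- Two lifts of a good morphism through the normalization agree on sections over affine opens. -/
theorem appLE_eq_of_good {T : Scheme.{u}} {t : T ⟶ X} (ht : Good t)
    (h₁ h₂ : T ⟶ (X.fromSpecStalk (genericPoint X)).normalization)
    (e₁ : h₁ ≫ (X.fromSpecStalk (genericPoint X)).fromNormalization = t)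
    (e₂ : h₂ ≫ (X.fromSpecStalk (genericPoint X)).fromNormalization = t)
    {U : X.Opens} (hU : IsAffineOpen U) {W : T.Opens} (hW : IsAffineOpen W) (e : W ≤ t ⁻¹ᵁ U)
    (x : T) (hx : x ∈ W)
    (k₁ : W ≤ h₁ ⁻¹ᵁ ((X.fromSpecStalk (genericPoint X)).fromNormalization ⁻¹ᵁ U))
    (k₂ : W ≤ h₂ ⁻¹ᵁ ((X.fromSpecStalk (genericPoint X)).fromNormalization ⁻¹ᵁ U)) :
    h₁.appLE ((X.fromSpecStalk (genericPoint X)).fromNormalization ⁻¹ᵁ U) W k₁ =
      h₂.appLE ((X.fromSpecStalk (genericPoint X)).fromNormalization ⁻¹ᵁ U) W k₂ := by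
  haveI : Nonempty U := ⟨⟨t x, e hx⟩⟩
  letI algN : Algebra Γ(X, U) Γ((X.fromSpecStalk (genericPoint X)).normalization,
      (X.fromSpecStalk (genericPoint X)).fromNormalization ⁻¹ᵁ U) :=
    ((X.fromSpecStalk (genericPoint X)).fromNormalization.app U).hom.toAlgebra
  obtain ⟨algE, hst, hic⟩ := exists_isIntegralClosure X U hU
  haveI := functionField_isFractionRing_of_isAffineOpen X U hU
  have hgood := ht.locGood hW e
  apply CommRingCat.hom_ext
  apply ext_of_comp_eq (K := X.functionField) (t.appLE U W e).hom hgood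
  · have c₁ : (X.fromSpecStalk (genericPoint X)).fromNormalization.app U ≫
        h₁.appLE ((X.fromSpecStalk (genericPoint X)).fromNormalization ⁻¹ᵁ U) W k₁ =
        t.appLE U W e := by
      rw [Scheme.Hom.app_eq_appLE, Scheme.Hom.appLE_comp_appLE]
      subst e₁
      rfl
    exact congrArg CommRingCat.Hom.hom c₁
  · have c₂ : (X.fromSpecStalk (genericPoint X)).fromNormalization.app U ≫
        h₂.appLE ((X.fromSpecStalk (genericPoint X)).fromNormalization ⁻¹ᵁ U) W k₂ =
        t.appLE U W e := by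
      rw [Scheme.Hom.app_eq_appLE, Scheme.Hom.appLE_comp_appLE]
      subst e₂
      rfl
    exact congrArg CommRingCat.Hom.hom c₂

/-- Uniqueness of lifts of a good morphism through the normalization. -/
theorem hom_ext_of_good {T : Scheme.{u}} {t : T ⟶ X} (ht : Good t)
    (h₁ h₂ : T ⟶ (X.fromSpecStalk (genericPoint X)).normalization)
    (e₁ : h₁ ≫ (X.fromSpecStalk (genericPoint X)).fromNormalization = t)
    (e₂ : h₂ ≫ (X.fromSpecStalk (genericPoint X)).fromNormalization = t) : h₁ = h₂ := by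
  apply Scheme.hom_ext_of_forall
  intro x
  obtain ⟨_, ⟨U, hU : IsAffineOpen U, rfl⟩, hxU, -⟩ :=
    (X.isBasis_affineOpens).exists_subset_of_mem_open (Set.mem_univ (t x)) isOpen_univ
  have hxU' : x ∈ t ⁻¹ᵁ U := hxU
  obtain ⟨_, ⟨W, hW : IsAffineOpen W, rfl⟩, hxW, hWU⟩ :=
    (T.isBasis_affineOpens).exists_subset_of_mem_open hxU' (t ⁻¹ᵁ U).isOpen
  have hWU' : W ≤ t ⁻¹ᵁ U := hWU
  have k₁ : W ≤ h₁ ⁻¹ᵁ ((X.fromSpecStalk (genericPoint X)).fromNormalization ⁻¹ᵁ U) := by
    intro y hy
    show (X.fromSpecStalk (genericPoint X)).fromNormalization (h₁ y) ∈ U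
    rw [← Scheme.Hom.comp_apply, e₁]
    exact hWU' hy
  have k₂ : W ≤ h₂ ⁻¹ᵁ ((X.fromSpecStalk (genericPoint X)).fromNormalization ⁻¹ᵁ U) := by
    intro y hy
    show (X.fromSpecStalk (genericPoint X)).fromNormalization (h₂ y) ∈ U
    rw [← Scheme.Hom.comp_apply, e₂]
    exact hWU' hy
  refine ⟨W, hxW, ?_⟩
  have hV : IsAffineOpen ((X.fromSpecStalk (genericPoint X)).fromNormalization ⁻¹ᵁ U) :=
    hU.preimage _
  have key := appLE_eq_of_good X ht h₁ h₂ e₁ e₂ hU hW hWU' x hxW k₁ k₂
  have s₁ := IsAffineOpen.SpecMap_appLE_fromSpec h₁ hV hW k₁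
  have s₂ := IsAffineOpen.SpecMap_appLE_fromSpec h₂ hV hW k₂
  rw [key] at s₁
  have : hW.fromSpec ≫ h₁ = hW.fromSpec ≫ h₂ := s₁.symm.trans s₂
  rw [← hW.isoSpec_hom_fromSpec, Category.assoc, Category.assoc, this]

end

end Groth.Agent.Lib.helper13.Fac
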