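import Mathlib
import Groth.Agent.Lib.Helper13.Fac3

set_option autoImplicit false

namespace Groth.Agent.Lib.helper13.Fac

universe u

open AlgebraicGeometry CategoryTheory Limits Groth.Agent.Lib.helper13.KrAk

noncomputable section

variable (X : Scheme.{u}) [IsIntegral X] [QuasiCompact (X.fromSpecStalk (genericPoint X))]
  [QuasiSeparated (X.fromSpecStalk (genericPoint X))]

/-- Local existence of a lift through the normalization. -/
theorem exists_lift_affine {T : Scheme.{u}} {t : T ⟶ X} (ht : Good t)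
    {U : X.Opens} (hU : IsAffineOpen U) {W : T.Opens} (hW : IsAffineOpen W) (e : W ≤ t ⁻¹ᵁ U)
    (x : T) (hx : x ∈ W) :
    ∃ h : (W : Scheme.{u}) ⟶ (X.fromSpecStalk (genericPoint X)).normalization,
      h ≫ (X.fromSpecStalk (genericPoint X)).fromNormalization = W.ι ≫ t := by
  haveI : Nonempty U := ⟨⟨t x, e hx⟩⟩
  letI algN : Algebra Γ(X, U) Γ((X.fromSpecStalk (genericPoint X)).normalization,
      (X.fromSpecStalk (genericPoint X)).fromNormalization ⁻¹ᵁ U) :=
    ((X.fromSpecStalk (genericPoint X)).fromNormalization.app U).hom.toAlgebra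
  obtain ⟨algE, hst, hic⟩ := exists_isIntegralClosure X U hU
  haveI := functionField_isFractionRing_of_isAffineOpen X U hU
  have hgood := ht.locGood hW e
  obtain ⟨ψ, hψ⟩ := exists_extension (K := X.functionField)
    (A' := Γ((X.fromSpecStalk (genericPoint X)).normalization,
      (X.fromSpecStalk (genericPoint X)).fromNormalization ⁻¹ᵁ U)) (t.appLE U W e).hom hgood
  have hV : IsAffineOpen ((X.fromSpecStalk (genericPoint X)).fromNormalization ⁻¹ᵁ U) :=
    hU.preimage _
  refine ⟨hW.isoSpec.hom ≫ Spec.map (CommRingCat.ofHom ψ) ≫ hV.fromSpec, ?_⟩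
  have hψ' : (X.fromSpecStalk (genericPoint X)).fromNormalization.appLE U
      ((X.fromSpecStalk (genericPoint X)).fromNormalization ⁻¹ᵁ U) le_rfl ≫
      CommRingCat.ofHom ψ = t.appLE U W e := by
    rw [← Scheme.Hom.app_eq_appLE]
    apply CommRingCat.hom_ext
    exact hψ
  rw [Category.assoc, Category.assoc,
    ← IsAffineOpen.SpecMap_appLE_fromSpec (X.fromSpecStalk (genericPoint X)).fromNormalization
      hU hV le_rfl, ← Spec.map_comp_assoc, hψ',
    IsAffineOpen.SpecMap_appLE_fromSpec t hU hW e, ← Category.assoc, hW.isoSpec_hom_fromSpec]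

/-- Existence of a lift of a good morphism through the normalization. -/
theorem exists_lift_of_good {Z : Scheme.{u}} {g : Z ⟶ X} (hg : Good g) :
    ∃ h : Z ⟶ (X.fromSpecStalk (genericPoint X)).normalization,
      h ≫ (X.fromSpecStalk (genericPoint X)).fromNormalization = g := by
  have hloc : ∀ z : Z, ∃ (W : Z.Opens) (_ : z ∈ W)
      (h : (W : Scheme.{u}) ⟶ (X.fromSpecStalk (genericPoint X)).normalization),
      h ≫ (X.fromSpecStalk (genericPoint X)).fromNormalization = W.ι ≫ g := by
    intro z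
    obtain ⟨_, ⟨U, hU : IsAffineOpen U, rfl⟩, hzU, -⟩ :=
      (X.isBasis_affineOpens).exists_subset_of_mem_open (Set.mem_univ (g z)) isOpen_univ
    have hzU' : z ∈ g ⁻¹ᵁ U := hzU
    obtain ⟨_, ⟨W, hW : IsAffineOpen W, rfl⟩, hzW, hWU⟩ :=
      (Z.isBasis_affineOpens).exists_subset_of_mem_open hzU' (g ⁻¹ᵁ U).isOpen
    obtain ⟨h, hh⟩ := exists_lift_affine X hg hU hW hWU z hzW
    exact ⟨W, hzW, h, hh⟩
  choose W hzW h hh using hloc
  let 𝒰 : Z.OpenCover := {
    I₀ := Z, X i := (W i), f i := (W i).ι,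
    mem₀ := by
      rw [Scheme.presieve₀_mem_precoverage_iff]
      refine ⟨fun x ↦ ⟨x, by simpa using hzW x⟩, inferInstance⟩ }
  have hcompat : ∀ i j : Z, pullback.fst (𝒰.f i) (𝒰.f j) ≫ h i = pullback.snd _ _ ≫ h j := by
    intro i j
    have hgood : Good (pullback.fst (𝒰.f i) (𝒰.f j) ≫ (W i).ι ≫ g) := by
      have := hg.comp_openImmersion (pullback.fst (𝒰.f i) (𝒰.f j) ≫ (W i).ι)
      rwa [Category.assoc] at this
    apply hom_ext_of_good X hgood
    · rw [Category.assoc, hh]
    · rw [Category.assoc, hh]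
      exact (pullback.condition_assoc _).symm
  refine ⟨𝒰.glueMorphisms h hcompat, ?_⟩
  apply 𝒰.hom_ext
  intro i
  rw [← Category.assoc, Scheme.Cover.ι_glueMorphisms, hh]

end

end Groth.Agent.Lib.helper13.Fac
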