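import Mathlib
import Groth.Agent.Lib.Helper25.TensorChase

/-!
# Flatness of fibre product rings `B ×_{A/I} A`

Shared lemmas for S14085 / S14086: if `B → E` is an injective finite flat ring map then it is
faithfully flat, its cokernel is flat over `B`, and kernels of surjections onto flat modules.
-/

set_option autoImplicit false
universe u

namespace Groth.Agent.Lib.helper13

open TensorProduct

/-- A finite flat injective ring map is faithfully flat. -/
theorem faithfullyFlat_of_finite_flat_injective (B E : Type u) [CommRing B] [CommRing E]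
    [Algebra B E] [Module.Finite B E] [Module.Flat B E]
    (hinj : Function.Injective (algebraMap B E)) : Module.FaithfullyFlat B E := by
  apply Module.FaithfullyFlat.of_comap_surjective
  intro P
  have : Algebra.IsIntegral B E := Algebra.IsIntegral.of_finite B E
  obtain ⟨Q, -, hQ, hQP⟩ := Ideal.exists_ideal_over_prime_of_isIntegral P.asIdeal (⊥ : Ideal E)
    (by
      rw [← RingHom.ker_eq_comap_bot, (RingHom.injective_iff_ker_eq_bot _).mp hinj]
      exact bot_le)
  exact ⟨⟨Q, hQ⟩, PrimeSpectrum.ext hQP⟩

/-- The cokernel of a faithfully flat ring map `B → E` is a flat `B`-module. -/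
theorem flat_coker_of_faithfullyFlat (B E : Type u) [CommRing B] [CommRing E]
    [Algebra B E] [Module.FaithfullyFlat B E] :
    Module.Flat B (E ⧸ LinearMap.range (Algebra.linearMap B E)) := by
  rw [Module.Flat.iff_lTensor_injective']
  intro J
  refine Groth.Agent.Lib.helper25.lTensor_injective_of_exact (Algebra.linearMap B E)
    (LinearMap.range (Algebra.linearMap B E)).mkQ (LinearMap.exact_map_mkQ_range _)
    (Submodule.mkQ_surjective _) J.subtype J.mkQ
    (LinearMap.exact_subtype_mkQ J) (Submodule.mkQ_surjective _) ?_ ?_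
  · -- purity of `B → E`
    have h1 : (Algebra.linearMap B E).rTensor (B ⧸ J) =
        (TensorProduct.mk B E (B ⧸ J) 1) ∘ₗ (TensorProduct.lid B (B ⧸ J)).toLinearMap := by
      apply TensorProduct.ext'
      intro b n
      simp only [LinearMap.rTensor_tmul, Algebra.linearMap_apply, LinearMap.coe_comp,
        LinearEquiv.coe_coe, Function.comp_apply, TensorProduct.lid_tmul, TensorProduct.mk_apply]
      rw [Algebra.algebraMap_eq_smul_one, TensorProduct.smul_tmul]
    rw [h1]
    exact (Module.FaithfullyFlat.tensorProduct_mk_injective (A := B) (B := E) (B ⧸ J)).comp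
      (TensorProduct.lid B (B ⧸ J)).injective
  · exact Module.Flat.lTensor_preserves_injective_linearMap _ (Submodule.injective_subtype J)

/-- Kernel of a surjection of a flat module onto a flat module is flat. -/
theorem flat_of_exact_of_flat {R : Type u} [CommRing R] {P A Q : Type u}
    [AddCommGroup P] [Module R P] [AddCommGroup A] [Module R A] [AddCommGroup Q] [Module R Q]
    [Module.Flat R A] [Module.Flat R Q]
    (ι : P →ₗ[R] A) (π : A →ₗ[R] Q) (hι : Function.Injective ι) (hπ : Function.Surjective π)
    (hex : Function.Exact ι π) : Module.Flat R P := by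
  rw [Module.Flat.iff_rTensor_injective']
  intro J
  -- `J ⊗ P → J ⊗ A → R ⊗ A` is injective
  have h1 : Function.Injective (ι.lTensor J) :=
    LinearMap.lTensor_injective_of_exact_of_flat π hπ ι hι hex J
  have h2 : Function.Injective (J.subtype.rTensor A) :=
    Module.Flat.rTensor_preserves_injective_linearMap _ (Submodule.injective_subtype J)
  have h3 : (ι.lTensor R) ∘ₗ (J.subtype.rTensor P) = (J.subtype.rTensor A) ∘ₗ (ι.lTensor J) := by
    rw [LinearMap.lTensor_comp_rTensor, LinearMap.rTensor_comp_lTensor]
  have h4 : Function.Injective ((ι.lTensor R) ∘ₗ (J.subtype.rTensor P)) := by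
    rw [h3]
    exact h2.comp h1
  exact Function.Injective.of_comp h4

section FibProd

variable (R A B : Type u) [CommRing R] [CommRing A] [CommRing B] [Algebra R A] [Algebra R B]
  (I : Ideal A) [Algebra B (A ⧸ I)] [IsScalarTower R B (A ⧸ I)]

/-- The fibre product ring `B ×_{A/I} A`. -/
abbrev fibProd : Subalgebra R (B × A) :=
  AlgHom.equalizer ((IsScalarTower.toAlgHom R B (A ⧸ I)).comp (AlgHom.fst R B A))
    ((Ideal.Quotient.mkₐ R I).comp (AlgHom.snd R B A))

/-- The cokernel of `B → A/I`. -/
abbrev cokerBE : Type u := (A ⧸ I) ⧸ LinearMap.range (Algebra.linearMap B (A ⧸ I))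

/-- The projection `B ×_{A/I} A → A`. -/
def fibProdToA : fibProd R A B I →ₗ[R] A :=
  (AlgHom.snd R B A).toLinearMap ∘ₗ (fibProd R A B I).val.toLinearMap

/-- The map `B → A/I` as an `R`-linear map. -/
def bToE : B →ₗ[R] (A ⧸ I) := (IsScalarTower.toAlgHom R B (A ⧸ I)).toLinearMap

/-- The map `A/I → coker`. -/
def eToCoker : (A ⧸ I) →ₗ[R] cokerBE A B I :=
  (LinearMap.range (Algebra.linearMap B (A ⧸ I))).mkQ.restrictScalars R

/-- The map `A → coker (B → A/I)`. -/
def aToCoker : A →ₗ[R] cokerBE A B I :=
  eToCoker R A B I ∘ₗ (Ideal.Quotient.mkₐ R I).toLinearMap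

theorem mem_fibProd (x : B × A) :
    x ∈ fibProd R A B I ↔ algebraMap B (A ⧸ I) x.1 = Ideal.Quotient.mk I x.2 := Iff.rfl

variable {A B I} in
theorem fibProdToA_injective (hinj : Function.Injective (algebraMap B (A ⧸ I))) :
    Function.Injective (fibProdToA R A B I) := by
  rw [injective_iff_map_eq_zero]
  rintro ⟨⟨b, a⟩, hx⟩ h0
  have ha : a = 0 := h0
  subst ha
  have hb : algebraMap B (A ⧸ I) b = 0 := by
    rw [(mem_fibProd R A B I _).mp hx]
    exact map_zero _
  have : b = 0 := hinj (by rw [hb, map_zero])
  subst this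
  rfl

theorem eToCoker_surjective : Function.Surjective (eToCoker R A B I) :=
  Submodule.mkQ_surjective _

theorem aToCoker_surjective : Function.Surjective (aToCoker R A B I) :=
  (eToCoker_surjective R A B I).comp Ideal.Quotient.mk_surjective

theorem exact_bToE_eToCoker : Function.Exact (bToE R A B I) (eToCoker R A B I) := by
  intro e
  change (LinearMap.range (Algebra.linearMap B (A ⧸ I))).mkQ e = 0 ↔ _
  rw [Submodule.mkQ_apply, Submodule.Quotient.mk_eq_zero]
  rfl

theorem exact_fibProdToA_aToCoker :
    Function.Exact (fibProdToA R A B I) (aToCoker R A B I) := by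
  intro a
  change (LinearMap.range (Algebra.linearMap B (A ⧸ I))).mkQ (Ideal.Quotient.mk I a) = 0 ↔ _
  rw [Submodule.mkQ_apply, Submodule.Quotient.mk_eq_zero]
  constructor
  · rintro ⟨b, hb⟩
    exact ⟨⟨(b, a), hb⟩, rfl⟩
  · rintro ⟨⟨⟨b, a'⟩, hx⟩, rfl⟩
    exact ⟨b, hx⟩

variable {A B I} in
theorem flat_cokerBE [Module.Flat R B] [Module.Finite B (A ⧸ I)] [Module.Flat B (A ⧸ I)]
    (hinj : Function.Injective (algebraMap B (A ⧸ I))) : Module.Flat R (cokerBE A B I) := by
  have := faithfullyFlat_of_finite_flat_injective B (A ⧸ I) hinj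
  have := flat_coker_of_faithfullyFlat B (A ⧸ I)
  exact Module.Flat.trans R B (cokerBE A B I)

variable {A B I} in
theorem flat_fibProd [Module.Flat R A] [Module.Flat R B] [Module.Finite B (A ⧸ I)]
    [Module.Flat B (A ⧸ I)] (hinj : Function.Injective (algebraMap B (A ⧸ I))) :
    Module.Flat R (fibProd R A B I) := by
  have := flat_cokerBE R hinj
  exact flat_of_exact_of_flat (fibProdToA R A B I) (aToCoker R A B I)
    (fibProdToA_injective R hinj) (aToCoker_surjective R A B I)
    (exact_fibProdToA_aToCoker R A B I)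

end FibProd

section FibProdBaseChange

variable (R A B : Type u) [CommRing R] [CommRing A] [CommRing B] [Algebra R A] [Algebra R B]
  (I : Ideal A) [Algebra B (A ⧸ I)] [IsScalarTower R B (A ⧸ I)]

/-- The projection `B ×_{A/I} A → B`. -/
def fibProdToB : fibProd R A B I →ₗ[R] B :=
  (AlgHom.fst R B A).toLinearMap ∘ₗ (fibProd R A B I).val.toLinearMap

theorem bToE_comp_fibProdToB :
    bToE R A B I ∘ₗ fibProdToB R A B I =
      (Ideal.Quotient.mkₐ R I).toLinearMap ∘ₗ fibProdToA R A B I := by
  ext ⟨⟨b, a⟩, hx⟩
  exact hx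

/-- `Algebra.TensorProduct.map id f` agrees with `lTensor`. -/
theorem algTensorMap_id_apply {R' : Type u} [CommRing R'] [Algebra R R'] {M N : Type u}
    [CommRing M] [Algebra R M] [CommRing N] [Algebra R N] (f : M →ₐ[R] N) (x : R' ⊗[R] M) :
    Algebra.TensorProduct.map (AlgHom.id R' R') f x = f.toLinearMap.lTensor R' x := by
  induction x using TensorProduct.induction_on with
  | zero => simp
  | tmul r m => simp
  | add x y hx hy => rw [map_add, map_add, hx, hy]

variable {A B I} in
theorem lTensor_fibProdToA_injective [Module.Flat R B] [Module.Finite B (A ⧸ I)]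
    [Module.Flat B (A ⧸ I)] (hinj : Function.Injective (algebraMap B (A ⧸ I)))
    (R' : Type u) [AddCommGroup R'] [Module R R'] :
    Function.Injective ((fibProdToA R A B I).lTensor R') := by
  have := flat_cokerBE R hinj
  exact LinearMap.lTensor_injective_of_exact_of_flat (aToCoker R A B I)
    (aToCoker_surjective R A B I) (fibProdToA R A B I) (fibProdToA_injective R hinj)
    (exact_fibProdToA_aToCoker R A B I) R'

variable {A B I} in
theorem lTensor_bToE_injective [Module.Flat R B] [Module.Finite B (A ⧸ I)]
    [Module.Flat B (A ⧸ I)] (hinj : Function.Injective (algebraMap B (A ⧸ I)))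
    (R' : Type u) [AddCommGroup R'] [Module R R'] :
    Function.Injective ((bToE R A B I).lTensor R') := by
  have := flat_cokerBE R hinj
  exact LinearMap.lTensor_injective_of_exact_of_flat (eToCoker R A B I)
    (eToCoker_surjective R A B I) (bToE R A B I) hinj
    (exact_bToE_eToCoker R A B I) R'

variable {A B I} in
theorem exists_lTensor_fibProd [Module.Flat R B] [Module.Finite B (A ⧸ I)]
    [Module.Flat B (A ⧸ I)] (hinj : Function.Injective (algebraMap B (A ⧸ I)))
    (R' : Type u) [AddCommGroup R'] [Module R R'] (b : R' ⊗[R] B) (a : R' ⊗[R] A)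
    (hba : (bToE R A B I).lTensor R' b = (Ideal.Quotient.mkₐ R I).toLinearMap.lTensor R' a) :
    ∃ x : R' ⊗[R] fibProd R A B I,
      (fibProdToB R A B I).lTensor R' x = b ∧ (fibProdToA R A B I).lTensor R' x = a := by
  have h0 : (aToCoker R A B I).lTensor R' a = 0 := by
    have h1 : (aToCoker R A B I).lTensor R' a =
        (eToCoker R A B I).lTensor R' ((Ideal.Quotient.mkₐ R I).toLinearMap.lTensor R' a) := by
      rw [← LinearMap.comp_apply, ← LinearMap.lTensor_comp]
      rfl
    rw [h1, ← hba, ← LinearMap.comp_apply, ← LinearMap.lTensor_comp,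
      (exact_bToE_eToCoker R A B I).linearMap_comp_eq_zero, LinearMap.lTensor_zero,
      LinearMap.zero_apply]
  obtain ⟨x, hx⟩ := (lTensor_exact R' (exact_fibProdToA_aToCoker R A B I)
    (aToCoker_surjective R A B I) a).mp h0
  refine ⟨x, ?_, hx⟩
  apply lTensor_bToE_injective R hinj R'
  rw [hba, ← hx, ← LinearMap.comp_apply, ← LinearMap.comp_apply, ← LinearMap.lTensor_comp,
    ← LinearMap.lTensor_comp, bToE_comp_fibProdToB]

end FibProdBaseChange

end Groth.Agent.Lib.helper13
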