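import Mathlib
import Groth.Prelude.Def_Coh
import Groth.Agent.Lib.Helper13.FibreNu
import Groth.Agent.Lib.Helper16.CohStalk

set_option autoImplicit false
universe u
open CategoryTheory CategoryTheory.Limits AlgebraicGeometry Opposite TopologicalSpace TensorProduct
open Scheme.Modules

/-!
# A finite type quasi-coherent module with a vanishing fibre vanishes nearby (helper13)

* `exists_annihilator_of_subsingleton_tensor`: `M` finite over `A`, `L₀` a field over `A` with `L₀ ⊗ M = 0`: some `f` with nonzero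
  image in `L₀` kills `M`.
* `isZero_restrict_of_stalks_vanish`, `subsingleton_stalk_of_smul_eq_zero`.
* `exists_nhd_isZero_of_nu_eq_zero`: Nakayama for a field point `g₀ : Z₀ ⟶ V`.
-/

namespace Groth.Agent.Lib.helper13.FibreVanish
open Groth.Agent.Lib.helper16.QCohPullback Groth.Agent.Lib.helper16.CohFinite
  Groth.Agent.Lib.helper13.FibreBound Groth.Agent.Lib.helper13.FibreNu Groth.Agent.Lib.helper16.CohStalk

section Algebra

variable {A : Type u} [CommRing A] (M : Type u) [AddCommGroup M] [Module A M]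

/-- Nakayama at a field point -/
lemma exists_annihilator_of_subsingleton_tensor [Module.Finite A M] (L₀ : Type u) [Field L₀] [Algebra A L₀]
    (h : Subsingleton (L₀ ⊗[A] M)) : ∃ f : A, algebraMap A L₀ f ≠ 0 ∧ ∀ m : M, f • m = 0 := by
  let 𝔭 : Ideal A := RingHom.ker (algebraMap A L₀)
  haveI : 𝔭.IsPrime := RingHom.ker_isPrime _
  let p : PrimeSpectrum A := ⟨𝔭, inferInstance⟩
  have hp : p ∉ Module.support A M := by
    rw [Module.mem_support_iff_nontrivial_residueField_tensorProduct]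
    intro hnt
    let ψ : 𝔭.ResidueField →+* L₀ := Ideal.ResidueField.lift 𝔭 (algebraMap A L₀) le_rfl (by
      intro a ha
      exact IsUnit.mk0 _ (fun h => ha ((RingHom.mem_ker).2 h)))
    letI : Algebra 𝔭.ResidueField L₀ := ψ.toAlgebra
    haveI : IsScalarTower A 𝔭.ResidueField L₀ := IsScalarTower.of_algebraMap_eq (fun a =>
      (Ideal.ResidueField.lift_algebraMap 𝔭 (algebraMap A L₀) le_rfl _ a).symm)
    let eqv := TensorProduct.AlgebraTensorModule.cancelBaseChange A 𝔭.ResidueField L₀ L₀ M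
    haveI : Subsingleton (L₀ ⊗[𝔭.ResidueField] (𝔭.ResidueField ⊗[A] M)) :=
      eqv.toEquiv.subsingleton
    have h1 : Module.finrank L₀ (L₀ ⊗[𝔭.ResidueField] (𝔭.ResidueField ⊗[A] M)) = 0 :=
      Module.finrank_zero_of_subsingleton
    rw [Module.finrank_baseChange] at h1
    have h2 : 0 < Module.finrank 𝔭.ResidueField (𝔭.ResidueField ⊗[A] M) := Module.finrank_pos
    omega
  rw [Module.support_eq_zeroLocus, PrimeSpectrum.mem_zeroLocus, Set.not_subset] at hp
  obtain ⟨f, hfann, hfp⟩ := hp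
  exact ⟨f, fun h => hfp ((RingHom.mem_ker).2 h), fun q => (Module.mem_annihilator.1 hfann) q⟩

end Algebra

variable {V : Scheme.{u}}

/-- a module whose stalks vanish on `O` restricts to zero on `O` -/
lemma isZero_restrict_of_stalks_vanish (N : V.Modules) (O : V.Opens)
    (h : ∀ z ∈ O, Subsingleton (N.presheaf.stalk z)) : IsZero (N.restrict O.ι) := by
  rw [IsZero.iff_id_eq_zero]
  apply Scheme.Modules.hom_ext
  intro P
  ext m
  have hsub : Subsingleton Γ(N, O.ι ''ᵁ P) := by
    refine ⟨fun s t => ?_⟩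
    refine TopCat.Presheaf.section_ext (⟨N.presheaf, N.isSheaf⟩ : TopCat.Sheaf Ab V) _ s t
      (fun z hz => ?_)
    have := h z (Scheme.Opens.ι_image_le O P hz)
    exact Subsingleton.elim _ _
  exact hsub.elim _ _

/-- stalks of a quasi-coherent module at the points of `D(f)`, when `f` kills the sections over the affine open -/
lemma subsingleton_stalk_of_smul_eq_zero (N : V.Modules) [N.IsQuasicoherent] {U : V.Opens}
    (hU : IsAffineOpen U) (f : Γ(V, U)) (hf : ∀ m : Γ(N, U), f • m = 0) (z : V) (hz : z ∈ V.basicOpen f) :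
    Subsingleton (N.presheaf.stalk z) := by
  have hzU : z ∈ U := V.basicOpen_le f hz
  let _ := modStalk N z hzU
  have hloc := isLocalizedModule_stalk N hU z hzU
  have hfp : f ∉ (hU.primeIdealOf ⟨z, hzU⟩).asIdeal := by
    have h1 : hU.fromSpec (hU.primeIdealOf ⟨z, hzU⟩) = z := hU.fromSpec_primeIdealOf ⟨z, hzU⟩
    have h2 : hU.primeIdealOf ⟨z, hzU⟩ ∈ hU.fromSpec ⁻¹ᵁ (V.basicOpen f) := by
      show hU.fromSpec (hU.primeIdealOf ⟨z, hzU⟩) ∈ V.basicOpen f
      rw [h1]; exact hz
    rw [hU.fromSpec_preimage_basicOpen] at h2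
    exact h2
  refine ⟨fun a b => ?_⟩
  suffices H : ∀ t : N.presheaf.stalk z, t = 0 by rw [H a, H b]
  intro t
  obtain ⟨⟨m, s⟩, hms⟩ := IsLocalizedModule.surj (hU.primeIdealOf ⟨z, hzU⟩).asIdeal.primeCompl
    (germLin N z hzU) t
  have hunit := IsLocalizedModule.map_units (germLin N z hzU)
    (⟨f, hfp⟩ : (hU.primeIdealOf ⟨z, hzU⟩).asIdeal.primeCompl)
  have hunit_s := IsLocalizedModule.map_units (germLin N z hzU) s
  have h0 : germLin N z hzU m = 0 := by
    have h1 : f • germLin N z hzU m = 0 := by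
      rw [← (germLin N z hzU).map_smul f m, hf, map_zero]
    apply ((Module.End.isUnit_iff _).1 hunit).1
    rw [map_zero]
    exact h1
  have h2 : (s : Γ(V, U)) • t = 0 := by
    have h3 : s • t = 0 := by rw [hms, h0]
    exact h3
  apply ((Module.End.isUnit_iff _).1 hunit_s).1
  rw [map_zero]
  exact h2

/-- **Nakayama at a field point**: a finite type quasi-coherent module whose fibre at a field point vanishes is zero near that point. -/
theorem exists_nhd_isZero_of_nu_eq_zero (N : V.Modules) [N.IsQuasicoherent]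
    (hft : SheafOfModules.IsFiniteType (R := V.ringCatSheaf) N)
    {Z₀ : Scheme.{u}} [IsAffine Z₀] [Subsingleton Z₀] (hK₀ : IsField Γ(Z₀, ⊤)) (g₀ : Z₀ ⟶ V) (z₀ : Z₀)
    (h0 : nu N g₀ = 0) :
    ∃ W : V.Opens, g₀ z₀ ∈ W ∧ IsZero (N.restrict W.ι) := by
  obtain ⟨U, hU, hz₀U, -⟩ := Opens.isBasis_iff_nbhd.mp V.isBasis_affineOpens
    (show g₀ z₀ ∈ (⊤ : V.Opens) from trivial)
  have e₀ : ⊤ ≤ g₀ ⁻¹ᵁ U := by
    intro z _
    rw [Subsingleton.elim z z₀]
    exact hz₀U
  haveI : Module.Finite Γ(V, U) Γ(N, U) := finite_sections_of_isFiniteType N hft hU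
  letI alg₀ := (g₀.appLE U ⊤ e₀).hom.toAlgebra
  letI fld₀ : Field Γ(Z₀, ⊤) := hK₀.toField
  have hsub : Subsingleton (Γ(Z₀, ⊤) ⊗[Γ(V, U)] Γ(N, U)) := by
    have h1 := nu_eq N g₀ hU e₀
    rw [h0] at h1
    exact Module.finrank_zero_iff.1 h1.symm
  obtain ⟨f, hf₀, hf⟩ := exists_annihilator_of_subsingleton_tensor (A := Γ(V, U)) Γ(N, U) Γ(Z₀, ⊤) hsub
  refine ⟨V.basicOpen f, (appLE_ne_zero_iff hK₀ g₀ U e₀ f z₀).1 hf₀, ?_⟩
  exact isZero_restrict_of_stalks_vanish N _
    (fun z hz => subsingleton_stalk_of_smul_eq_zero N hU f hf z hz)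

end Groth.Agent.Lib.helper13.FibreVanish
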