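import Mathlib
import Groth.Prelude.Def_DRing2
import Groth.Agent.Lib.Helper13.LTenCx2

/-!
# Tensor products of bounded above complexes of finite projective / finite free modules (helper13)
-/

set_option autoImplicit false
universe u
open CategoryTheory Limits HomologicalComplex MonoidalCategory

namespace Groth.Agent.Lib.helper13.LTenCx

variable {A : Type u} [CommRing A]

/-- finite projective modules -/
def FP (M : ModuleCat.{u} A) : Prop := Module.Finite A M ∧ Module.Projective A M

/-- finite free modules -/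
def FF (M : ModuleCat.{u} A) : Prop := Module.Finite A M ∧ Module.Free A M

lemma FP.of_iso {M N : ModuleCat.{u} A} (e : M ≅ N) (h : FP M) : FP N := by
  obtain ⟨h1, h2⟩ := h
  exact ⟨Module.Finite.equiv e.toLinearEquiv, Module.Projective.of_equiv e.toLinearEquiv⟩

lemma FF.of_iso {M N : ModuleCat.{u} A} (e : M ≅ N) (h : FF M) : FF N := by
  obtain ⟨h1, h2⟩ := h
  exact ⟨Module.Finite.equiv e.toLinearEquiv, Module.Free.of_equiv e.toLinearEquiv⟩

lemma FF.of_isZero (M : ModuleCat.{u} A) (h : IsZero M) : FF M := by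
  haveI : Subsingleton M := ModuleCat.subsingleton_of_isZero h
  exact ⟨inferInstance, inferInstance⟩

lemma FP.of_isZero (M : ModuleCat.{u} A) (h : IsZero M) : FP M := by
  haveI : Subsingleton M := ModuleCat.subsingleton_of_isZero h
  exact ⟨inferInstance, inferInstance⟩

lemma FP.biprod (M N : ModuleCat.{u} A) (hM : FP M) (hN : FP N) : FP (M ⊞ N) := by
  obtain ⟨h1, h2⟩ := hM
  obtain ⟨h3, h4⟩ := hN
  have h : FP (ModuleCat.of A (M × N)) := ⟨inferInstance, inferInstance⟩
  exact FP.of_iso (ModuleCat.biprodIsoProd M N).symm h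

lemma FF.biprod (M N : ModuleCat.{u} A) (hM : FF M) (hN : FF N) : FF (M ⊞ N) := by
  obtain ⟨h1, h2⟩ := hM
  obtain ⟨h3, h4⟩ := hN
  have h : FF (ModuleCat.of A (M × N)) := ⟨inferInstance, inferInstance⟩
  exact FF.of_iso (ModuleCat.biprodIsoProd M N).symm h

lemma FP.tensor (M N : ModuleCat.{u} A) (hM : FP M) (hN : FP N) : FP (M ⊗ N) := by
  obtain ⟨h1, h2⟩ := hM
  obtain ⟨h3, h4⟩ := hN
  exact ⟨inferInstanceAs (Module.Finite A (TensorProduct A M N)),
    inferInstanceAs (Module.Projective A (TensorProduct A M N))⟩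

lemma FF.tensor (M N : ModuleCat.{u} A) (hM : FF M) (hN : FF N) : FF (M ⊗ N) := by
  obtain ⟨h1, h2⟩ := hM
  obtain ⟨h3, h4⟩ := hN
  exact ⟨inferInstanceAs (Module.Finite A (TensorProduct A M N)),
    inferInstanceAs (Module.Free A (TensorProduct A M N))⟩

theorem termwiseFiniteProjective_tensor {K L : DRing.Cx A} {b₁ b₂ : ℤ}
    (hK : DRing.VanishesAbove K b₁) (hL : DRing.VanishesAbove L b₂)
    (hKP : DRing.TermwiseFiniteProjective K) (hLP : DRing.TermwiseFiniteProjective L) :
    DRing.TermwiseFiniteProjective (K ⊗ L) := fun n =>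
  prop_tensor_X FP (fun e h => FP.of_iso e h) FP.of_isZero FP.biprod FP.tensor hK hL hKP hLP n

theorem termwiseFiniteFree_tensor {K L : DRing.Cx A} {b₁ b₂ : ℤ}
    (hK : DRing.VanishesAbove K b₁) (hL : DRing.VanishesAbove L b₂)
    (hKP : DRing.TermwiseFiniteFree K) (hLP : DRing.TermwiseFiniteFree L) :
    DRing.TermwiseFiniteFree (K ⊗ L) := fun n =>
  prop_tensor_X FF (fun e h => FF.of_iso e h) FF.of_isZero FF.biprod FF.tensor hK hL hKP hLP n

end Groth.Agent.Lib.helper13.LTenCx
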