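import Mathlib
import Groth.Agent.Lib.Helper13.TildeTensorNat
import Groth.Agent.Lib.Helper13.LpullQCoh
import Groth.Agent.Lib.Helper13.KFlat14
import Groth.Agent.Lib.Helper25.PullTensorCx
import Groth.Agent.Lib.Helper25.PullKFlat

set_option autoImplicit false
universe u
open CategoryTheory CategoryTheory.Limits AlgebraicGeometry Opposite

attribute [local instance] HasDerivedCategory.standard

/-!
# `E ⊗^L F` has quasi-coherent cohomology sheaves when `E` and `F` do (helper13; = S1062)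

* `quasiIso_tensor_left`, `nonempty_tensor_congr_right/left`, `nonempty_tensor_congr`: for K-flat `P`, `P'`,
  `Q (P ⊗ F)` depends only on `Q P`, `Q F` up to isomorphism.
* `local_tilde`: on an affine chart `j : Spec R ⟶ X`, `j^* H^i(P ⊗ F) ≅ N^~` (S0997 + `tildeTensorCxIso` +
  helper25 `pullTensorCxIso`).
* `main`.
-/

namespace Groth.Agent.Lib.helper13.LTensorQCoh
open Groth.Agent.Lib.Helper25.LpullAdapted Groth.Agent.Lib.Helper25.LTensorComp
  Groth.Agent.Lib.helper13.KFlat

variable {X : Scheme.{u}}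

/-- for K-flat `P`, `P ⊗ -` preserves quasi-isomorphisms -/
lemma quasiIso_tensor_left (P : CochainComplex X.Modules ℤ) (hP : DCoh.IsKFlat P)
    {F F' : CochainComplex X.Modules ℤ} (g : F ⟶ F') [QuasiIso g] :
    QuasiIso ((DCoh.tensorCx.obj P).map g) :=
  quasiIso_mapBifunctorMap_right (DCoh.tensorBi (X := X)) P
    (fun K hK => dcoh_isKFlat_symm P hP K hK) g

/-- `Q (P ⊗ F)` only depends on `Q F` for K-flat `P` -/
lemma nonempty_tensor_congr_right (P : CochainComplex X.Modules ℤ) (hP : DCoh.IsKFlat P)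
    {F F' : CochainComplex X.Modules ℤ} (e : DCoh.toD X F ≅ DCoh.toD X F') :
    Nonempty (DCoh.toD X ((DCoh.tensorCx.obj P).obj F) ≅ DCoh.toD X ((DCoh.tensorCx.obj P).obj F')) := by
  have h : (HomologicalComplex.quasiIso X.Modules (ComplexShape.up ℤ)).IsInvertedBy
      (DCoh.tensorCx.obj P ⋙ DerivedCategory.Q) := by
    intro A B g hg
    rw [HomologicalComplex.mem_quasiIso_iff] at hg
    haveI := quasiIso_tensor_left P hP g
    exact Localization.inverts DerivedCategory.Q
      (HomologicalComplex.quasiIso X.Modules (ComplexShape.up ℤ)) _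
      ((HomologicalComplex.mem_quasiIso_iff _).2 inferInstance)
  let G : DCoh.D X ⥤ DCoh.D X := Localization.lift _ h DerivedCategory.Q
  let fac : DerivedCategory.Q ⋙ G ≅ DCoh.tensorCx.obj P ⋙ DerivedCategory.Q :=
    Localization.fac _ h DerivedCategory.Q
  exact ⟨(fac.app F).symm ≪≫ G.mapIso e ≪≫ fac.app F'⟩

/-- `Q (P ⊗ F)` only depends on `Q P` for K-flat `P` -/
lemma nonempty_tensor_congr_left {P P' : CochainComplex X.Modules ℤ} (hP : DCoh.IsKFlat P)
    (hP' : DCoh.IsKFlat P') (e : DCoh.toD X P ≅ DCoh.toD X P') (F : CochainComplex X.Modules ℤ) :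
    Nonempty (DCoh.toD X ((DCoh.tensorCx.obj P).obj F) ≅ DCoh.toD X ((DCoh.tensorCx.obj P').obj F)) := by
  obtain ⟨P₂, s, hs, g, fac⟩ := DerivedCategory.right_fac e.hom
  obtain ⟨P₃, r, hP₃, hr⟩ := hres₀ P₂
  have hs' : QuasiIso s := (DerivedCategory.isIso_Q_map_iff_quasiIso _ s).1 hs
  have hg : QuasiIso g := by
    rw [← DerivedCategory.isIso_Q_map_iff_quasiIso]
    have : DerivedCategory.Q.map g = DerivedCategory.Q.map s ≫ e.hom := by
      rw [fac, IsIso.hom_inv_id_assoc]
    rw [this]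
    infer_instance
  haveI := hF₀ F (r ≫ s) hP₃.1 hP inferInstance
  haveI := hF₀ F (r ≫ g) hP₃.1 hP' inferInstance
  exact ⟨(asIso ((DCoh.tensorCxQ F).map (r ≫ s))).symm ≪≫ asIso ((DCoh.tensorCxQ F).map (r ≫ g))⟩

lemma nonempty_tensor_congr {P P' F F' : CochainComplex X.Modules ℤ} (hP : DCoh.IsKFlat P)
    (hP' : DCoh.IsKFlat P') (e : DCoh.toD X P ≅ DCoh.toD X P') (e' : DCoh.toD X F ≅ DCoh.toD X F') :
    Nonempty (DCoh.toD X ((DCoh.tensorCx.obj P).obj F) ≅ DCoh.toD X ((DCoh.tensorCx.obj P').obj F')) := by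
  obtain ⟨a⟩ := nonempty_tensor_congr_right P hP e'
  obtain ⟨b⟩ := nonempty_tensor_congr_left hP hP' e F'
  exact ⟨a ≪≫ b⟩


open Groth.Agent.Lib.helper13.LpullQCoh Groth.Agent.Lib.helper13.TildeTensorNat
  Groth.Agent.Lib.Helper25.PullTensorCx MonoidalCategory in
/-- the local computation: on an affine chart the cohomology sheaves of `P ⊗ F` are of the form `N^~` -/
lemma local_tilde (R : CommRingCat.{u}) (j : Spec R ⟶ X) [IsOpenImmersion j]
    (P F : CochainComplex X.Modules ℤ) (hP : DCoh.IsKFlat P)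
    (hPq : ∀ i, (P.homology i).IsQuasicoherent) (hFq : ∀ i, (F.homology i).IsQuasicoherent) (i : ℤ) :
    ∃ N : ModuleCat.{u} R, Nonempty ((Scheme.Modules.pullback j).obj
      (((DCoh.tensorCx.obj P).obj F).homology i) ≅ tilde N) := by
  haveI := preservesFiniteLimits_pullback_of_isOpenImmersion j
  haveI := Groth.Agent.S9498.preservesFiniteLimits_tilde R
  have hqc : ∀ K : CochainComplex X.Modules ℤ, (∀ i, (K.homology i).IsQuasicoherent) →
      DCoh.IsQCohD (DCoh.toD _ ((pullCx j).obj K)) := by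
    intro K hK k
    haveI := hK k
    haveI : ((Scheme.Modules.pullback j).obj (K.homology k)).IsQuasicoherent :=
      Groth.Agent.Lib.helper16.QCohPullback.isQuasicoherent_pullback j (K.homology k)
    exact Groth.Agent.Lib.helper16.QCohFibre.isQuasicoherent_of_iso (HDtoDIso j K k).symm
  -- representatives over the ring
  have hrep : ∀ K : CochainComplex X.Modules ℤ, (∀ i, (K.homology i).IsQuasicoherent) →
      ∃ PM : DRing.Cx R, DRing.IsKFlat R PM ∧
        Nonempty (DCoh.toD _ ((pullCx j).obj K) ≅ DCoh.toD _ ((tildeCx R).obj PM)) := by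
    intro K hK
    obtain ⟨M, ⟨m⟩⟩ := ((Groth.Agent.S0997.result R).2.2 _).1 (hqc K hK)
    obtain ⟨PM, q, hPM, hq⟩ :=
      Groth.Agent.Lib.helper13.TildeLpull.hresA (A := R) (DerivedCategory.Q.objPreimage M)
    haveI : IsIso (DerivedCategory.Q.map q) :=
      Localization.inverts DerivedCategory.Q
        (HomologicalComplex.quasiIso (ModuleCat.{u} R) (ComplexShape.up ℤ)) q
        ((HomologicalComplex.mem_quasiIso_iff q).2 hq)
    refine ⟨PM, hPM.1, ⟨m.symm ≪≫ (DCoh.tildeD R).mapIso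
      ((asIso (DerivedCategory.Q.map q) ≪≫ DerivedCategory.Q.objObjPreimageIso M).symm) ≪≫
      ((tilde.functor R).mapDerivedCategoryFactors).app PM⟩⟩
  obtain ⟨PM, hPM, ⟨eM⟩⟩ := hrep P hPq
  obtain ⟨PN, hPN, ⟨eN⟩⟩ := hrep F hFq
  have hP₁ := Groth.Agent.Lib.Helper25.PullKFlat.isKFlat_pullback j P hP
  have hPM' := Groth.Agent.Lib.helper13.TildeStalk.isKFlat_tilde R PM hPM
  obtain ⟨b⟩ := nonempty_tensor_congr hP₁ hPM' eM eN
  refine ⟨(PM ⊗ PN).homology i, ⟨?_⟩⟩
  refine ((((DCoh.tensorCx.obj P).obj F).sc i).mapHomologyIso (Scheme.Modules.pullback j)).symm ≪≫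
    (HomologicalComplex.homologyFunctor _ _ i).mapIso (pullTensorCxIso j P F) ≪≫
    ((DerivedCategory.homologyFunctorFactors _ i).app _).symm ≪≫
    (DerivedCategory.homologyFunctor _ i).mapIso b ≪≫
    (DerivedCategory.homologyFunctorFactors _ i).app _ ≪≫
    (HomologicalComplex.homologyFunctor _ _ i).mapIso (tildeTensorCxIso R PM PN).symm ≪≫
    ((PM ⊗ PN).sc i).mapHomologyIso (tilde.functor R)

/-- **`E ⊗^L F` has quasi-coherent cohomology sheaves if `E` and `F` do.** -/
theorem main (F : CochainComplex X.Modules ℤ) (hF : DCoh.IsQCohD (DCoh.toD X F)) [DCoh.HasLTensorCx F]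
    (E : DCoh.D X) (hE : DCoh.IsQCohD E) : DCoh.IsQCohD ((DCoh.LTensorCx F).obj E) := by
  obtain ⟨P, hP, ⟨e⟩⟩ := Groth.Agent.Lib.helper13.LpullQCoh.exists_P₀_rep E
  have hq : ∀ (K : CochainComplex X.Modules ℤ), DCoh.IsQCohD (DCoh.toD X K) →
      ∀ i, (K.homology i).IsQuasicoherent := by
    intro K hK i
    haveI := hK i
    exact Groth.Agent.Lib.helper16.QCohFibre.isQuasicoherent_of_iso (A := DCoh.HD (DCoh.toD X K) i)
      ((DerivedCategory.homologyFunctorFactors _ i).app K)
  have hPq : ∀ i, (P.homology i).IsQuasicoherent := by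
    intro i
    haveI := hE i
    exact Groth.Agent.Lib.helper16.QCohFibre.isQuasicoherent_of_iso
      ((DerivedCategory.homologyFunctor _ i).mapIso e.symm ≪≫
        (DerivedCategory.homologyFunctorFactors _ i).app P)
  have hFq := hq F hF
  intro i
  haveI := isIso_ε_app F P hP.1
  let T := ((DCoh.tensorCx.obj P).obj F).homology i
  have hT : T.IsQuasicoherent := by
    refine Groth.Agent.Lib.helper16.QCohPullback.isQuasicoherent_of_cover _
      (fun p : X.affineOpens => p.1) ?_ (fun p => ?_)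
    · rw [eq_top_iff]
      intro y _
      obtain ⟨U, hU, hyU, -⟩ := TopologicalSpace.Opens.isBasis_iff_nbhd.mp X.isBasis_affineOpens
        (show y ∈ (⊤ : X.Opens) from trivial)
      exact TopologicalSpace.Opens.mem_iSup.mpr ⟨⟨U, hU⟩, hyU⟩
    · obtain ⟨N, ⟨n⟩⟩ := local_tilde _ p.2.fromSpec P F hP.1 hPq hFq i
      exact Groth.Agent.Lib.helper16.QCohPullback.nonempty_presentation_restrict_of_iso_tilde _
        p.2 N ((Scheme.Modules.restrictFunctorIsoPullback p.2.fromSpec).app _ ≪≫ n)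
  haveI := hT
  exact Groth.Agent.Lib.helper16.QCohFibre.isQuasicoherent_of_iso (A := T)
    ((DerivedCategory.homologyFunctor _ i).mapIso ((DCoh.LTensorCx F).mapIso e.symm ≪≫
        asIso ((ε F).app P)) ≪≫
      (DerivedCategory.homologyFunctorFactors _ i).app _).symm

end Groth.Agent.Lib.helper13.LTensorQCoh
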