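import Mathlib
import Groth.Agent.Lib.Helper13.TildeLpull
import Groth.Agent.Lib.Helper25.FBCIso
import Groth.Agent.Lib.Helper25.LpullPC
import Groth.Agent.Lib.Helper25.TildePC
import Groth.Agent.Lib.Helper23.ExtSc3
import Groth.Agent.Lib.Helper23.FlatBC1
import Groth.Agent.Lib.Helper25.ExtendPCMain
import Groth.Agent.Lib.Helper25.PerfectTor
import Groth.Agent.Lib.Helper25.RestrictDNat
import Groth.Agent.Lib.Helper25.RGZ4
import Groth.Agent.Lib.Helper25.DCohPC4
import Groth.Agent.Lib.Helper16.QCohPullback2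
import Groth.Agent.S0997
import Groth.Agent.S9498

/-!
# fpqc descent of `m`-pseudo-coherence for objects with quasi-coherent cohomology (helper13)
-/

set_option autoImplicit false
universe u
open CategoryTheory CategoryTheory.Limits AlgebraicGeometry Opposite TopologicalSpace
open Scheme.Modules

attribute [local instance] HasDerivedCategory.standard

namespace Groth.Agent.Lib.helper13.FpqcPC

open DerivedCategory Groth.Agent.Lib.helper25.DCohPC3
  Groth.Agent.Lib.helper23.PCohCore Groth.Agent.Lib.helper23.DRingPC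

attribute [local instance] Groth.Agent.Lib.Helper25.LpullAdapted.hasLpull

/-- affine core: `M~` is `m`-pseudo-coherent as soon as its pullback along a faithfully flat
`Spec C ⟶ Spec A` is -/
theorem pc_tildeD_of_pc_Lpull (A C : Type u) [CommRing A] [CommRing C] [Algebra A C]
    [Module.FaithfullyFlat A C] (M : Dual.D A) (m : ℤ)
    [PreservesFiniteLimits (tilde.functor (CommRingCat.of A))]
    [PreservesFiniteLimits (tilde.functor (CommRingCat.of C))]
    (h : DCoh.IsPseudoCoherentD m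
      ((DCoh.Lpull (Spec.map (CommRingCat.ofHom (algebraMap A C)))).obj
        ((DCoh.tildeD (CommRingCat.of A)).obj M))) :
    DCoh.IsPseudoCoherentD m ((DCoh.tildeD (CommRingCat.of A)).obj M) := by
  haveI : DRing.HasLBaseChange (algebraMap A C) :=
    Groth.Agent.Lib.helper13.RKF.hasLBaseChange _
  obtain ⟨e⟩ := Groth.Agent.Lib.helper13.TildeLpull.main (algebraMap A C)
  have h1 : DCoh.IsPseudoCoherentD m ((DCoh.tildeD (CommRingCat.of C)).obj
      ((DRing.LBaseChange (algebraMap A C)).obj M)) :=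
    isPseudoCoherentD_of_iso (e.app M).symm h
  have h2 := (Groth.Agent.Lib.Helper25.TildePC.isPseudoCoherentD_tildeD_iff C _ m).1 h1
  have h3 := (isPseudoCoherent_iff_npc C m _).1 h2
  haveI : PreservesFiniteLimits (ModuleCat.extendScalars.{u, u, u} (algebraMap A C)) :=
    Groth.Agent.Lib.helper23.FlatBC.preservesFiniteLimits_extendScalars_algebraMap
  set K : DRing.Cx A := Q.objPreimage M with hK
  have eK : Q.obj K ≅ M := Q.objObjPreimageIso M
  have h4 : NPC (FF C) m (DRing.toD (((ModuleCat.extendScalars.{u, u, u}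
      (algebraMap A C)).mapHomologicalComplex (ComplexShape.up ℤ)).obj K)) :=
    h3.of_iso ((DRing.LBaseChange (algebraMap A C)).mapIso eK.symm ≪≫
      (Groth.Agent.Lib.helper23.FlatBC.lbcIso (algebraMap A C)).app (Q.obj K) ≪≫
      (ModuleCat.extendScalars.{u, u, u} (algebraMap A C)).mapDerivedCategoryFactors.app K)
  have h5 := Groth.Agent.Lib.helper23.ExtSc.npc_of_faithfullyFlat K m h4
  have h6 : DRing.IsPseudoCoherent A m M := (isPseudoCoherent_iff_npc A m M).2 (h5.of_iso eK)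
  exact (Groth.Agent.Lib.Helper25.TildePC.isPseudoCoherentD_tildeD_iff A M m).2 h6

variable {X' X : Scheme.{u}}

/-- fpqc descent of `m`-pseudo-coherence for objects with quasi-coherent cohomology -/
theorem pc_of_pc_Lpull (f : X' ⟶ X) [Flat f] [Surjective f] [QuasiCompact f]
    (E : DCoh.D X) (hE : DCoh.IsQCohD E) (m : ℤ)
    (h : DCoh.IsPseudoCoherentD m ((DCoh.Lpull f).obj E)) : DCoh.IsPseudoCoherentD m E := by
  classical
  haveI : ∀ R : CommRingCat.{u}, PreservesFiniteLimits (tilde.functor R) :=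
    fun R => Groth.Agent.S9498.preservesFiniteLimits_tilde R
  refine Groth.Agent.Lib.helper25.DCohPC4.isPseudoCoherentD_of_restrict (fun x => ?_)
  obtain ⟨U, hU, hxU⟩ : ∃ U : X.Opens, IsAffineOpen U ∧ x ∈ U := by
    obtain ⟨U, hU, hxU, -⟩ :=
      TopologicalSpace.Opens.isBasis_iff_nbhd.1 X.isBasis_affineOpens
        (show x ∈ (⊤ : X.Opens) from trivial)
    exact ⟨U, hU, hxU⟩
  refine ⟨U, hxU, ?_⟩
  obtain ⟨W, hW, p, hp, e, hff⟩ :=
    Groth.Agent.Lib.helper16.QCohPullback2.exists_affine_faithfullyFlat f hU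
  haveI := hW
  haveI := hp
  set g : W ⟶ X := p ≫ f with hg
  obtain ⟨c⟩ := Groth.Agent.Lib.Helper25.LpullComp.nonempty_Lpull_comp p f
  have h1 : DCoh.IsPseudoCoherentD m ((DCoh.Lpull g).obj E) :=
    isPseudoCoherentD_of_iso (c.app E)
      (Groth.Agent.Lib.Helper25.LpullPC.isPseudoCoherentD_Lpull p m _ h)
  obtain ⟨r⟩ := Groth.Agent.Lib.Helper25.FBCIso.nonempty_Lpull_restrictD g U ⊤ e
  set hh : ((⊤ : W.Opens) : Scheme.{u}) ⟶ (U : Scheme.{u}) := g.resLE U ⊤ e with hhh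
  set KU : DCoh.D (U : Scheme.{u}) := (DCoh.restrictD U.ι).obj E with hKU
  have h2 : DCoh.IsPseudoCoherentD m ((DCoh.Lpull hh).obj KU) :=
    isPseudoCoherentD_of_iso (r.app E)
      (Groth.Agent.Lib.helper25.PerfectTor.isPseudoCoherentD_restrictD h1 ⊤)
  letI : Algebra Γ(X, U) Γ(W, ⊤) := (g.appLE U ⊤ e).hom.toAlgebra
  haveI : Module.FaithfullyFlat Γ(X, U) Γ(W, ⊤) := hff
  set aU : Spec Γ(X, U) ⟶ (U : Scheme.{u}) := hU.isoSpec.inv with haU
  haveI : IsIso aU := inferInstanceAs (IsIso hU.isoSpec.inv)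
  set aW : Spec Γ(W, ⊤) ⟶ ((⊤ : W.Opens) : Scheme.{u}) := (isAffineOpen_top W).isoSpec.inv with haW
  haveI : IsIso aW := inferInstanceAs (IsIso (isAffineOpen_top W).isoSpec.inv)
  set f' : Spec Γ(W, ⊤) ⟶ Spec Γ(X, U) :=
    Spec.map (CommRingCat.ofHom (algebraMap Γ(X, U) Γ(W, ⊤))) with hf'
  have w : f' ≫ aU = aW ≫ hh := by
    rw [← cancel_mono U.ι, Category.assoc, Category.assoc, Scheme.Hom.resLE_comp_ι]
    exact IsAffineOpen.SpecMap_appLE_fromSpec g hU (isAffineOpen_top W) e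
  have hq : DCoh.IsQCohD ((DCoh.restrictD aU).obj KU) :=
    Groth.Agent.Lib.Helper25.RGZ4.isQCohD_restrictD aU _
      (Groth.Agent.Lib.Helper25.RGZ4.isQCohD_restrictD U.ι E hE)
  obtain ⟨M, ⟨eM⟩⟩ := ((Groth.Agent.S0997.result Γ(X, U)).2.2 _).1 hq
  obtain ⟨iU⟩ := Groth.Agent.Lib.Helper25.FBCIso.nonempty_restrictD_iso_Lpull aU
  obtain ⟨iW⟩ := Groth.Agent.Lib.Helper25.FBCIso.nonempty_restrictD_iso_Lpull aW
  obtain ⟨c1⟩ := Groth.Agent.Lib.Helper25.LpullComp.nonempty_Lpull_comp f' aU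
  obtain ⟨c2⟩ := Groth.Agent.Lib.Helper25.LpullComp.nonempty_Lpull_comp aW hh
  obtain ⟨c3⟩ := Groth.Agent.Lib.Helper25.FBCIso.nonempty_Lpull_congr w
  have h3 : DCoh.IsPseudoCoherentD m ((DCoh.restrictD aW).obj ((DCoh.Lpull hh).obj KU)) :=
    Groth.Agent.Lib.Helper25.ExtendPCMain.isPseudoCoherentD_restrictD_of_isOpenImmersion aW h2
  have h4 : DCoh.IsPseudoCoherentD m ((DCoh.Lpull f').obj ((DCoh.tildeD Γ(X, U)).obj M)) :=
    isPseudoCoherentD_of_iso (iW.app _ ≪≫ c2.app KU ≪≫ (c3.app KU).symm ≪≫ (c1.app KU).symm ≪≫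
      (DCoh.Lpull f').mapIso (iU.app KU).symm ≪≫ (DCoh.Lpull f').mapIso eM.symm) h3
  have h5 := pc_tildeD_of_pc_Lpull Γ(X, U) Γ(W, ⊤) M m h4
  have h6 : DCoh.IsPseudoCoherentD m ((DCoh.restrictD aU).obj KU) :=
    isPseudoCoherentD_of_iso eM h5
  have eback : (DCoh.restrictD (inv aU)).obj ((DCoh.restrictD aU).obj KU) ≅ KU :=
    ((Groth.Agent.Lib.Helper25.RestrictDNat.equivOfIso aU).unitIso.app KU).symm
  exact isPseudoCoherentD_of_iso eback
    (Groth.Agent.Lib.Helper25.ExtendPCMain.isPseudoCoherentD_restrictD_of_isOpenImmersion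
      (inv aU) h6)

end Groth.Agent.Lib.helper13.FpqcPC
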