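import Mathlib
import Groth.Prelude.Def_DRing3
import Groth.Agent.Lib.Helper19.LCRes
import Groth.Agent.Lib.Helper23.RHomCx1

/-!
# `Γ_I E ⟶ E` is a quasi-isomorphism for complexes of injectives with torsion cohomology (helper13)

`A` Noetherian, `E` a complex of injective `A`-modules.
* `QI a E`: elementwise form of "`Γ_a E ⟶ E` is a quasi-isomorphism"; `TorsH f E`: the cohomology of `E` is
  `f`-power torsion (elementwise).
* `QI_bot`, `QI_sup_span` (adding one generator), `QI_span_list`.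
* `ΓC I E`, `inclΓ I E : Γ_I E ⟶ E`, `quasiIso_inclΓ`, `quasiIso_inclΓ_of_torsH`.
-/

set_option autoImplicit false
universe u
open CategoryTheory CategoryTheory.Limits

namespace Groth.Agent.Lib.helper13.RGam

variable {A : Type u} [CommRing A]

/-- elementwise form of "`Γ_a E ⟶ E` is a quasi-isomorphism" -/
def QI (a : Ideal A) (E : DRing.Cx A) : Prop :=
  (∀ (n : ℤ) (y : E.X n), E.d n (n + 1) y = 0 →
    ∃ (x : E.X n) (b : E.X (n - 1)), x ∈ DRing.torsionSub a (E.X n) ∧ E.d n (n + 1) x = 0 ∧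
      x = y + E.d (n - 1) n b) ∧
  (∀ (n : ℤ) (x : E.X n), x ∈ DRing.torsionSub a (E.X n) → E.d n (n + 1) x = 0 →
    (∃ b : E.X (n - 1), x = E.d (n - 1) n b) →
    ∃ a' : E.X (n - 1), a' ∈ DRing.torsionSub a (E.X (n - 1)) ∧ x = E.d (n - 1) n a')

/-- the cohomology of `E` is `f`-power torsion, elementwise -/
def TorsH (f : A) (E : DRing.Cx A) : Prop :=
  ∀ (n : ℤ) (y : E.X n), E.d n (n + 1) y = 0 →
    ∃ (k : ℕ) (b : E.X (n - 1)), f ^ k • y = E.d (n - 1) n b

lemma mem_torsionSub_bot {M : Type u} [AddCommGroup M] [Module A M] (x : M) :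
    x ∈ DRing.torsionSub (⊥ : Ideal A) M :=
  ⟨1, fun r hr => by
    rw [pow_one, Ideal.mem_bot] at hr
    rw [hr, zero_smul]⟩

lemma QI_bot (E : DRing.Cx A) : QI ⊥ E :=
  ⟨fun n y hy => ⟨y, 0, mem_torsionSub_bot y, hy, by rw [map_zero, add_zero]⟩,
    fun n x _ _ ⟨b, hb⟩ => ⟨b, mem_torsionSub_bot b, hb⟩⟩

lemma d_mem_torsionSub (a : Ideal A) (E : DRing.Cx A) (p q : ℤ) (x : E.X p)
    (hx : x ∈ DRing.torsionSub a (E.X p)) : E.d p q x ∈ DRing.torsionSub a (E.X q) :=
  DRing.map_mem_torsionSub a (E.d p q).hom hx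

lemma d_d_apply (E : DRing.Cx A) (p q r : ℤ) (x : E.X p) : E.d q r (E.d p q x) = 0 :=
  congrArg (fun t => t.hom x) (E.d_comp_d p q r)

variable [IsNoetherianRing A]

theorem QI_sup_span (a : Ideal A) (f : A) (E : DRing.Cx A)
    (hinj : ∀ n : ℤ, Module.Injective A (E.X n)) (h : QI a E) (hf : TorsH f E) :
    QI (a ⊔ Ideal.span {f}) E := by
  -- divisibility up to torsion in `Γ_a(E^p)`
  have div : ∀ (p : ℤ) (k : ℕ) (w : E.X p), w ∈ DRing.torsionSub a (E.X p) →
      ∃ (w' : E.X p) (m : ℕ), w' ∈ DRing.torsionSub a (E.X p) ∧ f ^ m • (f ^ k • w' - w) = 0 := by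
    intro p k w hw
    have hI : Module.Injective A (DRing.torsionSub a (E.X p)) :=
      Groth.Agent.Lib.helper19.LCZero.torsionSub_injective a (E.X p) (hinj p)
    obtain ⟨w', m, hw'⟩ := Groth.Agent.Lib.helper19.LCRes.exists_div_of_injective _ hI f k
      (⟨w, hw⟩ : DRing.torsionSub a (E.X p))
    exact ⟨w'.1, m, w'.2, congrArg Subtype.val hw'⟩
  constructor
  · intro n y hy
    obtain ⟨x, b, hx, hdx, hxy⟩ := h.1 n y hy
    obtain ⟨k, b', hb'⟩ := hf n x hdx
    have hk : f ^ k • x ∈ DRing.torsionSub a (E.X n) := Submodule.smul_mem _ _ hx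
    have hdk : E.d n (n + 1) (f ^ k • x) = 0 := by rw [map_smul, hdx, smul_zero]
    obtain ⟨b₀, hb₀, hb₀'⟩ := h.2 n (f ^ k • x) hk hdk ⟨b', hb'⟩
    obtain ⟨b₁, m, hb₁, hm⟩ := div (n - 1) k b₀ hb₀
    refine ⟨x - E.d (n - 1) n b₁, b - b₁, ?_, ?_, ?_⟩
    · rw [Groth.Agent.Lib.helper19.LCRes.mem_torsionSub_sup_span_iff]
      refine ⟨Submodule.sub_mem _ hx (d_mem_torsionSub a E _ _ _ hb₁), m + k, ?_⟩
      have : f ^ (m + k) • (x - E.d (n - 1) n b₁) =
          - E.d (n - 1) n (f ^ m • (f ^ k • b₁ - b₀)) := by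
        rw [map_smul, map_sub, map_smul, ← hb₀', pow_add, mul_smul, smul_sub, smul_sub, smul_sub]
        abel
      rw [this, hm, map_zero, neg_zero]
    · rw [map_sub, hdx, d_d_apply, sub_zero]
    · rw [hxy, map_sub]
      abel
  · intro n x hx hdx hb
    rw [Groth.Agent.Lib.helper19.LCRes.mem_torsionSub_sup_span_iff] at hx
    obtain ⟨hxa, k, hk⟩ := hx
    obtain ⟨b', hb'a, hb'⟩ := h.2 n x hxa hdx hb
    -- `f^k b'` is a cocycle of `Γ_a E`
    have hkb : f ^ k • b' ∈ DRing.torsionSub a (E.X (n - 1)) := Submodule.smul_mem _ _ hb'a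
    have hdkb : E.d (n - 1) (n - 1 + 1) (f ^ k • b') = 0 := by
      have e : n - 1 + 1 = n := by ring
      rw [e, map_smul, ← hb', hk]
    obtain ⟨j, c', hc'⟩ := hf (n - 1) (f ^ k • b') hdkb
    have hjk : f ^ j • (f ^ k • b') ∈ DRing.torsionSub a (E.X (n - 1)) :=
      Submodule.smul_mem _ _ hkb
    have hdjk : E.d (n - 1) (n - 1 + 1) (f ^ j • (f ^ k • b')) = 0 := by
      rw [map_smul, hdkb, smul_zero]
    obtain ⟨c, hc, hc''⟩ := h.2 (n - 1) _ hjk hdjk ⟨c', hc'⟩
    obtain ⟨c₁, m, hc₁, hm⟩ := div (n - 1 - 1) (j + k) c hc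
    refine ⟨b' - E.d (n - 1 - 1) (n - 1) c₁, ?_, ?_⟩
    · rw [Groth.Agent.Lib.helper19.LCRes.mem_torsionSub_sup_span_iff]
      refine ⟨Submodule.sub_mem _ hb'a (d_mem_torsionSub a E _ _ _ hc₁), m + (j + k), ?_⟩
      have : f ^ (m + (j + k)) • (b' - E.d (n - 1 - 1) (n - 1) c₁) =
          - E.d (n - 1 - 1) (n - 1) (f ^ m • (f ^ (j + k) • c₁ - c)) := by
        rw [map_smul, map_sub, map_smul, ← hc'', pow_add f m, mul_smul, smul_sub, smul_sub,
          smul_sub, pow_add f j, mul_smul]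
        abel
      rw [this, hm, map_zero, neg_zero]
    · rw [map_sub, d_d_apply, sub_zero]
      exact hb'


theorem QI_span_list (E : DRing.Cx A) (hinj : ∀ n : ℤ, Module.Injective A (E.X n)) :
    ∀ fs : List A, (∀ f ∈ fs, TorsH f E) → QI (Ideal.span {x : A | x ∈ fs}) E
  | [], _ => by
    have : {x : A | x ∈ ([] : List A)} = ∅ := by
      ext x
      simp
    rw [this, Ideal.span_empty]
    exact QI_bot E
  | f :: fs, h => by
    have h1 := QI_span_list E hinj fs (fun g hg => h g (List.mem_cons_of_mem _ hg))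
    have h2 := QI_sup_span _ f E hinj h1 (h f List.mem_cons_self)
    have : {x : A | x ∈ f :: fs} = {x : A | x ∈ fs} ∪ {f} := by
      ext x
      simp only [List.mem_cons, Set.mem_setOf_eq, Set.union_singleton, Set.mem_insert_iff]
    rw [this, Ideal.span_union]
    exact h2

section Incl

variable (I : Ideal A) (E : DRing.Cx A)

/-- the termwise `I`-power torsion subcomplex -/
noncomputable abbrev ΓC : DRing.Cx A :=
  ((DRing.gammaI I).mapHomologicalComplex (ComplexShape.up ℤ)).obj E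

/-- the inclusion `Γ_I E ⟶ E` -/
noncomputable def inclΓ : ΓC I E ⟶ E where
  f n := (DRing.gammaIι I).app (E.X n)
  comm' i j _ := ((DRing.gammaIι I).naturality (E.d i j)).symm

omit [IsNoetherianRing A] in
lemma inclΓ_f_apply (n : ℤ) (x : (ΓC I E).X n) :
    ((inclΓ I E).f n).hom x = (x : DRing.torsionSub I (E.X n)).1 := rfl

omit [IsNoetherianRing A] in
theorem quasiIso_inclΓ (h : QI I E) : QuasiIso (inclΓ I E) := by
  apply Groth.Agent.Lib.helper23.RHomCx.quasiIso_of_elementwise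
  · intro n y hy
    obtain ⟨x, b, hx, hdx, hxy⟩ := h.1 n y hy
    refine ⟨(⟨x, hx⟩ : DRing.torsionSub I (E.X n)), b, ?_, hxy⟩
    exact Subtype.ext hdx
  · intro n (x : DRing.torsionSub I (E.X n)) hx hb
    have hdx : E.d n (n + 1) x.1 = 0 := congrArg Subtype.val hx
    obtain ⟨a', ha', hxa⟩ := h.2 n x.1 x.2 hdx hb
    exact ⟨(⟨a', ha'⟩ : DRing.torsionSub I (E.X (n - 1))), Subtype.ext hxa⟩

end Incl

/-- **`Γ_I E ⟶ E` is a quasi-isomorphism** for a complex `E` of injective modules over a Noetherian ring whose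
cohomology is `f`-power torsion for every generator `f` of `I` -/
theorem quasiIso_inclΓ_of_torsH (fs : List A) (E : DRing.Cx A)
    (hinj : ∀ n : ℤ, Module.Injective A (E.X n)) (h : ∀ f ∈ fs, TorsH f E) :
    QuasiIso (inclΓ (Ideal.span {x : A | x ∈ fs}) E) :=
  quasiIso_inclΓ _ E (QI_span_list E hinj fs h)

end Groth.Agent.Lib.helper13.RGam
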