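import Mathlib
import Groth.Prelude.Def_DRing3
import Groth.Agent.Lib.Helper13.RGam1
import Groth.Agent.Lib.Helper25.RGammaSmul
import Groth.Agent.Lib.Helper2.ExtCech1

/-!
# `RΓ_I K ⟶ K` is an isomorphism for `K` with `I`-power torsion cohomology (helper13, S1813)

* `unitΓ I`, `uΓ I : Γ_I(-) ⋙ Q ⟶ Q ⋙ RΓ_I` (helper25's `uQ`), `isIso_uΓ_app` (K-injective complexes).
* `unitΓ_comp_ε`, `gammaIτ_app_quotient`, `uΓ_comp_ε : uΓ_E ≫ ε_{Q E} = Q (Γ_I E ⊆ E)`.
* `torsH_of_isPowerTorsion`, `isIso_RgammaIε_app` (S1813; `A` Noetherian).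
-/

set_option autoImplicit false
universe u
open CategoryTheory CategoryTheory.Limits DerivedCategory

attribute [local instance] HasDerivedCategory.standard

namespace Groth.Agent.Lib.helper13.RGam

variable {A : Type u} [CommRing A] (I : Ideal A) [DRing.HasRgammaI I]

/-- the unit of the right derived functor `RΓ_I` -/
noncomputable abbrev unitΓ : DRing.gammaIKh I ⟶ Qh ⋙ DRing.RgammaI I :=
  (DRing.gammaIKh I).totalRightDerivedUnit Qh
    (HomotopyCategory.quasiIso (ModuleCat.{u} A) (ComplexShape.up ℤ))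

/-- `Q (Γ_I E) ⟶ RΓ_I (Q E)` -/
noncomputable abbrev uΓ : (DRing.gammaI I).mapHomologicalComplex (ComplexShape.up ℤ) ⋙ Q ⟶
    Q ⋙ DRing.RgammaI I :=
  Groth.Agent.Lib.Helper25.RDerRlim.uQ (DRing.gammaI I) (DRing.RgammaI I) (unitΓ I)

lemma unitΓ_comp_ε (X : HomotopyCategory (ModuleCat.{u} A) (ComplexShape.up ℤ)) :
    (unitΓ I).app X ≫ (DRing.RgammaIε I).app (Qh.obj X) = (DRing.gammaIτ I).app X := by
  have h := Functor.rightDerived_fac (DRing.RgammaI I) (unitΓ I)
    (HomotopyCategory.quasiIso (ModuleCat.{u} A) (ComplexShape.up ℤ)) (𝟭 (Dual.D A))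
    (DRing.gammaIτ I ≫ (Functor.rightUnitor _).inv)
  have h' := congrArg (fun t => t.app X) h
  simp only [NatTrans.comp_app, Functor.whiskerLeft_app, Functor.rightUnitor_inv_app,
    Category.comp_id] at h'
  exact h'


lemma gammaIτ_app_quotient (E : DRing.Cx A) :
    (DRing.gammaIτ I).app ((HomotopyCategory.quotient _ (ComplexShape.up ℤ)).obj E) =
      Qh.map (((DRing.gammaI I).mapHomotopyCategoryFactors (ComplexShape.up ℤ)).hom.app E) ≫
        Qh.map ((HomotopyCategory.quotient _ (ComplexShape.up ℤ)).map (inclΓ I E)) := by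
  show (DRing.gammaIτ0 I).app E = _
  have hincl : (NatTrans.mapHomologicalComplex (DRing.gammaIι I) (ComplexShape.up ℤ)).app E ≫
      (Functor.mapHomologicalComplexIdIso (ModuleCat.{u} A) (ComplexShape.up ℤ)).hom.app E =
      inclΓ I E := by
    ext n : 1
    simp only [inclΓ, Functor.mapHomologicalComplexIdIso, HomologicalComplex.comp_f,
      NatTrans.mapHomologicalComplex_app_f, NatIso.ofComponents_hom_app,
      HomologicalComplex.Hom.isoOfComponents_hom_f, Iso.refl_hom]
    exact Category.comp_id _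
  simp only [DRing.gammaIτ0, NatTrans.comp_app, Functor.associator_inv_app,
    Functor.associator_hom_app, Functor.whiskerRight_app, Functor.leftUnitor_hom_app,
    Category.id_comp, Functor.comp_map]
  rw [← hincl, Functor.map_comp, Functor.map_comp]
  exact congrArg _ (congrArg _ (Category.comp_id _))

/-- compatibility of `RΓ_I ⟶ 𝟭` with the inclusion `Γ_I E ⟶ E` -/
theorem uΓ_comp_ε (E : DRing.Cx A) :
    (uΓ I).app E ≫ (DRing.RgammaIε I).app (Q.obj E) = Q.map (inclΓ I E) := by
  have hnat := (DRing.RgammaIε I).naturality ((quotientCompQhIso (ModuleCat.{u} A)).hom.app E)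
  simp only [Functor.id_map, Functor.id_obj, Functor.comp_obj] at hnat
  have h1 := unitΓ_comp_ε I ((HomotopyCategory.quotient _ (ComplexShape.up ℤ)).obj E)
  have h2 := (quotientCompQhIso (ModuleCat.{u} A)).hom.naturality (inclΓ I E)
  simp only [Functor.comp_map] at h2
  dsimp only [uΓ, Groth.Agent.Lib.Helper25.RDerRlim.uQ]
  simp only [Category.assoc]
  rw [hnat, reassoc_of% h1, gammaIτ_app_quotient, Category.assoc, ← Qh.map_comp_assoc,
    Iso.inv_hom_id_app]
  erw [CategoryTheory.Functor.map_id, Category.id_comp]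
  rw [h2]
  exact Category.id_comp _


/-- `Q (Γ_I J) ≅ RΓ_I (Q J)` for `J` K-injective -/
lemma isIso_uΓ_app (J : DRing.Cx A) [J.IsKInjective] : IsIso ((uΓ I).app J) := by
  have hKinj : ∀ K : CochainComplex (ModuleCat.{u} A) ℤ, ∃ (I' : CochainComplex (ModuleCat.{u} A) ℤ)
      (f' : K ⟶ I'), I'.IsKInjective ∧ QuasiIso f' := fun K => by
    obtain ⟨I', f', h1, h2, -, -⟩ := Groth.Agent.Lib.Helper25.KInjMain.exists_kInjective_resolution K
    exact ⟨I', f', h1, h2⟩
  exact Groth.Agent.Lib.Helper25.RDerRlim.isIso_uQ_app (DRing.gammaI I) (DRing.RgammaI I)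
    (unitΓ I)
    (fun I' hI' => by
      haveI : (DRing.RgammaI I).IsLeftKanExtension (unitΓ I) :=
        Functor.IsRightDerivedFunctor.isLeftKanExtension _ _
          (HomotopyCategory.quasiIso (ModuleCat.{u} A) (ComplexShape.up ℤ))
      exact Groth.Agent.Lib.Helper25.DerBC.isIso_unit_app_of_isKInjective hKinj _ _ _ I') J

/-- the cohomology of `J` is `f`-power torsion, from the hypothesis on `Q J` -/
lemma torsH_of_isPowerTorsion (J : DRing.Cx A) (f : A) (hf : f ∈ I)
    (h : ∀ i : ℤ, LocCoh.IsPowerTorsion I (Dual.HD A (Q.obj J) i)) : TorsH f J := by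
  intro n y hy
  open Groth.Agent.Lib.helper2.CxH in
  let z : Zc J n (n + 1) := ⟨y, (mem_Zc y).2 hy⟩
  let e : J.homology n ≅ (DerivedCategory.homologyFunctor (ModuleCat.{u} A) n).obj (Q.obj J) :=
    ((DerivedCategory.homologyFunctorFactors (ModuleCat.{u} A) n).app J).symm
  obtain ⟨k, hk⟩ := h n (e.hom.hom (Groth.Agent.Lib.helper2.CxH.cls J n (n + 1) rfl z))
  have h0 : f ^ k • Groth.Agent.Lib.helper2.CxH.cls J n (n + 1) rfl z = 0 := by
    have h1 := hk (f ^ k) (Ideal.pow_mem_pow hf k)
    rw [← map_smul] at h1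
    have hinj : Function.Injective e.hom.hom := by
      have := (ConcreteCategory.isIso_iff_bijective e.hom).1 inferInstance
      exact this.1
    exact hinj (h1.trans (map_zero _).symm)
  rw [← map_smul, Groth.Agent.Lib.helper2.CxH.cls_eq_zero_iff J (n - 1) n (n + 1) (by ring) rfl] at h0
  obtain ⟨b, hb⟩ := h0
  exact ⟨k, b, hb.symm⟩

variable [IsNoetherianRing A]

/-- **S1813**: `RΓ_I K ⟶ K` is an isomorphism when the cohomology of `K` is `I`-power torsion -/
theorem isIso_RgammaIε_app (K : Dual.D A)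
    (hK : ∀ i : ℤ, LocCoh.IsPowerTorsion I (Dual.HD A K i)) :
    IsIso ((DRing.RgammaIε I).app K) := by
  classical
  obtain ⟨J, φ, hJ, hφ, -, hinj⟩ :=
    Groth.Agent.Lib.Helper25.KInjMain.exists_kInjective_resolution (Q.objPreimage K)
  haveI := hJ
  haveI : IsIso (Q.map φ) := by
    rw [DerivedCategory.isIso_Q_map_iff_quasiIso]
    exact hφ
  let e : K ≅ Q.obj J := (Q.objObjPreimageIso K).symm ≪≫ asIso (Q.map φ)
  -- torsion hypothesis for `Q J`
  have hKJ : ∀ i : ℤ, LocCoh.IsPowerTorsion I (Dual.HD A (Q.obj J) i) := by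
    intro i m
    let ei := (DerivedCategory.homologyFunctor (ModuleCat.{u} A) i).mapIso e
    obtain ⟨k, hk⟩ := hK i (ei.inv.hom m)
    refine ⟨k, fun a ha => ?_⟩
    have h1 := hk a ha
    rw [← map_smul] at h1
    have hinj' : Function.Injective ei.inv.hom :=
      ((ConcreteCategory.isIso_iff_bijective ei.inv).1 inferInstance).1
    exact hinj' (h1.trans (map_zero _).symm)
  -- generators
  obtain ⟨s, hs⟩ := (isNoetherianRing_iff_ideal_fg A).1 inferInstance I
  have hspan : Ideal.span {x : A | x ∈ s.toList} = I := by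
    rw [← hs]
    congr 1
    ext x
    simp
  have hqi : QuasiIso (inclΓ I J) := by
    have h := quasiIso_inclΓ_of_torsH s.toList J
      (fun n => Module.injective_module_of_injective_object A (J.X n))
      (fun f hf => torsH_of_isPowerTorsion I J f (by
        rw [← hspan]
        exact Ideal.subset_span hf) hKJ)
    rw [hspan] at h
    exact h
  haveI : IsIso (Q.map (inclΓ I J)) := by
    rw [DerivedCategory.isIso_Q_map_iff_quasiIso]
    exact hqi
  haveI := isIso_uΓ_app I J
  have h1 : (DRing.RgammaIε I).app (Q.obj J) = inv ((uΓ I).app J) ≫ Q.map (inclΓ I J) := by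
    rw [IsIso.eq_inv_comp]
    exact uΓ_comp_ε I J
  haveI : IsIso ((DRing.RgammaIε I).app (Q.obj J)) := by
    rw [h1]
    infer_instance
  have h2 : (DRing.RgammaIε I).app K =
      (DRing.RgammaI I).map e.hom ≫ (DRing.RgammaIε I).app (Q.obj J) ≫ e.inv := by
    have := (DRing.RgammaIε I).naturality e.hom
    simp only [Functor.id_map, Functor.id_obj] at this
    rw [← Category.assoc, this, Category.assoc, Iso.hom_inv_id, Category.comp_id]
  rw [h2]
  infer_instance

end Groth.Agent.Lib.helper13.RGam
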