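import Mathlib
import Groth.Prelude.Def_DRing3
import Groth.Agent.Lib.Helper13.RGam2

/-!
# `RΓ_I` is right adjoint to the inclusion of objects with `I`-power torsion cohomology (helper13, S1817)

`A` Noetherian.
* `TorsD I`, `torsD_of_iso`, `isPowerTorsion_homology_ΓC`, `torsD_Q_ΓC`, `exists_model`, `torsD_RgammaI`.
* `inclΓ_naturality`, `isIso_inclΓ_ΓC`, `map_inclΓ_eq`, `isIso_uΓ_app_ΓC` (`Γ_I J` computes its own `RΓ_I`).
* `RgammaI_map_ε : RΓ_I(ε_K) = ε_{RΓ_I K}`; `adjRgammaI : ι ⊣ lift RΓ_I`.
-/

set_option autoImplicit false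
universe u
open CategoryTheory CategoryTheory.Limits DerivedCategory

attribute [local instance] HasDerivedCategory.standard

namespace Groth.Agent.Lib.helper13.RGam

variable {A : Type u} [CommRing A] (I : Ideal A)

section Torsion

/-- the property of having `I`-power torsion cohomology -/
abbrev TorsD : ObjectProperty (Dual.D A) :=
  fun L : Dual.D A => ∀ i : ℤ, LocCoh.IsPowerTorsion I (Dual.HD A L i)

lemma isPowerTorsion_of_linearEquiv {M N : Type u} [AddCommGroup M] [Module A M] [AddCommGroup N]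
    [Module A N] (e : M ≃ₗ[A] N) (h : LocCoh.IsPowerTorsion I M) : LocCoh.IsPowerTorsion I N := by
  intro n
  obtain ⟨k, hk⟩ := h (e.symm n)
  refine ⟨k, fun a ha => ?_⟩
  have h1 := hk a ha
  rw [← map_smul] at h1
  exact e.symm.injective (h1.trans (map_zero _).symm)

lemma torsD_of_iso {X Y : Dual.D A} (e : X ≅ Y) (h : TorsD I X) : TorsD I Y := fun i =>
  isPowerTorsion_of_linearEquiv I
    ((DerivedCategory.homologyFunctor (ModuleCat.{u} A) i).mapIso e).toLinearEquiv (h i)

lemma isPowerTorsion_homology_ΓC (E : DRing.Cx A) (i : ℤ) :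
    LocCoh.IsPowerTorsion I ((ΓC I E).homology i) := by
  intro y
  obtain ⟨z, rfl⟩ := Groth.Agent.Lib.helper2.CxH.cls_surjective (ΓC I E) i (i + 1) rfl y
  obtain ⟨k, hk⟩ := (z.1 : DRing.torsionSub I (E.X i)).2
  refine ⟨k, fun a ha => ?_⟩
  rw [← map_smul]
  have : a • z = 0 := by
    apply Subtype.ext
    apply Subtype.ext
    exact hk a ha
  rw [this, map_zero]

lemma torsD_Q_ΓC (E : DRing.Cx A) : TorsD I (Q.obj (ΓC I E)) := fun i =>
  isPowerTorsion_of_linearEquiv I
    ((DerivedCategory.homologyFunctorFactors (ModuleCat.{u} A) i).app (ΓC I E)).symm.toLinearEquiv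
    (isPowerTorsion_homology_ΓC I E i)

end Torsion


section Model

variable [DRing.HasRgammaI I]

/-- K-injective models with injective terms -/
lemma exists_model (K : Dual.D A) : ∃ (J : DRing.Cx A) (_ : J.IsKInjective),
    (∀ n : ℤ, Injective (J.X n)) ∧ Nonempty (K ≅ Q.obj J) := by
  obtain ⟨J, φ, hJ, hφ, -, hinj⟩ :=
    Groth.Agent.Lib.Helper25.KInjMain.exists_kInjective_resolution (Q.objPreimage K)
  haveI : IsIso (Q.map φ) := by
    rw [DerivedCategory.isIso_Q_map_iff_quasiIso]
    exact hφ
  exact ⟨J, hJ, hinj, ⟨(Q.objObjPreimageIso K).symm ≪≫ asIso (Q.map φ)⟩⟩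

/-- **`RΓ_I K` has `I`-power torsion cohomology** -/
theorem torsD_RgammaI (K : Dual.D A) : TorsD I ((DRing.RgammaI I).obj K) := by
  obtain ⟨J, hJ, -, ⟨e⟩⟩ := exists_model K
  haveI := hJ
  haveI := isIso_uΓ_app I J
  exact torsD_of_iso I (asIso ((uΓ I).app J) ≪≫ (DRing.RgammaI I).mapIso e.symm) (torsD_Q_ΓC I J)

/-- naturality of the inclusions `Γ_I E ⊆ E` -/
lemma inclΓ_naturality {E E' : DRing.Cx A} (ψ : E ⟶ E') :
    ((DRing.gammaI I).mapHomologicalComplex (ComplexShape.up ℤ)).map ψ ≫ inclΓ I E' =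
      inclΓ I E ≫ ψ := by
  ext n : 1
  exact (DRing.gammaIι I).naturality (ψ.f n)

/-- `Γ_I (Γ_I E) ⟶ Γ_I E` is an isomorphism -/
instance isIso_inclΓ_ΓC (E : DRing.Cx A) : IsIso (inclΓ I (ΓC I E)) := by
  haveI : ∀ n, IsIso ((inclΓ I (ΓC I E)).f n) := by
    intro n
    rw [ConcreteCategory.isIso_iff_bijective]
    constructor
    · intro x y h
      exact Subtype.ext h
    · intro (x : DRing.torsionSub I (E.X n))
      obtain ⟨k, hk⟩ := x.2
      exact ⟨⟨x, k, fun a ha => Subtype.ext (hk a ha)⟩, rfl⟩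
  exact HomologicalComplex.Hom.isIso_of_components _

lemma map_inclΓ_eq (E : DRing.Cx A) :
    ((DRing.gammaI I).mapHomologicalComplex (ComplexShape.up ℤ)).map (inclΓ I E) =
      inclΓ I (ΓC I E) := by
  ext n : 1
  rfl

variable [IsNoetherianRing A]

/-- `Γ_I J` computes `RΓ_I` of itself, for `J` K-injective with injective terms over a Noetherian ring -/
theorem isIso_uΓ_app_ΓC (J : DRing.Cx A) (hinj : ∀ n : ℤ, Injective (J.X n)) :
    IsIso ((uΓ I).app (ΓC I J)) := by
  classical
  obtain ⟨J', ψ, hJ', hψ, -, hinj'⟩ :=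
    Groth.Agent.Lib.Helper25.KInjMain.exists_kInjective_resolution (ΓC I J)
  haveI := hJ'
  haveI := hψ
  haveI : IsIso (Q.map ψ) := by
    rw [DerivedCategory.isIso_Q_map_iff_quasiIso]
    exact hψ
  -- `Γ_I J' ⟶ J'` is a quasi-isomorphism
  have hT : TorsD I (Q.obj J') := torsD_of_iso I (asIso (Q.map ψ)) (torsD_Q_ΓC I J)
  obtain ⟨s, hs⟩ := (isNoetherianRing_iff_ideal_fg A).1 inferInstance I
  have hspan : Ideal.span {x : A | x ∈ s.toList} = I := by
    rw [← hs]
    congr 1
    ext x
    simp
  haveI hqi : QuasiIso (inclΓ I J') := by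
    have h := quasiIso_inclΓ_of_torsH s.toList J'
      (fun n => Module.injective_module_of_injective_object A (J'.X n))
      (fun f hf => torsH_of_isPowerTorsion I J' f (by
        rw [← hspan]
        exact Ideal.subset_span hf) hT)
    rw [hspan] at h
    exact h
  -- hence `Γ_I ψ` is a quasi-isomorphism
  have hnat := inclΓ_naturality I ψ
  haveI : QuasiIso (inclΓ I (ΓC I J) ≫ ψ) := inferInstance
  haveI : QuasiIso (((DRing.gammaI I).mapHomologicalComplex (ComplexShape.up ℤ)).map ψ ≫
      inclΓ I J') := by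
    rw [hnat]
    infer_instance
  haveI hq2 : QuasiIso (((DRing.gammaI I).mapHomologicalComplex (ComplexShape.up ℤ)).map ψ) :=
    quasiIso_of_comp_right _ (inclΓ I J')
  haveI : IsIso (Q.map (((DRing.gammaI I).mapHomologicalComplex (ComplexShape.up ℤ)).map ψ)) := by
    rw [DerivedCategory.isIso_Q_map_iff_quasiIso]
    exact hq2
  haveI := isIso_uΓ_app I J'
  have h := (uΓ I).naturality ψ
  simp only [Functor.comp_map] at h
  -- `uΓ_E ≫ RΓ(Q ψ) = Q(Γ ψ) ≫ uΓ_{J'}` with three isomorphisms
  have h' : (uΓ I).app (ΓC I J) =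
      (Q.map (((DRing.gammaI I).mapHomologicalComplex (ComplexShape.up ℤ)).map ψ) ≫
        (uΓ I).app J') ≫ inv ((DRing.RgammaI I).map (Q.map ψ)) := by
    rw [IsIso.eq_comp_inv]
    exact h.symm
  rw [h']
  infer_instance


/-- `RΓ_I(ε_K) = ε_{RΓ_I K}` -/
theorem RgammaI_map_ε (K : Dual.D A) :
    (DRing.RgammaI I).map ((DRing.RgammaIε I).app K) =
      (DRing.RgammaIε I).app ((DRing.RgammaI I).obj K) := by
  obtain ⟨J, hJ, hinj, ⟨e⟩⟩ := exists_model K
  haveI := hJ
  -- the case of `Q J`
  have key : (DRing.RgammaI I).map ((DRing.RgammaIε I).app (Q.obj J)) =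
      (DRing.RgammaIε I).app ((DRing.RgammaI I).obj (Q.obj J)) := by
    haveI := isIso_uΓ_app I J
    haveI := isIso_uΓ_app_ΓC I J hinj
    have h1 := uΓ_comp_ε I J
    have h2 := uΓ_comp_ε I (ΓC I J)
    have h3 := (uΓ I).naturality (inclΓ I J)
    simp only [Functor.comp_map] at h3
    rw [map_inclΓ_eq] at h3
    have h4 := (DRing.RgammaIε I).naturality ((uΓ I).app J)
    simp only [Functor.id_map, Functor.id_obj, Functor.comp_obj] at h4
    rw [← cancel_epi ((DRing.RgammaI I).map ((uΓ I).app J)), ← Functor.map_comp, h1, h4,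
      ← cancel_epi ((uΓ I).app (ΓC I J)), ← h3, ← Category.assoc, h2]
  -- transport along `e`
  have n1 := (DRing.RgammaIε I).naturality e.hom
  simp only [Functor.id_map, Functor.id_obj] at n1
  have n2 := (DRing.RgammaIε I).naturality ((DRing.RgammaI I).map e.hom)
  simp only [Functor.id_map, Functor.id_obj] at n2
  rw [← cancel_mono ((DRing.RgammaI I).map e.hom), ← Functor.map_comp, ← n1, Functor.map_comp, key,
    n2]

end Model


section Adjunction

variable [DRing.HasRgammaI I] [IsNoetherianRing A]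

/-- **`RΓ_I` is right adjoint to the inclusion of objects with `I`-power torsion cohomology** (S1817) -/
noncomputable def adjRgammaI :
    ObjectProperty.ι (TorsD I) ⊣
      ObjectProperty.lift (TorsD I) (DRing.RgammaI I) (torsD_RgammaI I) :=
  haveI : ∀ T : (TorsD I).FullSubcategory, IsIso ((DRing.RgammaIε I).app T.obj) :=
    fun T => isIso_RgammaIε_app I T.obj T.property
  Adjunction.mkOfUnitCounit
    { unit :=
        { app := fun T => ObjectProperty.homMk (inv ((DRing.RgammaIε I).app T.obj))
          naturality := by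
            intro T T' f
            apply ObjectProperty.hom_ext
            show f.hom ≫ inv ((DRing.RgammaIε I).app T'.obj) =
              inv ((DRing.RgammaIε I).app T.obj) ≫ (DRing.RgammaI I).map f.hom
            rw [IsIso.comp_inv_eq, Category.assoc, IsIso.eq_inv_comp]
            exact ((DRing.RgammaIε I).naturality f.hom).symm }
      counit :=
        { app := fun K => (DRing.RgammaIε I).app K
          naturality := by
            intro K K' f
            exact (DRing.RgammaIε I).naturality f }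
      left_triangle := by
        ext T
        simp only [NatTrans.comp_app, Functor.whiskerRight_app, Functor.associator_hom_app,
          Functor.whiskerLeft_app, Category.id_comp]
        exact IsIso.inv_hom_id _
      right_triangle := by
        ext K
        simp only [NatTrans.comp_app, Functor.whiskerRight_app, Functor.associator_inv_app,
          Functor.whiskerLeft_app, Category.id_comp]
        haveI : IsIso ((DRing.RgammaIε I).app ((DRing.RgammaI I).obj K)) :=
          isIso_RgammaIε_app I _ (torsD_RgammaI I K)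
        show inv ((DRing.RgammaIε I).app ((DRing.RgammaI I).obj K)) ≫
          (DRing.RgammaI I).map ((DRing.RgammaIε I).app K) = 𝟙 _
        rw [RgammaI_map_ε, IsIso.inv_hom_id] }

end Adjunction

end Groth.Agent.Lib.helper13.RGam
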