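import Mathlib
import Groth.Prelude.Def_DRing3
import Groth.Agent.Lib.Helper13.RGam3

/-!
# Complexes of injectives compute `RΓ_I`; `RΓ_J ∘ RΓ_I ≅ RΓ_{I+J}` (helper13, S1816)

`A` Noetherian.
* `isZero_Q_obj_iff_acyclic`, `quasiIso_iff_acyclic_mappingCone`.
* `acyclic_ΓC`, `quasiIso_ΓC_map` (`Γ_I` preserves quasi-isomorphisms between complexes of injectives),
  `isIso_uΓ_app_of_injective` (`Q (Γ_I E) ≅ RΓ_I (Q E)` for any complex `E` of injectives).
* `mem_torsionSub_sup_iff`, `torsTorsEquiv`, `ΓΓIso`, `injective_ΓC_X`, `nonempty_RgammaI_comp_iso`.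
-/

set_option autoImplicit false
universe u
open CategoryTheory CategoryTheory.Limits DerivedCategory

attribute [local instance] HasDerivedCategory.standard

namespace Groth.Agent.Lib.helper13.RGam

variable {A : Type u} [CommRing A]

section ConeAcyclic

open Pretriangulated

lemma isZero_Q_obj_iff_acyclic (X : DRing.Cx A) : IsZero (Q.obj X) ↔ X.Acyclic := by
  constructor
  · intro hX n
    rw [HomologicalComplex.exactAt_iff_isZero_homology]
    refine IsZero.of_iso ?_ ((DerivedCategory.homologyFunctorFactors (ModuleCat.{u} A) n).app X).symm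
    exact Functor.map_isZero (DerivedCategory.homologyFunctor (ModuleCat.{u} A) n) hX
  · intro hX
    apply Groth.Agent.Lib.Helper25.DerBC.isZero_of_homology
    intro n
    refine IsZero.of_iso ?_ ((DerivedCategory.homologyFunctorFactors (ModuleCat.{u} A) n).app X)
    exact (HomologicalComplex.exactAt_iff_isZero_homology _ _).1 (hX n)

/-- a map of complexes is a quasi-isomorphism iff its mapping cone is acyclic -/
lemma quasiIso_iff_acyclic_mappingCone {X Y : DRing.Cx A} (φ : X ⟶ Y) :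
    QuasiIso φ ↔ (CochainComplex.mappingCone φ).Acyclic := by
  have hT := DerivedCategory.mappingCone_triangle_distinguished φ
  rw [← isZero_Q_obj_iff_acyclic, ← DerivedCategory.isIso_Q_map_iff_quasiIso]
  exact (Triangle.isZero₃_iff_isIso₁ _ hT).symm

end ConeAcyclic

section Injectives

variable [IsNoetherianRing A] (I : Ideal A)

/-- `Γ_I` of an acyclic complex of injectives is acyclic -/
lemma acyclic_ΓC (C : DRing.Cx A) (hinj : ∀ n : ℤ, Injective (C.X n)) (hC : C.Acyclic) :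
    (ΓC I C).Acyclic := by
  classical
  obtain ⟨s, hs⟩ := (isNoetherianRing_iff_ideal_fg A).1 inferInstance I
  have hspan : Ideal.span {x : A | x ∈ s.toList} = I := by
    rw [← hs]
    congr 1
    ext x
    simp
  have hT : ∀ f : A, TorsH f C := by
    intro f n y hy
    have := hC n
    rw [HomologicalComplex.exactAt_iff' C (n - 1) n (n + 1) (by simp) (by simp),
      ShortComplex.moduleCat_exact_iff] at this
    obtain ⟨b, hb⟩ := this y hy
    exact ⟨0, b, by rw [pow_zero, one_smul]; exact hb.symm⟩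
  haveI hqi : QuasiIso (inclΓ I C) := by
    have h := quasiIso_inclΓ_of_torsH s.toList C
      (fun n => Module.injective_module_of_injective_object A (C.X n)) (fun f _ => hT f)
    rw [hspan] at h
    exact h
  rw [← isZero_Q_obj_iff_acyclic] at hC ⊢
  haveI : IsIso (Q.map (inclΓ I C)) := by
    rw [DerivedCategory.isIso_Q_map_iff_quasiIso]
    exact hqi
  exact IsZero.of_iso hC (asIso (Q.map (inclΓ I C)))

/-- `Γ_I` preserves quasi-isomorphisms between complexes of injectives -/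
theorem quasiIso_ΓC_map {E E' : DRing.Cx A} (ψ : E ⟶ E') [QuasiIso ψ]
    (hE : ∀ n : ℤ, Injective (E.X n)) (hE' : ∀ n : ℤ, Injective (E'.X n)) :
    QuasiIso (((DRing.gammaI I).mapHomologicalComplex (ComplexShape.up ℤ)).map ψ) := by
  rw [quasiIso_iff_acyclic_mappingCone]
  have h1 : (CochainComplex.mappingCone ψ).Acyclic :=
    (quasiIso_iff_acyclic_mappingCone ψ).1 inferInstance
  have hinj : ∀ n : ℤ, Injective ((CochainComplex.mappingCone ψ).X n) := by
    intro n
    haveI := hE (n + 1)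
    haveI := hE' n
    exact Injective.of_iso
      (HomologicalComplex.homotopyCofiber.XIsoBiprod ψ n (n + 1) rfl).symm inferInstance
  have h2 := acyclic_ΓC I _ hinj h1
  rw [← isZero_Q_obj_iff_acyclic] at h2 ⊢
  exact IsZero.of_iso h2
    (Q.mapIso (CochainComplex.mappingCone.mapHomologicalComplexIso ψ (DRing.gammaI I)).symm)

variable [DRing.HasRgammaI I]

/-- **complexes of injectives compute `RΓ_I`** (Noetherian ring) -/
theorem isIso_uΓ_app_of_injective (E : DRing.Cx A) (hinj : ∀ n : ℤ, Injective (E.X n)) :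
    IsIso ((uΓ I).app E) := by
  obtain ⟨J', ψ, hJ', hψ, -, hinj'⟩ :=
    Groth.Agent.Lib.Helper25.KInjMain.exists_kInjective_resolution E
  haveI := hJ'
  haveI := hψ
  haveI : IsIso (Q.map ψ) := by
    rw [DerivedCategory.isIso_Q_map_iff_quasiIso]
    exact hψ
  haveI hq2 := quasiIso_ΓC_map I ψ hinj hinj'
  haveI : IsIso (Q.map (((DRing.gammaI I).mapHomologicalComplex (ComplexShape.up ℤ)).map ψ)) := by
    rw [DerivedCategory.isIso_Q_map_iff_quasiIso]
    exact hq2
  haveI := isIso_uΓ_app I J'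
  have h := (uΓ I).naturality ψ
  simp only [Functor.comp_map] at h
  have h' : (uΓ I).app E =
      (Q.map (((DRing.gammaI I).mapHomologicalComplex (ComplexShape.up ℤ)).map ψ) ≫
        (uΓ I).app J') ≫ inv ((DRing.RgammaI I).map (Q.map ψ)) := by
    rw [IsIso.eq_comp_inv]
    exact h.symm
  rw [h']
  infer_instance

end Injectives


section Compose

variable (I J : Ideal A)

lemma mem_torsionSub_sup_iff {M : Type u} [AddCommGroup M] [Module A M] (x : M) :
    x ∈ DRing.torsionSub (I ⊔ J) M ↔ x ∈ DRing.torsionSub I M ∧ x ∈ DRing.torsionSub J M := by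
  constructor
  · rintro ⟨n, hn⟩
    exact ⟨⟨n, fun r hr => hn r (Ideal.pow_right_mono le_sup_left n hr)⟩,
      ⟨n, fun r hr => hn r (Ideal.pow_right_mono le_sup_right n hr)⟩⟩
  · rintro ⟨⟨a, ha⟩, ⟨b, hb⟩⟩
    refine ⟨a + b, fun r hr => ?_⟩
    have h1 := Ideal.sup_pow_add_le_pow_sup_pow (I := I) (J := J) (n := a) (m := b) hr
    obtain ⟨u, hu, v, hv, rfl⟩ := Submodule.mem_sup.1 h1
    rw [add_smul, ha u hu, hb v hv, add_zero]

/-- `Γ_J (Γ_I M) ≃ Γ_{I + J} M` -/
noncomputable def torsTorsEquiv (M : Type u) [AddCommGroup M] [Module A M] :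
    DRing.torsionSub J (DRing.torsionSub I M) ≃ₗ[A] DRing.torsionSub (I ⊔ J) M where
  toFun x := ⟨x.1.1, (mem_torsionSub_sup_iff I J _).2 ⟨x.1.2, by
    obtain ⟨n, hn⟩ := x.2
    exact ⟨n, fun r hr => congrArg Subtype.val (hn r hr)⟩⟩⟩
  invFun y := ⟨⟨y.1, ((mem_torsionSub_sup_iff I J _).1 y.2).1⟩, by
    obtain ⟨n, hn⟩ := ((mem_torsionSub_sup_iff I J _).1 y.2).2
    exact ⟨n, fun r hr => Subtype.ext (hn r hr)⟩⟩
  map_add' _ _ := rfl
  map_smul' _ _ := rfl
  left_inv _ := rfl
  right_inv _ := rfl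

/-- `Γ_J (Γ_I E) ≅ Γ_{I + J} E` for complexes -/
noncomputable def ΓΓIso (E : DRing.Cx A) : ΓC J (ΓC I E) ≅ ΓC (I ⊔ J) E :=
  HomologicalComplex.Hom.isoOfComponents
    (fun n => (torsTorsEquiv I J (E.X n)).toModuleIso) (by
      intro i j _
      rfl)

variable [IsNoetherianRing A]

lemma injective_ΓC_X (E : DRing.Cx A) (hinj : ∀ n : ℤ, Injective (E.X n)) (n : ℤ) :
    Injective ((ΓC I E).X n) := by
  have h := Groth.Agent.Lib.helper19.LCZero.torsionSub_injective I (E.X n)
    (Module.injective_module_of_injective_object A (E.X n))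
  exact Module.injective_object_of_injective_module A (DRing.torsionSub I (E.X n))

variable [DRing.HasRgammaI I] [DRing.HasRgammaI J] [DRing.HasRgammaI (I ⊔ J)]

/-- **`RΓ_J (RΓ_I K) ≅ RΓ_{I + J} K`** (S1816) -/
theorem nonempty_RgammaI_comp_iso (K : Dual.D A) :
    Nonempty ((DRing.RgammaI J).obj ((DRing.RgammaI I).obj K) ≅ (DRing.RgammaI (I ⊔ J)).obj K) := by
  obtain ⟨J₀, hJ₀, hinj, ⟨e⟩⟩ := exists_model K
  haveI := hJ₀
  haveI := isIso_uΓ_app I J₀
  haveI := isIso_uΓ_app (I ⊔ J) J₀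
  haveI := isIso_uΓ_app_of_injective J (ΓC I J₀) (injective_ΓC_X I J₀ hinj)
  let e1 : (DRing.RgammaI I).obj K ≅ Q.obj (ΓC I J₀) :=
    (DRing.RgammaI I).mapIso e ≪≫ (asIso ((uΓ I).app J₀)).symm
  let e2 : (DRing.RgammaI J).obj (Q.obj (ΓC I J₀)) ≅ Q.obj (ΓC J (ΓC I J₀)) :=
    (asIso ((uΓ J).app (ΓC I J₀))).symm
  let e3 : Q.obj (ΓC (I ⊔ J) J₀) ≅ (DRing.RgammaI (I ⊔ J)).obj K :=
    asIso ((uΓ (I ⊔ J)).app J₀) ≪≫ (DRing.RgammaI (I ⊔ J)).mapIso e.symm
  exact ⟨(DRing.RgammaI J).mapIso e1 ≪≫ e2 ≪≫ Q.mapIso (ΓΓIso I J J₀) ≪≫ e3⟩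

end Compose

end Groth.Agent.Lib.helper13.RGam
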