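import Mathlib
import Groth.Prelude.Def_DRing3
import Groth.Agent.Lib.Helper13.RGam4
import Groth.Agent.Lib.Helper13.DComp8
import Groth.Agent.Lib.Helper25.RDerTri
import Groth.Agent.Lib.Helper25.RGammaSmul

/-!
# Greenlees–May duality, part 1 (helper13): `RΓ_I(K^∧) ≅ RΓ_I(K)`

* `exists_distinguished_RgammaI`: `RΓ_I` sends distinguished triangles to distinguished triangles.
* `isIso_RgammaI_map_mor₁`, `isZero_RgammaI_obj₃`.
* `isIso_RgammaI_map_proj`, `isIso_RgammaI_map_aug`, `isIso_RgammaI_map_toCompletion`: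
  `RΓ_I` inverts `J ⟶ Hom•(Č(fs), J)` when `fs ⊆ I`.
* `nonempty_RgammaI_completion_iso`: `RΓ_I(K^∧) ≅ RΓ_I(K)` (`I = (fs)`).
-/

set_option autoImplicit false
universe u
open CategoryTheory CategoryTheory.Limits DerivedCategory Pretriangulated

attribute [local instance] HasDerivedCategory.standard

namespace Groth.Agent.Lib.helper13.GM

open Groth.Agent.Lib.helper13.RGam Groth.Agent.Lib.helper13.DComp
  Groth.Agent.Lib.helper23.RHomCx Groth.Agent.Lib.helper23.TensHom
  Groth.Agent.Lib.helper13.KFlat Groth.Agent.Lib.helper13.HomKFlat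

variable {A : Type u} [CommRing A] (I : Ideal A) [DRing.HasRgammaI I]

/-- `RΓ_I` sends distinguished triangles to distinguished triangles -/
theorem exists_distinguished_RgammaI (T : Triangle (Dual.D A)) (hT : T ∈ distTriang _) :
    ∃ h' : (DRing.RgammaI I).obj T.obj₃ ⟶ ((DRing.RgammaI I).obj T.obj₁)⟦(1 : ℤ)⟧,
      Triangle.mk ((DRing.RgammaI I).map T.mor₁) ((DRing.RgammaI I).map T.mor₂) h' ∈
        distTriang (Dual.D A) := by
  have hKinj : ∀ K : CochainComplex (ModuleCat.{u} A) ℤ, ∃ (I' : CochainComplex (ModuleCat.{u} A) ℤ)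
      (f' : K ⟶ I'), I'.IsKInjective ∧ QuasiIso f' := fun K => by
    obtain ⟨I', f', h1, h2, -, -⟩ := Groth.Agent.Lib.Helper25.KInjMain.exists_kInjective_resolution K
    exact ⟨I', f', h1, h2⟩
  exact Groth.Agent.Lib.Helper25.RDerTri.exists_distinguished hKinj
    (DRing.gammaIKh I) (DRing.RgammaI I) (unitΓ I)
    (fun I' hI' => by
      haveI : (DRing.RgammaI I).IsLeftKanExtension (unitΓ I) :=
        Functor.IsRightDerivedFunctor.isLeftKanExtension _ _
          (HomotopyCategory.quasiIso (ModuleCat.{u} A) (ComplexShape.up ℤ))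
      exact Groth.Agent.Lib.Helper25.DerBC.isIso_unit_app_of_isKInjective hKinj _ _ _ I') T hT

lemma isIso_RgammaI_map_mor₁ (T : Triangle (Dual.D A)) (hT : T ∈ distTriang _)
    (h : IsZero ((DRing.RgammaI I).obj T.obj₃)) : IsIso ((DRing.RgammaI I).map T.mor₁) := by
  obtain ⟨h', hT'⟩ := exists_distinguished_RgammaI I T hT
  exact (Triangle.isZero₃_iff_isIso₁ _ hT').1 h

lemma isZero_RgammaI_obj₃ (T : Triangle (Dual.D A)) (hT : T ∈ distTriang _)
    (h : IsIso ((DRing.RgammaI I).map T.mor₁)) : IsZero ((DRing.RgammaI I).obj T.obj₃) := by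
  obtain ⟨h', hT'⟩ := exists_distinguished_RgammaI I T hT
  exact (Triangle.isZero₃_iff_isIso₁ _ hT').2 h

/-- one step of the tower -/
theorem isIso_RgammaI_map_proj (f : A) (hf : f ∈ I) (E J : DRing.Cx A) :
    IsIso ((DRing.RgammaI I).map (Q.map (homCxMapLeft (proj f E) J))) := by
  let S' := homCxSC (coconeSC f E) J
  have hS' : S'.ShortExact := by
    refine HomologicalComplex.shortExact_of_degreewise_shortExact S' (fun i => ?_)
    exact (homCxSC_splitting (coconeSC f E) J (coconeSplitting f E) i).shortExact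
  have hT := DerivedCategory.triangleOfSES_distinguished hS'
  have hY : ∀ n : ℤ, Function.Bijective
      (fun y : (DRing.homCx (coconeSC f E).X₁ J).X n => f • y) :=
    bijective_smul_homCx f _ J (fun p => isIso_smul_locFunctor f _)
  have hz : IsZero ((DRing.RgammaI I).obj (DerivedCategory.triangleOfSES hS').obj₃) :=
    Groth.Agent.Lib.Helper25.RGammaSmul.isZero_RgammaI I _ f hf hY
  let m₁ : Q.obj (DRing.homCx ((E⟦(1 : ℤ)⟧)⟦(-1 : ℤ)⟧) J) ⟶
      Q.obj (DRing.homCx (CochainComplex.mappingCocone (uE f E)) J) :=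
    (DerivedCategory.triangleOfSES hS').mor₁
  haveI h1 : IsIso ((DRing.RgammaI I).map m₁) := isIso_RgammaI_map_mor₁ I _ hT hz
  have hfac : Q.map (homCxMapLeft (proj f E) J) =
      Q.map (homCxMapLeft (shiftIso E).hom J) ≫ m₁ := by
    show _ = Q.map (homCxMapLeft (shiftIso E).hom J) ≫
      Q.map (homCxMapLeft (show CochainComplex.mappingCocone (uE f E) ⟶ (E⟦(1 : ℤ)⟧)⟦(-1 : ℤ)⟧ from
        (coconeSC f E).g) J)
    rw [← Functor.map_comp, ← homCxMapLeft_comp]
    rfl
  haveI : IsIso (Q.map (homCxMapLeft (shiftIso E).hom J)) :=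
    (Q.mapIso (homCxIsoLeft (shiftIso E) J)).isIso_hom
  rw [hfac, Functor.map_comp]
  infer_instance

/-- the whole tower -/
theorem isIso_RgammaI_map_aug (J : DRing.Cx A) : ∀ (fs : List A), (∀ g ∈ fs, g ∈ I) →
    IsIso ((DRing.RgammaI I).map (Q.map (homCxMapLeft (aug fs) J)))
  | [], _ => by
    have : homCxMapLeft (aug ([] : List A)) J = 𝟙 _ := by
      show homCxMapLeft (𝟙 _) J = 𝟙 _
      exact homCxMapLeft_id _ _
    rw [this, CategoryTheory.Functor.map_id, CategoryTheory.Functor.map_id]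
    infer_instance
  | f :: fs, h => by
    haveI := isIso_RgammaI_map_proj I f (h f List.mem_cons_self) (Cech fs) J
    haveI := isIso_RgammaI_map_aug J fs (fun g hg => h g (List.mem_cons_of_mem _ hg))
    have key : (DRing.RgammaI I).map (Q.map (homCxMapLeft (aug (f :: fs)) J)) =
        (DRing.RgammaI I).map (Q.map (homCxMapLeft (aug fs) J)) ≫
          (show _ ⟶ (DRing.RgammaI I).obj (Q.obj (DRing.homCx (Cech (f :: fs)) J)) from
            (DRing.RgammaI I).map (Q.map (homCxMapLeft (proj f (Cech fs)) J))) := by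
      show (DRing.RgammaI I).map (Q.map (homCxMapLeft (proj f (Cech fs) ≫ aug fs) J)) = _
      rw [homCxMapLeft_comp, Functor.map_comp, Functor.map_comp]
      rfl
    rw [key]
    exact @IsIso.comp_isIso _ _ _ _ _ _ _ ‹_› ‹_›

theorem isIso_RgammaI_map_toCompletion (J : DRing.Cx A) (fs : List A) (h : ∀ g ∈ fs, g ∈ I) :
    IsIso ((DRing.RgammaI I).map (toCompletion fs J)) := by
  haveI := isIso_RgammaI_map_aug I J fs h
  unfold toCompletion
  rw [Functor.map_comp]
  infer_instance

/-- **`RΓ_I(K^∧) ≅ RΓ_I(K)`** for `I = (fs)` -/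
theorem nonempty_RgammaI_completion_iso (fs : List A) (hI : Ideal.span {x : A | x ∈ fs} = I)
    [DRing.HasDerivedCompletion I] (K : Dual.D A) :
    Nonempty ((DRing.RgammaI I).obj ((DRing.derivedCompletion I).obj K).obj ≅
      (DRing.RgammaI I).obj K) := by
  subst hI
  obtain ⟨J, hJ, ⟨e⟩⟩ := exists_kInjective_model K
  haveI := hJ
  obtain ⟨e', -⟩ := exists_derivedCompletion_iso_homCx_Cech fs J e
  haveI := isIso_RgammaI_map_toCompletion (Ideal.span {x : A | x ∈ fs}) J fs
    (fun g hg => Ideal.subset_span hg)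
  exact ⟨(DRing.RgammaI _).mapIso e' ≪≫
    (asIso ((DRing.RgammaI (Ideal.span {x : A | x ∈ fs})).map (toCompletion fs J))).symm ≪≫
    (DRing.RgammaI _).mapIso e.symm⟩

end Groth.Agent.Lib.helper13.GM
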