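import Mathlib
import Groth.Prelude.Def_DRing3
import Groth.Agent.Lib.Helper13.GM1

/-!
# Greenlees–May duality, part 2 (helper13): `(RΓ_I K)^∧ ≅ K^∧`

* `torsH_of_acyclic_locCx`, `torsH_Cech`, `torsD_of_torsH`, `torsD_Q_Cech`: the extended Čech complex has
  `(fs)`-power torsion cohomology.
* `torsD_shift`, `hom_eq_zero_of_isZero_RgammaI`: `Hom(T, N) = 0` for `T` torsion, `RΓ_I N = 0`.
* `acyclic_homCx_Cech_of_isZero_RgammaI`, `subsingleton_hom_of_isZero_RgammaI`: `RΓ_I N = 0` implies
  `Hom(N, M) = 0` for `M` derived complete.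
* `bijective_precomp_RgammaIε`, `nonempty_completion_RgammaI_iso`.
-/

set_option autoImplicit false
universe u
open CategoryTheory CategoryTheory.Limits DerivedCategory Pretriangulated

attribute [local instance] HasDerivedCategory.standard

namespace Groth.Agent.Lib.helper13.GM

open Groth.Agent.Lib.helper13.RGam Groth.Agent.Lib.helper13.DComp
  Groth.Agent.Lib.helper23.RHomCx Groth.Agent.Lib.helper23.TensHom
  Groth.Agent.Lib.helper13.KFlat Groth.Agent.Lib.helper13.HomKFlat

variable {A : Type u} [CommRing A]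

section CechTorsion

/-- if `X_f` is acyclic then the cohomology of `X` is `f`-power torsion -/
lemma torsH_of_acyclic_locCx (f : A) (X : DRing.Cx A)
    (h : ((DerCA.locCx (Submonoid.powers f)).obj X).Acyclic) : TorsH f X := by
  intro n y hy
  have hex := h n
  rw [HomologicalComplex.exactAt_iff' _ (n - 1) n (n + 1) (by simp) (by simp),
    ShortComplex.moduleCat_exact_iff] at hex
  have hcyc : (((DerCA.locCx (Submonoid.powers f)).obj X).d n (n + 1)).hom
      (LocalizedModule.mk y (1 : Submonoid.powers f)) = 0 := by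
    show (IsLocalizedModule.map (Submonoid.powers f) (LocalizedModule.mkLinearMap _ _)
      (LocalizedModule.mkLinearMap _ _) (X.d n (n + 1)).hom) (LocalizedModule.mk y 1) = 0
    rw [IsLocalizedModule.map_LocalizedModules]
    have hy' : (X.d n (n + 1)).hom y = 0 := hy
    rw [hy', LocalizedModule.zero_mk]
  obtain ⟨w, hw⟩ := hex _ hcyc
  change LocalizedModule (Submonoid.powers f) (X.X (n - 1)) at w
  induction w using LocalizedModule.induction_on with
  | h b s =>
    have hw' : (IsLocalizedModule.map (Submonoid.powers f) (LocalizedModule.mkLinearMap _ _)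
      (LocalizedModule.mkLinearMap _ _) (X.d (n - 1) n).hom) (LocalizedModule.mk b s) =
        LocalizedModule.mk y 1 := hw
    rw [IsLocalizedModule.map_LocalizedModules, LocalizedModule.mk_eq] at hw'
    obtain ⟨u, hu⟩ := hw'
    obtain ⟨a, ha⟩ := u.2
    obtain ⟨c, hc⟩ := s.2
    refine ⟨a + c, f ^ a • b, ?_⟩
    have hu' : (u : A) • ((1 : Submonoid.powers f) : A) • (X.d (n - 1) n).hom b =
        (u : A) • (s : A) • y := hu
    rw [← ha, ← hc, Submonoid.coe_one, one_smul] at hu'
    rw [pow_add, mul_smul, ← hu', map_smul]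

/-- the cohomology of `Č(fs)` is `g`-power torsion for `g ∈ fs` -/
lemma torsH_Cech (fs : List A) (g : A) (hg : g ∈ fs) : TorsH g (Cech fs) := by
  apply torsH_of_acyclic_locCx
  have hb : Function.Bijective
      (fun x : (ModuleCat.of A (Localization (Submonoid.powers g)) : ModuleCat.{u} A) => g • x) := by
    have h := bijective_smul_Sg_X g
    let e : (Sg g).X 0 ≅ ModuleCat.of A (Localization.Away g) :=
      HomologicalComplex.singleObjXSelf (ComplexShape.up ℤ) 0 _
    have h1 : (fun x : Localization.Away g => g • x) =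
        e.toLinearEquiv ∘ (fun x : ((Sg g).X 0 : ModuleCat.{u} A) => g • x) ∘ e.toLinearEquiv.symm := by
      funext x
      simp only [Function.comp_apply]
      rw [map_smul, LinearEquiv.apply_symm_apply]
    show Function.Bijective (fun x : Localization.Away g => g • x)
    rw [h1]
    exact (e.toLinearEquiv.bijective.comp h).comp e.toLinearEquiv.symm.bijective
  have h := acyclic_tensorLeft_extCech fs (ModuleCat.of A (Localization (Submonoid.powers g)))
    ⟨g, hg, hb⟩
  exact Groth.Agent.Lib.helper2.BifunctorExact.acyclic_of_iso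
    ((NatIso.mapHomologicalComplex (locTensorIso (Submonoid.powers g)) (ComplexShape.up ℤ)).app
      (Cech fs)).symm h

/-- elementwise torsion for the generators implies `(fs)`-power torsion cohomology -/
lemma torsD_of_torsH (fs : List A) (E : DRing.Cx A) (h : ∀ g ∈ fs, TorsH g E) :
    TorsD (Ideal.span {x : A | x ∈ fs}) (Q.obj E) := by
  intro i
  refine isPowerTorsion_of_linearEquiv _
    ((DerivedCategory.homologyFunctorFactors (ModuleCat.{u} A) i).app E).symm.toLinearEquiv ?_
  intro y
  obtain ⟨z, rfl⟩ := Groth.Agent.Lib.helper2.CxH.cls_surjective E i (i + 1) rfl y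
  let 𝔞 : Ideal A := LinearMap.ker (LinearMap.toSpanSingleton A _
    (Groth.Agent.Lib.helper2.CxH.cls E i (i + 1) rfl z))
  have hle : Ideal.span {x : A | x ∈ fs} ≤ 𝔞.radical := by
    rw [Ideal.span_le]
    intro g hg
    obtain ⟨k, b, hb⟩ := h g hg i z.1 z.2
    refine ⟨k, ?_⟩
    show (LinearMap.toSpanSingleton A _ (Groth.Agent.Lib.helper2.CxH.cls E i (i + 1) rfl z)) (g ^ k) = 0
    rw [LinearMap.toSpanSingleton_apply, ← map_smul,
      Groth.Agent.Lib.helper2.CxH.cls_eq_zero_iff E (i - 1) i (i + 1) (by omega) rfl]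
    exact ⟨b, hb.symm⟩
  have hfg : (Ideal.span {x : A | x ∈ fs}).FG :=
    Submodule.fg_span (List.finite_toSet fs)
  obtain ⟨k, hk⟩ := Ideal.exists_pow_le_of_le_radical_of_fg hle hfg
  refine ⟨k, fun a ha => ?_⟩
  have := hk ha
  exact this

theorem torsD_Q_Cech (fs : List A) : TorsD (Ideal.span {x : A | x ∈ fs}) (Q.obj (Cech fs)) :=
  torsD_of_torsH fs _ (fun g hg => torsH_Cech fs g hg)

end CechTorsion


section Kernel

variable (I : Ideal A)

lemma torsD_shift (X : Dual.D A) (h : TorsD I X) (n : ℤ) : TorsD I (X⟦n⟧) := fun i =>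
  isPowerTorsion_of_linearEquiv I
    (((DerivedCategory.homologyFunctor (ModuleCat.{u} A) 0).shiftIso n i (n + i) rfl).app
      X).symm.toLinearEquiv (h (n + i))

variable [DRing.HasRgammaI I] [IsNoetherianRing A]

/-- `Hom(T, N) = 0` for `T` with `I`-power torsion cohomology and `RΓ_I N = 0` -/
lemma hom_eq_zero_of_isZero_RgammaI {T N : Dual.D A} (hT : TorsD I T)
    (hN : IsZero ((DRing.RgammaI I).obj N)) (φ : T ⟶ N) : φ = 0 := by
  haveI := isIso_RgammaIε_app I T hT
  have h := (DRing.RgammaIε I).naturality φ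
  simp only [Functor.id_map, Functor.id_obj] at h
  rw [← cancel_epi ((DRing.RgammaIε I).app T), ← h, hN.eq_of_tgt ((DRing.RgammaI I).map φ) 0,
    zero_comp, comp_zero]

end Kernel


section Complete

variable (fs : List A) [DRing.HasRgammaI (Ideal.span {x : A | x ∈ fs})] [IsNoetherianRing A]

/-- `RΓ_I (Q J) = 0` implies that `Hom•(Č(fs), J)` is acyclic (`I = (fs)`, `J` K-injective) -/
theorem acyclic_homCx_Cech_of_isZero_RgammaI (J : DRing.Cx A) [J.IsKInjective]
    (hN : IsZero ((DRing.RgammaI (Ideal.span {x : A | x ∈ fs})).obj (Q.obj J))) :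
    (DRing.homCx (Cech fs) J).Acyclic := by
  intro n
  rw [exactAt_homCx_iff_hom_eq_zero]
  intro φ
  let e : Q.obj (J⟦n⟧) ≅ (Q.obj J)⟦n⟧ := (Q.commShiftIso n).app J
  have h0 : (φ ≫ e.hom)⟦-n⟧' ≫
      (shiftFunctorCompIsoId (Dual.D A) n (-n) (by omega)).hom.app (Q.obj J) = 0 :=
    hom_eq_zero_of_isZero_RgammaI _ (torsD_shift _ _ (torsD_Q_Cech fs) (-n)) hN _
  have h1 : (φ ≫ e.hom)⟦-n⟧' = 0 := by
    rw [← cancel_mono ((shiftFunctorCompIsoId (Dual.D A) n (-n) (by omega)).hom.app (Q.obj J)), h0,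
      zero_comp]
  have h2 : φ ≫ e.hom = 0 :=
    (shiftFunctor (Dual.D A) (-n)).map_injective (by rw [h1, Functor.map_zero])
  rw [← cancel_mono e.hom, h2, zero_comp]

/-- **`RΓ_I N = 0` implies `Hom(N, M) = 0` for `M` derived complete** -/
theorem subsingleton_hom_of_isZero_RgammaI (N M : Dual.D A)
    (hN : IsZero ((DRing.RgammaI (Ideal.span {x : A | x ∈ fs})).obj N))
    (hM : DRing.IsDerivedComplete (Ideal.span {x : A | x ∈ fs}) M) : Subsingleton (N ⟶ M) := by
  obtain ⟨J, hJ, ⟨e⟩⟩ := exists_kInjective_model N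
  haveI := hJ
  have hN' : IsZero ((DRing.RgammaI (Ideal.span {x : A | x ∈ fs})).obj (Q.obj J)) :=
    hN.of_iso ((DRing.RgammaI _).mapIso e.symm)
  have hz : IsZero (Q.obj (DRing.homCx (Cech fs) J)) :=
    isZero_Q_obj_of_acyclic _ (acyclic_homCx_Cech_of_isZero_RgammaI fs J hN')
  have hb := bijective_precomp_toCompletion' fs J e M hM
  refine ⟨fun a b => ?_⟩
  obtain ⟨a', rfl⟩ := hb.2 a
  obtain ⟨b', rfl⟩ := hb.2 b
  rw [hz.eq_of_src a' b']

open Groth.Agent.Lib.helper23.DCompl in
/-- `ε_K : RΓ_I K ⟶ K` induces bijections on maps to derived complete objects -/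
theorem bijective_precomp_RgammaIε (K M : Dual.D A)
    (hM : DRing.IsDerivedComplete (Ideal.span {x : A | x ∈ fs}) M) :
    Function.Bijective (fun ψ : K ⟶ M =>
      (DRing.RgammaIε (Ideal.span {x : A | x ∈ fs})).app K ≫ ψ) := by
  obtain ⟨Z, g, h, hT⟩ := distinguished_cocone_triangle
    ((DRing.RgammaIε (Ideal.span {x : A | x ∈ fs})).app K)
  have hiso : IsIso ((DRing.RgammaI (Ideal.span {x : A | x ∈ fs})).map
      ((DRing.RgammaIε (Ideal.span {x : A | x ∈ fs})).app K)) := by
    rw [RgammaI_map_ε]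
    exact isIso_RgammaIε_app _ _ (torsD_RgammaI _ K)
  have hZ : IsZero ((DRing.RgammaI (Ideal.span {x : A | x ∈ fs})).obj Z) :=
    isZero_RgammaI_obj₃ _ _ hT hiso
  have h0 : Subsingleton (Z ⟶ M) := subsingleton_hom_of_isZero_RgammaI fs Z M hZ hM
  have h1 : Subsingleton (Z ⟶ M⟦(1 : ℤ)⟧) :=
    subsingleton_hom_of_isZero_RgammaI fs Z _ hZ (isDerivedComplete_shift _ M hM 1)
  exact ⟨inj_of_subsingleton _ hT M h0, surj_of_subsingleton _ hT M h1⟩

end Complete


section Main

variable (I : Ideal A) [DRing.HasRgammaI I] [IsNoetherianRing A]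

/-- **`(RΓ_I K)^∧ ≅ K^∧`** for `I = (fs)` -/
theorem nonempty_completion_RgammaI_iso (fs : List A) (hI : Ideal.span {x : A | x ∈ fs} = I)
    [DRing.HasDerivedCompletion I] (K : Dual.D A) :
    Nonempty ((DRing.derivedCompletion I).obj ((DRing.RgammaI I).obj K) ≅
      (DRing.derivedCompletion I).obj K) := by
  subst hI
  obtain ⟨e, -⟩ := nonempty_derivedCompletion_iso (Ideal.span {x : A | x ∈ fs})
    ((DRing.RgammaI (Ideal.span {x : A | x ∈ fs})).obj K)
    ((DRing.derivedCompletion (Ideal.span {x : A | x ∈ fs})).obj K).obj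
    ((DRing.RgammaIε (Ideal.span {x : A | x ∈ fs})).app K ≫
      DRing.toDerivedCompletion (Ideal.span {x : A | x ∈ fs}) K)
    ((DRing.derivedCompletion (Ideal.span {x : A | x ∈ fs})).obj K).property
    (fun M hM => by
      have h1 := bijective_precomp_RgammaIε fs K M hM
      have h2 := isUniv_toDerivedCompletion (Ideal.span {x : A | x ∈ fs}) K M hM
      have : (fun ψ : ((DRing.derivedCompletion (Ideal.span {x : A | x ∈ fs})).obj K).obj ⟶ M =>
          ((DRing.RgammaIε (Ideal.span {x : A | x ∈ fs})).app K ≫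
            DRing.toDerivedCompletion (Ideal.span {x : A | x ∈ fs}) K) ≫ ψ) =
          (fun ψ : K ⟶ M => (DRing.RgammaIε (Ideal.span {x : A | x ∈ fs})).app K ≫ ψ) ∘
            (fun ψ : ((DRing.derivedCompletion (Ideal.span {x : A | x ∈ fs})).obj K).obj ⟶ M =>
              DRing.toDerivedCompletion (Ideal.span {x : A | x ∈ fs}) K ≫ ψ) := by
        funext ψ
        simp only [Function.comp_apply, Category.assoc]
      rw [this]
      exact h1.comp h2)
  exact ⟨(ObjectProperty.ι (DRing.IsDerivedComplete (Ideal.span {x : A | x ∈ fs}))).preimageIso e⟩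

/-- **Greenlees–May duality** over a Noetherian ring -/
theorem greenlees_may [DRing.HasDerivedCompletion I] (K : Dual.D A) :
    Nonempty ((DRing.RgammaI I).obj ((DRing.derivedCompletion I).obj K).obj ≅
      (DRing.RgammaI I).obj K) ∧
    Nonempty ((DRing.derivedCompletion I).obj ((DRing.RgammaI I).obj K) ≅
      (DRing.derivedCompletion I).obj K) := by
  obtain ⟨s, hs⟩ := (isNoetherianRing_iff_ideal_fg A).1 inferInstance I
  have hspan : Ideal.span {x : A | x ∈ s.toList} = I := by
    rw [← hs]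
    congr 1
    ext x
    simp
  exact ⟨nonempty_RgammaI_completion_iso I s.toList hspan K,
    nonempty_completion_RgammaI_iso I s.toList hspan K⟩

end Main

end Groth.Agent.Lib.helper13.GM
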