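import Mathlib
import Groth.Prelude.Def_DRing3
import Groth.Agent.Lib.Helper13.GM2

/-!
# Frobenius base change of `RΓ_I(A)`, part 1 (helper13): the Čech tower under an additive functor

For an additive endofunctor `Φ₀` of `A`-modules (applied termwise to complexes, `Φ`):

* `isIso_RgammaI_map_mor₂`.
* `isIso_RgammaI_map_Φ_proj`: `RΓ_I` inverts `Φ(cocone(E → E_f)) ⟶ Φ(E)` when some `g ∈ I` acts bijectively on
  every `Φ₀(N_f)`.
* `isIso_RgammaI_map_Φ_aug`: `RΓ_I` inverts `Φ(Č(fs)) ⟶ Φ(A[0])`.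
-/

set_option autoImplicit false
universe u
open CategoryTheory CategoryTheory.Limits DerivedCategory Pretriangulated

attribute [local instance] HasDerivedCategory.standard

namespace Groth.Agent.Lib.helper13.FrobRG

open Groth.Agent.Lib.helper13.RGam Groth.Agent.Lib.helper13.DComp Groth.Agent.Lib.helper13.GM

variable {A : Type u} [CommRing A] (I : Ideal A) [DRing.HasRgammaI I]

lemma isIso_RgammaI_map_mor₂ (T : Triangle (Dual.D A)) (hT : T ∈ distTriang _)
    (h : IsZero ((DRing.RgammaI I).obj T.obj₁)) : IsIso ((DRing.RgammaI I).map T.mor₂) := by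
  obtain ⟨h', hT'⟩ := exists_distinguished_RgammaI I T hT
  exact (Triangle.isZero₁_iff_isIso₂ _ hT').1 h

variable (Φ₀ : ModuleCat.{u} A ⥤ ModuleCat.{u} A) [Φ₀.Additive]

/-- `Φ₀` applied termwise to complexes -/
noncomputable abbrev Φc : DRing.Cx A ⥤ DRing.Cx A := Φ₀.mapHomologicalComplex (ComplexShape.up ℤ)

/-- one step of the tower under `Φ` -/
theorem isIso_RgammaI_map_Φ_proj (f : A) (E : DRing.Cx A) (g : A) (hg : g ∈ I)
    (hb : ∀ N : ModuleCat.{u} A, Function.Bijective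
      (fun x : Φ₀.obj ((DerCA.locFunctor (Submonoid.powers f)).obj N) => g • x)) :
    IsIso ((DRing.RgammaI I).map (Q.map ((Φc Φ₀).map (proj f E)))) := by
  let S' := (coconeSC f E).map (Φc Φ₀)
  have hS' : S'.ShortExact := by
    refine HomologicalComplex.shortExact_of_degreewise_shortExact S' (fun i => ?_)
    exact ((coconeSplitting f E i).map Φ₀).shortExact
  have hT := DerivedCategory.triangleOfSES_distinguished hS'
  have hz : IsZero ((DRing.RgammaI I).obj (DerivedCategory.triangleOfSES hS').obj₁) :=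
    Groth.Agent.Lib.Helper25.RGammaSmul.isZero_RgammaI I _ g hg (fun n => hb _)
  let m₂ : Q.obj ((Φc Φ₀).obj (CochainComplex.mappingCocone (uE f E))) ⟶
      Q.obj ((Φc Φ₀).obj ((E⟦(1 : ℤ)⟧)⟦(-1 : ℤ)⟧)) :=
    (DerivedCategory.triangleOfSES hS').mor₂
  haveI h1 : IsIso ((DRing.RgammaI I).map m₂) := isIso_RgammaI_map_mor₂ I _ hT hz
  have hfac : Q.map ((Φc Φ₀).map (proj f E)) =
      m₂ ≫ Q.map ((Φc Φ₀).map (shiftIso E).hom) := by
    show _ = Q.map ((Φc Φ₀).map (show CochainComplex.mappingCocone (uE f E) ⟶ (E⟦(1 : ℤ)⟧)⟦(-1 : ℤ)⟧ from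
      (coconeSC f E).g)) ≫ Q.map ((Φc Φ₀).map (shiftIso E).hom)
    rw [← Functor.map_comp, ← Functor.map_comp]
    rfl
  haveI : IsIso (Q.map ((Φc Φ₀).map (shiftIso E).hom)) :=
    (Q.mapIso ((Φc Φ₀).mapIso (shiftIso E))).isIso_hom
  rw [hfac, Functor.map_comp]
  infer_instance

/-- the whole tower under `Φ` -/
theorem isIso_RgammaI_map_Φ_aug
    (hb : ∀ f ∈ I, ∃ g ∈ I, ∀ N : ModuleCat.{u} A, Function.Bijective
      (fun x : Φ₀.obj ((DerCA.locFunctor (Submonoid.powers f)).obj N) => g • x)) :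
    ∀ (fs : List A), (∀ g ∈ fs, g ∈ I) →
      IsIso ((DRing.RgammaI I).map (Q.map ((Φc Φ₀).map (aug fs))))
  | [], _ => by
    have : aug ([] : List A) = 𝟙 _ := rfl
    rw [this, CategoryTheory.Functor.map_id, CategoryTheory.Functor.map_id,
      CategoryTheory.Functor.map_id]
    infer_instance
  | f :: fs, h => by
    obtain ⟨g, hg, hbg⟩ := hb f (h f List.mem_cons_self)
    haveI := isIso_RgammaI_map_Φ_proj I Φ₀ f (Cech fs) g hg hbg
    haveI := isIso_RgammaI_map_Φ_aug hb fs (fun g hg => h g (List.mem_cons_of_mem _ hg))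
    have key : (DRing.RgammaI I).map (Q.map ((Φc Φ₀).map (aug (f :: fs)))) =
        (show (DRing.RgammaI I).obj (Q.obj ((Φc Φ₀).obj (Cech (f :: fs)))) ⟶ _ from
          (DRing.RgammaI I).map (Q.map ((Φc Φ₀).map (proj f (Cech fs))))) ≫
        (DRing.RgammaI I).map (Q.map ((Φc Φ₀).map (aug fs))) := by
      show (DRing.RgammaI I).map (Q.map ((Φc Φ₀).map (proj f (Cech fs) ≫ aug fs))) = _
      rw [Functor.map_comp, Functor.map_comp, Functor.map_comp]
      rfl
    rw [key]
    exact @IsIso.comp_isIso _ _ _ _ _ _ _ ‹_› ‹_›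

end Groth.Agent.Lib.helper13.FrobRG
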