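import Mathlib
import Groth.Prelude.Def_DRing3
import Groth.Agent.Lib.Helper13.FrobRG1
import Groth.Agent.Lib.Helper13.RKF2

/-!
# Frobenius base change of `RΓ_I(A)`, part 2 (helper13)

For a ring endomorphism `φ` of a Noetherian ring `A` with `φ a = a ^ p` (`p ≠ 0`):

* `extendScalars_map_smul`, `bijective_smul_extendScalars_locFunctor`.
* `torsH_of_homologyMap_eq_zero`: if `X ⟶ X_g` is zero on cohomology, the cohomology of `X` is `g`-power torsion.
* `LBaseChangeIso`: `Lφ^*(Q K) ≅ Q(φ^* K)` for K-flat `K`.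
* `isZero_RgammaI_restrictD_locCx`, `torsH_ΦF_Cech`: `φ^*(Č(fs))` has `(fs)`-power torsion cohomology.
* `extendScalarsSelfIso : A ⊗_{A,φ} A ≅ A`, `ΦFCechNilIso`, `inDIso`.
* `nonempty_RgammaI_self_iso : RΓ_I(A) ≅ Q(Č(fs))`.
* `nonempty_LBaseChange_RgammaI_iso : Lφ^*(RΓ_I(A)) ≅ RΓ_I(A)`.
-/

set_option autoImplicit false
universe u
open CategoryTheory CategoryTheory.Limits DerivedCategory Pretriangulated

attribute [local instance] HasDerivedCategory.standard

namespace Groth.Agent.Lib.helper13.FrobRG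

open Groth.Agent.Lib.helper13.RGam Groth.Agent.Lib.helper13.DComp Groth.Agent.Lib.helper13.GM
  Groth.Agent.Lib.helper13.KFlat

section General

variable {A : Type u} [CommRing A]

/-- if `X ⟶ X_g` is zero on cohomology then the cohomology of `X` is `g`-power torsion -/
lemma torsH_of_homologyMap_eq_zero (g : A) (X : DRing.Cx A)
    (h : ∀ n : ℤ, HomologicalComplex.homologyMap (DerCA.locCxUnit (Submonoid.powers g) X) n = 0) :
    TorsH g X := by
  intro n y hy
  let z : Groth.Agent.Lib.helper2.CxH.Zc X n (n + 1) := ⟨y, hy⟩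
  have h1 := Groth.Agent.Lib.helper2.CxH.homologyMap_cls
    (DerCA.locCxUnit (Submonoid.powers g) X) n (n + 1) rfl z
  rw [h n] at h1
  have h2 := (Groth.Agent.Lib.helper2.CxH.cls_eq_zero_iff _ (n - 1) n (n + 1) (by omega) rfl _).1
    h1.symm
  obtain ⟨w, hw⟩ := h2
  change LocalizedModule (Submonoid.powers g) (X.X (n - 1)) at w
  induction w using LocalizedModule.induction_on with
  | h b s =>
    have hw' : (IsLocalizedModule.map (Submonoid.powers g) (LocalizedModule.mkLinearMap _ _)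
      (LocalizedModule.mkLinearMap _ _) (X.d (n - 1) n).hom) (LocalizedModule.mk b s) =
        LocalizedModule.mk y 1 := hw
    rw [IsLocalizedModule.map_LocalizedModules, LocalizedModule.mk_eq] at hw'
    obtain ⟨u, hu⟩ := hw'
    obtain ⟨a, ha⟩ := u.2
    obtain ⟨c, hc⟩ := s.2
    refine ⟨a + c, g ^ a • b, ?_⟩
    have hu' : (u : A) • ((1 : Submonoid.powers g) : A) • (X.d (n - 1) n).hom b =
        (u : A) • (s : A) • y := hu
    rw [← ha, ← hc, Submonoid.coe_one, one_smul] at hu'
    rw [pow_add, mul_smul, ← hu', map_smul]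


end General

section Phi

variable {A : Type u} [CommRing A] (φ : A →+* A)

open TensorProduct ChangeOfRings in
lemma extendScalars_map_smul (a : A) (M : ModuleCat.{u} A) :
    (ModuleCat.extendScalars.{u, u, u} φ).map (a • 𝟙 M) =
      φ a • 𝟙 ((ModuleCat.extendScalars.{u, u, u} φ).obj M) := by
  apply ModuleCat.hom_ext
  apply LinearMap.ext
  intro (x : TensorProduct A ((ModuleCat.restrictScalars φ).obj (ModuleCat.of A A)) M)
  induction x using TensorProduct.induction_on with
  | zero => exact (map_zero _).trans (map_zero _).symm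
  | tmul s m =>
    have h1 : (ModuleCat.Hom.hom ((ModuleCat.extendScalars.{u, u, u} φ).map (a • 𝟙 M))) (s ⊗ₜ[A] m) =
        s ⊗ₜ[A] (a • m) := rfl
    have h2 : (ModuleCat.Hom.hom (φ a • 𝟙 ((ModuleCat.extendScalars.{u, u, u} φ).obj M))) (s ⊗ₜ[A] m) =
        (a • s) ⊗ₜ[A] m := rfl
    rw [h1, h2, TensorProduct.smul_tmul]
  | add x y hx hy =>
    exact (map_add _ x y).trans ((congrArg₂ (· + ·) hx hy).trans (map_add _ x y).symm)

/-- `φ f` acts bijectively on the extension of scalars of a module localized at `f` -/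
lemma bijective_smul_extendScalars_locFunctor (f : A) (N : ModuleCat.{u} A) :
    Function.Bijective (fun x : (ModuleCat.extendScalars.{u, u, u} φ).obj
      ((DerCA.locFunctor (Submonoid.powers f)).obj N) => φ f • x) := by
  haveI := isIso_smul_locFunctor f N
  have h : IsIso (φ f • 𝟙 ((ModuleCat.extendScalars.{u, u, u} φ).obj
      ((DerCA.locFunctor (Submonoid.powers f)).obj N))) := by
    rw [← extendScalars_map_smul]
    infer_instance
  rw [ConcreteCategory.isIso_iff_bijective] at h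
  exact h

/-- `φ` as a linear map `A ⟶ φ_* A` -/
noncomputable def φHom : ModuleCat.of A A ⟶ (ModuleCat.restrictScalars.{u} φ).obj (ModuleCat.of A A) :=
  ModuleCat.ofHom (Y := (ModuleCat.restrictScalars.{u} φ).obj (ModuleCat.of A A))
    { toFun := fun a => φ a
      map_add' := fun a b => map_add φ a b
      map_smul' := fun a b => by
        show φ (a * b) = φ a * φ b
        exact map_mul φ a b }

open TensorProduct in
/-- `s ↦ s ⊗ 1` -/
noncomputable def tmulOne : ModuleCat.of A A ⟶ (ModuleCat.extendScalars.{u, u, u} φ).obj (ModuleCat.of A A) :=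
  ModuleCat.ofHom (Y := (ModuleCat.extendScalars.{u, u, u} φ).obj (ModuleCat.of A A))
    { toFun := fun s => (show (ModuleCat.restrictScalars.{u} φ).obj (ModuleCat.of A A) from s) ⊗ₜ[A] (1 : A)
      map_add' := fun a b => TensorProduct.add_tmul _ _ _
      map_smul' := fun a b => rfl }

open TensorProduct in
/-- `A ⊗_{A,φ} A ≅ A` -/
noncomputable def extendScalarsSelfIso :
    (ModuleCat.extendScalars.{u, u, u} φ).obj (ModuleCat.of A A) ≅ ModuleCat.of A A where
  hom := ModuleCat.ExtendRestrictScalarsAdj.HomEquiv.fromExtendScalars φ (φHom φ)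
  inv := tmulOne φ
  hom_inv_id := by
    apply ModuleCat.ExtendScalars.hom_ext
    intro m
    rw [ModuleCat.comp_apply]
    erw [ModuleCat.ExtendRestrictScalarsAdj.HomEquiv.fromExtendScalars_hom_apply]

    show ((show (ModuleCat.restrictScalars.{u} φ).obj (ModuleCat.of A A) from ((1 : A) * φ m)) ⊗ₜ[A] (1 : A)) =
      (show (ModuleCat.restrictScalars.{u} φ).obj (ModuleCat.of A A) from (1 : A)) ⊗ₜ[A] m
    have h1 : (show (ModuleCat.restrictScalars.{u} φ).obj (ModuleCat.of A A) from ((1 : A) * φ m)) =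
        m • (show (ModuleCat.restrictScalars.{u} φ).obj (ModuleCat.of A A) from (1 : A)) := by
      show (1 : A) * φ m = φ m * 1
      rw [one_mul, mul_one]
    rw [h1, TensorProduct.smul_tmul]
    congr 1
    exact mul_one m
  inv_hom_id := by
    apply ModuleCat.hom_ext
    apply LinearMap.ext_ring
    rw [ModuleCat.hom_comp, LinearMap.comp_apply]
    erw [ModuleCat.ExtendRestrictScalarsAdj.HomEquiv.fromExtendScalars_hom_apply]

    show (1 : A) * φ 1 = 1
    rw [map_one, one_mul]

/-- termwise extension of scalars along `φ` -/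
noncomputable abbrev ΦF : DRing.Cx A ⥤ DRing.Cx A := Φc (ModuleCat.extendScalars.{u, u, u} φ)

/-- `Lφ^*(K) ≅ φ^*(K)` for K-flat `K` -/
noncomputable def LBaseChangeIso [DRing.HasLBaseChange φ] (K : DRing.Cx A) (hK : IsKFlatR K) :
    (DRing.LBaseChange φ).obj (Q.obj K) ≅ Q.obj ((ΦF φ).obj K) :=
  haveI := Groth.Agent.Lib.helper13.RKF.isIso_counit φ K hK
  (DRing.LBaseChange φ).mapIso ((DerivedCategory.quotientCompQhIso (ModuleCat.{u} A)).app K).symm ≪≫
    asIso (((DRing.baseChangeKh φ).totalLeftDerivedCounit DerivedCategory.Qh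
      (HomotopyCategory.quasiIso (ModuleCat.{u} A) (ComplexShape.up ℤ))).app
        ((HomotopyCategory.quotient _ _).obj K)) ≪≫
    (DerivedCategory.quotientCompQhIso (ModuleCat.{u} A)).app ((ΦF φ).obj K)

variable (p : ℕ) (hφ : ∀ a : A, φ a = a ^ p) [IsNoetherianRing A] (fs : List A)
  [DRing.HasRgammaI (Ideal.span {x : A | x ∈ fs})] [DRing.HasLBaseChange φ]

include hφ in
/-- `RΓ_I` kills the restriction of scalars along `φ` of a complex localized at `g ∈ I` -/
lemma isZero_RgammaI_restrictD_locCx (I : Ideal A) [DRing.HasRgammaI I] (g : A) (hg : g ∈ I)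
    (X : DRing.Cx A) :
    IsZero ((DRing.RgammaI I).obj ((DRing.restrictD φ).obj
      (Q.obj ((DerCA.locCx (Submonoid.powers g)).obj X)))) := by
  let Y := (DerCA.locCx (Submonoid.powers g)).obj X
  let iso : (DRing.restrictD φ).obj (Q.obj Y) ≅
      Q.obj (((ModuleCat.restrictScalars.{u} φ).mapHomologicalComplex (ComplexShape.up ℤ)).obj Y) :=
    ((ModuleCat.restrictScalars.{u} φ).mapDerivedCategoryFactors).app Y
  refine IsZero.of_iso ?_ ((DRing.RgammaI I).mapIso iso)
  apply Groth.Agent.Lib.Helper25.RGammaSmul.isZero_RgammaI I _ g hg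
  intro n
  have hb : Function.Bijective (fun x : Y.X n => g • x) := by
    have := isIso_smul_locFunctor g (X.X n)
    rw [ConcreteCategory.isIso_iff_bijective] at this
    exact this
  have hb' := bijective_smul_powers g hb ⟨g ^ p, p, rfl⟩
  have : (fun x : (((ModuleCat.restrictScalars.{u} φ).mapHomologicalComplex (ComplexShape.up ℤ)).obj Y).X n =>
      g • x) = (fun x : Y.X n => (g ^ p) • x) := by
    funext x
    show φ g • (show Y.X n from x) = _
    rw [hφ]
  rw [this]
  exact hb'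

include hφ in
theorem torsH_ΦF_Cech (g : A) (hg : g ∈ fs) : TorsH g ((ΦF φ).obj (Cech fs)) := by
  apply torsH_of_homologyMap_eq_zero
  intro n
  let X := (ΦF φ).obj (Cech fs)
  let Y := (DerCA.locCx (Submonoid.powers g)).obj X
  let u : X ⟶ Y := DerCA.locCxUnit (Submonoid.powers g) X
  have hQu : Q.map u = 0 := by
    obtain ⟨adj, -⟩ := Groth.Agent.Lib.helper13.RKF.exists_adjunction φ
    let e := LBaseChangeIso φ (Cech fs) (isKFlatR_extCech fs)
    rw [← cancel_epi e.hom, comp_zero]
    apply (adj.homEquiv _ _).injective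
    have hN := isZero_RgammaI_restrictD_locCx φ p hφ (Ideal.span {x : A | x ∈ fs}) g
      (Ideal.subset_span hg) X
    have h0 : ∀ ψ : Q.obj (Cech fs) ⟶ (DRing.restrictD φ).obj (Q.obj Y), ψ = 0 := fun ψ =>
      hom_eq_zero_of_isZero_RgammaI _ (torsD_Q_Cech fs) hN ψ
    exact (h0 _).trans (h0 _).symm
  have hnat := (DerivedCategory.homologyFunctorFactors (ModuleCat.{u} A) n).hom.naturality u
  simp only [Functor.comp_map, hQu, Functor.map_zero, zero_comp] at hnat
  have h2 : (HomologicalComplex.homologyFunctor (ModuleCat.{u} A) (ComplexShape.up ℤ) n).map u = 0 := by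
    rw [← cancel_epi ((DerivedCategory.homologyFunctorFactors (ModuleCat.{u} A) n).hom.app X), ← hnat,
      comp_zero]
  exact h2

/-- `φ^*(A[0]) ≅ A[0]` -/
noncomputable def ΦFCechNilIso : (ΦF φ).obj (Cech ([] : List A)) ≅ Cech ([] : List A) :=
  (HomologicalComplex.singleMapHomologicalComplex (ModuleCat.extendScalars.{u, u, u} φ)
    (ComplexShape.up ℤ) 0).app (ModuleCat.of A A) ≪≫
    (HomologicalComplex.single _ _ 0).mapIso (extendScalarsSelfIso φ)

/-- `A[0] ≅ Q(Č([]))` -/
noncomputable def inDIso : Dual.inD A A ≅ Q.obj (Cech ([] : List A)) :=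
  (DerivedCategory.singleFunctorIsoCompQ (ModuleCat.{u} A) 0).app (ModuleCat.of A A)

/-- `RΓ_I(A) ≅ Q(Č(fs))` for `I = (fs)` -/
theorem nonempty_RgammaI_self_iso :
    Nonempty ((DRing.RgammaI (Ideal.span {x : A | x ∈ fs})).obj (Dual.inD A A) ≅ Q.obj (Cech fs)) := by
  haveI h1 := isIso_RgammaI_map_Φ_aug (Ideal.span {x : A | x ∈ fs}) (𝟭 (ModuleCat.{u} A))
    (fun f hf => ⟨f, hf, fun N => by
      have := isIso_smul_locFunctor f N
      rw [ConcreteCategory.isIso_iff_bijective] at this
      exact this⟩) fs (fun g hg => Ideal.subset_span hg)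
  haveI h2 : IsIso ((DRing.RgammaI (Ideal.span {x : A | x ∈ fs})).map (Q.map (aug fs))) := h1
  haveI h3 := isIso_RgammaIε_app (Ideal.span {x : A | x ∈ fs}) _ (torsD_Q_Cech fs)
  exact ⟨(DRing.RgammaI _).mapIso inDIso ≪≫
    (asIso ((DRing.RgammaI (Ideal.span {x : A | x ∈ fs})).map (Q.map (aug fs)))).symm ≪≫
    asIso ((DRing.RgammaIε (Ideal.span {x : A | x ∈ fs})).app (Q.obj (Cech fs)))⟩

include hφ in
theorem nonempty_LBaseChange_RgammaI_iso_aux (hp : p ≠ 0) :
    Nonempty ((DRing.LBaseChange φ).obj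
      ((DRing.RgammaI (Ideal.span {x : A | x ∈ fs})).obj (Dual.inD A A)) ≅
        (DRing.RgammaI (Ideal.span {x : A | x ∈ fs})).obj (Dual.inD A A)) := by
  obtain ⟨e⟩ := nonempty_RgammaI_self_iso fs
  haveI h1 := isIso_RgammaI_map_Φ_aug (Ideal.span {x : A | x ∈ fs}) (ModuleCat.extendScalars.{u, u, u} φ)
    (fun f hf => ⟨φ f, by rw [hφ]; exact Ideal.pow_mem_of_mem _ hf p (Nat.pos_of_ne_zero hp),
      fun N => bijective_smul_extendScalars_locFunctor φ f N⟩) fs (fun g hg => Ideal.subset_span hg)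
  haveI h3 := isIso_RgammaIε_app (Ideal.span {x : A | x ∈ fs}) _
    (torsD_of_torsH fs _ (fun g hg => torsH_ΦF_Cech φ p hφ fs g hg))
  exact ⟨(DRing.LBaseChange φ).mapIso e ≪≫ LBaseChangeIso φ (Cech fs) (isKFlatR_extCech fs) ≪≫
    (asIso ((DRing.RgammaIε (Ideal.span {x : A | x ∈ fs})).app (Q.obj ((ΦF φ).obj (Cech fs))))).symm ≪≫
    asIso ((DRing.RgammaI (Ideal.span {x : A | x ∈ fs})).map (Q.map ((ΦF φ).map (aug fs)))) ≪≫
    (DRing.RgammaI _).mapIso (Q.mapIso (ΦFCechNilIso φ)) ≪≫ (DRing.RgammaI _).mapIso inDIso.symm⟩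


include hφ in
/-- **`Lφ^*(RΓ_I(A)) ≅ RΓ_I(A)`** for `φ a = a ^ p`, `p ≠ 0`, `A` Noetherian -/
theorem nonempty_LBaseChange_RgammaI_iso (hp : p ≠ 0) (I : Ideal A) [DRing.HasRgammaI I] :
    Nonempty ((DRing.LBaseChange φ).obj ((DRing.RgammaI I).obj (Dual.inD A A)) ≅
      (DRing.RgammaI I).obj (Dual.inD A A)) := by
  obtain ⟨s, hs⟩ := (isNoetherianRing_iff_ideal_fg A).1 inferInstance I
  have hspan : Ideal.span {x : A | x ∈ s.toList} = I := by
    rw [← hs]
    congr 1
    ext x
    simp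
  subst hspan
  exact nonempty_LBaseChange_RgammaI_iso_aux φ p hφ s.toList hp

end Phi

end Groth.Agent.Lib.helper13.FrobRG
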