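import Mathlib
import Groth.Agent.Lib.Helper13.WT6

/-!
# Uniform bounds on the number of points of geometric fibres: formal properties
-/

set_option autoImplicit false

namespace Groth.Agent.Lib.helper13.GB

open AlgebraicGeometry CategoryTheory Limits

universe u

/-- Every fibre of `h` over a field-valued point has at most `n` points. -/
def GeomBound {Z Y : Scheme.{u}} (h : Z ⟶ Y) (n : ℕ) : Prop :=
  ∀ (Ω : Type u) [Field Ω] (yb : Spec (CommRingCat.of Ω) ⟶ Y),
    Finite ↑(pullback h yb) ∧ Nat.card ↑(pullback h yb) ≤ n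

/-- Precomposition with an open immersion preserves bounds. -/
lemma GeomBound.comp_left {O T Y : Scheme.{u}} (j : O ⟶ T) [IsOpenImmersion j] (π : T ⟶ Y) {n : ℕ}
    (h : GeomBound π n) : GeomBound (j ≫ π) n := by
  intro Ω _ yb
  obtain ⟨hfin, hcard⟩ := h Ω yb
  have hj : IsOpenImmersion (WT.mapComp j π yb) :=
    MorphismProperty.of_isPullback (P := @IsOpenImmersion) (WT.isPullback_mapComp j π yb)
      inferInstance
  have hinj : Function.Injective (WT.mapComp j π yb) :=
    (WT.mapComp j π yb).isOpenEmbedding.injective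
  exact ⟨Finite.of_injective _ hinj, (Nat.card_le_card_of_injective _ hinj).trans hcard⟩

/-- Bounds add up over a finite jointly surjective family. -/
lemma GeomBound.of_cover {X Y : Scheme.{u}} (f : X ⟶ Y) {σ : Type*} [Fintype σ]
    (O : σ → Scheme.{u}) (i : ∀ k, O k ⟶ X) (hcov : ∀ x : X, ∃ k, x ∈ Set.range (i k))
    (n : σ → ℕ) (h : ∀ k, GeomBound (i k ≫ f) (n k)) : GeomBound f (∑ k, n k) := by
  intro Ω _ yb
  have hfin : ∀ k, Finite ↑(pullback (i k ≫ f) yb) := fun k ↦ (h k Ω yb).1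
  let F : (Σ k, ↑(pullback (i k ≫ f) yb)) → ↑(pullback f yb) :=
    fun p ↦ WT.mapComp (i p.1) f yb p.2
  have hF : Function.Surjective F := by
    intro w
    obtain ⟨k, o, ho⟩ := hcov (pullback.fst f yb w)
    obtain ⟨w', hw', -⟩ := WT.exists_preimage_of_isPullback (WT.isPullback_mapComp (i k) f yb).flip
      w o ho.symm
    exact ⟨⟨k, w'⟩, hw'⟩
  have hfinS : Finite (Σ k, ↑(pullback (i k ≫ f) yb)) := inferInstance
  refine ⟨Finite.of_surjective F hF, (Nat.card_le_card_of_surjective F hF).trans ?_⟩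
  rw [Nat.card_sigma]
  exact Finset.sum_le_sum fun k _ ↦ (h k Ω yb).2

/-- Postcomposition with an open immersion preserves bounds. -/
lemma GeomBound.comp_right {T W Y : Scheme.{u}} (π : T ⟶ W) (ι : W ⟶ Y) [IsOpenImmersion ι]
    {n : ℕ} (h : GeomBound π n) : GeomBound (π ≫ ι) n := by
  intro Ω _ yb
  by_cases hmem : Set.range yb ⊆ Set.range ι
  · obtain ⟨yb', rfl⟩ : ∃ yb', yb' ≫ ι = yb :=
      ⟨IsOpenImmersion.lift ι yb hmem, IsOpenImmersion.lift_fac ι yb hmem⟩
    obtain ⟨hfin, hcard⟩ := h Ω yb'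
    have hpb : IsPullback (pullback.fst π yb') (pullback.snd π yb') (π ≫ ι) (yb' ≫ ι) :=
      IsPullback.of_isLimit (pullbackIsPullbackOfCompMono π yb' ι)
    let e : ↑(pullback π yb') ≃ ↑(pullback (π ≫ ι) (yb' ≫ ι)) :=
      hpb.isoPullback.hom.homeomorph.toEquiv
    exact ⟨Finite.of_equiv _ e, (Nat.card_congr e).symm.le.trans hcard⟩
  · have hempty : IsEmpty ↑(pullback (π ≫ ι) yb) := by
      refine ⟨fun w ↦ hmem ?_⟩
      rintro _ ⟨p, rfl⟩
      have hp : p = pullback.snd (π ≫ ι) yb w :=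
        @Subsingleton.elim _ (inferInstanceAs (Subsingleton (PrimeSpectrum Ω))) _ _
      refine ⟨π (pullback.fst (π ≫ ι) yb w), ?_⟩
      rw [hp]
      show (pullback.fst (π ≫ ι) yb ≫ π ≫ ι) w = (pullback.snd (π ≫ ι) yb ≫ yb) w
      rw [pullback.condition]
    exact ⟨inferInstance, by rw [Nat.card_of_isEmpty]; exact Nat.zero_le _⟩

end Groth.Agent.Lib.helper13.GB
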