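import Mathlib
import Groth.Agent.Lib.Helper13.GB1

/-!
# Uniform bounds on geometric fibres: finite algebras and the local form of Zariski's main theorem
-/

set_option autoImplicit false

namespace Groth.Agent.Lib.helper13.GB

open AlgebraicGeometry CategoryTheory Limits TensorProduct

universe u

/-- A finite-dimensional algebra over a field has at most `finrank` primes. -/
lemma card_primeSpectrum_le_finrank (Ω C : Type u) [Field Ω] [CommRing C] [Algebra Ω C]
    [Module.Finite Ω C] :
    Finite (PrimeSpectrum C) ∧ Nat.card (PrimeSpectrum C) ≤ Module.finrank Ω C := by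
  haveI : IsArtinianRing C := IsArtinianRing.of_finite Ω C
  haveI : Finite (PrimeSpectrum C) := inferInstance
  refine ⟨inferInstance, ?_⟩
  letI := Fintype.ofFinite (PrimeSpectrum C)
  rw [Nat.card_eq_fintype_card, IsArtinianRing.finrank_eq_sum_primeSpectrum C Ω]
  have h1 : ∀ p : PrimeSpectrum C, 1 ≤ Module.finrank Ω (Localization.AtPrime p.asIdeal) := by
    intro p
    haveI : Module.Finite Ω (Localization.AtPrime p.asIdeal) :=
      Module.Finite.of_surjective (Algebra.algHom Ω C (Localization.AtPrime p.asIdeal)).toLinearMap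
        (IsArtinianRing.localization_surjective p.asIdeal.primeCompl (Localization.AtPrime p.asIdeal))
    exact Module.finrank_pos
  calc Fintype.card (PrimeSpectrum C) = ∑ _p : PrimeSpectrum C, 1 := by simp
    _ ≤ _ := Finset.sum_le_sum fun p _ ↦ h1 p

/-- The base change of a module spanned by `n` elements has rank at most `n`. -/
lemma finrank_baseChange_le {A B Ω : Type u} [CommRing A] [CommRing B] [Algebra A B] [Field Ω]
    [Algebra A Ω] (n : ℕ) (s : Fin n → B) (hs : Submodule.span A (Set.range s) = ⊤) :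
    Module.finrank Ω (Ω ⊗[A] B) ≤ n := by
  have h1 : Submodule.span Ω (TensorProduct.mk A Ω B 1 '' Set.range s) = ⊤ := by
    rw [← Submodule.baseChange_span, hs, Submodule.baseChange_top]
  have h2 : TensorProduct.mk A Ω B 1 '' Set.range s =
      Set.range (fun i ↦ TensorProduct.mk A Ω B 1 (s i)) := by
    rw [← Set.range_comp]; rfl
  rw [h2] at h1
  have h3 := finrank_range_le_card (R := Ω) (fun i ↦ TensorProduct.mk A Ω B 1 (s i))
  unfold Set.finrank at h3
  rw [h1, finrank_top, Fintype.card_fin] at h3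
  exact h3

/-- A finite algebra spanned by `n` elements has geometric fibres with at most `n` points. -/
lemma geomBound_SpecMap {A B : Type u} [CommRing A] [CommRing B] [Algebra A B] (n : ℕ)
    (s : Fin n → B) (hs : Submodule.span A (Set.range s) = ⊤) :
    GeomBound (Spec.map (CommRingCat.ofHom (algebraMap A B))) n := by
  classical
  intro Ω _ yb
  obtain ⟨ψ, rfl⟩ := Spec.map_surjective yb
  algebraize [ψ.hom]
  have hψ : ψ = CommRingCat.ofHom (algebraMap A Ω) := rfl
  rw [hψ]
  haveI : Module.Finite A B := ⟨⟨Finset.univ.image s, by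
    rw [Finset.coe_image, Finset.coe_univ, Set.image_univ, hs]⟩⟩
  let e : ↑(pullback (Spec.map (CommRingCat.ofHom (algebraMap A B)))
      (Spec.map (CommRingCat.ofHom (algebraMap A Ω)))) ≃ PrimeSpectrum (Ω ⊗[A] B) :=
    ((pullbackSymmetry _ _ ≪≫ pullbackSpecIso A Ω B).hom.homeomorph).toEquiv
  obtain ⟨hfin, hcard⟩ := card_primeSpectrum_le_finrank Ω (Ω ⊗[A] B)
  exact ⟨Finite.of_equiv _ e.symm,
    ((Nat.card_congr e).le.trans hcard).trans (finrank_baseChange_le n s hs)⟩

set_option backward.isDefEq.respectTransparency false in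
/-- **Local form of Zariski's main theorem.**  Near a point where `f` is quasi-finite, the source
has an open neighbourhood whose geometric fibres over the target are uniformly bounded. -/
theorem exists_geomBound_nbhd {X Y : Scheme.{u}} (f : X ⟶ Y) [LocallyOfFiniteType f] (x : X)
    (hx : f.QuasiFiniteAt x) :
    ∃ (O : Scheme.{u}) (i : O ⟶ X) (n : ℕ), IsOpenImmersion i ∧ x ∈ Set.range i ∧
      GeomBound (i ≫ f) n := by
  obtain ⟨_, ⟨U, hU, rfl⟩, hxU, -⟩ := Y.isBasis_affineOpens.exists_subset_of_mem_open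
    (Set.mem_univ (f x)) isOpen_univ
  obtain ⟨_, ⟨V, hV, rfl⟩, hxV, hUV : V ≤ f ⁻¹ᵁ U⟩ :=
    X.isBasis_affineOpens.exists_subset_of_mem_open hxU (f ⁻¹ᵁ U).2
  have : (f.appLE U V hUV).hom.FiniteType := f.finiteType_appLE hU hV hUV
  algebraize [(f.appLE U V hUV).hom]
  have : Algebra.QuasiFiniteAt Γ(Y, U) (hV.primeIdealOf ⟨x, hxV⟩).asIdeal :=
    hx.quasiFiniteAt hV hU hUV hxV
  obtain ⟨S', hS', r, hrp, hbij⟩ :=
    Algebra.QuasiFiniteAt.exists_fg_and_exists_notMem_and_awayMap_bijective (R := Γ(Y, U))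
      (hV.primeIdealOf ⟨x, hxV⟩).asIdeal
  haveI : Module.Finite Γ(Y, U) S' := ⟨(Submodule.fg_top _).mpr hS'⟩
  obtain ⟨n, s, hs⟩ := Module.Finite.exists_fin (R := Γ(Y, U)) (M := S')
  -- the schemes and morphisms
  let iB : Spec (.of (Localization.Away (r : Γ(X, V)))) ⟶ Spec Γ(X, V) :=
    Spec.map (CommRingCat.ofHom (algebraMap Γ(X, V) (Localization.Away (r : Γ(X, V)))))
  let jiso : Spec (.of (Localization.Away (r : Γ(X, V)))) ⟶ Spec (.of (Localization.Away r)) :=
    Spec.map (CommRingCat.ofHom (Localization.awayMap S'.val.toRingHom r))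
  let jloc : Spec (.of (Localization.Away r)) ⟶ Spec (.of S') :=
    Spec.map (CommRingCat.ofHom (algebraMap S' (Localization.Away r)))
  let π : Spec (.of S') ⟶ Spec Γ(Y, U) :=
    Spec.map (CommRingCat.ofHom (algebraMap Γ(Y, U) S'))
  haveI : IsIso (CommRingCat.ofHom (Localization.awayMap S'.val.toRingHom r)) :=
    (ConcreteCategory.isIso_iff_bijective _).mpr hbij
  haveI : IsIso jiso := inferInstance
  have hcomm : iB ≫ Spec.map (f.appLE U V hUV) = (jiso ≫ jloc) ≫ π := by
    simp only [iB, jiso, jloc, π, ← Spec.map_comp]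
    congr 1
    ext a
    show algebraMap Γ(X, V) (Localization.Away (r : Γ(X, V))) (algebraMap Γ(Y, U) Γ(X, V) a) =
      Localization.awayMap S'.val.toRingHom r
        (algebraMap S' (Localization.Away r) (algebraMap Γ(Y, U) S' a))
    rw [Localization.awayMap, IsLocalization.Away.map, IsLocalization.map_eq]
    rfl
  refine ⟨Spec (.of (Localization.Away (r : Γ(X, V)))), iB ≫ hV.fromSpec, n, inferInstance, ?_, ?_⟩
  · have hpx : hV.primeIdealOf ⟨x, hxV⟩ ∈ Set.range iB := by
      have h := PrimeSpectrum.localization_away_comap_range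
        (Localization.Away (r : Γ(X, V))) (r : Γ(X, V))
      have hmem : (hV.primeIdealOf ⟨x, hxV⟩ : PrimeSpectrum Γ(X, V)) ∈
          (PrimeSpectrum.basicOpen (r : Γ(X, V)) : Set (PrimeSpectrum Γ(X, V))) := hrp
      rw [← h] at hmem
      obtain ⟨o, ho⟩ := hmem
      exact ⟨o, ho⟩
    obtain ⟨o, ho⟩ := hpx
    refine ⟨o, ?_⟩
    show hV.fromSpec (iB o) = x
    rw [ho, hV.fromSpec_primeIdealOf]
  · have e : (iB ≫ hV.fromSpec) ≫ f = (jiso ≫ jloc) ≫ (π ≫ hU.fromSpec) := by
      rw [Category.assoc, ← IsAffineOpen.SpecMap_appLE_fromSpec f hU hV hUV, ← Category.assoc,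
        hcomm, Category.assoc]
    rw [e]
    exact (GeomBound.comp_right π hU.fromSpec (geomBound_SpecMap n s hs)).comp_left (jiso ≫ jloc)

end Groth.Agent.Lib.helper13.GB
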