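import Mathlib

/-!
# Gabriel decomposition of injectives, part 1: essential monomorphisms and uniform objects (helper13)
-/

universe w v u

namespace Groth.Agent.Lib.helper13.GD

open CategoryTheory Category Limits

variable {C : Type u} [Category.{v} C] [Abelian C]

/-- if the pullback of two morphisms is zero and one composite with a cokernel is considered:
`b ≫ cokernel.π k` is mono when `b` is mono and `pullback b k` is zero -/
lemma mono_comp_cokernel_of_isZero_pullback {B K M : C} (b : B ⟶ M) (k : K ⟶ M) [Mono b] [Mono k]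
    (h : IsZero (pullback b k)) : Mono (b ≫ cokernel.π k) := by
  apply Preadditive.mono_of_cancel_zero
  intro Z z hz
  have hz' : (z ≫ b) ≫ cokernel.π k = 0 := by rw [Category.assoc]; exact hz
  let z' : Z ⟶ K := Abelian.monoLift k (z ≫ b) hz'
  have hz'' : z' ≫ k = z ≫ b := Abelian.monoLift_comp k (z ≫ b) hz'
  have : z = pullback.lift z z' hz''.symm ≫ pullback.fst b k := (pullback.lift_fst _ _ _).symm
  rw [this, h.eq_of_tgt (pullback.lift z z' hz''.symm) 0, zero_comp]

lemma isZero_pullback_of_mono_comp_cokernel {B K M : C} (b : B ⟶ M) (k : K ⟶ M) [Mono b] [Mono k]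
    (h : Mono (b ≫ cokernel.π k)) : IsZero (pullback b k) := by
  rw [IsZero.iff_id_eq_zero]
  have h1 : pullback.fst b k = 0 := by
    rw [← cancel_mono (b ≫ cokernel.π k), zero_comp, ← Category.assoc, pullback.condition,
      Category.assoc, cokernel.condition, comp_zero]
  have h2 : pullback.snd b k = 0 := by
    rw [← cancel_mono k, zero_comp, ← pullback.condition, h1, zero_comp]
  apply pullback.hom_ext
  · rw [Category.id_comp, zero_comp, h1]
  · rw [Category.id_comp, zero_comp, h2]

lemma isZero_pullback_of_forall {A B M : C} (a : A ⟶ M) (b : B ⟶ M)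
    (h : ∀ ⦃Z : C⦄ (z : Z ⟶ A) (z' : Z ⟶ B), z ≫ a = z' ≫ b → z = 0 ∧ z' = 0) :
    IsZero (pullback a b) := by
  rw [IsZero.iff_id_eq_zero]
  obtain ⟨h1, h2⟩ := h (pullback.fst a b) (pullback.snd a b) pullback.condition
  apply pullback.hom_ext
  · rw [Category.id_comp, zero_comp, h1]
  · rw [Category.id_comp, zero_comp, h2]

lemma isZero_pullback_symm {A B M : C} (a : A ⟶ M) (b : B ⟶ M) (h : IsZero (pullback a b)) :
    IsZero (pullback b a) :=
  h.of_iso (pullbackSymmetry b a)

/-- essential monomorphisms (morphism formulation) -/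
def Ess {U M : C} (u : U ⟶ M) : Prop := ∀ ⦃Z : C⦄ (g : M ⟶ Z), Mono (u ≫ g) → Mono g

lemma Ess.comp {U M M' : C} {u : U ⟶ M} {v : M ⟶ M'} (hu : Ess u) (hv : Ess v) : Ess (u ≫ v) := by
  intro Z g hg
  apply hv
  apply hu
  rwa [Category.assoc] at hg

lemma Ess.of_comp {U M M' : C} {u : U ⟶ M} {v : M ⟶ M'} [Mono u] (h : Ess (u ≫ v)) : Ess v := by
  intro Z g hg
  apply h
  rw [Category.assoc]
  exact mono_comp _ _

lemma ess_of_isIso {U M : C} (u : U ⟶ M) [IsIso u] : Ess u := by
  intro Z g hg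
  have : g = inv u ≫ (u ≫ g) := by simp
  rw [this]
  infer_instance

/-- uniform objects: nonzero, and every nonzero subobject is essential -/
def Unif (U : C) : Prop := ¬ IsZero U ∧ ∀ ⦃A : C⦄ (a : A ⟶ U), Mono a → ¬ IsZero A → Ess a

/-- indecomposable objects in the sense of binary biproduct decompositions -/
def Indec (Y : C) : Prop := ∀ (A B : C), Nonempty (Y ≅ A ⊞ B) → IsZero A ∨ IsZero B

lemma isZero_of_mono_eq_zero {A B : C} (a : A ⟶ B) [Mono a] (h : a = 0) : IsZero A := by
  rw [IsZero.iff_id_eq_zero, ← cancel_mono a, Category.id_comp, zero_comp, h]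

/-- an essential extension of a uniform object is indecomposable -/
lemma indec_of_ess {U J : C} (u : U ⟶ J) [Mono u] (hu : Ess u) (hU : Unif U) : Indec J := by
  rintro A B ⟨e⟩
  by_contra hcon
  push Not at hcon
  obtain ⟨hA, hB⟩ := hcon
  let pA : J ⟶ A := e.hom ≫ biprod.fst
  let pB : J ⟶ B := e.hom ≫ biprod.snd
  let iA : A ⟶ J := biprod.inl ≫ e.inv
  let iB : B ⟶ J := biprod.inr ≫ e.inv
  haveI : Mono iA := mono_comp _ _
  haveI : Mono iB := mono_comp _ _
  have hAB : iA ≫ pB = 0 := by simp [iA, pB]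
  have hBA : iB ≫ pA = 0 := by simp [iB, pA]
  have hK : ¬ IsZero (kernel (u ≫ pB)) := by
    intro hz
    have h1 : Mono (u ≫ pB) := Preadditive.mono_of_isZero_kernel _ hz
    have h2 : Mono pB := hu pB h1
    have h3 : iA = 0 := by rw [← cancel_mono pB, hAB, zero_comp]
    exact hA (isZero_of_mono_eq_zero iA h3)
  have hκ : Ess (kernel.ι (u ≫ pB)) := hU.2 _ inferInstance hK
  have hκu : Ess (kernel.ι (u ≫ pB) ≫ u) := hκ.comp hu
  have h4 : Mono ((kernel.ι (u ≫ pB) ≫ u) ≫ pA) := by
    apply Preadditive.mono_of_cancel_zero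
    intro Z z hz
    have hz1 : (z ≫ kernel.ι (u ≫ pB) ≫ u) ≫ pA = 0 := by simp only [Category.assoc] at hz ⊢; exact hz
    have hz2 : (z ≫ kernel.ι (u ≫ pB) ≫ u) ≫ pB = 0 := by
      have := kernel.condition (u ≫ pB)
      simp only [Category.assoc] at this ⊢
      rw [this, comp_zero]
    have hz3 : (z ≫ kernel.ι (u ≫ pB) ≫ u) ≫ e.hom = 0 := by
      apply biprod.hom_ext
      · simpa [pA] using hz1
      · simpa [pB] using hz2
    have hz4 : z ≫ kernel.ι (u ≫ pB) ≫ u = 0 := by
      rw [← cancel_mono e.hom, hz3, zero_comp]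
    rw [← cancel_mono (kernel.ι (u ≫ pB) ≫ u), hz4, zero_comp]
  have h5 : Mono pA := hκu pA h4
  have h6 : iB = 0 := by rw [← cancel_mono pA, hBA, zero_comp]
  exact hB (isZero_of_mono_eq_zero iB h6)

end Groth.Agent.Lib.helper13.GD
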