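import Mathlib
import Groth.Agent.Lib.Helper13.GD1

/-!
# Gabriel decomposition, part 2: nonzero Noetherian objects have uniform subobjects (helper13)
-/

universe w v u

namespace Groth.Agent.Lib.helper13.GD

open CategoryTheory Category Limits

variable {C : Type u} [Category.{v} C] [Abelian C]

/-- every nonzero Noetherian object contains a uniform subobject -/
theorem exists_unif_sub {N : C} [IsNoetherianObject N] (hN : ¬ IsZero N) :
    ∃ (A : C) (a : A ⟶ N), Mono a ∧ Unif A := by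
  let 𝒬 : Set (Subobject N) := {Q | ∃ (A : C) (a : A ⟶ N), Mono a ∧ ¬ IsZero A ∧
    IsZero (pullback a Q.arrow)}
  have hbot : (⊥ : Subobject N) ∈ 𝒬 := by
    refine ⟨N, 𝟙 N, inferInstance, hN, ?_⟩
    apply isZero_pullback_of_forall
    intro Z z z' h
    have hz' : z' = 0 := (Subobject.botCoeIsoZero (B := N)).isZero_iff.2 (isZero_zero C) |>.eq_of_tgt _ _
    refine ⟨?_, hz'⟩
    rw [Category.comp_id] at h
    rw [h, hz', zero_comp]
  obtain ⟨Q, ⟨A, a, ha, hA, hAQ⟩, hmax⟩ := (wellFounded_gt (α := Subobject N)).has_min 𝒬 ⟨⊥, hbot⟩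
  refine ⟨A, a, ha, hA, ?_⟩
  intro B b hb hB Z g hg
  by_contra hcon
  have hK : ¬ IsZero (kernel g) := fun hz => hcon (Preadditive.mono_of_isZero_kernel _ hz)
  let κ : kernel g ⟶ A := kernel.ι g
  haveI : Mono (a ≫ cokernel.π Q.arrow) := mono_comp_cokernel_of_isZero_pullback a Q.arrow hAQ
  let m : A ⟶ cokernel Q.arrow := a ≫ cokernel.π Q.arrow
  haveI : Mono m := inferInstanceAs (Mono (a ≫ cokernel.π Q.arrow))
  let k' : kernel g ⟶ cokernel Q.arrow := κ ≫ m
  haveI : Mono k' := mono_comp _ _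
  let π' : N ⟶ cokernel k' := cokernel.π Q.arrow ≫ cokernel.π k'
  let Q' : Subobject N := kernelSubobject π'
  have hQQ' : Q ≤ Q' := by
    refine Subobject.le_of_comm (factorThruKernelSubobject π' Q.arrow ?_)
      (factorThruKernelSubobject_comp_arrow _ _ _)
    simp [π']
  have hκQ' : (κ ≫ a) ≫ π' = 0 := by
    have : (κ ≫ a) ≫ π' = k' ≫ cokernel.π k' := by
      simp only [π', k', m, Category.assoc]
    rw [this, cokernel.condition]
  have hne : Q' ≠ Q := by
    intro heq
    have hfac : Q.Factors (κ ≫ a) := by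
      rw [← heq]
      exact (kernelSubobject_factors_iff π' (κ ≫ a)).2 hκQ'
    have h1 : κ = pullback.lift κ (Q.factorThru (κ ≫ a) hfac) (by simp) ≫ pullback.fst a Q.arrow :=
      (pullback.lift_fst _ _ _).symm
    have h2 : κ = 0 := by rw [h1, hAQ.eq_of_tgt (pullback.lift _ _ _) 0, zero_comp]
    exact hK (isZero_of_mono_eq_zero κ h2)
  have hQ' : Q' ∈ 𝒬 := by
    refine ⟨B, b ≫ a, mono_comp _ _, hB, ?_⟩
    apply isZero_pullback_of_forall
    intro Z₁ z z' h
    have h1 : (z ≫ b ≫ a) ≫ π' = 0 := by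
      rw [h, Category.assoc, kernelSubobject_arrow_comp, comp_zero]
    have h2 : ((z ≫ b) ≫ m) ≫ cokernel.π k' = 0 := by simpa [π', m] using h1
    let y : Z₁ ⟶ kernel g := Abelian.monoLift k' ((z ≫ b) ≫ m) h2
    have hy : y ≫ k' = (z ≫ b) ≫ m := Abelian.monoLift_comp k' ((z ≫ b) ≫ m) h2
    have hy' : y ≫ κ = z ≫ b := by
      rw [← cancel_mono m, Category.assoc]
      exact hy
    have h3 : z ≫ (b ≫ g) = 0 := by
      rw [← Category.assoc, ← hy', Category.assoc, kernel.condition, comp_zero]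
    have hz : z = 0 := by rw [← cancel_mono (b ≫ g), h3, zero_comp]
    refine ⟨hz, ?_⟩
    rw [← cancel_mono Q'.arrow, ← h, hz, zero_comp, zero_comp]
  exact hmax Q' hQ' (lt_of_le_of_ne hQQ' (Ne.symm hne))

end Groth.Agent.Lib.helper13.GD
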