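import Mathlib
import Groth.Agent.Lib.Helper13.GD1

/-!
# Gabriel decomposition, part 3: AB5 for directed suprema of subobjects (helper13)
-/

universe w v u

namespace Groth.Agent.Lib.helper13.GD

open CategoryTheory Category Limits

attribute [local instance] IsFiltered.isConnected

variable {C : Type u} [Category.{v} C] [Abelian C] [IsGrothendieckAbelian.{w} C]

/-- small index type for a set of subobjects -/
def Jidx {X : C} (𝒟 : Set (Subobject X)) : Type w := Shrink.{w} ↥𝒟

noncomputable instance {X : C} (𝒟 : Set (Subobject X)) : Preorder (Jidx.{w} 𝒟) :=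
  inferInstanceAs (Preorder (Shrink.{w} ↥𝒟))

/-- the order isomorphism with the set -/
noncomputable def Jidx.e {X : C} (𝒟 : Set (Subobject X)) : Jidx.{w} 𝒟 ≃o ↥𝒟 :=
  (orderIsoShrink ↥𝒟).symm

/-- a morphism out of a directed supremum of subobjects is mono as soon as its restrictions to the
members are -/
theorem mono_of_directed_sSup {X : C} (𝒟 : Set (Subobject X)) (hne : 𝒟.Nonempty)
    (hdir : DirectedOn (· ≤ ·) 𝒟) {Z : C} (g : ((sSup 𝒟 : Subobject X) : C) ⟶ Z)
    (hg : ∀ M ∈ 𝒟, ∀ h : M ≤ sSup 𝒟, Mono (Subobject.ofLE M (sSup 𝒟) h ≫ g)) : Mono g := by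
  let J := Jidx.{w} 𝒟
  let e : J ≃o ↥𝒟 := Jidx.e 𝒟
  haveI : Nonempty J := ⟨e.symm ⟨hne.choose, hne.choose_spec⟩⟩
  haveI : IsDirected J (· ≤ ·) := by
    constructor
    intro a b
    obtain ⟨m, hm, h1, h2⟩ := hdir (e a).1 (e a).2 (e b).1 (e b).2
    refine ⟨e.symm ⟨m, hm⟩, ?_, ?_⟩
    · rw [← e.le_iff_le, OrderIso.apply_symm_apply]; exact h1
    · rw [← e.le_iff_le, OrderIso.apply_symm_apply]; exact h2
  haveI : IsFiltered J := inferInstance
  let F : J ⥤ MonoOver X :=
    { obj := fun j => MonoOver.mk (e j).1.arrow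
      map := fun {j j'} f => MonoOver.homMk (Subobject.ofLE _ _ (e.monotone (leOfHom f)))
      map_id := fun j => by ext; simp
      map_comp := fun f f' => by ext; simp }
  have hle : ∀ j, (e j).1 ≤ sSup 𝒟 := fun j => le_sSup (e j).2
  let c : Cocone (F ⋙ MonoOver.forget X) :=
    { pt := Over.mk (sSup 𝒟 : Subobject X).arrow
      ι := { app := fun j => Over.homMk (Subobject.ofLE _ _ (hle j)) (by simp [F])
             naturality := fun j j' f => by
               ext
               simp [F, MonoOver.forget] } }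
  haveI : Mono c.pt.hom := inferInstanceAs (Mono (sSup 𝒟 : Subobject X).arrow)
  have h : Subobject.mk c.pt.hom = ⨆ j, Subobject.mk (F.obj j).obj.hom := by
    have h1 : Subobject.mk c.pt.hom = sSup 𝒟 := Subobject.mk_arrow _
    have h2 : ∀ j, Subobject.mk (F.obj j).obj.hom = (e j).1 := fun j => Subobject.mk_arrow _
    rw [h1]
    simp_rw [h2]
    apply le_antisymm
    · apply sSup_le
      intro M hM
      have := le_iSup (fun j => ((e j).1 : Subobject X)) (e.symm ⟨M, hM⟩)
      simpa using this
    · exact iSup_le hle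
  have hc : IsColimit ((Over.forget X).mapCocone c) :=
    IsGrothendieckAbelian.isColimitMapCoconeOfSubobjectMkEqISup F c h
  let α : F ⋙ MonoOver.forget X ⋙ Over.forget X ⟶ (Functor.const J).obj Z :=
    { app := fun j => Subobject.ofLE _ _ (hle j) ≫ g
      naturality := fun j j' f => by
        simp [F, MonoOver.forget] }
  haveI : ∀ j, Mono (α.app j) := fun j => hg _ (e j).2 (hle j)
  haveI := NatTrans.mono_of_mono_app α
  exact colim.map_mono' α hc (isColimitConstCocone J Z) g (fun j => by simp [α, c]; erw [Category.comp_id])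

end Groth.Agent.Lib.helper13.GD
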