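import Mathlib
import Groth.Agent.Lib.Helper13.GD1
import Groth.Agent.Lib.Helper13.GD3

/-!
# Gabriel decomposition, part 4: maximal essential extensions inside an injective are retracts (helper13)
-/

universe w v u

namespace Groth.Agent.Lib.helper13.GD

open CategoryTheory Category Limits

variable {C : Type u} [Category.{v} C] [Abelian C] [IsGrothendieckAbelian.{w} C]

/-- inside an injective object, every subobject `U` has an essential extension which is a retract -/
theorem exists_ess_retract {I U : C} [Injective I] (u₀ : U ⟶ I) [Mono u₀] :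
    ∃ (J : C) (ι : J ⟶ I) (r : I ⟶ J) (u : U ⟶ J), ι ≫ r = 𝟙 J ∧ u ≫ ι = u₀ ∧ Ess u := by
  let 𝒮 : Set (Subobject I) := {M | ∃ u : U ⟶ (M : C), u ≫ M.arrow = u₀ ∧ Ess u}
  have h₀ : Subobject.mk u₀ ∈ 𝒮 :=
    ⟨(Subobject.underlyingIso u₀).inv, Subobject.underlyingIso_arrow u₀, ess_of_isIso _⟩
  obtain ⟨J, -, ⟨⟨u, hu, hEss⟩, hmax⟩⟩ := zorn_le_nonempty₀ 𝒮 (by
    intro c hc hchain y hy
    obtain ⟨uy, huy, hEy⟩ := hc hy
    refine ⟨sSup c, ⟨uy ≫ Subobject.ofLE y (sSup c) (le_sSup hy), by simp [huy], ?_⟩,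
      fun z hz => le_sSup hz⟩
    intro Z g hg
    refine mono_of_directed_sSup.{w} c ⟨y, hy⟩ hchain.directedOn g (fun M hM hle => ?_)
    obtain ⟨uM, huM, hEM⟩ := hc hM
    apply hEM
    have : uM ≫ Subobject.ofLE M (sSup c) hle = uy ≫ Subobject.ofLE y (sSup c) (le_sSup hy) := by
      rw [← cancel_mono (sSup c).arrow]
      simp [huM, huy]
    rw [← Category.assoc, this]
    exact hg) (Subobject.mk u₀) h₀
  haveI : Mono u := mono_of_mono_fac hu
  let 𝒯 : Set (Subobject I) := {D | IsZero (pullback D.arrow J.arrow)}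
  have hbot : (⊥ : Subobject I) ∈ 𝒯 := by
    apply isZero_pullback_of_forall
    intro Z z z' h
    have hz : z = 0 :=
      ((Subobject.botCoeIsoZero (B := I)).isZero_iff.2 (isZero_zero C)).eq_of_tgt _ _
    refine ⟨hz, ?_⟩
    rw [← cancel_mono J.arrow, ← h, hz, zero_comp, zero_comp]
  obtain ⟨D, -, ⟨hD, hDmax⟩⟩ := zorn_le_nonempty₀ 𝒯 (by
    intro c hc hchain y hy
    refine ⟨sSup c, ?_, fun z hz => le_sSup hz⟩
    apply isZero_pullback_of_mono_comp_cokernel
    refine mono_of_directed_sSup.{w} c ⟨y, hy⟩ hchain.directedOn _ (fun M hM hle => ?_)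
    rw [← Category.assoc, Subobject.ofLE_arrow]
    exact mono_comp_cokernel_of_isZero_pullback _ _ (hc hM)) ⊥ hbot
  let q : I ⟶ cokernel D.arrow := cokernel.π D.arrow
  let j : (J : C) ⟶ cokernel D.arrow := J.arrow ≫ q
  haveI : Mono j := mono_comp_cokernel_of_isZero_pullback _ _ (isZero_pullback_symm _ _ hD)
  have hEj : Ess j := by
    intro Z g hg
    let D' : Subobject I := kernelSubobject (q ≫ g)
    have hDD' : D ≤ D' := by
      refine Subobject.le_of_comm (factorThruKernelSubobject (q ≫ g) D.arrow ?_)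
        (factorThruKernelSubobject_comp_arrow _ _ _)
      simp [q]
    have hD' : D' ∈ 𝒯 := by
      apply isZero_pullback_of_forall
      intro Z₁ z z' h
      have h1 : z' ≫ (j ≫ g) = 0 := by
        have : z' ≫ (j ≫ g) = (z ≫ D'.arrow) ≫ (q ≫ g) := by
          rw [h]; simp [j]
        rw [this, Category.assoc, kernelSubobject_arrow_comp, comp_zero]
      have hz' : z' = 0 := by rw [← cancel_mono (j ≫ g), h1, zero_comp]
      refine ⟨?_, hz'⟩
      rw [← cancel_mono D'.arrow, h, hz', zero_comp, zero_comp]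
    have hle : D' ≤ D := hDmax hD' hDD'
    apply Preadditive.mono_of_cancel_zero
    intro Y y hy
    let p₁ : pullback q y ⟶ I := pullback.fst q y
    let p₂ : pullback q y ⟶ Y := pullback.snd q y
    haveI : Epi p₂ := Abelian.epi_pullback_of_epi_f q y
    have h1 : p₁ ≫ (q ≫ g) = 0 := by
      rw [← Category.assoc, pullback.condition, Category.assoc, hy, comp_zero]
    have hfac : D.Factors p₁ :=
      Subobject.factors_of_le _ hle ((kernelSubobject_factors_iff (q ≫ g) p₁).2 h1)
    have h2 : p₁ ≫ q = 0 := by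
      rw [← Subobject.factorThru_arrow D p₁ hfac, Category.assoc]
      simp [q]
    have h3 : p₂ ≫ y = 0 := by rw [← pullback.condition]; exact h2
    rw [← cancel_epi p₂, h3, comp_zero]
  let ψ : cokernel D.arrow ⟶ I := Injective.factorThru J.arrow j
  have hψ : j ≫ ψ = J.arrow := Injective.comp_factorThru _ _
  haveI : Mono ψ := hEj ψ (by rw [hψ]; infer_instance)
  let J' : Subobject I := Subobject.mk ψ
  have hJJ' : J ≤ J' :=
    Subobject.le_of_comm (j ≫ (Subobject.underlyingIso ψ).inv) (by simp [J', hψ])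
  have hJ' : J' ∈ 𝒮 := by
    refine ⟨u ≫ j ≫ (Subobject.underlyingIso ψ).inv, by simp [J', hψ, hu], ?_⟩
    exact hEss.comp (hEj.comp (ess_of_isIso _))
  have hle : J' ≤ J := hmax hJ' hJJ'
  let ψ' : cokernel D.arrow ⟶ (J : C) := (Subobject.underlyingIso ψ).inv ≫ Subobject.ofLE J' J hle
  have hψ' : ψ' ≫ J.arrow = ψ := by simp [ψ', J']
  refine ⟨(J : C), J.arrow, q ≫ ψ', u, ?_, hu, hEss⟩
  rw [← cancel_mono J.arrow, Category.assoc, Category.assoc, hψ', Category.id_comp]
  exact (Category.assoc _ _ _).symm.trans hψ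

end Groth.Agent.Lib.helper13.GD
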