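import Mathlib
import Groth.Agent.Lib.Helper13.GD1
import Groth.Agent.Lib.Helper13.GD2
import Groth.Agent.Lib.Helper13.GD4

/-!
# Gabriel decomposition, part 5: indecomposable injective summands (helper13)
-/

universe w v u

namespace Groth.Agent.Lib.helper13.GD

open CategoryTheory Category Limits

variable {C : Type u} [Category.{v} C] [Abelian C]

omit [Abelian C] in
lemma injective_of_retract {I J : C} [Injective I] (ι : J ⟶ I) (r : I ⟶ J) (h : ι ≫ r = 𝟙 J) :
    Injective J := by
  constructor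
  intro X Y g f _
  refine ⟨Injective.factorThru (g ≫ ι) f ≫ r, ?_⟩
  rw [← Category.assoc, Injective.comp_factorThru, Category.assoc, h, Category.comp_id]

lemma indec_of_iso {Y Y' : C} (e : Y ≅ Y') (h : Indec Y) : Indec Y' := by
  rintro A B ⟨e'⟩
  exact h A B ⟨e ≪≫ e'⟩

/-- every nonzero object has a nonzero Noetherian subobject -/
def HasNoethSub (C : Type u) [Category.{v} C] [Abelian C] : Prop :=
  ∀ M : C, ¬ IsZero M → ∃ (N : C) (i : N ⟶ M), Mono i ∧ IsNoetherianObject N ∧ ¬ IsZero N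

variable [IsGrothendieckAbelian.{w} C]

/-- every nonzero injective has a nonzero indecomposable (injective) retract -/
theorem exists_indec_retract (hG : HasNoethSub C) {I : C} [Injective I] (hI : ¬ IsZero I) :
    ∃ (J : C) (ι : J ⟶ I) (r : I ⟶ J), ι ≫ r = 𝟙 J ∧ ¬ IsZero J ∧ Indec J := by
  obtain ⟨N, i, hi, hN, hN0⟩ := hG I hI
  obtain ⟨A, a, ha, hA⟩ := exists_unif_sub hN0
  haveI : Mono (a ≫ i) := mono_comp _ _
  obtain ⟨J, ι, r, u, h1, h2, h3⟩ := exists_ess_retract.{w} (a ≫ i)
  haveI : Mono u := mono_of_mono_fac h2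
  refine ⟨J, ι, r, h1, ?_, indec_of_ess u h3 hA⟩
  intro hz
  exact hA.1 (isZero_of_mono_eq_zero u (hz.eq_of_tgt _ _))

end Groth.Agent.Lib.helper13.GD
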