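import Mathlib
import Groth.Agent.Lib.Helper13.GD5

/-!
# Gabriel decomposition, part 6: independent families and the decomposition theorem (helper13)
-/

universe w v u

namespace Groth.Agent.Lib.helper13.GD

open CategoryTheory Category Limits

attribute [local instance] IsFiltered.isConnected

variable {C : Type u} [Category.{v} C] [Abelian C]

/-- independence of a set of subobjects (finitary, in terms of generalized elements) -/
def Indep {I : C} (T : Set (Subobject I)) : Prop :=
  ∀ (κ : Type w) [Fintype κ] (x : κ → Subobject I), Function.Injective x → (∀ i, x i ∈ T) →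
    ∀ (Z : C) (k : ∀ i, Z ⟶ (x i : C)), ∑ i, k i ≫ (x i).arrow = 0 → ∀ i, k i = 0

lemma indep_sUnion {I : C} (c : Set (Set (Subobject I))) (hc : IsChain (· ⊆ ·) c) (hne : c.Nonempty)
    (h : ∀ T ∈ c, Indep.{w} T) : Indep.{w} (⋃₀ c) := by
  intro κ _ x hx hxT Z k hk
  have hfin : (Set.range x).Finite := Set.finite_range x
  have hsub : Set.range x ⊆ ⋃₀ c := by
    rintro _ ⟨i, rfl⟩
    exact hxT i
  obtain ⟨T, hT, hT'⟩ := DirectedOn.exists_mem_subset_of_finite_of_subset_sUnion hne hc.directedOn
    hfin hsub
  exact h T hT κ x hx (fun i => hT' ⟨i, rfl⟩) Z k hk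

theorem biproduct_desc_eq' {κ : Type w} [Fintype κ] {f : κ → C} [HasBiproduct f] {T : C}
    {g : ∀ j, f j ⟶ T} : biproduct.desc g = ∑ j, biproduct.π f j ≫ g j := by
  classical
  ext j
  simp [Preadditive.comp_sum, biproduct.ι_π_assoc, dite_comp]

variable [IsGrothendieckAbelian.{w} C]

open CoproductsFromFiniteFiltered in
set_option backward.defeqAttrib.useBackward true in
set_option backward.isDefEq.respectTransparency false in
/-- the coproduct of an independent family of subobjects maps monomorphically -/
theorem mono_sigma_desc {I : C} (T : Set (Subobject I)) (hT : Indep.{w} T) {ι : Type w}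
    (e : ι ≃ ↥T) : Mono (Sigma.desc (fun i : ι => (e i).1.arrow)) := by
  let J : ι → C := fun i => ((e i).1 : C)
  haveI : HasFiniteBiproducts C := HasFiniteBiproducts.of_hasFiniteProducts
  let α : liftToFinsetObj (Discrete.functor J) ⟶ (Functor.const _).obj I :=
    { app := fun S => Sigma.desc (fun x : S => (e x.1.as).1.arrow)
      naturality := fun S S' f => by
        apply Sigma.hom_ext
        intro x
        simp [liftToFinsetObj] }
  haveI : ∀ S, Mono (α.app S) := by
    intro S
    apply Preadditive.mono_of_cancel_zero
    intro Z z hz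
    let fS : ↥S → C := fun x => J x.1.as
    let aS : ∀ x : ↥S, fS x ⟶ I := fun x => (e x.1.as).1.arrow
    haveI : HasBiproduct fS :=
      (hasBiproductsOfShape_finite (C := C) (J := S)).has_biproduct _
    let z₁ : Z ⟶ ∐ fS := z
    have hz₁ : z₁ ≫ Sigma.desc aS = 0 := hz
    let z' : Z ⟶ ⨁ fS := z₁ ≫ (biproduct.isoCoproduct fS).inv
    have hz' : z' ≫ biproduct.desc aS = 0 := by
      have : (biproduct.isoCoproduct fS).inv ≫ biproduct.desc aS = Sigma.desc aS := by
        apply Sigma.hom_ext
        intro x
        rw [Sigma.ι_desc, ← Category.assoc]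
        simp [biproduct.isoCoproduct]
      rw [Category.assoc, this]
      exact hz₁
    rw [biproduct_desc_eq', Preadditive.comp_sum] at hz'
    have hk := hT S (fun x => (e x.1.as).1)
      (fun a b hab => by
        have h1 : e a.1.as = e b.1.as := Subtype.ext hab
        have h2 : a.1.as = b.1.as := e.injective h1
        exact Subtype.ext (Discrete.ext h2))
      (fun x => (e x.1.as).2) Z (fun x => z' ≫ biproduct.π fS x)
      (by simpa only [Category.assoc] using hz')
    have hz0 : z' = 0 := by
      apply biproduct.hom_ext
      intro x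
      rw [hk x, zero_comp]
    have : z₁ = z' ≫ (biproduct.isoCoproduct fS).hom := by
      rw [Category.assoc, Iso.inv_hom_id, Category.comp_id]
    show z₁ = 0
    rw [this, hz0, zero_comp]
  haveI := NatTrans.mono_of_mono_app α
  exact colim.map_mono' α (isColimitFiniteSubproductsCocone J) (isColimitConstCocone _ I)
    (Sigma.desc (fun i : ι => (e i).1.arrow))
    (fun S => by
      apply Sigma.hom_ext
      intro x
      simp [α, finiteSubcoproductsCocone])

end Groth.Agent.Lib.helper13.GD
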