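import Mathlib
import Groth.Agent.Lib.Helper13.GD6

/-!
# Gabriel decomposition, part 7: every injective is a coproduct of indecomposable injectives (helper13)
-/

universe w v u

namespace Groth.Agent.Lib.helper13.GD

open CategoryTheory Category Limits

variable {C : Type u} [Category.{v} C] [Abelian C] [IsGrothendieckAbelian.{w} C]

/-- **Gabriel–Matlis decomposition**: in a Grothendieck abelian category in which every nonzero
object has a nonzero Noetherian subobject and coproducts of injectives are injective, every injective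
object is a coproduct of nonzero indecomposable injectives. -/
theorem exists_decomposition (hG : HasNoethSub C)
    (hS : ∀ (ι : Type w) (J : ι → C), (∀ i, Injective (J i)) → Injective (∐ J))
    (I : C) [Injective I] :
    ∃ (ι : Type w) (J : ι → C), (∀ i, Injective (J i)) ∧ (∀ i, ¬ IsZero (J i)) ∧
      (∀ i, Indec (J i)) ∧ Nonempty (I ≅ ∐ J) := by
  classical
  let PP : Set (Subobject I) := {y | Injective (y : C) ∧ ¬ IsZero (y : C) ∧ Indec (y : C)}
  let ZZ : Set (Set (Subobject I)) := {T | T ⊆ PP ∧ Indep.{w} T}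
  obtain ⟨T, ⟨hTP, hTI⟩, hmax⟩ := zorn_subset ZZ (by
    intro c hc hchain
    by_cases hne : c.Nonempty
    · refine ⟨⋃₀ c, ⟨?_, indep_sUnion c hchain hne (fun T hT => (hc hT).2)⟩,
        fun s hs => Set.subset_sUnion_of_mem hs⟩
      rintro y ⟨T, hT, hy⟩
      exact (hc hT).1 hy
    · refine ⟨∅, ⟨Set.empty_subset _, ?_⟩, fun s hs => (hne ⟨s, hs⟩).elim⟩
      intro κ _ x hx hxT Z k hk i
      exact (hxT i).elim)
  let ι : Type w := Shrink.{w} ↥T
  let e : ι ≃ ↥T := (equivShrink ↥T).symm
  let J : ι → C := fun i => ((e i).1 : C)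
  have hJP : ∀ i, (e i).1 ∈ PP := fun i => hTP (e i).2
  haveI : ∀ i, Injective (J i) := fun i => (hJP i).1
  let s : (∐ J) ⟶ I := Sigma.desc (fun i : ι => (e i).1.arrow)
  haveI : Mono s := mono_sigma_desc T hTI e
  haveI : Injective (∐ J) := hS ι J inferInstance
  let r : I ⟶ ∐ J := Injective.factorThru (𝟙 _) s
  have hsr : s ≫ r = 𝟙 _ := Injective.comp_factorThru _ _
  let κ : kernel r ⟶ I := kernel.ι r
  have hκr : κ ≫ r = 0 := kernel.condition r
  let ρ' : I ⟶ kernel r := kernel.lift r (𝟙 I - r ≫ s) (by
    rw [Preadditive.sub_comp, Category.id_comp, Category.assoc, hsr, Category.comp_id, sub_self])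
  have hκρ : κ ≫ ρ' = 𝟙 _ := by
    rw [← cancel_mono κ, Category.assoc, kernel.lift_ι, Preadditive.comp_sub, Category.comp_id,
      ← Category.assoc, hκr, zero_comp, sub_zero, Category.id_comp]
  haveI : Injective (kernel r) := injective_of_retract κ ρ' hκρ
  refine ⟨ι, J, inferInstance, fun i => (hJP i).2.1, fun i => (hJP i).2.2, ?_⟩
  by_cases hz : IsZero (kernel r)
  · haveI : Mono r := Preadditive.mono_of_isZero_kernel _ hz
    have hrs : r ≫ s = 𝟙 I := by
      rw [← cancel_mono r, Category.assoc, hsr, Category.comp_id, Category.id_comp]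
    exact ⟨⟨r, s, hrs, hsr⟩⟩
  · exfalso
    obtain ⟨J', ι', r', h1, hJ'0, hJ'i⟩ := exists_indec_retract.{w} hG hz
    haveI : Injective J' := injective_of_retract ι' r' h1
    haveI : Mono ι' := mono_of_mono_fac h1
    haveI : Mono (ι' ≫ κ) := mono_comp _ _
    let J'' : Subobject I := Subobject.mk (ι' ≫ κ)
    let θ : (J'' : C) ≅ J' := Subobject.underlyingIso (ι' ≫ κ)
    have hJ''P : J'' ∈ PP :=
      ⟨Injective.of_iso θ.symm inferInstance, fun h => hJ'0 (h.of_iso θ.symm),
        indec_of_iso θ.symm hJ'i⟩
    have hJ''r : J''.arrow ≫ r = 0 := by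
      have : J''.arrow = θ.hom ≫ ι' ≫ κ := by simp [θ, J'']
      rw [this, Category.assoc, Category.assoc, hκr, comp_zero, comp_zero]
    have hTr : ∀ y ∈ T, y.arrow ≫ r ≫ s = y.arrow := by
      intro y hy
      obtain ⟨i, hi⟩ := e.surjective ⟨y, hy⟩
      obtain rfl : y = (e i).1 := by rw [hi]
      have : Sigma.ι J i ≫ s = (e i).1.arrow := Sigma.ι_desc _ _
      rw [← this, Category.assoc, ← Category.assoc s, hsr, Category.id_comp]
    have hJ''T : J'' ∉ T := by
      intro h
      have h0 : J''.arrow = 0 := by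
        rw [← hTr J'' h, ← Category.assoc, hJ''r, zero_comp]
      exact hJ''P.2.1 (isZero_of_mono_eq_zero J''.arrow h0)
    have hins : insert J'' T ∈ ZZ := by
      refine ⟨Set.insert_subset hJ''P hTP, ?_⟩
      intro κ' _ x hx hxT Z k hk
      have hsum : ∑ i, (k i ≫ (x i).arrow) ≫ r ≫ s = 0 := by
        rw [← Preadditive.sum_comp, hk, zero_comp]
      have hterm : ∀ i, (k i ≫ (x i).arrow) ≫ r ≫ s =
          if ¬ x i = J'' then k i ≫ (x i).arrow else 0 := by
        intro i
        by_cases hi : x i = J''
        · rw [if_neg (not_not.2 hi), Category.assoc]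
          have : (x i).arrow ≫ r = 0 := by rw [hi]; exact hJ''r
          rw [← Category.assoc (x i).arrow, this, zero_comp, comp_zero]
        · rw [if_pos hi, Category.assoc]
          have hiT : x i ∈ T := (Set.mem_insert_iff.1 (hxT i)).resolve_left hi
          rw [hTr _ hiT]
      simp_rw [hterm] at hsum
      rw [← Finset.sum_filter] at hsum
      have hsub := Finset.sum_subtype (Finset.univ.filter (fun i => ¬ x i = J''))
        (p := fun i => ¬ x i = J'') (F := inferInstance) (by intro i; simp)
        (fun i => k i ≫ (x i).arrow)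
      rw [hsub] at hsum
      have h0 := hTI {i // ¬ x i = J''} (fun i => x i.1)
        (fun a b hab => Subtype.ext (hx hab))
        (fun i => (Set.mem_insert_iff.1 (hxT i.1)).resolve_left i.2) Z (fun i => k i.1) hsum
      have hk0 : ∀ i, ¬ x i = J'' → k i = 0 := fun i hi => h0 ⟨i, hi⟩
      intro i
      by_cases hi : x i = J''
      · have hsingle : ∑ i', k i' ≫ (x i').arrow = k i ≫ (x i).arrow := by
          apply Finset.sum_eq_single i
          · intro b _ hb
            have : ¬ x b = J'' := fun hb' => hb (hx (hb'.trans hi.symm))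
            rw [hk0 b this, zero_comp]
          · intro h; exact (h (Finset.mem_univ i)).elim
        rw [hsingle] at hk
        rw [← cancel_mono (x i).arrow, hk, zero_comp]
      · exact hk0 i hi
    exact hJ''T (hmax hins (Set.subset_insert _ _) (Set.mem_insert _ _))

end Groth.Agent.Lib.helper13.GD
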