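import Mathlib
import Groth.Agent.Lib.Helper13.GD5

/-!
# Indecomposable injectives are uniform (helper13)
-/

universe w v u

namespace Groth.Agent.Lib.helper13.GD

open CategoryTheory Category Limits

variable {C : Type u} [Category.{v} C] [Abelian C]

/-- a retract splits off as a biproduct summand -/
noncomputable def isoBiprodOfRetract {E J : C} (ι : J ⟶ E) (r : E ⟶ J) (h : ι ≫ r = 𝟙 J) :
    E ≅ J ⊞ kernel r where
  hom := biprod.lift r (kernel.lift r (𝟙 E - r ≫ ι) (by
    rw [Preadditive.sub_comp, Category.id_comp, Category.assoc, h, Category.comp_id, sub_self]))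
  inv := biprod.desc ι (kernel.ι r)
  hom_inv_id := by
    rw [biprod.lift_desc, kernel.lift_ι]
    abel
  inv_hom_id := by
    apply biprod.hom_ext'
    · apply biprod.hom_ext
      · simp [h]
      · rw [← cancel_mono (kernel.ι r)]
        simp
        rw [← Category.assoc, h, Category.id_comp, sub_self]
    · apply biprod.hom_ext
      · simp
      · rw [← cancel_mono (kernel.ι r)]
        simp

variable [IsGrothendieckAbelian.{w} C]

/-- in an indecomposable injective object every nonzero subobject is essential -/
theorem ess_of_indec {E U : C} [Injective E] (hind : Indec E) (u₀ : U ⟶ E) [Mono u₀]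
    (hU : ¬ IsZero U) : Ess u₀ := by
  obtain ⟨J, ι, r, u, h1, h2, h3⟩ := exists_ess_retract.{w} u₀
  haveI : Mono u := mono_of_mono_fac h2
  have hJ : ¬ IsZero J := fun hz => hU (isZero_of_mono_eq_zero u (hz.eq_of_tgt _ _))
  have hK : IsZero (kernel r) := (hind _ _ ⟨isoBiprodOfRetract ι r h1⟩).resolve_left hJ
  haveI : Mono r := Preadditive.mono_of_isZero_kernel _ hK
  have hrι : r ≫ ι = 𝟙 E := by
    rw [← cancel_mono r, Category.assoc, h1, Category.comp_id, Category.id_comp]
  haveI : IsIso ι := ⟨r, h1, hrι⟩
  rw [← h2]
  exact h3.comp (ess_of_isIso ι)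

/-- in an indecomposable injective object two nonzero subobjects meet nontrivially -/
theorem not_isZero_pullback_of_indec {E U V : C} [Injective E] (hind : Indec E)
    (u : U ⟶ E) (v : V ⟶ E) [Mono u] [Mono v] (hU : ¬ IsZero U) (hV : ¬ IsZero V) :
    ¬ IsZero (pullback u v) := by
  intro hz
  have hess := ess_of_indec.{w} hind u hU
  have h1 : Mono (u ≫ cokernel.π v) := mono_comp_cokernel_of_isZero_pullback u v hz
  have h2 : Mono (cokernel.π v) := hess _ h1
  have h3 : v = 0 := by rw [← cancel_mono (cokernel.π v), cokernel.condition, zero_comp]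
  exact hV (isZero_of_mono_eq_zero v h3)

end Groth.Agent.Lib.helper13.GD
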