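import Mathlib
import Groth.Agent.Lib.Helper1.BaerAbstract

/-!
# Noetherian objects of Grothendieck abelian categories are compact for filtered colimits of monos

(helper13) `exists_factor`: a morphism from a Noetherian object to a filtered colimit with monomorphic
cocone legs factors through one of the terms; `exists_factor_sigma`: a morphism from a Noetherian object
to a coproduct factors through a finite subcoproduct; `injective_sigma`: abstract form of
"coproducts of injectives are injective in a locally Noetherian Grothendieck category".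
-/

universe w v u

namespace Groth.Agent.Lib.helper13.NoethCompact

open CategoryTheory Category Limits Opposite

attribute [local instance] IsFiltered.isConnected

variable {C : Type u} [Category.{v} C] [Abelian C] [IsGrothendieckAbelian.{w} C]

/-- Noetherian analogue of `IsGrothendieckAbelian.exists_isIso_of_functor_from_monoOver`. -/
lemma exists_isIso_of_functor_from_monoOver {X : C} [IsNoetherianObject X]
    {J : Type w} [SmallCategory J] [IsFiltered J] (F : J ⥤ MonoOver X)
    (c : Cocone (F ⋙ MonoOver.forget _ ⋙ Over.forget _)) (hc : IsColimit c)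
    (f : c.pt ⟶ X) (hf : ∀ (j : J), c.ι.app j ≫ f = (F.obj j).obj.hom) (h : Epi f) :
    ∃ (j : J), IsIso (F.obj j).obj.hom := by
  have := IsGrothendieckAbelian.mono_of_isColimit_monoOver F hc f hf
  rw [Subobject.epi_iff_mk_eq_top f,
    IsGrothendieckAbelian.subobjectMk_of_isColimit_eq_iSup F hc f hf] at h
  let s (j : J) : Subobject X := Subobject.mk (F.obj j).obj.hom
  have hne : (Set.range s).Nonempty := ⟨s (Classical.arbitrary J), ⟨_, rfl⟩⟩
  obtain ⟨_, ⟨j, rfl⟩, hj⟩ := (wellFounded_gt (α := Subobject X)).has_min (Set.range s) hne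
  refine ⟨j, ?_⟩
  rw [Subobject.isIso_iff_mk_eq_top, ← top_le_iff, ← h, iSup_le_iff]
  intro j'
  have h1 : s j ≤ s (IsFiltered.max j j') :=
    MonoOver.subobjectMk_le_mk_of_hom (F.map (IsFiltered.leftToMax j j'))
  have h2 : s j' ≤ s (IsFiltered.max j j') :=
    MonoOver.subobjectMk_le_mk_of_hom (F.map (IsFiltered.rightToMax j j'))
  have h3 : s (IsFiltered.max j j') = s j := by
    by_contra hne'
    exact hj _ ⟨_, rfl⟩ (lt_of_le_of_ne h1 (Ne.symm hne'))
  exact h2.trans h3.le

set_option backward.defeqAttrib.useBackward true in
set_option backward.isDefEq.respectTransparency false in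
/-- A morphism from a Noetherian object to a filtered colimit with monomorphic legs factors through a
term of the diagram. -/
theorem exists_factor {X : C} [IsNoetherianObject X]
    {J : Type w} [SmallCategory J] [IsFiltered J] {Y : J ⥤ C} {c : Cocone Y} (hc : IsColimit c)
    [Mono c.ι] (z : X ⟶ c.pt) :
    ∃ (j₀ : J) (y : X ⟶ Y.obj j₀), z = y ≫ c.ι.app j₀ := by
  obtain ⟨j, _⟩ := exists_isIso_of_functor_from_monoOver
    (IsGrothendieckAbelian.IsPresentable.surjectivity.F z) _
    (colimit.isColimit _) (IsGrothendieckAbelian.IsPresentable.surjectivity.f z)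
    (IsGrothendieckAbelian.IsPresentable.surjectivity.hf z)
    (IsGrothendieckAbelian.IsPresentable.surjectivity.epi_f hc z)
  refine ⟨j, inv ((IsGrothendieckAbelian.IsPresentable.surjectivity.F z).obj j).obj.hom ≫
    (pullback.fst c.ι _).app j, ?_⟩
  dsimp
  rw [Category.assoc, IsIso.eq_inv_comp, ← NatTrans.comp_app, pullback.condition,
    NatTrans.comp_app, Functor.const_map_app]

open CoproductsFromFiniteFiltered in
set_option backward.defeqAttrib.useBackward true in
set_option backward.isDefEq.respectTransparency false in
open Classical in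
lemma mono_finiteSubcoproductsCocone_ι_app {α : Type w} (f : α → C) (S : Finset (Discrete α)) :
    Mono ((finiteSubcoproductsCocone f).ι.app S) := by
  let r : (∐ f) ⟶ ∐ fun x : S => f x.1.as :=
    Sigma.desc (fun a => if h : (⟨a⟩ : Discrete α) ∈ S then
      Sigma.ι (fun x : S => f x.1.as) ⟨⟨a⟩, h⟩ else 0)
  have hr : (finiteSubcoproductsCocone f).ι.app S ≫ r = 𝟙 _ := by
    apply Sigma.hom_ext
    rintro ⟨⟨a⟩, ha⟩
    simp [r, ha]
  exact mono_of_mono_fac hr

open CoproductsFromFiniteFiltered in
/-- A morphism from a Noetherian object to a coproduct factors through a finite subcoproduct. -/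
theorem exists_factor_sigma {X : C} [IsNoetherianObject X] {α : Type w} (f : α → C) (z : X ⟶ ∐ f) :
    ∃ (S : Finset (Discrete α)) (y : X ⟶ ∐ fun x : S => f x.1.as),
      z = y ≫ Sigma.desc (fun s => Sigma.ι f s.1.as) := by
  have : ∀ S, Mono ((finiteSubcoproductsCocone f).ι.app S) :=
    mono_finiteSubcoproductsCocone_ι_app f
  have : Mono (finiteSubcoproductsCocone f).ι := NatTrans.mono_of_mono_app _
  obtain ⟨S, y, hy⟩ := exists_factor (isColimitFiniteSubproductsCocone f) z
  exact ⟨S, y, hy⟩

/-- Abstract form of: in a locally Noetherian Grothendieck category, coproducts of injectives are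
injective.  `W` is a class of test monomorphisms with Noetherian sources satisfying the hypotheses of
the abstract Baer criterion. -/
theorem injective_sigma {W : MorphismProperty C} (hW : Groth.Agent.H1.Baer.Hyp W)
    (hM : ∀ {A B : C} (i : A ⟶ B), W i → Mono i)
    (hN : ∀ {A B : C} (i : A ⟶ B), W i → IsNoetherianObject A)
    {α : Type w} (I : α → C) (hI : ∀ a, Injective (I a)) : Injective (∐ I) := by
  apply Groth.Agent.H1.Baer.injective_of_rlp.{w} hW
  intro A B i hi
  constructor
  intro a b sq
  haveI := hM i hi
  haveI := hN i hi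
  obtain ⟨S, y, hy⟩ := exists_factor_sigma I a
  haveI : ∀ x : S, Injective (I x.1.as) := fun x => hI _
  haveI : HasFiniteBiproducts C := HasFiniteBiproducts.of_hasFiniteProducts
  haveI : HasBiproduct (fun x : S => I x.1.as) :=
    (hasBiproductsOfShape_finite (C := C) (J := S)).has_biproduct _
  haveI : Injective (∐ fun x : S => I x.1.as) :=
    Injective.of_iso (biproduct.isoCoproduct _) inferInstance
  refine ⟨⟨{ l := Injective.factorThru y i ≫ Sigma.desc (fun s => Sigma.ι I s.1.as)
             fac_left := ?_
             fac_right := (isZero_zero _).eq_of_tgt _ _ }⟩⟩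
  rw [← Category.assoc, Injective.comp_factorThru, ← hy]

end Groth.Agent.Lib.helper13.NoethCompact
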