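import Mathlib
import Groth.Prelude.Def_CxOX
import Groth.Agent.Lib.Helper21.SchShriek
import Groth.Agent.Lib.Helper2.ModSec
import Groth.Agent.Lib.Helper11.OverGen

/-!
# `j_! O_U` is a Noetherian object (helper13)

* `exists_stable`: an increasing sequence of "open" families of ideals of a Noetherian ring indexed by the points
  of a Noetherian sober space is stationary (Noetherian induction).
* `core`: on an affine Noetherian scheme `U`, an increasing sequence of submodules of `O_U` (arbitrary
  sub-`O_U`-modules, not necessarily quasi-coherent) is stationary.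
* `isIso_counit_of_mono`, `isIso_of_isIso_map`: for an adjunction `L ⊣ R` of exact functors whose counits are
  monomorphisms, a morphism between subobjects of `L G₀` which becomes invertible under `R` is invertible.
* `adj' j : L' j ⊣ restrictFunctor j` for a general open immersion `j` (transfer of helper21's `shriek`),
  with `mono_adj'_counit_app`, `preservesFiniteLimits_L'`.
* `main`: for `j : U ⟶ X` an open immersion, `U` affine, `X` locally Noetherian: ACC for subobjects of
  `CxOX.extZeroUnit j`.
-/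

set_option autoImplicit false
universe u
open CategoryTheory CategoryTheory.Limits AlgebraicGeometry Opposite TopologicalSpace
open AlgebraicGeometry.Scheme.Modules

namespace Groth.Agent.Lib.helper13.NoethShriek

section Abstract

variable {T : Type*} [TopologicalSpace T] [NoetherianSpace T] [QuasiSober T]
  {A : Type*} [CommRing A] [IsNoetherianRing A]

/-- stabilisation of an increasing sequence of "open" families of ideals on a Noetherian sober space -/
theorem exists_stable (I : ℕ → T → Ideal A)
    (hmono : ∀ n m, n ≤ m → ∀ x, I n x ≤ I m x)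
    (hopen : ∀ n x b, b ∈ I n x → ∃ W : Opens T, x ∈ W ∧ ∀ y ∈ W, b ∈ I n y) :
    ∃ n0, ∀ m, n0 ≤ m → ∀ x, I m x = I n0 x := by
  -- statement for closed subsets
  have key : ∀ Z : Closeds T, ∃ n0, ∀ m, n0 ≤ m → ∀ x ∈ Z, I m x = I n0 x := by
    intro Z
    apply wellFounded_lt.induction Z; clear Z
    intro s H
    rcases eq_or_ne s ⊥ with rfl | h₀
    · exact ⟨0, fun m _ x hx => absurd hx (Set.notMem_empty x)⟩
    · by_cases h₁ : IsPreirreducible (s : Set T)
      · replace h₁ : IsIrreducible (s : Set T) := ⟨Closeds.coe_nonempty.2 h₀, h₁⟩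
        obtain ⟨ξ, hξ⟩ := QuasiSober.sober h₁ s.isClosed
        -- stabilisation at the generic point
        obtain ⟨n0, hn0⟩ : ∃ n0, ∀ m, n0 ≤ m → I m ξ = I n0 ξ := by
          have := (monotone_stabilizes_iff_noetherian (R := A) (M := A)).mpr inferInstance
            ⟨fun n => I n ξ, fun n m h => hmono n m h ξ⟩
          obtain ⟨n0, h⟩ := this
          exact ⟨n0, fun m hm => (h m hm).symm⟩
        -- generators
        obtain ⟨gens, hgens⟩ := (isNoetherianRing_iff_ideal_fg A).mp inferInstance (I n0 ξ)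
        -- a common open neighbourhood
        have hW : ∀ (t : Finset A), (∀ b ∈ t, b ∈ I n0 ξ) →
            ∃ W : Opens T, ξ ∈ W ∧ ∀ b ∈ t, ∀ y ∈ W, b ∈ I n0 y := by
          classical
          intro t
          induction t using Finset.induction_on with
          | empty => intro _; exact ⟨⊤, trivial, fun b hb => absurd hb (Finset.notMem_empty b)⟩
          | insert a t ha ih =>
            intro h
            obtain ⟨W1, hξ1, h1⟩ := ih (fun b hb => h b (Finset.mem_insert_of_mem hb))
            obtain ⟨W2, hξ2, h2⟩ := hopen n0 ξ a (h a (Finset.mem_insert_self a t))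
            refine ⟨W1 ⊓ W2, ⟨hξ1, hξ2⟩, fun b hb y hy => ?_⟩
            rcases Finset.mem_insert.mp hb with rfl | hb
            · exact h2 y hy.2
            · exact h1 b hb y hy.1
        obtain ⟨W, hξW, hWg⟩ := hW gens (fun b hb => hgens ▸ Ideal.subset_span hb)
        have hsW : ∀ m, n0 ≤ m → ∀ y ∈ s, y ∈ W → I m y = I n0 y := by
          intro m hm y hys hyW
          refine le_antisymm (fun c hc => ?_) (hmono n0 m hm y)
          obtain ⟨W', hy', hc'⟩ := hopen m y c hc
          have hsp : ξ ⤳ y := hξ.specializes hys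
          have hξW' : ξ ∈ W' := hsp.mem_open W'.isOpen hy'
          have h1 : c ∈ I n0 ξ := hn0 m hm ▸ hc' ξ hξW'
          rw [← hgens] at h1
          exact (Ideal.span_le.mpr (fun b hb => hWg b hb y hyW)) h1
        let s' : Closeds T := ⟨(s : Set T) ∩ (W : Set T)ᶜ, s.isClosed.inter W.isOpen.isClosed_compl⟩
        have hξs : ξ ∈ s := hξ.mem
        have hlt : s' < s := by
          refine lt_of_le_of_ne (fun x hx => hx.1) (fun h => ?_)
          have : ξ ∈ s' := h ▸ hξs
          exact this.2 hξW
        obtain ⟨n1, h1⟩ := H s' hlt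
        refine ⟨max n0 n1, fun m hm x hx => ?_⟩
        by_cases hxW : x ∈ W
        · rw [hsW m ((le_max_left _ _).trans hm) x hx hxW, hsW _ (le_max_left _ _) x hx hxW]
        · rw [h1 m ((le_max_right _ _).trans hm) x ⟨hx, hxW⟩,
            h1 _ (le_max_right _ _) x ⟨hx, hxW⟩]
      · simp only [isPreirreducible_iff_isClosed_union_isClosed, not_forall, not_or] at h₁
        obtain ⟨z₁, z₂, hz₁, hz₂, h, hz₁', hz₂'⟩ := h₁
        lift z₁ to Closeds T using hz₁
        lift z₂ to Closeds T using hz₂
        obtain ⟨n1, h1⟩ := H (s ⊓ z₁) (inf_lt_left.2 hz₁')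
        obtain ⟨n2, h2⟩ := H (s ⊓ z₂) (inf_lt_left.2 hz₂')
        refine ⟨max n1 n2, fun m hm x hx => ?_⟩
        rcases h hx with hx1 | hx2
        · rw [h1 m ((le_max_left _ _).trans hm) x ⟨hx, hx1⟩,
            h1 (max n1 n2) (le_max_left _ _) x ⟨hx, hx1⟩]
        · rw [h2 m ((le_max_right _ _).trans hm) x ⟨hx, hx2⟩,
            h2 (max n1 n2) (le_max_right _ _) x ⟨hx, hx2⟩]
  obtain ⟨n0, h⟩ := key ⊤
  exact ⟨n0, fun m hm x => h m hm x trivial⟩

end Abstract

noncomputable section Core

variable (U : Scheme.{u})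

/-- the structure sheaf as a module -/
abbrev OU : U.Modules := SheafOfModules.unit U.ringCatSheaf

/-- a section of the structure sheaf as a section of the structure module -/
def toSec {W : U.Opens} (b : Γ(U, W)) : (OU U).val.obj (op W) := b

/-- a section of the structure sheaf as an element of the ring of sections -/
def toRg {W : U.Opens} (b : Γ(U, W)) : U.ringCatSheaf.obj.obj (op W) := b

/-- restriction of sections of the structure sheaf -/
def rs {W V : U.Opens} (h : V ≤ W) (b : Γ(U, W)) : Γ(U, V) := (U.presheaf.map (homOfLE h).op).hom b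

variable {U}

lemma rs_rs {W V V' : U.Opens} (h : V ≤ W) (h' : V' ≤ V) (b : Γ(U, W)) :
    rs U h' (rs U h b) = rs U (h'.trans h) b := by
  unfold rs
  rw [← CommRingCat.comp_apply, ← Functor.map_comp]
  rfl

lemma rs_add {W V : U.Opens} (h : V ≤ W) (b c : Γ(U, W)) : rs U h (b + c) = rs U h b + rs U h c :=
  map_add _ _ _

lemma rs_mul {W V : U.Opens} (h : V ≤ W) (b c : Γ(U, W)) : rs U h (b * c) = rs U h b * rs U h c :=
  map_mul _ _ _

lemma rs_pow {W V : U.Opens} (h : V ≤ W) (b : Γ(U, W)) (k : ℕ) : rs U h (b ^ k) = rs U h b ^ k :=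
  map_pow _ _ _

lemma rs_zero {W V : U.Opens} (h : V ≤ W) : rs U h (0 : Γ(U, W)) = 0 := map_zero _

lemma toSec_rs {W V : U.Opens} (h : V ≤ W) (b : Γ(U, W)) :
    ((OU U).val.map (homOfLE h).op) (toSec U b) = toSec U (rs U h b) := rfl

lemma toSec_add {W : U.Opens} (b c : Γ(U, W)) : toSec U (b + c) = toSec U b + toSec U c := rfl

lemma toSec_zero {W : U.Opens} : toSec U (0 : Γ(U, W)) = 0 := rfl

lemma toSec_mul {W : U.Opens} (r b : Γ(U, W)) : toSec U (r * b) = toRg U r • toSec U b := rfl

lemma toSec_injective {W : U.Opens} : Function.Injective (toSec U (W := W)) := fun _ _ h => h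

variable {K : U.Modules} (a : K ⟶ OU U)

lemma app_res {W V : U.Opens} (h : V ≤ W) (τ : K.val.obj (op W)) (s : Γ(U, W))
    (hτ : (a.val.app (op W)) τ = toSec U s) :
    (a.val.app (op V)) ((K.val.map (homOfLE h).op) τ) = toSec U (rs U h s) := by
  have := PresheafOfModules.naturality_apply a.val (homOfLE h).op τ
  exact this.trans ((congrArg _ hτ).trans (toSec_rs h s))

lemma app_add {W : U.Opens} (τ τ' : K.val.obj (op W)) :
    (a.val.app (op W)) (τ + τ') = (a.val.app (op W)) τ + (a.val.app (op W)) τ' :=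
  map_add (a.val.app (op W)).hom τ τ'

lemma app_smul {W : U.Opens} (r : U.ringCatSheaf.obj.obj (op W)) (τ : K.val.obj (op W)) :
    (a.val.app (op W)) (r • τ) = r • (a.val.app (op W)) τ :=
  map_smul (a.val.app (op W)).hom r τ

lemma app_zero {W : U.Opens} : (a.val.app (op W)) (0 : K.val.obj (op W)) = 0 :=
  map_zero (a.val.app (op W)).hom

/-- the family of ideals of `Γ(U, ⊤)` attached to a morphism into the structure module -/
def idl (x : U) : Ideal Γ(U, ⊤) where
  carrier := {b | ∃ (W : U.Opens), x ∈ W ∧ ∃ τ : K.val.obj (op W),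
    (a.val.app (op W)) τ = toSec U (rs U le_top b)}
  zero_mem' := ⟨⊤, trivial, 0, (app_zero a).trans (by rw [rs_zero]; rfl)⟩
  add_mem' := by
    rintro b c ⟨W, hxW, τ, hτ⟩ ⟨W', hxW', τ', hτ'⟩
    refine ⟨W ⊓ W', ⟨hxW, hxW'⟩, (K.val.map (homOfLE inf_le_left).op) τ +
      (K.val.map (homOfLE inf_le_right).op) τ', ?_⟩
    refine (app_add a _ _).trans ?_
    refine (congrArg₂ (· + ·) (app_res a inf_le_left τ _ hτ) (app_res a inf_le_right τ' _ hτ')).trans ?_
    rw [rs_rs, rs_rs, rs_add, toSec_add]
  smul_mem' := by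
    rintro r b ⟨W, hxW, τ, hτ⟩
    refine ⟨W, hxW, toRg U (rs U (le_top : W ≤ ⊤) r) • τ, ?_⟩
    refine (app_smul a _ _).trans ?_
    refine (congrArg (fun z => toRg U (rs U (le_top : W ≤ ⊤) r) • z) hτ).trans ?_
    rw [smul_eq_mul, rs_mul, toSec_mul]

lemma mem_idl {x : U} {b : Γ(U, ⊤)} : b ∈ idl a x ↔ ∃ (W : U.Opens), x ∈ W ∧ ∃ τ : K.val.obj (op W),
    (a.val.app (op W)) τ = toSec U (rs U le_top b) := Iff.rfl

lemma injective_app_of_mono {K L : U.Modules} (φ : K ⟶ L) [Mono φ] (W : U.Opens) :
    Function.Injective (φ.val.app (op W)) := by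
  have h := (Groth.Agent.Lib.helper2.ModSec.mono_iff_injective_app φ).mp inferInstance W
  exact h

lemma comp_val_app_apply {K L M : U.Modules} (φ : K ⟶ L) (ψ : L ⟶ M) (W : U.Opens)
    (τ : K.val.obj (op W)) :
    ((φ ≫ ψ).val.app (op W)) τ = (ψ.val.app (op W)) ((φ.val.app (op W)) τ) := rfl


theorem core [IsAffine U] [NoetherianSpace U] [IsNoetherianRing Γ(U, ⊤)]
    (K : ℕ → U.Modules) (a : ∀ n, K n ⟶ OU U) (ha : ∀ n, Mono (a n))
    (t : ∀ n m, n ≤ m → (K n ⟶ K m)) (ht : ∀ n m h, t n m h ≫ a m = a n) :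
    ∃ n0, ∀ m (h : n0 ≤ m), IsIso (t n0 m h) := by
  have hmono : ∀ n m, n ≤ m → ∀ x, idl (a n) x ≤ idl (a m) x := by
    rintro n m h x b ⟨W, hxW, τ, hτ⟩
    refine ⟨W, hxW, ((t n m h).val.app (op W)) τ, ?_⟩
    rw [← comp_val_app_apply, ← hτ]
    exact congrArg (fun φ => (φ.val.app (op W)) τ) (ht n m h)
  have hopen : ∀ n x b, b ∈ idl (a n) x → ∃ W : Opens U, x ∈ W ∧ ∀ y ∈ W, b ∈ idl (a n) y := by
    rintro n x b ⟨W, hxW, τ, hτ⟩
    exact ⟨W, hxW, fun y hy => ⟨W, hy, τ, hτ⟩⟩
  obtain ⟨n0, hn0⟩ := exists_stable (fun n x => idl (a n) x) hmono hopen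
  refine ⟨n0, fun m h => ?_⟩
  haveI := ha n0
  haveI := ha m
  haveI : Mono (t n0 m h) := mono_of_mono_fac (ht n0 m h)
  haveI : Epi (t n0 m h) := by
    apply Groth.Agent.Lib.helper11.OverGen.epi_of_locally_surjective
    intro W y
    let S : Sieve W :=
      { arrows := fun V f => ∃ x : (K n0).val.obj (op V),
          ((t n0 m h).val.app (op V)) x = ((K m).val.map f.op) y
        downward_closed := by
          rintro V V' f ⟨x, hx⟩ g
          refine ⟨((K n0).val.map g.op) x, ?_⟩
          have h1 := PresheafOfModules.naturality_apply (t n0 m h).val g.op x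
          refine h1.trans ?_
          refine (congrArg _ hx).trans ?_
          exact (PresheafOfModules.map_comp_apply (K m).val f.op g.op y).symm }
    refine ⟨S, ?_, fun V f hf => hf⟩
    intro x hxW
    obtain ⟨_, ⟨g, rfl⟩, hxg, hgW'⟩ := Opens.isBasis_iff_nbhd.mp (isBasis_basicOpen U) hxW
    let yg : (K m).val.obj (op (U.basicOpen g)) := ((K m).val.map (homOfLE hgW').op) y
    let z : Γ(U, U.basicOpen g) := ((a m).val.app (op (U.basicOpen g))) yg
    obtain ⟨⟨b, ⟨_, k, rfl⟩⟩, hb⟩ := IsLocalization.surj (Submonoid.powers g) z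
    have hb' : z * (rs U le_top g) ^ k = rs U le_top b := by
      have e1 : algebraMap Γ(U, ⊤) Γ(U, U.basicOpen g) b = rs U le_top b := rfl
      have e2 : algebraMap Γ(U, ⊤) Γ(U, U.basicOpen g) (g ^ k) = (rs U le_top g) ^ k := by
        rw [map_pow]; rfl
      rw [← e1, ← e2]
      exact hb
    have hbI : b ∈ idl (a m) x := by
      refine ⟨U.basicOpen g, hxg, toRg U ((rs U (le_top : U.basicOpen g ≤ ⊤) g) ^ k) • yg, ?_⟩
      refine (app_smul (a m) _ _).trans ?_
      show toRg U ((rs U (le_top : U.basicOpen g ≤ ⊤) g) ^ k) • toSec U z = toSec U (rs U le_top b)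
      rw [← toSec_mul, mul_comm, hb']
    rw [hn0 m h x] at hbI
    obtain ⟨V, hxV, σ, hσ⟩ := hbI
    refine ⟨V ⊓ U.basicOpen g, homOfLE (inf_le_right.trans hgW'), ?_, ⟨hxV, hxg⟩⟩
    have hu : IsUnit (rs U (inf_le_right : V ⊓ U.basicOpen g ≤ U.basicOpen g) (rs U le_top g)) :=
      (U.toRingedSpace.isUnit_res_basicOpen g).map
        (U.presheaf.map (homOfLE (inf_le_right : V ⊓ U.basicOpen g ≤ U.basicOpen g)).op).hom
    obtain ⟨u, hu'⟩ := hu
    let v : Γ(U, V ⊓ U.basicOpen g) := ((u⁻¹ : Units _) : Γ(U, V ⊓ U.basicOpen g))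
    have huv : (rs U (inf_le_right : V ⊓ U.basicOpen g ≤ U.basicOpen g) (rs U le_top g)) * v = 1 := by
      rw [← hu']; exact Units.mul_inv u
    refine ⟨toRg U (v ^ k) • ((K n0).val.map (homOfLE inf_le_left).op) σ, ?_⟩
    apply injective_app_of_mono (a m)
    -- left side
    have hL : ((a m).val.app (op (V ⊓ U.basicOpen g)))
        (((t n0 m h).val.app (op (V ⊓ U.basicOpen g)))
          (toRg U (v ^ k) • ((K n0).val.map (homOfLE inf_le_left).op) σ)) =
        toSec U (v ^ k * rs U le_top b) := by
      rw [← comp_val_app_apply]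
      have e3 : ((t n0 m h ≫ a m).val.app (op (V ⊓ U.basicOpen g)))
          (toRg U (v ^ k) • ((K n0).val.map (homOfLE inf_le_left).op) σ) =
          ((a n0).val.app (op (V ⊓ U.basicOpen g)))
          (toRg U (v ^ k) • ((K n0).val.map (homOfLE inf_le_left).op) σ) :=
        congrArg (fun φ => (φ.val.app (op (V ⊓ U.basicOpen g)))
          (toRg U (v ^ k) • ((K n0).val.map (homOfLE inf_le_left).op) σ)) (ht n0 m h)
      refine e3.trans ?_
      refine (app_smul (a n0) _ _).trans ?_
      refine (congrArg (fun w => toRg U (v ^ k) • w) (app_res (a n0) inf_le_left σ _ hσ)).trans ?_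
      rw [rs_rs, toSec_mul]
    -- right side
    have hR : ((a m).val.app (op (V ⊓ U.basicOpen g)))
        (((K m).val.map (homOfLE (inf_le_right.trans hgW') : V ⊓ U.basicOpen g ⟶ W).op) y) =
        toSec U (rs U inf_le_right z) := by
      have e4 : ((K m).val.map (homOfLE (inf_le_right.trans hgW') : V ⊓ U.basicOpen g ⟶ W).op) y =
          ((K m).val.map (homOfLE (inf_le_right : V ⊓ U.basicOpen g ≤ U.basicOpen g)).op) yg :=
        PresheafOfModules.map_comp_apply (K m).val (homOfLE hgW').op (homOfLE inf_le_right).op y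
      rw [e4]
      exact app_res (a m) inf_le_right yg z rfl
    refine hL.trans (Eq.trans ?_ hR.symm)
    congr 1
    -- v^k * rs b = rs z
    have e5 : rs U (inf_le_right : V ⊓ U.basicOpen g ≤ U.basicOpen g) z *
        (rs U inf_le_right (rs U le_top g)) ^ k = rs U le_top b := by
      rw [← rs_pow, ← rs_mul, hb', rs_rs]
    rw [← e5]
    have : (rs U (inf_le_right : V ⊓ U.basicOpen g ≤ U.basicOpen g) (rs U le_top g)) ^ k * v ^ k = 1 := by
      rw [← mul_pow, huv, one_pow]
    calc v ^ k * (rs U inf_le_right z * (rs U inf_le_right (rs U le_top g)) ^ k)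
        = rs U inf_le_right z * ((rs U inf_le_right (rs U le_top g)) ^ k * v ^ k) := by ring
      _ = rs U inf_le_right z := by rw [this, mul_one]
  exact isIso_of_mono_of_epi _

end Core

section AbstractCat

variable {C D : Type*} [Category C] [Category D] [Abelian C] [Abelian D]
  {L : D ⥤ C} {R : C ⥤ D} (adj : L ⊣ R) [PreservesFiniteLimits L] [PreservesFiniteLimits R]
  [L.Additive] [R.Additive]

include adj in
/-- if all counits are monomorphisms, the counit at a subobject of an object where the counit is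
invertible is invertible -/
theorem isIso_counit_of_mono (hc : ∀ M, Mono (adj.counit.app M)) {E K' : C} (k' : K' ⟶ E) [Mono k']
    (hE : IsIso (adj.counit.app E)) : IsIso (adj.counit.app K') := by
  let G := R ⋙ L
  let S := ShortComplex.mk k' (cokernel.π k') (cokernel.condition k')
  have hS : S.Exact := ShortComplex.exact_cokernel k'
  haveI : Mono S.f := inferInstanceAs (Mono k')
  have hGS : (S.map G).Exact := hS.map_of_mono_of_preservesKernel G inferInstance inferInstance
  haveI : Mono (S.map G).f := inferInstanceAs (Mono (G.map k'))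
  let w : K' ⟶ G.obj E := k' ≫ inv (adj.counit.app E)
  have hw' : w ≫ G.map (cokernel.π k') = 0 := by
    haveI := hc (cokernel k')
    rw [← cancel_mono (adj.counit.app (cokernel k'))]
    have h1 : G.map (cokernel.π k') ≫ adj.counit.app (cokernel k') =
        adj.counit.app E ≫ cokernel.π k' :=
      adj.counit.naturality (cokernel.π k')
    rw [Category.assoc, h1, zero_comp]
    simp [w]
  have hw : w ≫ (S.map G).g = 0 := hw'
  let s : K' ⟶ G.obj K' := hGS.lift w hw
  have hs : s ≫ G.map k' = w := hGS.lift_f w hw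
  have hsc : s ≫ adj.counit.app K' = 𝟙 K' := by
    rw [← cancel_mono k', Category.assoc, Category.id_comp]
    have h2 : adj.counit.app K' ≫ k' = G.map k' ≫ adj.counit.app E :=
      (adj.counit.naturality k').symm
    rw [h2, ← Category.assoc, hs]
    simp [w]
  haveI : IsSplitEpi (adj.counit.app K') := IsSplitEpi.mk' ⟨s, hsc⟩
  haveI := hc K'
  exact isIso_of_mono_of_epi _

include adj in
/-- the counit at `L G₀` is invertible when all counits are monomorphisms -/
theorem isIso_counit_of_iso (hc : ∀ M, Mono (adj.counit.app M)) {E : C} (G₀ : D) (ε : E ≅ L.obj G₀) :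
    IsIso (adj.counit.app E) := by
  haveI : IsSplitEpi (adj.counit.app (L.obj G₀)) :=
    IsSplitEpi.mk' ⟨L.map (adj.unit.app G₀), adj.left_triangle_components G₀⟩
  haveI := hc (L.obj G₀)
  haveI : IsIso (adj.counit.app (L.obj G₀)) := isIso_of_mono_of_epi _
  have h : adj.counit.app E = L.map (R.map ε.hom) ≫ adj.counit.app (L.obj G₀) ≫ ε.inv := by
    have := adj.counit.naturality ε.hom
    simp only [Functor.comp_obj, Functor.id_obj, Functor.comp_map, Functor.id_map] at this
    rw [← Category.assoc, this, Category.assoc, Iso.hom_inv_id, Category.comp_id]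
  rw [h]
  infer_instance

include adj in
/-- a morphism between subobjects of `L G₀` which becomes invertible under `R` is invertible -/
theorem isIso_of_isIso_map (hc : ∀ M, Mono (adj.counit.app M)) {E K K' : C} (G₀ : D)
    (ε : E ≅ L.obj G₀) (k : K ⟶ E) (k' : K' ⟶ E) [Mono k] [Mono k'] (i : K ⟶ K')
    (hi : i ≫ k' = k) (hR : IsIso (R.map i)) : IsIso i := by
  have hE := isIso_counit_of_iso adj hc G₀ ε
  haveI := isIso_counit_of_mono adj hc k' hE
  haveI : Mono i := mono_of_mono_fac hi
  have h : adj.counit.app K ≫ i = L.map (R.map i) ≫ adj.counit.app K' :=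
    (adj.counit.naturality i).symm
  haveI : Epi (L.map (R.map i) ≫ adj.counit.app K') := epi_comp _ _
  haveI : Epi (adj.counit.app K ≫ i) := h ▸ inferInstance
  haveI : Epi i := epi_of_epi (adj.counit.app K) i
  exact isIso_of_mono_of_epi i

end AbstractCat

noncomputable section Transfer

variable {U X : Scheme.{u}} (j : U ⟶ X) [IsOpenImmersion j]

/-- the range of `j` -/
abbrev rg : X.Opens := j.opensRange

/-- `U ≅ range j` -/
abbrev eU : U ≅ (rg j : Scheme.{u}) := j.isoOpensRange

lemma eU_hom_ι : (eU j).hom ≫ (rg j).ι = j := j.isoOpensRange_hom_ι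

/-- restriction along `U ≅ range j` -/
abbrev Re : (rg j : Scheme.{u}).Modules ⥤ U.Modules := restrictFunctor (eU j).hom

/-- restriction along the inverse -/
abbrev Fe : U.Modules ⥤ (rg j : Scheme.{u}).Modules := restrictFunctor (eU j).inv

/-- the equivalence of module categories induced by `U ≅ range j` -/
def eqv : U.Modules ≌ (rg j : Scheme.{u}).Modules :=
  CategoryTheory.Equivalence.mk (Fe j) (Re j)
    (restrictFunctorId.symm ≪≫ (restrictFunctorCongr (eU j).hom_inv_id).symm ≪≫
      restrictFunctorComp (eU j).hom (eU j).inv)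
    ((restrictFunctorComp (eU j).inv (eU j).hom).symm ≪≫
      restrictFunctorCongr (eU j).inv_hom_id ≪≫ restrictFunctorId)

/-- `restrictFunctor j` as a composite -/
def rIso : restrictFunctor (rg j).ι ⋙ Re j ≅ restrictFunctor j :=
  (restrictFunctorComp (eU j).hom (rg j).ι).symm ≪≫ restrictFunctorCongr (eU_hom_ι j)

/-- the model left adjoint of `restrictFunctor j` -/
abbrev L' : U.Modules ⥤ X.Modules := Fe j ⋙ Groth.Agent.Lib.helper21.SchShriek.shriek (rg j)

/-- the model adjunction -/
def adj' : L' j ⊣ restrictFunctor j :=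
  ((eqv j).toAdjunction.comp (Groth.Agent.Lib.helper21.SchShriek.adj (rg j))).ofNatIsoRight (rIso j)

instance : (Fe j).IsEquivalence := (eqv j).isEquivalence_functor

instance preservesFiniteLimits_L' : PreservesFiniteLimits (L' j) := by
  have h1 : PreservesFiniteLimits (Fe j) := inferInstance
  have h2 : PreservesFiniteLimits (Groth.Agent.Lib.helper21.SchShriek.shriek (rg j)) := inferInstance
  exact comp_preservesFiniteLimits _ _

lemma adj'_counit_app (M : X.Modules) :
    (adj' j).counit.app M =
      (L' j).map ((rIso j).inv.app M) ≫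
        (Groth.Agent.Lib.helper21.SchShriek.shriek (rg j)).map
          ((eqv j).toAdjunction.counit.app ((restrictFunctor (rg j).ι).obj M)) ≫
        (Groth.Agent.Lib.helper21.SchShriek.adj (rg j)).counit.app M := by
  rw [← Adjunction.homEquiv_symm_id, adj']
  erw [Adjunction.homEquiv_ofNatIsoRight_symm_apply]
  rw [Category.id_comp, Adjunction.homEquiv_counit, Adjunction.comp_counit_app]
  rfl

instance mono_adj'_counit_app (M : X.Modules) : Mono ((adj' j).counit.app M) := by
  rw [adj'_counit_app]
  haveI : IsIso ((eqv j).toAdjunction.counit.app ((restrictFunctor (rg j).ι).obj M)) := by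
    change IsIso ((eqv j).counit.app _)
    infer_instance
  haveI h2 : IsIso ((Groth.Agent.Lib.helper21.SchShriek.shriek (rg j)).map
      ((eqv j).toAdjunction.counit.app ((restrictFunctor (rg j).ι).obj M))) :=
    Functor.map_isIso _ _
  haveI h3 : Mono ((Groth.Agent.Lib.helper21.SchShriek.shriek (rg j)).map
        ((eqv j).toAdjunction.counit.app ((restrictFunctor (rg j).ι).obj M)) ≫
      (Groth.Agent.Lib.helper21.SchShriek.adj (rg j)).counit.app M) :=
    @mono_comp _ _ _ _ _ _ (@IsIso.mono_of_iso _ _ _ _ _ h2) _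
      (Groth.Agent.Lib.helper21.SchShriek.mono_counit_app (rg j) M)
  haveI h4 : IsIso ((L' j).map ((rIso j).inv.app M)) := Functor.map_isIso _ _
  exact @mono_comp _ _ _ _ _ _ (@IsIso.mono_of_iso _ _ _ _ _ h4) _ h3

end Transfer

noncomputable section Main

variable {U X : Scheme.{u}} (j : U ⟶ X) [IsOpenImmersion j]

instance additive_restrictFunctor' : (restrictFunctor j).Additive :=
  Functor.additive_of_preserves_binary_products _

instance additive_L' : (L' j).Additive :=
  Functor.additive_of_preserves_binary_products _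

theorem main [IsLocallyNoetherian X] [IsAffine U]
    (c : ℕ →o Subobject (CxOX.extZeroUnit j)) : ∃ n : ℕ, ∀ m : ℕ, n ≤ m → c n = c m := by
  haveI : IsLocallyNoetherian U := isLocallyNoetherian_of_isOpenImmersion j
  haveI : IsNoetherian U := {}
  haveI : IsNoetherianRing Γ(U, ⊤) :=
    IsLocallyNoetherian.component_noetherian ⟨⊤, isAffineOpen_top U⟩
  let R := restrictFunctor j
  haveI : IsIso ((CxOX.extZeroAdj j).unit.app (OU U)) := by
    haveI : IsIso (CxOX.extZeroAdj j).unit :=
      (Adjunction.Triple.isIso_unit_iff_isIso_counit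
        (⟨CxOX.extZeroAdj j, Scheme.Modules.restrictAdjunction j⟩ :
          Adjunction.Triple (CxOX.extZero j) (Scheme.Modules.restrictFunctor j)
            (Scheme.Modules.pushforward j))).2 inferInstance
    infer_instance
  let θ : R.obj (CxOX.extZeroUnit j) ≅ OU U := (asIso ((CxOX.extZeroAdj j).unit.app (OU U))).symm
  let K : ℕ → U.Modules := fun n => R.obj (c n : X.Modules)
  let a : ∀ n, K n ⟶ OU U := fun n => R.map (c n).arrow ≫ θ.hom
  have ha : ∀ n, Mono (a n) := fun n => by
    haveI : Mono (R.map (c n).arrow) := inferInstance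
    exact mono_comp _ _
  let t : ∀ n m, n ≤ m → (K n ⟶ K m) := fun n m h => R.map (Subobject.ofLE (c n) (c m) (c.monotone h))
  have ht : ∀ n m h, t n m h ≫ a m = a n := by
    intro n m h
    show R.map (Subobject.ofLE (c n) (c m) (c.monotone h)) ≫ R.map (c m).arrow ≫ θ.hom =
      R.map (c n).arrow ≫ θ.hom
    rw [← Category.assoc, ← R.map_comp, Subobject.ofLE_arrow]
  obtain ⟨n0, hn0⟩ := core K a ha t ht
  refine ⟨n0, fun m h => ?_⟩
  let ε : CxOX.extZeroUnit j ≅ (L' j).obj (OU U) :=
    ((CxOX.extZeroAdj j).leftAdjointUniq (adj' j)).app (OU U)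
  have hiso : IsIso (Subobject.ofLE (c n0) (c m) (c.monotone h)) :=
    isIso_of_isIso_map (adj' j) (fun M => mono_adj'_counit_app j M) (OU U) ε (c n0).arrow (c m).arrow
      (Subobject.ofLE (c n0) (c m) (c.monotone h)) (Subobject.ofLE_arrow _) (hn0 m h)
  refine le_antisymm (c.monotone h) ?_
  exact Subobject.le_of_comm (inv (Subobject.ofLE (c n0) (c m) (c.monotone h)))
    (by rw [IsIso.inv_comp_eq, Subobject.ofLE_arrow])

end Main

end Groth.Agent.Lib.helper13.NoethShriek
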