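import Mathlib
import Groth.Prelude.Def_CxOX
import Groth.Agent.Lib.Helper13.NoethCompact
import Groth.Agent.Lib.Helper13.BaerAffine
import Groth.Agent.Lib.Helper13.NoethShriek
import Groth.Agent.Lib.Helper21.LocFreeBridge

/-!
# Coproducts of injective O_X-modules on a locally Noetherian scheme are injective (helper13)
-/

set_option autoImplicit false
universe u
open CategoryTheory CategoryTheory.Limits AlgebraicGeometry Opposite

namespace Groth.Agent.Lib.helper13.NoethInj

open Groth.Agent.Lib.helper13.BaerAffine

/-- `j_! O_V` on the scheme is the site-level `freeOn`. -/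
noncomputable def extZeroUnitIso {X : Scheme.{u}} (V : X.Opens) :
    CxOX.extZeroUnit V.ι ≅ ModSite.freeOn X.sheaf V :=
  (CxOX.extZeroIsoSite V).app (Coh.structureModule (↑V : Scheme.{u})) ≪≫
    (ModSite.extZero X.sheaf V).mapIso
      (Groth.Agent.Lib.helper21.LocFreeBridge.overEquivInverseUnit V)

variable (X : Scheme.{u}) [IsLocallyNoetherian X]

lemma isNoetherianObject_extZeroUnit (V : X.affineOpens) :
    IsNoetherianObject (CxOX.extZeroUnit V.1.ι) := by
  haveI : IsAffine (V.1 : Scheme.{u}) := V.2
  rw [isNoetherianObject_iff_monotone_chain_condition]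
  intro c
  exact Groth.Agent.Lib.helper13.NoethShriek.main V.1.ι c

lemma isNoetherianObject_E (V : X.affineOpens) : IsNoetherianObject (E X V.1) := by
  haveI := isNoetherianObject_extZeroUnit X V
  exact isNoetherianObject_of_mono (extZeroUnitIso V.1).inv

theorem injective_sigma {ι : Type u} (I : ι → X.Modules) (hI : ∀ j, Injective (I j)) :
    Injective (∐ I) := by
  haveI : IsGrothendieckAbelian.{u} X.Modules :=
    Groth.Agent.Lib.Helper21.ModGroth.isGrothendieckAbelian_mod _
  refine Groth.Agent.Lib.helper13.NoethCompact.injective_sigma.{u} (hyp_genMono X)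
    (fun i hi => mono_of_genMono X i hi) ?_ I hI
  intro A B i hi
  obtain ⟨⟨V, S⟩⟩ := hi
  haveI := isNoetherianObject_E _ V
  exact isNoetherianObject_of_mono S.arrow

end Groth.Agent.Lib.helper13.NoethInj
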