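import Mathlib
import Groth.Agent.Lib.Helper13.GD7
import Groth.Agent.Lib.Helper13.NoethInj

/-!
# Gabriel–Matlis decomposition of injective O_X-modules on a locally Noetherian scheme (helper13)
-/

set_option autoImplicit false
universe u
open CategoryTheory CategoryTheory.Limits AlgebraicGeometry Opposite

namespace Groth.Agent.Lib.helper13.GDSch

open Groth.Agent.Lib.helper13.BaerAffine Groth.Agent.Lib.helper13.GD

section Abstract

variable {C : Type*} [Category C] [Abelian C]

lemma le_of_pullback_le {Y X : C} (p : Y ⟶ X) [Epi p] (A B : Subobject X)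
    (h : (Subobject.pullback p).obj A ≤ (Subobject.pullback p).obj B) : A ≤ B := by
  rw [Subobject.pullback_obj, Subobject.pullback_obj] at h
  let t := Subobject.ofMkLEMk _ _ h
  have ht : t ≫ pullback.snd B.arrow p = pullback.snd A.arrow p := Subobject.ofMkLEMk_comp h
  haveI : Epi (pullback.fst A.arrow p) := Abelian.epi_pullback_of_epi_g A.arrow p
  haveI : StrongEpi (pullback.fst A.arrow p) := strongEpi_of_epi _
  have sq : CommSq (t ≫ pullback.fst B.arrow p) (pullback.fst A.arrow p) B.arrow A.arrow := by
    constructor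
    rw [Category.assoc, pullback.condition, ← Category.assoc, ht, pullback.condition]
  exact Subobject.le_of_comm sq.lift sq.fac_right

/-- quotients of Noetherian objects are Noetherian -/
lemma isNoetherianObject_of_epi {Y X : C} (p : Y ⟶ X) [Epi p] [IsNoetherianObject Y] :
    IsNoetherianObject X := by
  rw [isNoetherianObject_iff_monotone_chain_condition]
  intro f
  obtain ⟨n, hn⟩ := monotone_chain_condition_of_isNoetherianObject
    ⟨_, (Subobject.pullback p).monotone.comp f.2⟩
  refine ⟨n, fun m hm => le_antisymm (f.2 hm) ?_⟩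
  apply le_of_pullback_le p
  exact (hn m hm).ge

end Abstract

variable (X : Scheme.{u}) [IsLocallyNoetherian X]

/-- every nonzero `O_X`-module on a locally Noetherian scheme has a nonzero Noetherian subobject -/
theorem hasNoethSub : HasNoethSub X.Modules := by
  intro M hM
  have : ∃ (V : X.affineOpens) (f : E X V.1 ⟶ M), f ≠ 0 := by
    by_contra hcon
    push Not at hcon
    obtain ⟨Z₀, hZ₀⟩ := HasZeroObject.zero (C := X.Modules)
    haveI : Mono (0 : Z₀ ⟶ M) := ⟨fun a b _ => hZ₀.eq_of_tgt a b⟩
    have hiso : IsIso (0 : Z₀ ⟶ M) :=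
      isIso_of_factor X (0 : Z₀ ⟶ M) (fun V f => ⟨0, by rw [hcon V f, zero_comp]⟩)
    exact hM (hZ₀.of_iso (asIso (0 : Z₀ ⟶ M)).symm)
  obtain ⟨V, f, hf⟩ := this
  haveI := Groth.Agent.Lib.helper13.NoethInj.isNoetherianObject_E X V
  refine ⟨Abelian.image f, Abelian.image.ι f, inferInstance,
    isNoetherianObject_of_epi (Abelian.factorThruImage f), ?_⟩
  intro hz
  apply hf
  rw [← Abelian.image.fac f, hz.eq_of_tgt (Abelian.factorThruImage f) 0, zero_comp]

/-- every injective `O_X`-module on a locally Noetherian scheme is a coproduct of nonzero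
indecomposable injectives -/
theorem exists_decomposition (I : X.Modules) (hI : Injective I) :
    ∃ (ι : Type u) (J : ι → X.Modules), (∀ i, Injective (J i)) ∧ (∀ i, ¬ IsZero (J i)) ∧
      (∀ i (A B : X.Modules), Nonempty (J i ≅ A ⊞ B) → IsZero A ∨ IsZero B) ∧
      Nonempty (I ≅ ∐ J) := by
  haveI : IsGrothendieckAbelian.{u} X.Modules :=
    Groth.Agent.Lib.Helper21.ModGroth.isGrothendieckAbelian_mod _
  exact GD.exists_decomposition.{u} (hasNoethSub X)
    (fun ι J hJ => Groth.Agent.Lib.helper13.NoethInj.injective_sigma X J hJ) I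

end Groth.Agent.Lib.helper13.GDSch
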