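import Mathlib

/-!
# Noetherian G-domains have finite spectrum and dimension ≤ 1 (helper13)

If `A` is a Noetherian domain and `f ≠ 0` lies in every nonzero prime, then every nonzero prime is a
minimal prime over `(f)`; in particular there are finitely many primes and no chains of nonzero primes.
Relative version over a prime `p` of a Noetherian ring, and a scheme-theoretic consequence.
-/

set_option autoImplicit false

namespace Groth.Agent.Lib.helper13

open Ideal

section GDomain
variable {A : Type*} [CommRing A] [IsDomain A] [IsNoetherianRing A]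

theorem mem_minimalPrimes_span_of_forall_mem (f : A) (hf0 : f ≠ 0)
    (hf : ∀ p : Ideal A, p.IsPrime → p ≠ ⊥ → f ∈ p) (p : Ideal A) [hp : p.IsPrime] (hp0 : p ≠ ⊥) :
    p ∈ (Ideal.span {f}).minimalPrimes := by
  classical
  by_contra hpm
  have hfin : (Ideal.span {f}).minimalPrimes.Finite :=
    Ideal.finite_minimalPrimes_of_isNoetherianRing A _
  have hfp : Ideal.span {f} ≤ p := (Ideal.span_singleton_le_iff_mem _).mpr (hf p hp hp0)
  have hnot : ¬ ((p : Set A) ⊆ ⋃ q ∈ (hfin.toFinset : Set (Ideal A)), (q : Set A)) := by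
    rw [Ideal.subset_union_prime (s := hfin.toFinset) (f := fun q => q) ⊥ ⊥
      (fun q hq _ _ => (hfin.mem_toFinset.mp hq).1.1)]
    rintro ⟨q, hq, hpq⟩
    have hq' := hfin.mem_toFinset.mp hq
    have hqp : q ≤ p := hq'.2 ⟨hp, hfp⟩ hpq
    exact hpm (le_antisymm hpq hqp ▸ hq')
  obtain ⟨g, hgp, hg⟩ := Set.not_subset.mp hnot
  have hgp' : Ideal.span {g} ≤ p := (Ideal.span_singleton_le_iff_mem _).mpr hgp
  obtain ⟨p', hp', hp'p⟩ := Ideal.exists_minimalPrimes_le hgp'
  have hp'prime : p'.IsPrime := hp'.1.1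
  obtain ⟨q₀, hq₀, _⟩ := Ideal.exists_minimalPrimes_le hfp
  have hg0 : g ≠ 0 := by
    rintro rfl
    apply hg
    simp only [Set.mem_iUnion]
    exact ⟨q₀, hfin.mem_toFinset.mpr hq₀, q₀.zero_mem⟩
  have hgp'' : g ∈ p' := hp'.1.2 (Ideal.mem_span_singleton_self g)
  have hp'0 : p' ≠ ⊥ := by
    intro h
    rw [h] at hgp''
    exact hg0 (by simpa using hgp'')
  have hfp' : Ideal.span {f} ≤ p' :=
    (Ideal.span_singleton_le_iff_mem _).mpr (hf p' hp'prime hp'0)
  obtain ⟨q, hq, hqp'⟩ := Ideal.exists_minimalPrimes_le hfp'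
  have hqprime : q.IsPrime := hq.1.1
  have hq0 : q ≠ ⊥ := by
    intro h
    have : f ∈ q := hq.1.2 (Ideal.mem_span_singleton_self f)
    rw [h] at this
    exact hf0 (by simpa using this)
  have hht : p'.height ≤ 1 :=
    Ideal.height_le_one_of_isPrincipal_of_mem_minimalPrimes (Ideal.span {g}) p' hp'
  have hqp'eq : q = p' := by
    by_contra hne
    have hlt : q < p' := lt_of_le_of_ne hqp' hne
    have h1 : q.height < p'.height := Ideal.height_strict_mono_of_isPrime hlt
    have h2 : (⊥ : Ideal A).height < q.height :=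
      Ideal.height_strict_mono_of_isPrime (bot_lt_iff_ne_bot.mpr hq0)
    have h3 : q.height < 1 := lt_of_lt_of_le h1 hht
    have h4 : q.height = 0 := Order.lt_one_iff.mp h3
    rw [h4] at h2
    exact not_lt_zero h2
  apply hg
  simp only [Set.mem_iUnion]
  exact ⟨q, hfin.mem_toFinset.mpr hq, hqp'eq ▸ hgp''⟩

end GDomain

section Relative
variable {A : Type*} [CommRing A] [IsNoetherianRing A]

/-- Relative version: `p` prime, `a ∉ p`, every prime strictly above `p` contains `a`. -/
theorem finite_primes_above_and_no_chain (p : Ideal A) [hp : p.IsPrime] (a : A) (ha : a ∉ p)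
    (h : ∀ q : Ideal A, q.IsPrime → p < q → a ∈ q) :
    {q : Ideal A | q.IsPrime ∧ p ≤ q}.Finite ∧
      ∀ q q' : Ideal A, q.IsPrime → q'.IsPrime → p < q → q < q' → False := by
  classical
  let π := Ideal.Quotient.mk p
  have hπ : Function.Surjective π := Ideal.Quotient.mk_surjective
  have hker : RingHom.ker π = p := Ideal.mk_ker
  have : IsDomain (A ⧸ p) := Ideal.Quotient.isDomain p
  set f : A ⧸ p := π a with hf
  have hf0 : f ≠ 0 := by
    rw [hf, Ne, Ideal.Quotient.eq_zero_iff_mem]
    exact ha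
  have hcm : ∀ q : Ideal A, p ≤ q → (q.map π).comap π = q := by
    intro q hq
    rw [Ideal.comap_map_of_surjective π hπ, ← RingHom.ker_eq_comap_bot, hker]
    exact sup_eq_left.mpr hq
  have hmapprime : ∀ q : Ideal A, q.IsPrime → p ≤ q → (q.map π).IsPrime := by
    intro q hq hpq
    exact Ideal.map_isPrime_of_surjective hπ (hker.trans_le hpq)
  have hmapne : ∀ q : Ideal A, p < q → q.map π ≠ ⊥ := by
    intro q hpq hbot
    have := hcm q hpq.le
    rw [hbot, ← RingHom.ker_eq_comap_bot, hker] at this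
    exact hpq.ne this
  have hall : ∀ Q : Ideal (A ⧸ p), Q.IsPrime → Q ≠ ⊥ → f ∈ Q := by
    intro Q hQ hQ0
    have hq : (Q.comap π).IsPrime := Ideal.comap_isPrime π Q
    have hkq : RingHom.ker π ≤ Q.comap π := by
      rw [RingHom.ker_eq_comap_bot]
      exact Ideal.comap_mono bot_le
    have hpq : p ≤ Q.comap π := (le_of_eq hker.symm).trans hkq
    have hne : p ≠ Q.comap π := by
      intro he
      apply hQ0
      have h1 : Q.comap π ≤ RingHom.ker π := (le_of_eq he.symm).trans (le_of_eq hker.symm)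
      rw [← Ideal.map_comap_of_surjective π hπ Q]
      exact (Ideal.map_eq_bot_iff_le_ker π).mpr h1
    exact h _ hq (lt_of_le_of_ne hpq hne)
  have hmin : ∀ Q : Ideal (A ⧸ p), Q.IsPrime → Q ≠ ⊥ → Q ∈ (Ideal.span {f}).minimalPrimes :=
    fun Q hQ hQ0 => mem_minimalPrimes_span_of_forall_mem f hf0 hall Q hQ0
  have hfin : (Ideal.span {f}).minimalPrimes.Finite :=
    Ideal.finite_minimalPrimes_of_isNoetherianRing (A ⧸ p) _
  refine ⟨?_, ?_⟩
  · refine ((hfin.insert ⊥).image (Ideal.comap π)).subset ?_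
    rintro q ⟨hq, hpq⟩
    refine ⟨q.map π, ?_, hcm q hpq⟩
    by_cases hbot : q.map π = ⊥
    · exact Or.inl hbot
    · exact Or.inr (hmin _ (hmapprime q hq hpq) hbot)
  · intro q q' hq hq' hpq hqq'
    have hQ := hmin _ (hmapprime q hq hpq.le) (hmapne q hpq)
    have hQ' := hmin _ (hmapprime q' hq' (hpq.trans hqq').le) (hmapne q' (hpq.trans hqq'))
    have hle : q.map π ≤ q'.map π := Ideal.map_mono hqq'.le
    have hge : q'.map π ≤ q.map π := hQ'.2 hQ.1 hle
    have heq : q.map π = q'.map π := le_antisymm hle hge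
    have := congrArg (Ideal.comap π) heq
    rw [hcm q hpq.le, hcm q' (hpq.trans hqq').le] at this
    exact hqq'.ne this

end Relative

section Scheme
open AlgebraicGeometry CategoryTheory
universe u

/-- Affine-local core: `x` a point of a locally Noetherian scheme which is open in its closure. -/
theorem affine_core {X : Scheme.{u}} [IsLocallyNoetherian X] (x : X) (U : Set X) (hU : IsOpen U)
    (h : closure {x} ∩ U = {x}) (V : X.Opens) (hV : IsAffineOpen V) (hx : x ∈ V) :
    (closure {x} ∩ (V : Set X)).Finite ∧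
      ∀ y z : X, z ∈ V → x ⤳ y → y ⤳ z → x ≠ y → y ≠ z → False := by
  have : IsNoetherianRing Γ(X, V) := IsLocallyNoetherian.component_noetherian ⟨V, hV⟩
  set ι := hV.fromSpec with hι
  have hemb : Topology.IsOpenEmbedding ι := ι.isOpenEmbedding
  have hspec : ∀ q q' : Spec Γ(X, V), ι q ⤳ ι q' ↔ q ⤳ q' :=
    fun q q' => hemb.isInducing.specializes_iff
  have hrange : Set.range ι = V := hV.range_fromSpec
  set p : Spec Γ(X, V) := hV.primeIdealOf ⟨x, hx⟩ with hp
  have hιp : ι p = x := hV.fromSpec_primeIdealOf ⟨x, hx⟩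
  have hxU : x ∈ U := by
    have : x ∈ closure {x} ∩ U := by rw [h]; rfl
    exact this.2
  -- a basic open around `p` inside `ι ⁻¹' U`
  have hpU : p ∈ ι ⁻¹' U := by
    show ι p ∈ U
    rw [hιp]; exact hxU
  obtain ⟨_, ⟨a, rfl⟩, hpa, haU⟩ :=
    PrimeSpectrum.isTopologicalBasis_basic_opens.exists_subset_of_mem_open hpU
      (hU.preimage ι.continuous)
  have ha : a ∉ p.asIdeal := hpa
  have hall : ∀ q : Ideal Γ(X, V), q.IsPrime → p.asIdeal < q → a ∈ q := by
    intro q hq hpq
    by_contra haq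
    let q' : Spec Γ(X, V) := ⟨q, hq⟩
    have h1 : ι q' ∈ U := haU (show q' ∈ (PrimeSpectrum.basicOpen a : Set (PrimeSpectrum Γ(X, V))) from haq)
    have h2 : p ⤳ q' := (PrimeSpectrum.le_iff_specializes p q').mp hpq.le
    have h3 : x ⤳ ι q' := by
      rw [← hιp]; exact (hspec p q').mpr h2
    have h4 : ι q' ∈ closure {x} ∩ U := ⟨specializes_iff_mem_closure.mp h3, h1⟩
    rw [h] at h4
    have h5 : ι q' = ι p := by rw [hιp]; exact h4
    have h6 : q' = p := hemb.injective h5
    have h7 : q = p.asIdeal := congrArg PrimeSpectrum.asIdeal h6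
    exact hpq.ne h7.symm
  obtain ⟨hfin, hchain⟩ := finite_primes_above_and_no_chain p.asIdeal a ha hall
  refine ⟨?_, ?_⟩
  · have hfin' : {q' : Spec Γ(X, V) | p.asIdeal ≤ q'.asIdeal}.Finite := by
      have : {q' : Spec Γ(X, V) | p.asIdeal ≤ q'.asIdeal} =
          PrimeSpectrum.asIdeal ⁻¹' {q : Ideal Γ(X, V) | q.IsPrime ∧ p.asIdeal ≤ q} := by
        ext q'
        exact ⟨fun hq => ⟨q'.isPrime, hq⟩, fun hq => hq.2⟩
      rw [this]
      exact hfin.preimage (fun q₁ _ q₂ _ e => PrimeSpectrum.ext e)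
    refine (hfin'.image ι).subset ?_
    rintro y ⟨hy, hyV⟩
    have hyr : y ∈ Set.range ι := by rw [hrange]; exact hyV
    obtain ⟨q', rfl⟩ := hyr
    refine ⟨q', ?_, rfl⟩
    have : ι p ⤳ ι q' := by rw [hιp]; exact specializes_iff_mem_closure.mpr hy
    exact (PrimeSpectrum.le_iff_specializes p q').mpr ((hspec p q').mp this)
  · intro y z hz hxy hyz hne1 hne2
    have hyV : y ∈ V := hyz.mem_open V.2 hz
    have hyr : y ∈ Set.range ι := by rw [hrange]; exact hyV
    have hzr : z ∈ Set.range ι := by rw [hrange]; exact hz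
    obtain ⟨qy, rfl⟩ := hyr
    obtain ⟨qz, rfl⟩ := hzr
    have h1 : p ⤳ qy := by
      rw [← hιp] at hxy; exact (hspec p qy).mp hxy
    have h2 : qy ⤳ qz := (hspec qy qz).mp hyz
    have h1' : p.asIdeal ≤ qy.asIdeal := (PrimeSpectrum.le_iff_specializes p qy).mpr h1
    have h2' : qy.asIdeal ≤ qz.asIdeal := (PrimeSpectrum.le_iff_specializes qy qz).mpr h2
    have hn1 : p.asIdeal ≠ qy.asIdeal := by
      intro e
      apply hne1
      rw [← hιp, PrimeSpectrum.ext e]
    have hn2 : qy.asIdeal ≠ qz.asIdeal := by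
      intro e
      apply hne2
      rw [PrimeSpectrum.ext e]
    exact hchain qy.asIdeal qz.asIdeal qy.isPrime qz.isPrime (lt_of_le_of_ne h1' hn1)
      (lt_of_le_of_ne h2' hn2)

/-- A point of a Noetherian scheme which is open in its closure has finite closure, and there is no
chain of proper specializations of length two starting from it. -/
theorem scheme_core (X : Scheme.{u}) [IsNoetherian X] (x : X) (U : Set X) (hU : IsOpen U)
    (h : closure {x} ∩ U = {x}) :
    (closure ({x} : Set X)).Finite ∧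
      ∀ y z : X, x ⤳ y → y ⤳ z → x ≠ y → y ≠ z → False := by
  have hex : ∀ y : X, ∃ V : X.Opens, IsAffineOpen V ∧ y ∈ V := by
    intro y
    obtain ⟨W, hW, hyW, -⟩ := exists_isAffineOpen_mem_and_subset (x := y) (U := ⊤) trivial
    exact ⟨W, hW, hyW⟩
  choose V hV hyV using hex
  refine ⟨?_, ?_⟩
  · have hcomp : IsCompact (closure ({x} : Set X)) :=
      TopologicalSpace.NoetherianSpace.isCompact _
    obtain ⟨t, -, ht⟩ := hcomp.elim_nhds_subcover (fun y => (V y : Set X))
      (fun y _ => (V y).2.mem_nhds (hyV y))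
    have : closure ({x} : Set X) ⊆ ⋃ y ∈ t, closure {x} ∩ (V y : Set X) := by
      intro w hw
      obtain ⟨y, hyt, hwy⟩ := Set.mem_iUnion₂.mp (ht hw)
      exact Set.mem_iUnion₂.mpr ⟨y, hyt, hw, hwy⟩
    refine (Set.Finite.biUnion t.finite_toSet fun y hy => ?_).subset this
    by_cases hxV : x ∈ V y
    · exact (affine_core x U hU h (V y) (hV y) hxV).1
    · have : closure {x} ∩ (V y : Set X) = ∅ := by
        rw [Set.eq_empty_iff_forall_notMem]
        rintro w ⟨hw, hwV⟩
        exact hxV ((specializes_iff_mem_closure.mpr hw).mem_open (V y).2 hwV)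
      rw [this]
      exact Set.finite_empty
  · intro y z hxy hyz hne1 hne2
    have hxV : x ∈ V z := (hxy.trans hyz).mem_open (V z).2 (hyV z)
    exact (affine_core x U hU h (V z) (hV z) hxV).2 y z (hyV z) hxy hyz hne1 hne2

end Scheme

end Groth.Agent.Lib.helper13
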