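import Mathlib

/-!
# Topological decomposition of opens finite over a base
-/

set_option autoImplicit false

namespace Groth.Agent.Lib.helper13.WT

open AlgebraicGeometry CategoryTheory Limits

universe u

variable {P W : Scheme.{u}} (π : P ⟶ W)

/-- The image of the trace of a closed set on an open which is universally closed over the base
is closed. -/
lemma isClosed_image_inter (B : P.Opens) [UniversallyClosed (B.ι ≫ π)] (Z : Set P)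
    (hZ : IsClosed Z) : IsClosed (π '' ((B : Set P) ∩ Z)) := by
  have h : π '' ((B : Set P) ∩ Z) = (B.ι ≫ π) '' (B.ι ⁻¹' Z) := by
    ext q
    constructor
    · rintro ⟨p, ⟨hpB, hpZ⟩, rfl⟩
      exact ⟨⟨p, hpB⟩, hpZ, rfl⟩
    · rintro ⟨t, ht, rfl⟩
      exact ⟨B.ι t, ⟨t.2, ht⟩, rfl⟩
  rw [h]
  exact (B.ι ≫ π).isClosedMap _ (hZ.preimage B.ι.continuous)

lemma range_ι_comp_ι (A : P.Opens) (N : W.Opens) :
    Set.range (((A.ι ≫ π) ⁻¹ᵁ N).ι ≫ A.ι) = {p | p ∈ A ∧ π p ∈ N} := by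
  ext p
  constructor
  · rintro ⟨a, rfl⟩
    exact ⟨(((A.ι ≫ π) ⁻¹ᵁ N).ι a).2, a.2⟩
  · rintro ⟨hpA, hpN⟩
    exact ⟨⟨⟨p, hpA⟩, hpN⟩, rfl⟩

/-- An open universally closed over the base is, over an open of the base where it is contained in
an open separated over the base, relatively closed in it. -/
lemma exists_isClosed_inter_eq (A B : P.Opens) (N : W.Opens)
    [IsSeparated (A.ι ≫ π)] [UniversallyClosed (B.ι ≫ π)]
    (hle : ∀ p ∈ B, π p ∈ N → p ∈ A) :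
    ∃ Z : Set P, IsClosed Z ∧ ∀ p, π p ∈ N → p ∈ A → (p ∈ B ↔ p ∈ Z) := by
  let ιA : ((((A.ι ≫ π) ⁻¹ᵁ N)).toScheme) ⟶ P := ((A.ι ≫ π) ⁻¹ᵁ N).ι ≫ A.ι
  let ιB : ((((B.ι ≫ π) ⁻¹ᵁ N)).toScheme) ⟶ P := ((B.ι ≫ π) ⁻¹ᵁ N).ι ≫ B.ι
  have hrA : Set.range ιA = {p | p ∈ A ∧ π p ∈ N} := range_ι_comp_ι π A N
  have hrB : Set.range ιB = {p | p ∈ B ∧ π p ∈ N} := range_ι_comp_ι π B N
  have hrange : Set.range ιB ⊆ Set.range ιA := by
    rw [hrA, hrB]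
    rintro p ⟨h1, h2⟩
    exact ⟨hle p h1 h2, h2⟩
  let k := IsOpenImmersion.lift ιA ιB hrange
  have hkfac : k ≫ ιA = ιB := IsOpenImmersion.lift_fac _ _ _
  have hkφ : k ≫ ((A.ι ≫ π) ∣_ N) = (B.ι ≫ π) ∣_ N := by
    rw [← cancel_mono N.ι, Category.assoc, morphismRestrict_ι, morphismRestrict_ι]
    have e1 : k ≫ ((A.ι ≫ π) ⁻¹ᵁ N).ι ≫ A.ι ≫ π = (k ≫ ιA) ≫ π := by
      simp only [ιA, Category.assoc]
    have e2 : ((B.ι ≫ π) ⁻¹ᵁ N).ι ≫ B.ι ≫ π = ιB ≫ π := by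
      simp only [ιB, Category.assoc]
    rw [e1, e2, hkfac]
  have h1 : UniversallyClosed (k ≫ ((A.ι ≫ π) ∣_ N)) := hkφ ▸ inferInstance
  have h2 : UniversallyClosed k := UniversallyClosed.of_comp_of_isSeparated k ((A.ι ≫ π) ∣_ N)
  have hcl : IsClosed (Set.range k) := k.isClosedMap.isClosed_range
  refine ⟨(ιA '' (Set.range k)ᶜ)ᶜ, ?_, ?_⟩
  · exact (ιA.isOpenEmbedding.isOpenMap _ hcl.isOpen_compl).isClosed_compl
  · intro p hpN hpA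
    obtain ⟨a, rfl⟩ : p ∈ Set.range ιA := by rw [hrA]; exact ⟨hpA, hpN⟩
    have hinj : Function.Injective ιA := ιA.isOpenEmbedding.injective
    constructor
    · intro hpB
      obtain ⟨b, hb⟩ : ιA a ∈ Set.range ιB := by rw [hrB]; exact ⟨hpB, hpN⟩
      rintro ⟨a', ha', haa'⟩
      have : a' = a := hinj haa'
      subst this
      apply ha'
      refine ⟨b, hinj ?_⟩
      rw [← hb, ← hkfac]
      rfl
    · intro hZ
      by_contra hpB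
      apply hZ
      refine ⟨a, ?_, rfl⟩
      rintro ⟨b, rfl⟩
      apply hpB
      have : ιA (k b) = ιB b := by rw [← hkfac]; rfl
      rw [this]
      have : ιB b ∈ Set.range ιB := ⟨b, rfl⟩
      rw [hrB] at this
      exact this.1

/-- **Decomposition near a point of the base.**  If the opens `B s` (finite over the base) and
`A` (finite over the base) satisfy `A = ⊔ B s` over the point `w₀`, then the same holds over an
open neighbourhood of `w₀`. -/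
theorem exists_nbhd_decomposition (A : P.Opens) [IsFinite (A.ι ≫ π)]
    {σ : Type*} [Finite σ] (B : σ → P.Opens) (hB : ∀ s, IsFinite ((B s).ι ≫ π)) (w₀ : W)
    (ha : ∀ s, ∀ p ∈ B s, π p = w₀ → p ∈ A)
    (hb : ∀ s s', ∀ p, π p = w₀ → p ∈ B s → p ∈ B s' → s = s')
    (hc : ∀ p ∈ A, π p = w₀ → ∃ s, p ∈ B s) :
    ∃ N : W.Opens, w₀ ∈ N ∧ ∀ p, π p ∈ N →
      ((p ∈ A ↔ ∃ s, p ∈ B s) ∧ ∀ s s', p ∈ B s → p ∈ B s' → s = s') := by
  classical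
  -- Step 1: over `N₁`, each `B s` lies in `A`.
  have hcl1 : ∀ s, IsClosed (π '' ((B s : Set P) ∩ (A : Set P)ᶜ)) := fun s ↦
    isClosed_image_inter π (B s) _ A.2.isClosed_compl
  let N₁ : W.Opens := ⟨(⋃ s, π '' ((B s : Set P) ∩ (A : Set P)ᶜ))ᶜ,
    (isClosed_iUnion_of_finite hcl1).isOpen_compl⟩
  have hN₁ : w₀ ∈ N₁ := by
    show w₀ ∉ ⋃ s, π '' ((B s : Set P) ∩ (A : Set P)ᶜ)
    rw [Set.mem_iUnion]
    rintro ⟨s, p, ⟨hpB, hpA⟩, hp⟩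
    exact hpA (ha s p hpB hp)
  have hN₁' : ∀ s, ∀ p ∈ B s, π p ∈ N₁ → p ∈ A := by
    intro s p hpB hpN
    by_contra hpA
    apply hpN
    exact Set.mem_iUnion.mpr ⟨s, p, ⟨hpB, hpA⟩, rfl⟩
  -- Step 2: relative closedness.
  have hZ : ∀ s, ∃ Z : Set P, IsClosed Z ∧ ∀ p, π p ∈ N₁ → p ∈ A → (p ∈ B s ↔ p ∈ Z) :=
    fun s ↦ exists_isClosed_inter_eq π A (B s) N₁ (hN₁' s)
  choose Z hZcl hZiff using hZ
  have hcl2 : ∀ ss : σ × σ, IsClosed (if ss.1 = ss.2 then (∅ : Set W) else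
      π '' ((A : Set P) ∩ (Z ss.1 ∩ Z ss.2))) := by
    intro ss
    split_ifs
    · exact isClosed_empty
    · exact isClosed_image_inter π A _ ((hZcl ss.1).inter (hZcl ss.2))
  let N₂ : W.Opens := ⟨(⋃ ss : σ × σ, if ss.1 = ss.2 then (∅ : Set W) else
      π '' ((A : Set P) ∩ (Z ss.1 ∩ Z ss.2)))ᶜ, (isClosed_iUnion_of_finite hcl2).isOpen_compl⟩
  have hN₂ : w₀ ∈ N₂ := by
    show w₀ ∉ ⋃ ss : σ × σ, if ss.1 = ss.2 then (∅ : Set W) else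
      π '' ((A : Set P) ∩ (Z ss.1 ∩ Z ss.2))
    rw [Set.mem_iUnion]
    rintro ⟨⟨s, s'⟩, hmem⟩
    by_cases hss : s = s'
    · simp [hss] at hmem
    · simp only [hss, if_false] at hmem
      obtain ⟨p, ⟨hpA, hpZ, hpZ'⟩, hp⟩ := hmem
      have hp' : π p = w₀ := hp
      have hpN : π p ∈ N₁ := by rw [hp']; exact hN₁
      exact hss (hb s s' p hp ((hZiff s p hpN hpA).mpr hpZ) ((hZiff s' p hpN hpA).mpr hpZ'))
  -- Step 3: covering.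
  have hcl3 : IsClosed (π '' ((A : Set P) ∩ (⋃ s, (B s : Set P))ᶜ)) :=
    isClosed_image_inter π A _ (isOpen_iUnion fun s ↦ (B s).2).isClosed_compl
  let N₃ : W.Opens := ⟨(π '' ((A : Set P) ∩ (⋃ s, (B s : Set P))ᶜ))ᶜ, hcl3.isOpen_compl⟩
  have hN₃ : w₀ ∈ N₃ := by
    rintro ⟨p, ⟨hpA, hpB⟩, hp⟩
    obtain ⟨s, hs⟩ := hc p hpA hp
    exact hpB (Set.mem_iUnion.mpr ⟨s, hs⟩)
  refine ⟨N₁ ⊓ N₂ ⊓ N₃, ⟨⟨hN₁, hN₂⟩, hN₃⟩, ?_⟩
  rintro p ⟨⟨hp1, hp2⟩, hp3⟩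
  refine ⟨⟨fun hpA ↦ ?_, fun ⟨s, hs⟩ ↦ hN₁' s p hs hp1⟩, ?_⟩
  · by_contra hno
    apply hp3
    refine ⟨p, ⟨hpA, ?_⟩, rfl⟩
    intro hmem
    obtain ⟨s, hs⟩ := Set.mem_iUnion.mp hmem
    exact hno ⟨s, hs⟩
  · intro s s' hs hs'
    by_contra hss
    apply hp2
    refine Set.mem_iUnion.mpr ⟨(s, s'), ?_⟩
    simp only [hss, if_false]
    have hpA := hN₁' s p hs hp1
    exact ⟨p, ⟨hpA, (hZiff s p hp1 hpA).mp hs, (hZiff s' p hp1 hpA).mp hs'⟩, rfl⟩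

end Groth.Agent.Lib.helper13.WT
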