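import Mathlib
import Groth.Agent.Lib.Helper13.WT3
import Groth.Agent.Lib.Helper13.WT5

/-!
# Universally closed from a finite cover; strict sub-additivity
-/

set_option autoImplicit false

namespace Groth.Agent.Lib.helper13.WT

open AlgebraicGeometry CategoryTheory Limits

universe u

/-- A morphism whose source is covered by finitely many opens, each universally closed over the
base, is universally closed. -/
lemma universallyClosed_of_finite_cover {P W : Scheme.{u}} (π : P ⟶ W) {σ : Type*} [Finite σ]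
    (B : σ → P.Opens) (hB : ∀ s, UniversallyClosed ((B s).ι ≫ π)) (hcov : ∀ p, ∃ s, p ∈ B s) :
    UniversallyClosed π := by
  refine ⟨fun P' W' i₁ i₂ f' sq ↦ ?_⟩
  intro Z hZ
  have hB' : ∀ s, UniversallyClosed ((i₁ ⁻¹ᵁ B s).ι ≫ f') := fun s ↦ by
    have h1 := isPullback_morphismRestrict i₁ (B s)
    exact MorphismProperty.of_isPullback (P := @UniversallyClosed) (h1.paste_vert sq.flip) (hB s)
  have hcl : ∀ s, IsClosed (f' '' (((i₁ ⁻¹ᵁ B s : P'.Opens) : Set P') ∩ Z)) := fun s ↦ by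
    haveI := hB' s
    exact isClosed_image_inter f' (i₁ ⁻¹ᵁ B s) Z hZ
  have hU : f' '' Z = ⋃ s, f' '' (((i₁ ⁻¹ᵁ B s : P'.Opens) : Set P') ∩ Z) := by
    ext q
    constructor
    · rintro ⟨p, hp, rfl⟩
      obtain ⟨s, hs⟩ := hcov (i₁ p)
      exact Set.mem_iUnion.mpr ⟨s, p, ⟨hs, hp⟩, rfl⟩
    · intro hq
      obtain ⟨s, p, ⟨_, hp⟩, rfl⟩ := Set.mem_iUnion.mp hq
      exact ⟨p, hp, rfl⟩
  show IsClosed (f' '' Z)
  rw [hU]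
  exact isClosed_iUnion_of_finite hcl

section

variable (Ω : Type u) [Field Ω] {P V : Scheme.{u}} (π : P ⟶ V)

/-- Strict sub-additivity of geometric integrals of positive functions. -/
theorem sum_geomIntegral_lt {σ : Type*} [Fintype σ] (A : P.Opens) (B : σ → P.Opens) (w : P → ℤ)
    (xb : Spec (.of Ω) ⟶ V)
    (hfinA : Finite {ℓ : Spec (.of Ω) ⟶ P //
      ℓ ≫ π = xb ∧ ℓ (IsLocalRing.closedPoint Ω) ∈ A})
    (hsub : ∀ p, π p = xb (IsLocalRing.closedPoint Ω) → ∀ s, p ∈ B s → p ∈ A)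
    (hdisj : ∀ p, π p = xb (IsLocalRing.closedPoint Ω) → ∀ s s', p ∈ B s → p ∈ B s' → s = s')
    (hpos : ∀ p, 0 < w p) (ℓ₀ : Spec (.of Ω) ⟶ P) (h1 : ℓ₀ ≫ π = xb)
    (h2 : ℓ₀ (IsLocalRing.closedPoint Ω) ∈ A) (h3 : ∀ s, ℓ₀ (IsLocalRing.closedPoint Ω) ∉ B s) :
    ∑ s, geomIntegral π Ω (B s) w xb < geomIntegral π Ω A w xb := by
  classical
  unfold geomIntegral
  have key : ∀ C : P.Opens,
      (∑ᶠ ℓ : {ℓ : Spec (.of Ω) ⟶ P // ℓ ≫ π = xb ∧ ℓ (IsLocalRing.closedPoint Ω) ∈ C},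
        w (ℓ.1 (IsLocalRing.closedPoint Ω))) =
      ∑ᶠ ℓ ∈ {ℓ : Spec (.of Ω) ⟶ P | ℓ ≫ π = xb ∧ ℓ (IsLocalRing.closedPoint Ω) ∈ C},
        w (ℓ (IsLocalRing.closedPoint Ω)) := fun C ↦
    finsum_set_coe_eq_finsum_mem
      (s := {ℓ : Spec (.of Ω) ⟶ P | ℓ ≫ π = xb ∧ ℓ (IsLocalRing.closedPoint Ω) ∈ C})
      (f := fun ℓ ↦ w (ℓ (IsLocalRing.closedPoint Ω)))
  have hpt : ∀ ℓ : Spec (.of Ω) ⟶ P, ℓ ≫ π = xb →
      π (ℓ (IsLocalRing.closedPoint Ω)) = xb (IsLocalRing.closedPoint Ω) := by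
    intro ℓ h
    rw [← Scheme.Hom.comp_apply, h]
  set SA := {ℓ : Spec (.of Ω) ⟶ P | ℓ ≫ π = xb ∧ ℓ (IsLocalRing.closedPoint Ω) ∈ A} with hSA
  set SB : σ → Set (Spec (.of Ω) ⟶ P) := fun s ↦
    {ℓ : Spec (.of Ω) ⟶ P | ℓ ≫ π = xb ∧ ℓ (IsLocalRing.closedPoint Ω) ∈ B s} with hSB
  have hSAfin : SA.Finite := Set.finite_coe_iff.mp hfinA
  have hsubset : ∀ s, SB s ⊆ SA := fun s ℓ hℓ ↦ ⟨hℓ.1, hsub _ (hpt ℓ hℓ.1) s hℓ.2⟩
  have hSBfin : ∀ s, (SB s).Finite := fun s ↦ hSAfin.subset (hsubset s)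
  have hU : ∑ᶠ ℓ ∈ ⋃ s, SB s, w (ℓ (IsLocalRing.closedPoint Ω)) =
      ∑ s, ∑ᶠ ℓ ∈ SB s, w (ℓ (IsLocalRing.closedPoint Ω)) := by
    rw [finsum_mem_iUnion, finsum_eq_sum_of_fintype]
    · intro s s' hss'
      rw [Function.onFun, Set.disjoint_left]
      rintro ℓ ⟨h1, h2⟩ ⟨_, h3⟩
      exact hss' (hdisj _ (hpt ℓ h1) s s' h2 h3)
    · exact hSBfin
  have hUsub : (⋃ s, SB s) ⊆ SA := Set.iUnion_subset hsubset
  have hsplit := finsum_mem_inter_add_sdiff (f := fun ℓ : Spec (.of Ω) ⟶ P ↦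
    w (ℓ (IsLocalRing.closedPoint Ω))) (⋃ s, SB s) hSAfin
  rw [Set.inter_eq_right.mpr hUsub] at hsplit
  have hDfin : (SA \ ⋃ s, SB s).Finite := hSAfin.subset Set.diff_subset
  have hℓ₀ : ℓ₀ ∈ SA \ ⋃ s, SB s := by
    refine ⟨⟨h1, h2⟩, ?_⟩
    intro hmem
    obtain ⟨s, hs⟩ := Set.mem_iUnion.mp hmem
    exact h3 s hs.2
  have hposD : 0 < ∑ᶠ ℓ ∈ SA \ ⋃ s, SB s, w (ℓ (IsLocalRing.closedPoint Ω)) := by
    rw [finsum_mem_eq_finite_toFinset_sum _ hDfin]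
    refine lt_of_lt_of_le (hpos (ℓ₀ (IsLocalRing.closedPoint Ω))) ?_
    exact Finset.single_le_sum (f := fun ℓ : Spec (.of Ω) ⟶ P ↦
      w (ℓ (IsLocalRing.closedPoint Ω))) (fun ℓ _ ↦ (hpos _).le)
      (hDfin.mem_toFinset.mpr hℓ₀)
  calc ∑ s, ∑ᶠ ℓ : {ℓ : Spec (.of Ω) ⟶ P // ℓ ≫ π = xb ∧ ℓ (IsLocalRing.closedPoint Ω) ∈ B s},
        w (ℓ.1 (IsLocalRing.closedPoint Ω))
      = ∑ s, ∑ᶠ ℓ ∈ SB s, w (ℓ (IsLocalRing.closedPoint Ω)) :=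
        Finset.sum_congr rfl fun s _ ↦ key (B s)
    _ = ∑ᶠ ℓ ∈ ⋃ s, SB s, w (ℓ (IsLocalRing.closedPoint Ω)) := hU.symm
    _ < ∑ᶠ ℓ ∈ SA, w (ℓ (IsLocalRing.closedPoint Ω)) := by
        rw [← hsplit]; exact lt_add_of_pos_right _ hposD
    _ = _ := (key A).symm

end

end Groth.Agent.Lib.helper13.WT
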