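import Mathlib
import Groth.Prelude.Def_MoreMor
import Groth.Agent.Lib.Helper13.EL8
import Groth.Agent.Lib.Helper13.WT3
import Groth.Agent.Lib.Helper13.WT5
import Groth.Agent.Lib.Helper13.WT8
import Groth.Agent.Lib.Helper13.WT9

/-!
# Local analysis of fibre integrals of positive functions under a monotonicity hypothesis
-/

set_option autoImplicit false

namespace Groth.Agent.Lib.helper13.GF

open AlgebraicGeometry CategoryTheory Limits

universe u

/-- Monotonicity at `y` of the integrals of `w` over good finite pieces of étale base changes. -/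
def LocalMono {X Y : Scheme.{u}} (f : X ⟶ Y) (w : ↑X → ℤ) (y : Y) : Prop :=
  ∀ (V : Scheme.{u}) (g : V ⟶ Y) [Etale g] (B : (pullback f g).Opens) (v₀ : V)
    (p₀ : ↑(pullback f g)),
    g v₀ = y → IsFinite (B.ι ≫ pullback.snd f g) → p₀ ∈ B → pullback.snd f g p₀ = v₀ →
    (∀ p ∈ B, pullback.snd f g p = v₀ → p = p₀) →
    ((pullback.snd f g).residueFieldMap p₀).hom.IsPurelyInseparable →
    ∃ N : Set V, IsOpen N ∧ v₀ ∈ N ∧ ∀ v ∈ N,
      MoreMor.fibreIntegral (B.ι ≫ pullback.snd f g)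
          (fun t ↦ w (pullback.fst f g (B.ι t))) v₀ ≤
        MoreMor.fibreIntegral (B.ι ≫ pullback.snd f g)
          (fun t ↦ w (pullback.fst f g (B.ι t))) v

/-- Under `LocalMono`, the fibre integral of a positive function is lower semicontinuous at `y`,
and if it is constant near `y` then `f` is universally closed over a neighbourhood of `y`. -/
theorem local_analysis {X Y : Scheme.{u}} (f : X ⟶ Y) [LocallyQuasiFinite f]
    [LocallyOfFiniteType f] [IsSeparated f] (hfin : ∀ y : Y, (f ⁻¹' {y}).Finite)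
    (w : ↑X → ℤ) (hpos : ∀ x, 0 < w x) (y : Y) (hmono : LocalMono f w y) :
    (∃ O : Set Y, IsOpen O ∧ y ∈ O ∧ ∀ y' ∈ O,
      MoreMor.fibreIntegral f w y ≤ MoreMor.fibreIntegral f w y') ∧
    (∀ Yd : Set Y, IsOpen Yd → y ∈ Yd →
      (∀ y' ∈ Yd, MoreMor.fibreIntegral f w y' = MoreMor.fibreIntegral f w y) →
        ∃ O : Y.Opens, y ∈ O ∧ (O : Set Y) ⊆ Yd ∧ UniversallyClosed (f ∣_ O)) := by
  classical
  -- enumerate the fibre
  have : Finite (f ⁻¹' {y}) := (hfin y).to_subtype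
  let n := Nat.card (f ⁻¹' {y})
  let eX : (f ⁻¹' {y}) ≃ Fin n := Finite.equivFin _
  let x : Fin n → X := fun i ↦ (eX.symm i).1
  have hxinj : Function.Injective x := fun i i' hii ↦ eX.symm.injective (Subtype.ext hii)
  have hxs : ∀ i, f (x i) = y := fun i ↦ (eX.symm i).2
  have hxsurj : ∀ p, f p = y → ∃ i, x i = p := fun p hp ↦ ⟨eX ⟨p, hp⟩, by simp [x]⟩
  obtain ⟨V, gV, v₀, hgV, hgv, J, hJ, Vo, vp, hgood, hPI, hvinj, hex⟩ :=
    EL.exists_etale_nbhd_purelyInseparable (f := f) y x hxs (fun i ↦ f.quasiFiniteAt (x i))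
  have hmono' : ∀ s : Σ i, J i, ∃ N : Set V, IsOpen N ∧ v₀ ∈ N ∧ ∀ v ∈ N,
      MoreMor.fibreIntegral ((Vo s.1 s.2).ι ≫ pullback.snd f gV)
          (fun t ↦ w (pullback.fst f gV ((Vo s.1 s.2).ι t))) v₀ ≤
        MoreMor.fibreIntegral ((Vo s.1 s.2).ι ≫ pullback.snd f gV)
          (fun t ↦ w (pullback.fst f gV ((Vo s.1 s.2).ι t))) v := fun s ↦
    hmono V gV (Vo s.1 s.2) v₀ (vp s.1 s.2) hgv (hgood s.1 s.2).finite (hgood s.1 s.2).mem
      (hgood s.1 s.2).snd_eq (fun p hp hpv ↦ (hgood s.1 s.2).uniq p hp hpv) (hPI s.1 s.2)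
  obtain ⟨π, hπ⟩ : ∃ π : pullback f gV ⟶ V, π = pullback.snd f gV := ⟨_, rfl⟩
  have sq : IsPullback (pullback.fst f gV) π f gV := hπ ▸ IsPullback.of_hasPullback f gV
  have hcomm : ∀ p, f (pullback.fst f gV p) = gV (π p) := by
    intro p
    rw [← Scheme.Hom.comp_apply, ← Scheme.Hom.comp_apply, sq.w]
  have hresπ : ∀ p, (π.residueFieldMap p).hom.Finite := fun p ↦ by
    rw [hπ]
    exact EL.finite_residueFieldMap_of_quasiFiniteAt ((pullback.snd f gV).quasiFiniteAt p)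
  let B : (Σ i, J i) → (pullback f gV).Opens := fun s ↦ Vo s.1 s.2
  have hBcl : ∀ s, IsClosed (B s : Set ↑(pullback f gV)) := fun s ↦
    (hgood s.1 s.2).closed inferInstance
  have hBfin : ∀ s, IsFinite ((B s).ι ≫ π) := fun s ↦ hπ ▸ (hgood s.1 s.2).finite
  have hBpt : ∀ s, ∀ p ∈ B s, π p = v₀ → p = vp s.1 s.2 := fun s p hp hπp ↦
    (hgood s.1 s.2).uniq p hp (hπ ▸ hπp)
  have hdisj₀ : ∀ p, π p = v₀ → ∀ s s', p ∈ B s → p ∈ B s' → s = s' := by
    rintro p hπp ⟨i, j⟩ ⟨i', j'⟩ hp hp'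
    have e3 : vp i j = vp i' j' := (hBpt ⟨i, j⟩ p hp hπp).symm.trans (hBpt ⟨i', j'⟩ p hp' hπp)
    have hi : i = i' := hxinj (by rw [← (hgood i j).fst_eq, ← (hgood i' j').fst_eq, e3])
    subst hi
    have hj : j = j' := hvinj i e3
    subst hj
    rfl
  -- `N₁`: disjointness
  have hcl2 : ∀ ss : (Σ i, J i) × (Σ i, J i), IsClosed (if ss.1 = ss.2 then (∅ : Set V) else
      π '' ((B ss.1 : Set ↑(pullback f gV)) ∩ (B ss.2 : Set ↑(pullback f gV)))) := by
    intro ss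
    split_ifs
    · exact isClosed_empty
    · haveI := hBfin ss.1
      exact WT.isClosed_image_inter π (B ss.1) _ (hBcl ss.2)
  let N₁ : Set V := (⋃ ss : (Σ i, J i) × (Σ i, J i), if ss.1 = ss.2 then (∅ : Set V) else
      π '' ((B ss.1 : Set ↑(pullback f gV)) ∩ (B ss.2 : Set ↑(pullback f gV))))ᶜ
  have hN₁open : IsOpen N₁ := (isClosed_iUnion_of_finite hcl2).isOpen_compl
  have hN₁ : v₀ ∈ N₁ := by
    show v₀ ∉ ⋃ ss : (Σ i, J i) × (Σ i, J i), if ss.1 = ss.2 then (∅ : Set V) else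
      π '' ((B ss.1 : Set ↑(pullback f gV)) ∩ (B ss.2 : Set ↑(pullback f gV)))
    rw [Set.mem_iUnion]
    rintro ⟨⟨s, s'⟩, hmem⟩
    by_cases hss : s = s'
    · simp [hss] at hmem
    · simp only [hss, if_false] at hmem
      obtain ⟨p, ⟨hp, hp'⟩, hπp⟩ := hmem
      exact hss (hdisj₀ p hπp s s' hp hp')
  have hdisj : ∀ p, π p ∈ N₁ → ∀ s s', p ∈ B s → p ∈ B s' → s = s' := by
    intro p hpN s s' hp hp'
    by_contra hss
    apply hpN
    refine Set.mem_iUnion.mpr ⟨(s, s'), ?_⟩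
    simp only [hss, if_false]
    exact ⟨p, ⟨hp, hp'⟩, rfl⟩
  -- the monotone integrals
  let G : (Σ i, J i) → V → ℤ := fun s ↦ MoreMor.fibreIntegral ((B s).ι ≫ π)
    (fun t ↦ w (pullback.fst f gV ((B s).ι t)))
  have hG : ∀ s : Σ i, J i, ∃ N : Set V, IsOpen N ∧ v₀ ∈ N ∧ ∀ v ∈ N, G s v₀ ≤ G s v := fun s ↦ by
    have := hmono' s
    rw [← hπ] at this
    exact this
  choose Nm hNmopen hNmmem hNmle using hG
  let N₂ : Set V := ⋂ s, Nm s
  have hN₂open : IsOpen N₂ := isOpen_iInter_of_finite hNmopen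
  have hN₂ : v₀ ∈ N₂ := Set.mem_iInter.mpr hNmmem
  -- geometric formulas
  set A : (pullback f gV).Opens := (pullback.fst f gV) ⁻¹ᵁ ⊤ with hA
  have hres : ∀ p : X, (f.residueFieldMap p).hom.Finite := fun p ↦
    EL.finite_residueFieldMap_of_quasiFiniteAt (f.quasiFiniteAt p)
  have hGI : ∀ (v : V) (Ω : Type u) [Field Ω] [IsAlgClosed Ω] (xb : Spec (.of Ω) ⟶ V),
      xb (IsLocalRing.closedPoint Ω) = v →
      MoreMor.fibreIntegral f w (gV v) =
        WT.geomIntegral π Ω A (fun p ↦ w (pullback.fst f gV p)) xb ∧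
      (∀ s, G s v = WT.geomIntegral π Ω (B s) (fun p ↦ w (pullback.fst f gV p)) xb) ∧
      Finite {ℓ : Spec (.of Ω) ⟶ pullback f gV //
        ℓ ≫ π = xb ∧ ℓ (IsLocalRing.closedPoint Ω) ∈ A} := by
    intro v Ω _ _ xb hxb
    have hxb' : (xb ≫ gV) (IsLocalRing.closedPoint Ω) = gV v := by
      rw [Scheme.Hom.comp_apply, hxb]
    refine ⟨?_, fun s ↦ ?_, ?_⟩
    · have e1 := WT.fibreIntegral_eq_geomIntegral_top Ω f w (xb ≫ gV) (gV v) hxb' (hfin _)
        (fun p _ ↦ hres p)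
      have e2 := WT.geomIntegral_of_isPullback Ω sq ⊤ w xb
      exact e1.trans e2.symm
    · haveI := hBfin s
      exact WT.fibreIntegral_eq_geomIntegral π Ω (B s) (fun p ↦ w (pullback.fst f gV p)) xb v hxb
    · have := WT.finite_lifts_top Ω f (xb ≫ gV) (hfin _) (fun p _ ↦ hres p)
      exact Finite.of_equiv _ (WT.liftsMemEquiv Ω sq ⊤ xb).symm
  have := Fintype.ofFinite (Σ i, J i)
  -- the value at `v₀`
  have hval₀ : MoreMor.fibreIntegral f w y = ∑ s, G s v₀ := by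
    obtain ⟨Ω, _, _, xb, hxb⟩ := WT.exists_geometric_point v₀
    obtain ⟨e1, e2, e3⟩ := hGI v₀ Ω xb hxb
    rw [← hgv, e1]
    rw [WT.geomIntegral_eq_sum π Ω A B _ xb]
    · exact Finset.sum_congr rfl fun s _ ↦ (e2 s).symm
    · intro s
      haveI := hBfin s
      exact WT.finite_lifts_open π Ω (B s) xb
    · intro p hp
      refine ⟨fun _ ↦ ?_, fun _ ↦ trivial⟩
      have hπp : π p = v₀ := by rw [hp, hxb]
      obtain ⟨i, hi⟩ := hxsurj (pullback.fst f gV p) (by rw [hcomm, hπp, hgv])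
      obtain ⟨j, hj⟩ := hex p i (hπ ▸ hπp) hi.symm
      exact ⟨⟨i, j⟩, by show p ∈ Vo i j; rw [hj]; exact (hgood i j).mem⟩
    · intro p hp
      exact hdisj₀ p (by rw [hp, hxb])
  -- the sum at nearby points
  have hsum_le : ∀ v ∈ N₂, MoreMor.fibreIntegral f w y ≤ ∑ s, G s v := fun v hv ↦ by
    rw [hval₀]
    exact Finset.sum_le_sum fun s _ ↦ hNmle s v (Set.mem_iInter.mp hv s)
  refine ⟨?_, ?_⟩
  · -- lower semicontinuity
    refine ⟨gV '' (N₁ ∩ N₂), gV.isOpenMap _ (hN₁open.inter hN₂open), ⟨v₀, ⟨hN₁, hN₂⟩, hgv⟩, ?_⟩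
    rintro _ ⟨v, ⟨hv1, hv2⟩, rfl⟩
    obtain ⟨Ω, _, _, xb, hxb⟩ := WT.exists_geometric_point v
    obtain ⟨e1, e2, e3⟩ := hGI v Ω xb hxb
    refine (hsum_le v hv2).trans ?_
    rw [e1]
    have hle := WT.sum_geomIntegral_le Ω π A B (fun p ↦ w (pullback.fst f gV p)) xb e3
      (fun _ _ _ _ ↦ trivial) (fun p hp ↦ hdisj p (by rw [hp, hxb]; exact hv1))
      (fun p ↦ (hpos _).le)
    refine le_trans (le_of_eq ?_) hle
    exact Finset.sum_congr rfl fun s _ ↦ e2 s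
  · -- universally closed near `y`
    intro Yd hYdopen hyYd hYdconst
    let N : V.Opens := ⟨(N₁ ∩ N₂) ∩ gV ⁻¹' Yd,
      (hN₁open.inter hN₂open).inter (hYdopen.preimage gV.continuous)⟩
    have hv₀N : v₀ ∈ N := ⟨⟨hN₁, hN₂⟩, by
      show gV v₀ ∈ Yd
      rw [hgv]; exact hyYd⟩
    have hcover : ∀ p : ↑(pullback f gV), π p ∈ N → ∃ s, p ∈ B s := by
      intro p hpN
      by_contra hno
      push Not at hno
      obtain ⟨⟨hv1, hv2⟩, hv3⟩ := hpN
      have hv3' : MoreMor.fibreIntegral f w (gV (π p)) = MoreMor.fibreIntegral f w y :=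
        hYdconst _ hv3
      obtain ⟨Ω, _, _, xb, hxb⟩ := WT.exists_geometric_point (π p)
      obtain ⟨e1, e2, e3⟩ := hGI (π p) Ω xb hxb
      obtain ⟨ℓ₀, hℓ₀⟩ := WT.exists_lift_of_mem_fibre π Ω xb p hxb.symm (hresπ p)
      have hlt := WT.sum_geomIntegral_lt Ω π A B (fun p ↦ w (pullback.fst f gV p)) xb e3
        (fun _ _ _ _ ↦ trivial) (fun q hq ↦ hdisj q (by rw [hq, hxb]; exact hv1))
        (fun q ↦ hpos _) ℓ₀.1 ℓ₀.2 trivial (by rw [hℓ₀]; exact hno)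
      have hsum : MoreMor.fibreIntegral f w y ≤
          ∑ s, WT.geomIntegral π Ω (B s) (fun p ↦ w (pullback.fst f gV p)) xb := by
        refine (hsum_le (π p) hv2).trans (le_of_eq ?_)
        exact Finset.sum_congr rfl fun s _ ↦ e2 s
      rw [← e1, hv3'] at hlt
      exact lt_irrefl _ (lt_of_le_of_lt hsum hlt)
    -- the open `O`
    let O : Y.Opens := ⟨gV '' (N : Set V), gV.isOpenMap _ N.2⟩
    refine ⟨O, ⟨v₀, hv₀N, hgv⟩, ?_, ?_⟩
    · rintro _ ⟨v, hv, rfl⟩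
      exact hv.2
    -- universally closed over `N`
    have hcovN : ∀ p : ↑(pullback f (N.ι ≫ gV)),
        ∃ s, p ∈ (EL.refineMap f gV N.ι (N.ι ≫ gV) rfl) ⁻¹ᵁ (B s) := by
      intro p
      have h1 : π (EL.refineMap f gV N.ι (N.ι ≫ gV) rfl p) ∈ N := by
        rw [hπ, EL.refineMap_snd_apply]
        exact (pullback.snd f (N.ι ≫ gV) p).2
      exact hcover _ h1
    have hUCN : UniversallyClosed (pullback.snd f (N.ι ≫ gV)) := by
      refine WT.universallyClosed_of_finite_cover (pullback.snd f (N.ι ≫ gV))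
        (fun s ↦ (EL.refineMap f gV N.ι (N.ι ≫ gV) rfl) ⁻¹ᵁ (B s)) (fun s ↦ ?_) hcovN
      have := EL.isFinite_refine f gV N.ι (N.ι ≫ gV) rfl (Vo s.1 s.2) (hgood s.1 s.2).finite
      infer_instance
    -- descent
    have hrange : Set.range (N.ι ≫ gV) ⊆ Set.range O.ι := by
      rw [Scheme.Opens.range_ι]
      rintro _ ⟨v, rfl⟩
      exact ⟨N.ι v, v.2, rfl⟩
    obtain ⟨q, hq⟩ : ∃ q : N.toScheme ⟶ O.toScheme, q ≫ O.ι = N.ι ≫ gV :=
      ⟨IsOpenImmersion.lift O.ι (N.ι ≫ gV) hrange, IsOpenImmersion.lift_fac _ _ _⟩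
    haveI : Etale (q ≫ O.ι) := hq ▸ inferInstance
    haveI : Etale q := Etale.of_comp q O.ι
    have hqsurj : Surjective q := by
      refine ⟨fun o ↦ ?_⟩
      obtain ⟨v, hv, hvo⟩ := o.2
      refine ⟨⟨v, hv⟩, ?_⟩
      apply O.ι.isOpenEmbedding.injective
      rw [← Scheme.Hom.comp_apply, hq]
      exact hvo
    have sqR := (isPullback_morphismRestrict f O).flip
    obtain ⟨t, ht1, ht2⟩ : ∃ t : pullback f (N.ι ≫ gV) ⟶ (f ⁻¹ᵁ O).toScheme,
        t ≫ (f ⁻¹ᵁ O).ι = pullback.fst f (N.ι ≫ gV) ∧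
        t ≫ (f ∣_ O) = pullback.snd f (N.ι ≫ gV) ≫ q :=
      ⟨sqR.lift (pullback.fst f (N.ι ≫ gV)) (pullback.snd f (N.ι ≫ gV) ≫ q)
        (by rw [pullback.condition, Category.assoc, hq]), sqR.lift_fst _ _ _, sqR.lift_snd _ _ _⟩
    have sqD : IsPullback t (pullback.snd f (N.ι ≫ gV)) (f ∣_ O) q := by
      refine IsPullback.of_right (h₁₂ := (f ⁻¹ᵁ O).ι) (h₂₂ := O.ι) (v₁₃ := f) ?_ ht2 sqR
      rw [ht1, hq]
      exact IsPullback.of_hasPullback f (N.ι ≫ gV)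
    exact MorphismProperty.of_isPullback_of_descendsAlong (P := @UniversallyClosed)
      (Q := @Surjective ⊓ @Flat ⊓ @LocallyOfFinitePresentation) sqD.flip
      ⟨⟨hqsurj, inferInstance⟩, inferInstance⟩ hUCN

end Groth.Agent.Lib.helper13.GF
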