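import Mathlib
import Groth.Prelude.Def_MoreMor
import Groth.Prelude.Def_EGA43
import Groth.Agent.Lib.Helper13.GF1
import Groth.Agent.Lib.Helper13.GF2

/-!
# The geometric number of points of the fibres of a separated quasi-finite morphism

Lower semicontinuity at points where the morphism is universally open, and properness near points
where the number is locally constant.
-/

set_option autoImplicit false

namespace Groth.Agent.Lib.helper13.GF

open AlgebraicGeometry CategoryTheory Limits

universe u

lemma discreteTopology_geomFiber {X Y : Scheme.{u}} (f : X ⟶ Y) [LocallyQuasiFinite f] (y : Y) :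
    DiscreteTopology ↑(MoreMor.geomFiber f y) := by
  haveI : LocallyQuasiFinite (f.fiberToSpecResidueField y) :=
    MorphismProperty.pullback_snd (P := @LocallyQuasiFinite) _ _ inferInstance
  haveI : LocallyQuasiFinite (pullback.snd (f.fiberToSpecResidueField y)
      (Spec.map (CommRingCat.ofHom (algebraMap (Y.residueField y)
        (SeparableClosure (Y.residueField y)))))) :=
    MorphismProperty.pullback_snd (P := @LocallyQuasiFinite) _ _ inferInstance
  have h := (pullback.snd (f.fiberToSpecResidueField y)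
    (Spec.map (CommRingCat.ofHom (algebraMap (Y.residueField y)
      (SeparableClosure (Y.residueField y)))))).isDiscrete_preimage_singleton default
  have huniv : (pullback.snd (f.fiberToSpecResidueField y)
      (Spec.map (CommRingCat.ofHom (algebraMap (Y.residueField y)
        (SeparableClosure (Y.residueField y)))))) ⁻¹' {default} = Set.univ := by
    ext w
    simp only [Set.mem_univ, Set.mem_preimage, Set.mem_singleton_iff, iff_true]
    exact @Subsingleton.elim _ (inferInstanceAs (Subsingleton (PrimeSpectrum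
      (SeparableClosure (Y.residueField y))))) _ _
  rw [huniv] at h
  exact isDiscrete_univ_iff.mp h

lemma card_connectedComponents_eq_card (G : Type u) [TopologicalSpace G] [DiscreteTopology G] :
    ENat.card (_root_.ConnectedComponents G) = ENat.card G := by
  refine (ENat.card_congr (Equiv.ofBijective
    (_root_.ConnectedComponents.mk : G → _root_.ConnectedComponents G)
    ⟨fun a b hab ↦ ?_, _root_.ConnectedComponents.surjective_coe⟩)).symm
  have := _root_.ConnectedComponents.coe_eq_coe'.mp hab
  rw [connectedComponent_eq_singleton] at this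
  exact this

/-- The geometric number of points (= of connected components) of a finite fibre of a locally
quasi-finite morphism is the fibre integral of the constant function `1`. -/
theorem nGeom_eq {X Y : Scheme.{u}} (f : X ⟶ Y) [LocallyQuasiFinite f] [LocallyOfFiniteType f]
    (y : Y) (hfin : (f ⁻¹' {y}).Finite) :
    ∃ n : ℕ, MoreMor.nGeomConnComp f y = (n : ℕ∞) ∧
      ENat.card ↑(MoreMor.geomFiber f y) = (n : ℕ∞) ∧
      (n : ℤ) = MoreMor.fibreIntegral f (fun _ ↦ 1) y := by
  obtain ⟨hF, hcard⟩ := card_pullback_sepPoint f y hfin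
  have e : ↑(MoreMor.geomFiber f y) ≃ ↑(pullback f (sepPoint y)) :=
    (geomFiberIso f y).hom.homeomorph.toEquiv
  haveI : Finite ↑(MoreMor.geomFiber f y) := Finite.of_equiv _ e.symm
  haveI := discreteTopology_geomFiber f y
  have h1 : ENat.card ↑(MoreMor.geomFiber f y) = (Nat.card ↑(pullback f (sepPoint y)) : ℕ∞) := by
    letI := Fintype.ofFinite ↑(MoreMor.geomFiber f y)
    rw [ENat.card_eq_coe_fintype_card, ← Nat.card_eq_fintype_card, Nat.card_congr e]
  refine ⟨Nat.card ↑(pullback f (sepPoint y)), ?_, h1, hcard⟩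
  unfold MoreMor.nGeomConnComp
  rw [card_connectedComponents_eq_card, h1]

lemma isPurelyInseparable_of_bijective {F E : Type*} [Field F] [Field E] (φ : F →+* E)
    (h : Function.Bijective φ) : φ.IsPurelyInseparable := by
  algebraize [φ]
  obtain ⟨q, hq⟩ := ExpChar.exists F
  refine (isPurelyInseparable_iff_pow_mem F q).mpr fun x ↦ ⟨0, ?_⟩
  obtain ⟨y, rfl⟩ := h.surjective x
  exact ⟨y, by simp; rfl⟩

/-- Each term of a fibre integral of a positive function along a finite morphism is bounded by the
integral. -/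
lemma le_fibreIntegral {U V : Scheme.{u}} (π : U ⟶ V) [IsFinite π] (w' : U → ℤ)
    (hpos : ∀ t, 0 < w' t) (t₀ : U) : w' t₀ ≤ MoreMor.fibreIntegral π w' (π t₀) := by
  classical
  unfold MoreMor.fibreIntegral
  have hfin : Finite {t : U // π t = π t₀} :=
    (Scheme.Hom.finite_preimage_singleton π (π t₀)).to_subtype
  have := Fintype.ofFinite {t : U // π t = π t₀}
  rw [finsum_eq_sum_of_fintype]
  have hterm : ∀ t : {t : U // π t = π t₀}, w' t.1 ≤ w' t.1 *
      (letI := (π.residueFieldMap t.1).hom.toAlgebra;
        (Field.finSepDegree (V.residueField (π t.1)) (U.residueField t.1) : ℤ)) := by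
    intro t
    letI := (π.residueFieldMap t.1).hom.toAlgebra
    have hfd : Module.Finite (V.residueField (π t.1)) (U.residueField t.1) :=
      Groth.Agent.Lib.helper13.EL.finite_residueFieldMap_of_quasiFiniteAt (π.quasiFiniteAt t.1)
    have h1 : 1 ≤ Field.finSepDegree (V.residueField (π t.1)) (U.residueField t.1) :=
      Nat.one_le_iff_ne_zero.mpr (NeZero.ne _)
    have h2 : (1 : ℤ) ≤ (Field.finSepDegree (V.residueField (π t.1)) (U.residueField t.1) : ℤ) := by
      exact_mod_cast h1
    exact le_mul_of_one_le_right (hpos t.1).le h2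
  refine le_trans (hterm ⟨t₀, rfl⟩) ?_
  exact Finset.single_le_sum (f := fun t : {t : U // π t = π t₀} ↦ w' t.1 *
      (letI := (π.residueFieldMap t.1).hom.toAlgebra;
        (Field.finSepDegree (V.residueField (π t.1)) (U.residueField t.1) : ℤ)))
    (fun t _ ↦ le_trans (hpos t.1).le (hterm t)) (Finset.mem_univ _)

/-- A universally open morphism is universally open at every point. -/
lemma isUnivOpenAt_of_universallyOpen {X Y : Scheme.{u}} (f : X ⟶ Y) [UniversallyOpen f] (x : X) :
    EGA43.IsUnivOpenAt f x := by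
  intro Y' g x' _ U hU
  exact (pullback.snd f g).isOpenMap.image_mem_nhds hU

/-- If `f` is universally open at the points over `y`, the constant function `1` is locally
monotone at `y`. -/
theorem localMono_one_of_isUnivOpenAt {X Y : Scheme.{u}} (f : X ⟶ Y) (y : Y)
    (h : ∀ x : X, f x = y → EGA43.IsUnivOpenAt f x) : LocalMono f (fun _ ↦ 1) y := by
  intro V g _ B v₀ p₀ hgv hfinπ hp₀ hsnd huniq hPI
  have hfy : f (pullback.fst f g p₀) = y := by
    rw [← Scheme.Hom.comp_apply, pullback.condition, Scheme.Hom.comp_apply, hsnd, hgv]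
  have hopen := h _ hfy V g p₀ rfl (B : Set ↑(pullback f g)) (B.isOpen.mem_nhds hp₀)
  set π := B.ι ≫ pullback.snd f g with hπ
  set t₀ : B.toScheme := ⟨p₀, hp₀⟩ with ht₀
  have hπt₀ : π t₀ = v₀ := hsnd
  have hFv₀ : MoreMor.fibreIntegral π (fun _ ↦ (1 : ℤ)) v₀ = 1 := by
    unfold MoreMor.fibreIntegral
    have huniq' : ∀ t : {t : B.toScheme // π t = v₀}, t = ⟨t₀, hπt₀⟩ := by
      rintro ⟨t, ht⟩
      apply Subtype.ext
      apply Subtype.ext
      exact huniq t.1 t.2 ht
    refine (finsum_eq_single _ (⟨t₀, hπt₀⟩ : {t : B.toScheme // π t = v₀})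
      (fun t ht ↦ (ht (huniq' t)).elim)).trans ?_
    have hPIπ : (π.residueFieldMap t₀).hom.IsPurelyInseparable := by
      rw [hπ, Scheme.residueFieldMap_comp]
      show ((B.ι.residueFieldMap t₀).hom.comp
        ((pullback.snd f g).residueFieldMap (B.ι t₀)).hom).IsPurelyInseparable
      exact RingHom.IsPurelyInseparable.comp hPI
        (isPurelyInseparable_of_bijective _ (ConcreteCategory.bijective_of_isIso _))
    letI := (π.residueFieldMap t₀).hom.toAlgebra
    have hPI' : IsPurelyInseparable (V.residueField (π t₀)) (B.toScheme.residueField t₀) := hPIπ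
    have h1 : Field.finSepDegree (V.residueField (π t₀)) (B.toScheme.residueField t₀) = 1 :=
      IsPurelyInseparable.finSepDegree_eq_one _ _
    show (1 : ℤ) * ((Field.finSepDegree (V.residueField (π t₀))
      (B.toScheme.residueField t₀) : ℕ) : ℤ) = 1
    rw [h1, Nat.cast_one, mul_one]
  refine ⟨interior (pullback.snd f g '' (B : Set ↑(pullback f g))), isOpen_interior,
    mem_interior_iff_mem_nhds.mpr (hsnd ▸ hopen), fun v hv ↦ ?_⟩
  obtain ⟨p, hpB, rfl⟩ := interior_subset hv
  haveI : IsFinite π := hfinπ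
  have h2 := le_fibreIntegral π (fun _ ↦ (1 : ℤ)) (fun _ ↦ one_pos) ⟨p, hpB⟩
  show MoreMor.fibreIntegral π (fun _ ↦ (1 : ℤ)) v₀ ≤ MoreMor.fibreIntegral π (fun _ ↦ (1 : ℤ)) _
  rw [hFv₀]
  exact h2

section Main

variable {X Y : Scheme.{u}} (f : X ⟶ Y) [IsSeparated f] [LocallyQuasiFinite f]
  [LocallyOfFiniteType f] [QuasiCompact f]

/-- Lower semicontinuity at `y` of the geometric number of points of the fibres. -/
theorem nGeom_lsc_at (y : Y) (h : ∀ x : X, f x = y → EGA43.IsUnivOpenAt f x) :
    ∃ O : Set Y, IsOpen O ∧ y ∈ O ∧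
      ∀ z ∈ O, MoreMor.nGeomConnComp f y ≤ MoreMor.nGeomConnComp f z := by
  have hfin : ∀ y : Y, (f ⁻¹' {y}).Finite := fun y ↦ Scheme.Hom.finite_preimage_singleton f y
  obtain ⟨⟨O, hO, hyO, hle⟩, -⟩ := local_analysis f hfin (fun _ ↦ 1) (fun _ ↦ one_pos) y
    (localMono_one_of_isUnivOpenAt f y h)
  refine ⟨O, hO, hyO, fun z hz ↦ ?_⟩
  obtain ⟨n, hn, -, hn'⟩ := nGeom_eq f y (hfin y)
  obtain ⟨m, hm, -, hm'⟩ := nGeom_eq f z (hfin z)
  rw [hn, hm]
  have := hle z hz
  rw [← hn', ← hm'] at this
  exact_mod_cast this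

/-- If the geometric number of points of the fibres is constant near `y`, then `f` is proper over
a neighbourhood of `y`. -/
theorem nGeom_proper_at (y : Y) (h : ∀ x : X, f x = y → EGA43.IsUnivOpenAt f x)
    (hc : ∃ V ∈ nhds y, ∀ z ∈ V, MoreMor.nGeomConnComp f z = MoreMor.nGeomConnComp f y) :
    ∃ U : Y.Opens, y ∈ U ∧ IsProper (f ∣_ U) := by
  have hfin : ∀ y : Y, (f ⁻¹' {y}).Finite := fun y ↦ Scheme.Hom.finite_preimage_singleton f y
  obtain ⟨-, h2⟩ := local_analysis f hfin (fun _ ↦ 1) (fun _ ↦ one_pos) y
    (localMono_one_of_isUnivOpenAt f y h)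
  obtain ⟨V, hV, hconst⟩ := hc
  obtain ⟨O, hyO, -, hUC⟩ := h2 (interior V) isOpen_interior (mem_interior_iff_mem_nhds.mpr hV)
    (fun z hz ↦ by
      obtain ⟨n, hn, -, hn'⟩ := nGeom_eq f y (hfin y)
      obtain ⟨m, hm, -, hm'⟩ := nGeom_eq f z (hfin z)
      have := hconst z (interior_subset hz)
      rw [hn, hm] at this
      rw [← hn', ← hm']
      exact_mod_cast this)
  exact ⟨O, hyO, { toIsSeparated := inferInstance
                   toUniversallyClosed := hUC
                   toLocallyOfFiniteType := inferInstance }⟩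

end Main

end Groth.Agent.Lib.helper13.GF
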