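import Mathlib
import Groth.Agent.Lib.Helper13.UR2

/-!
# Étale-local structure of unramified morphisms at finitely many points: the core theorem
-/

set_option autoImplicit false

namespace Groth.Agent.Lib.helper13.UR

open AlgebraicGeometry CategoryTheory Limits

universe u

lemma isPurelyInseparable_of_bijective {F E : Type*} [Field F] [Field E] (φ : F →+* E)
    (h : Function.Bijective φ) : φ.IsPurelyInseparable := by
  algebraize [φ]
  obtain ⟨q, hq⟩ := ExpChar.exists F
  refine (isPurelyInseparable_iff_pow_mem F q).mpr fun x ↦ ⟨0, ?_⟩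
  obtain ⟨y, rfl⟩ := h.surjective x
  exact ⟨y, by simp; rfl⟩

variable {X S : Scheme.{u}} (f : X ⟶ S)

/-- **Core theorem.**  For an unramified morphism `f` and finitely many distinct points `x i` over
`s`, there is an étale neighbourhood `(U, u)` of `s` and finitely many opens `V k` of `X_U`, closed
immersions into `U`, with exactly one point `v k` over `u`, exhausting the points over `u` and
the `x i`. -/
theorem exists_etale_nbhd_isLocalData [LocallyOfFiniteType f] [FormallyUnramified f] (s : S)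
    {ι : Type} [Finite ι] (x : ι → ↑X) (hinj : Function.Injective x) (hs : ∀ i, f (x i) = s) :
    ∃ (U : Scheme.{u}) (g : U ⟶ S) (u : U), Etale g ∧ g u = s ∧
      ∃ (K : Type) (_ : Finite K) (lab : K → ι) (V : K → (pullback f g).Opens)
        (v : K → ↑(pullback f g)),
        IsLocalData f x g u lab V v ∧ ∀ k, IsClosedImmersion ((V k).ι ≫ pullback.snd f g) := by
  classical
  haveI : LocallyQuasiFinite f := locallyQuasiFinite_of_formallyUnramified f
  obtain ⟨U, g, u, hg, hgu, J, hJ, V, v, hgood, hPI, hvinj, hex⟩ :=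
    EL.exists_etale_nbhd_purelyInseparable (f := f) s x hs (fun i ↦ f.quasiFiniteAt (x i))
  -- local closed immersions
  have hloc : ∀ k : Σ i, J i, ∃ U₀ : U.Opens, u ∈ U₀ ∧ ∀ U₁ : U.Opens, U₁ ≤ U₀ →
      IsClosedImmersion (((V k.1 k.2).ι ≫ pullback.snd f g) ∣_ U₁) := by
    rintro ⟨i, j⟩
    have hG := hgood i j
    haveI : IsFinite ((V i j).ι ≫ pullback.snd f g) := hG.finite
    haveI : FormallyUnramified (pullback.snd f g) :=
      MorphismProperty.pullback_snd (P := @FormallyUnramified) f g inferInstance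
    haveI : FormallyUnramified ((V i j).ι ≫ pullback.snd f g) :=
      MorphismProperty.comp_mem (W := @FormallyUnramified) _ _ inferInstance inferInstance
    let t₀ : (V i j).toScheme := ⟨v i j, hG.mem⟩
    have ht₀ : ((V i j).ι ≫ pullback.snd f g) t₀ = u := hG.snd_eq
    have huniq : ∀ t, ((V i j).ι ≫ pullback.snd f g) t = u → t = t₀ := fun t ht ↦
      Subtype.ext (hG.uniq t.1 t.2 ht)
    have hfin : (((V i j).ι ≫ pullback.snd f g).residueFieldMap t₀).hom.Finite :=
      EL.finite_residueFieldMap_of_quasiFiniteAt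
        (((V i j).ι ≫ pullback.snd f g).quasiFiniteAt t₀)
    have hPIπ : (((V i j).ι ≫ pullback.snd f g).residueFieldMap t₀).hom.IsPurelyInseparable := by
      rw [Scheme.residueFieldMap_comp]
      show (((V i j).ι.residueFieldMap t₀).hom.comp
        ((pullback.snd f g).residueFieldMap ((V i j).ι t₀)).hom).IsPurelyInseparable
      exact RingHom.IsPurelyInseparable.comp (hPI i j)
        (isPurelyInseparable_of_bijective _ (ConcreteCategory.bijective_of_isIso _))
    exact exists_isClosedImmersion_morphismRestrict _ u t₀ ht₀ huniq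
      (bijective_residueFieldMap_of_isPurelyInseparable _ t₀ hfin hPIπ)
  choose U₀ hU₀mem hU₀ using hloc
  haveI : Finite (Σ i, J i) := inferInstance
  -- the data over `U`
  have hdata : IsLocalData f x g u (Sigma.fst : (Σ i, J i) → ι) (fun k ↦ V k.1 k.2)
      (fun k ↦ v k.1 k.2) := by
    refine ⟨fun k ↦ (hgood k.1 k.2).mem, fun k ↦ (hgood k.1 k.2).snd_eq,
      fun k ↦ (hgood k.1 k.2).fst_eq, fun k w hw hwu ↦ (hgood k.1 k.2).uniq w hw hwu, ?_, ?_⟩
    · rintro ⟨i, j⟩ ⟨i', j'⟩ hkk'
      have hkk'' : v i j = v i' j' := hkk'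
      have hii' : i = i' := by
        apply hinj
        rw [← (hgood i j).fst_eq, ← (hgood i' j').fst_eq, hkk'']
      subst hii'
      rw [hvinj i hkk'']
    · intro w i hwu hwx
      obtain ⟨j, hj⟩ := hex w i hwu hwx
      exact ⟨⟨i, j⟩, rfl, hj⟩
  -- shrink
  let U' : U.Opens := ⨅ k, U₀ k
  have hu' : u ∈ U' := by
    show u ∈ ((⨅ k, U₀ k : U.Opens) : Set U)
    rw [TopologicalSpace.Opens.coe_iInf]
    exact Set.mem_iInter.mpr hU₀mem
  obtain ⟨v', -, hdata'⟩ := hdata.restrict U' hu'
  refine ⟨U', U'.ι ≫ g, ⟨u, hu'⟩, inferInstance, hgu, Σ i, J i, inferInstance, Sigma.fst,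
    fun k ↦ (resMap f g U') ⁻¹ᵁ V k.1 k.2, v', hdata', fun k ↦ ?_⟩
  exact resMap_of_morphismRestrict @IsClosedImmersion U' (V k.1 k.2) (hU₀ k U' (iInf_le U₀ k))

end Groth.Agent.Lib.helper13.UR
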