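import Mathlib
import Groth.Agent.Lib.Helper13.UR3
import Groth.Agent.Lib.Helper13.WT3

/-!
# Étale-local structure of unramified morphisms: shrinking and the main theorem
-/

set_option autoImplicit false

namespace Groth.Agent.Lib.helper13.UR

open AlgebraicGeometry CategoryTheory Limits

universe u

variable {X S : Scheme.{u}} {f : X ⟶ S} {ι : Type} {x : ι → ↑X} {U : Scheme.{u}} {g : U ⟶ S}
  {u : U} {K : Type} {lab : K → ι} {V : K → (pullback f g).Opens} {v : K → ↑(pullback f g)}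

/-- Shrinking the étale neighbourhood so that étale pieces become isomorphisms and, in the
separated case, distinct pieces become disjoint. -/
lemma IsLocalData.exists_shrink [Finite K] (h : IsLocalData f x g u lab V v)
    (hcl : ∀ k, IsClosedImmersion ((V k).ι ≫ pullback.snd f g)) :
    ∃ U' : U.Opens, u ∈ U' ∧
      ((∀ k, Etale ((V k).ι ≫ pullback.snd f g)) →
        ∀ k, IsIso (((resMap f g U') ⁻¹ᵁ V k).ι ≫ pullback.snd f (U'.ι ≫ g))) ∧
      (IsSeparated f → ∀ k k', k ≠ k' →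
        Disjoint ((resMap f g U') ⁻¹ᵁ V k) ((resMap f g U') ⁻¹ᵁ V k')) := by
  classical
  -- étale part
  have hD : ∃ U_D : U.Opens, u ∈ U_D ∧ ((∀ k, Etale ((V k).ι ≫ pullback.snd f g)) →
      ∀ k, IsOpenImmersion ((V k).ι ≫ pullback.snd f g) ∧
        ∀ u'' ∈ U_D, u'' ∈ Set.range ((V k).ι ≫ pullback.snd f g)) := by
    by_cases hE : ∀ k, Etale ((V k).ι ≫ pullback.snd f g)
    · have hO : ∀ k, IsOpenImmersion ((V k).ι ≫ pullback.snd f g) := fun k ↦ by
        haveI := hcl k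
        haveI := hE k
        exact IsOpenImmersion.of_flat_of_mono _
      refine ⟨⨅ k, ⟨Set.range ((V k).ι ≫ pullback.snd f g), (hO k).base_open.isOpen_range⟩, ?_,
        fun _ k ↦ ⟨hO k, fun u'' hu'' ↦ ?_⟩⟩
      · show u ∈ ((⨅ k, (⟨Set.range ((V k).ι ≫ pullback.snd f g),
          (hO k).base_open.isOpen_range⟩ : U.Opens) : U.Opens) : Set U)
        rw [TopologicalSpace.Opens.coe_iInf]
        exact Set.mem_iInter.mpr fun k ↦ ⟨⟨v k, h.mem k⟩, h.snd_eq k⟩
      · have : u'' ∈ ((⨅ k, (⟨Set.range ((V k).ι ≫ pullback.snd f g),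
          (hO k).base_open.isOpen_range⟩ : U.Opens) : U.Opens) : Set U) := hu''
        rw [TopologicalSpace.Opens.coe_iInf] at this
        exact Set.mem_iInter.mp this k
    · exact ⟨⊤, trivial, fun hE' ↦ (hE hE').elim⟩
  -- separated part
  have hC : ∃ U_C : U.Opens, u ∈ U_C ∧ (IsSeparated f → ∀ k k', k ≠ k' →
      ∀ w, w ∈ V k → w ∈ V k' → pullback.snd f g w ∉ U_C) := by
    by_cases hS : IsSeparated f
    · haveI := hS
      have hVcl : ∀ k, IsClosed ((V k : Set ↑(pullback f g))) := fun k ↦ by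
        haveI := hcl k
        haveI : UniversallyClosed (V k).ι :=
          UniversallyClosed.of_comp_of_isSeparated (V k).ι (pullback.snd f g)
        have := (V k).ι.isClosedMap.isClosed_range
        rwa [Scheme.Opens.range_ι] at this
      let Z : K × K → Set U := fun p ↦
        pullback.snd f g '' ((V p.1 : Set ↑(pullback f g)) ∩ (V p.2 : Set ↑(pullback f g)))
      have hZcl : ∀ p, IsClosed (Z p) := fun p ↦ by
        haveI := hcl p.1
        exact WT.isClosed_image_inter (pullback.snd f g) (V p.1) _ (hVcl p.2)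
      have hcl' : IsClosed (⋃ p : {p : K × K // p.1 ≠ p.2}, Z p.1) :=
        isClosed_iUnion_of_finite fun p ↦ hZcl p.1
      refine ⟨⟨(⋃ p : {p : K × K // p.1 ≠ p.2}, Z p.1)ᶜ, hcl'.isOpen_compl⟩, ?_,
        fun _ k k' hkk' w hw hw' hmem ↦ ?_⟩
      · intro hu
        obtain ⟨⟨⟨k, k'⟩, hkk'⟩, w, ⟨hw, hw'⟩, hwu⟩ := Set.mem_iUnion.mp hu
        apply hkk'
        apply h.inj
        rw [← h.uniq k w hw hwu, ← h.uniq k' w hw' hwu]
      · exact hmem (Set.mem_iUnion.mpr ⟨⟨⟨k, k'⟩, hkk'⟩, w, ⟨hw, hw'⟩, rfl⟩)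
    · exact ⟨⊤, trivial, fun hS' ↦ (hS hS').elim⟩
  obtain ⟨U_D, huD, hD⟩ := hD
  obtain ⟨U_C, huC, hC⟩ := hC
  refine ⟨U_D ⊓ U_C, ⟨huD, huC⟩, fun hE k ↦ ?_, fun hS k k' hkk' ↦ ?_⟩
  · obtain ⟨hO, hrange⟩ := hD hE k
    haveI : IsOpenImmersion (((resMap f g (U_D ⊓ U_C)) ⁻¹ᵁ V k).ι ≫
        pullback.snd f ((U_D ⊓ U_C).ι ≫ g)) :=
      resMap_of_isStableUnderBaseChange @IsOpenImmersion _ _ hO
    rw [isIso_iff_isOpenImmersion_and_surjective]
    refine ⟨inferInstance, ⟨fun u'' ↦ ?_⟩⟩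
    obtain ⟨t, ht⟩ := hrange ((U_D ⊓ U_C).ι u'') u''.2.1
    obtain ⟨t', -, ht'⟩ := WT.exists_preimage_of_isPullback
      (isPullback_resMap_restrict f g (U_D ⊓ U_C) (V k)) t u'' ht
    exact ⟨t', ht'⟩
  · rw [disjoint_iff, eq_bot_iff]
    rintro w ⟨hw, hw'⟩
    exact (hC hS k k' hkk' (resMap f g (U_D ⊓ U_C) w) hw hw' (resMap_snd_mem _ w).2).elim

variable (f)

/-- **Main theorem.**  Let `x i` be finitely many distinct points of `X` over `s`, contained in an
open `X₀` which is unramified over `S`.  There is an étale neighbourhood `(U, u)` of `s` and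
local data `V k`, `v k` such that each `V k ⟶ U` is a closed immersion; if `X₀` is étale over `S`
the `V k ⟶ U` are isomorphisms; if `f` is separated the `V k` are pairwise disjoint. -/
theorem exists_etale_nbhd_main (s : S) [Finite ι] (x : ι → ↑X) (hinj : Function.Injective x)
    (hs : ∀ i, f (x i) = s) (X₀ : X.Opens) (hxX₀ : ∀ i, x i ∈ X₀)
    [LocallyOfFiniteType (X₀.ι ≫ f)] [FormallyUnramified (X₀.ι ≫ f)] :
    ∃ (U : Scheme.{u}) (g : U ⟶ S) (u : U), Etale g ∧ g u = s ∧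
      ∃ (K : Type) (_ : Finite K) (lab : K → ι) (V : K → (pullback f g).Opens)
        (v : K → ↑(pullback f g)),
        IsLocalData f x g u lab V v ∧ (∀ k, IsClosedImmersion ((V k).ι ≫ pullback.snd f g)) ∧
        (Etale (X₀.ι ≫ f) → ∀ k, IsIso ((V k).ι ≫ pullback.snd f g)) ∧
        (IsSeparated f → ∀ k k', k ≠ k' → Disjoint (V k) (V k')) := by
  let x₀ : ι → ↑X₀.toScheme := fun i ↦ ⟨x i, hxX₀ i⟩
  have hinj₀ : Function.Injective x₀ := fun i i' hii' ↦ hinj (congrArg Subtype.val hii')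
  have hs₀ : ∀ i, (X₀.ι ≫ f) (x₀ i) = s := fun i ↦ hs i
  obtain ⟨U, g, u, hg, hgu, K, hK, lab, V₀, v₀, hdata₀, hcl₀⟩ :=
    exists_etale_nbhd_isLocalData (X₀.ι ≫ f) s x₀ hinj₀ hs₀
  have hdata : IsLocalData f x g u lab (fun k ↦ (openMap f g X₀) ''ᵁ V₀ k)
      (fun k ↦ openMap f g X₀ (v₀ k)) := hdata₀.of_open
  have hcl : ∀ k, IsClosedImmersion (((openMap f g X₀) ''ᵁ V₀ k).ι ≫ pullback.snd f g) :=
    fun k ↦ by
      haveI := hcl₀ k
      rw [openMap_image_ι_snd]; infer_instance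
  have het : Etale (X₀.ι ≫ f) →
      ∀ k, Etale (((openMap f g X₀) ''ᵁ V₀ k).ι ≫ pullback.snd f g) := fun hE k ↦ by
    haveI := hE
    rw [openMap_image_ι_snd]; infer_instance
  obtain ⟨U', hu', hiso, hdisj⟩ := hdata.exists_shrink hcl
  obtain ⟨v', -, hdata'⟩ := hdata.restrict U' hu'
  refine ⟨U', U'.ι ≫ g, ⟨u, hu'⟩, inferInstance, hgu, K, hK, lab,
    fun k ↦ (resMap f g U') ⁻¹ᵁ ((openMap f g X₀) ''ᵁ V₀ k), v', hdata', fun k ↦ ?_,
    fun hE ↦ hiso (het hE), hdisj⟩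
  exact resMap_of_isStableUnderBaseChange @IsClosedImmersion U' _ (hcl k)

end Groth.Agent.Lib.helper13.UR
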