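import Mathlib
import Groth.Agent.Lib.Helper13.UR4

/-!
# Étale-local structure of unramified morphisms: complements and the finite case
-/

set_option autoImplicit false

namespace Groth.Agent.Lib.helper13.UR

open AlgebraicGeometry CategoryTheory Limits

universe u

section Complement

variable {X S : Scheme.{u}} {f : X ⟶ S} {ι : Type} {x : ι → ↑X} {U : Scheme.{u}} {g : U ⟶ S}
  {u : U} {K : Type} {lab : K → ι} {V : K → (pullback f g).Opens} {v : K → ↑(pullback f g)}

lemma isClosed_of_isClosedImmersion [IsSeparated f] (V : (pullback f g).Opens)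
    (hcl : IsClosedImmersion (V.ι ≫ pullback.snd f g)) : IsClosed (V : Set ↑(pullback f g)) := by
  haveI := hcl
  haveI : UniversallyClosed V.ι := UniversallyClosed.of_comp_of_isSeparated V.ι (pullback.snd f g)
  have := V.ι.isClosedMap.isClosed_range
  rwa [Scheme.Opens.range_ι] at this

lemma IsLocalData.exists_complement [IsSeparated f] [Finite K] (h : IsLocalData f x g u lab V v)
    (hcl : ∀ k, IsClosedImmersion ((V k).ι ≫ pullback.snd f g)) :
    ∃ W : (pullback f g).Opens,
      (W : Set ↑(pullback f g)) = (⋃ k, (V k : Set ↑(pullback f g)))ᶜ ∧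
      W ⊔ (⨆ k, V k) = ⊤ ∧ (∀ k, Disjoint W (V k)) ∧
      (∀ (w : ↑(pullback f g)) (i : ι), w ∈ W → pullback.snd f g w = u →
        pullback.fst f g w ≠ x i) := by
  have hcl' : IsClosed (⋃ k, (V k : Set ↑(pullback f g))) :=
    isClosed_iUnion_of_finite fun k ↦ isClosed_of_isClosedImmersion (V k) (hcl k)
  refine ⟨⟨_, hcl'.isOpen_compl⟩, rfl, ?_, ?_, ?_⟩
  · rw [eq_top_iff]
    intro w _
    by_cases hw : w ∈ ⋃ k, (V k : Set ↑(pullback f g))
    · obtain ⟨k, hk⟩ := Set.mem_iUnion.mp hw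
      exact Or.inr (TopologicalSpace.Opens.mem_iSup.mpr ⟨k, hk⟩)
    · exact Or.inl hw
  · intro k
    rw [disjoint_iff, eq_bot_iff]
    rintro w ⟨hw, hw'⟩
    exact (hw (Set.mem_iUnion.mpr ⟨k, hw'⟩)).elim
  · intro w i hw hwu hwx
    obtain ⟨k, -, hwk⟩ := h.exh w i hwu hwx
    exact hw (Set.mem_iUnion.mpr ⟨k, hwk ▸ h.mem k⟩)

end Complement

section Finite

variable {X S : Scheme.{u}} (f : X ⟶ S)

/-- A finite unramified morphism is, étale locally on the base, a finite disjoint union of closed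
immersions (isomorphisms if `f` is moreover étale). -/
theorem exists_etale_nbhd_finite [IsFinite f] [FormallyUnramified f] (s : S) :
    ∃ (U : Scheme.{u}) (g : U ⟶ S) (u : U), Etale g ∧ g u = s ∧
      ∃ (K : Type) (_ : Finite K) (V : K → (pullback f g).Opens),
        (⨆ k, V k = ⊤) ∧ (∀ k k', k ≠ k' → Disjoint (V k) (V k')) ∧
        (∀ k, IsClosedImmersion ((V k).ι ≫ pullback.snd f g)) ∧
        (Etale f → ∀ k, IsIso ((V k).ι ≫ pullback.snd f g)) := by
  classical
  have hfib : (f ⁻¹' {s}).Finite := Scheme.Hom.finite_preimage_singleton f s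
  haveI : Finite (f ⁻¹' {s}) := hfib.to_subtype
  let e : Fin (Nat.card (f ⁻¹' {s})) ≃ (f ⁻¹' {s}) := (Finite.equivFin _).symm
  let x : Fin (Nat.card (f ⁻¹' {s})) → ↑X := fun i ↦ (e i).1
  have hinj : Function.Injective x := fun i i' hii' ↦ e.injective (Subtype.ext hii')
  have hs : ∀ i, f (x i) = s := fun i ↦ (e i).2
  haveI : FormallyUnramified ((⊤ : X.Opens).ι ≫ f) :=
    MorphismProperty.comp_mem (W := @FormallyUnramified) _ _ inferInstance inferInstance
  obtain ⟨U, g, u, hg, hgu, K, hK, lab, V, v, hdata, hcl, hiso, hdisj⟩ :=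
    exists_etale_nbhd_main f s x hinj hs ⊤ (fun _ ↦ trivial)
  haveI : IsSeparated f := inferInstance
  obtain ⟨W, hWeq, -, -, hW⟩ := hdata.exists_complement hcl
  -- `W` is closed
  have hWcl : IsClosed (W : Set ↑(pullback f g)) := by
    rw [hWeq]
    exact (isOpen_iUnion fun k ↦ (V k).2).isClosed_compl
  have hZcl : IsClosed (pullback.snd f g '' (W : Set ↑(pullback f g))) :=
    (pullback.snd f g).isClosedMap _ hWcl
  have huZ : u ∉ pullback.snd f g '' (W : Set ↑(pullback f g)) := by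
    rintro ⟨w, hw, hwu⟩
    have hfw : f (pullback.fst f g w) = s := by
      rw [← hgu, ← hwu]
      show (pullback.fst f g ≫ f) w = (pullback.snd f g ≫ g) w
      rw [pullback.condition]
    have hxi : pullback.fst f g w = x (e.symm ⟨pullback.fst f g w, hfw⟩) := by
      show _ = (e (e.symm ⟨pullback.fst f g w, hfw⟩)).1
      rw [e.apply_symm_apply]
    exact hW w _ hw hwu hxi
  let U' : U.Opens := ⟨(pullback.snd f g '' (W : Set ↑(pullback f g)))ᶜ, hZcl.isOpen_compl⟩
  have hu' : u ∈ U' := huZ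
  refine ⟨U', U'.ι ≫ g, ⟨u, hu'⟩, inferInstance, hgu, K, hK,
    fun k ↦ (resMap f g U') ⁻¹ᵁ V k, ?_, ?_, ?_, ?_⟩
  · rw [eq_top_iff]
    intro w _
    have hrw : resMap f g U' w ∉ (W : Set ↑(pullback f g)) := fun hmem ↦
      resMap_snd_mem U' w ⟨_, hmem, rfl⟩
    rw [hWeq, Set.notMem_compl_iff] at hrw
    obtain ⟨k, hk⟩ := Set.mem_iUnion.mp hrw
    exact TopologicalSpace.Opens.mem_iSup.mpr ⟨k, hk⟩
  · intro k k' hkk'
    have := hdisj inferInstance k k' hkk'
    rw [disjoint_iff, eq_bot_iff] at this ⊢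
    rintro w ⟨hw, hw'⟩
    exact this ⟨hw, hw'⟩
  · intro k
    exact resMap_of_isStableUnderBaseChange @IsClosedImmersion U' _ (hcl k)
  · intro hE k
    haveI := hE
    exact resMap_of_isStableUnderBaseChange (MorphismProperty.isomorphisms Scheme.{u}) U' _
      (hiso inferInstance k)

end Finite

section Sigma

/-- A scheme covered by finitely many pairwise disjoint opens is their coproduct. -/
theorem exists_sigma_iso {Y : Scheme.{u}} {K : Type} [Finite K] (V : K → Y.Opens)
    (hcov : ⨆ k, V k = ⊤) (hdisj : ∀ k k', k ≠ k' → Disjoint (V k) (V k')) :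
    ∃ (n : ℕ) (e : Fin n ≃ K) (iso : (∐ fun j ↦ (V (e j)).toScheme) ≅ Y),
      ∀ j, Sigma.ι (fun j ↦ (V (e j)).toScheme) j ≫ iso.hom = (V (e j)).ι := by
  let e : Fin (Nat.card K) ≃ K := (Finite.equivFin K).symm
  have h := nonempty_isColimit_cofanMk_of (σ := Fin (Nat.card K))
    (X := fun j ↦ (V (e j)).toScheme) (S := Y) (fun j ↦ (V (e j)).ι)
    (by
      simp only [Scheme.Opens.opensRange_ι]
      rw [← hcov]
      exact e.iSup_comp (g := V))
    (by
      intro j j' hjj'
      simp only [Function.onFun, Scheme.Opens.opensRange_ι]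
      exact hdisj _ _ (fun h ↦ hjj' (e.injective h)))
  have hiso : IsIso (Sigma.desc fun j ↦ (V (e j)).ι) :=
    (Cofan.nonempty_isColimit_iff_isIso_sigmaDesc (Cofan.mk Y fun j ↦ (V (e j)).ι)).mp h
  refine ⟨Nat.card K, e, asIso (Sigma.desc fun j ↦ (V (e j)).ι), fun j ↦ ?_⟩
  rw [asIso_hom, Sigma.ι_desc]

end Sigma

end Groth.Agent.Lib.helper13.UR
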