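import Mathlib
import Groth.Prelude.Def_MoreMor
import Groth.Agent.Lib.Helper13.GF3
import Groth.Agent.Lib.Helper13.UR5

/-!
# Finite étale morphisms have locally constant geometric fibre cardinality
-/

set_option autoImplicit false

namespace Groth.Agent.Lib.helper13.GF

open AlgebraicGeometry CategoryTheory Limits

universe u

lemma card_geomFiber_eq_nGeom {X Y : Scheme.{u}} (f : X ⟶ Y) [LocallyQuasiFinite f] (y : Y) :
    ENat.card ↑(MoreMor.geomFiber f y) = MoreMor.nGeomConnComp f y := by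
  haveI := discreteTopology_geomFiber f y
  exact (card_connectedComponents_eq_card _).symm

/-- The fibre integral of `1` along a morphism which is a finite disjoint union of isomorphisms. -/
theorem fibreIntegral_one_of_split {T V : Scheme.{u}} (π : T ⟶ V) {K : Type} [Finite K]
    (W : K → T.Opens) (hcov : ⨆ k, W k = ⊤) (hdisj : ∀ k k', k ≠ k' → Disjoint (W k) (W k'))
    (hiso : ∀ k, IsIso ((W k).ι ≫ π)) (v : V) :
    MoreMor.fibreIntegral π (fun _ ↦ 1) v = Nat.card K := by
  classical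
  have hs0 : ∀ k, π ((W k).ι ((inv ((W k).ι ≫ π)) v)) = v := fun k ↦ by
    rw [← Scheme.Hom.comp_apply, ← Scheme.Hom.comp_apply, IsIso.inv_hom_id]
    rfl
  let s : K → {t : T // π t = v} := fun k ↦ ⟨(W k).ι ((inv ((W k).ι ≫ π)) v), hs0 k⟩
  have hs_mem : ∀ k, (s k).1 ∈ W k := fun k ↦ ((inv ((W k).ι ≫ π)) v).2
  have hs_inj : Function.Injective s := by
    intro k k' hkk'
    by_contra hne
    have h1 : (s k).1 ∈ W k ⊓ W k' := ⟨hs_mem k, hkk' ▸ hs_mem k'⟩
    rw [(hdisj k k' hne).eq_bot] at h1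
    exact h1
  have hs_surj : Function.Surjective s := by
    rintro ⟨t, ht⟩
    have hmem : t ∈ (⨆ k, W k) := hcov ▸ trivial
    obtain ⟨k, hk⟩ := TopologicalSpace.Opens.mem_iSup.mp hmem
    refine ⟨k, Subtype.ext ?_⟩
    have h2 : ((W k).ι ≫ π) ⟨t, hk⟩ = v := ht
    have h3 : (inv ((W k).ι ≫ π)) v = ⟨t, hk⟩ := by
      rw [← h2, ← Scheme.Hom.comp_apply, IsIso.hom_inv_id]
      rfl
    show (W k).ι ((inv ((W k).ι ≫ π)) v) = t
    rw [h3]
    rfl
  let e : K ≃ {t : T // π t = v} := Equiv.ofBijective s ⟨hs_inj, hs_surj⟩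
  have hterm : ∀ t : {t : T // π t = v}, (1 : ℤ) *
      (letI := (π.residueFieldMap t.1).hom.toAlgebra;
        (Field.finSepDegree (V.residueField (π t.1)) (T.residueField t.1) : ℤ)) = 1 := by
    rintro ⟨t, ht⟩
    have hmem : t ∈ (⨆ k, W k) := hcov ▸ trivial
    obtain ⟨k, hk⟩ := TopologicalSpace.Opens.mem_iSup.mp hmem
    have hbij : Function.Bijective (π.residueFieldMap t).hom := by
      have h4 := Scheme.residueFieldMap_comp (W k).ι π ⟨t, hk⟩
      haveI := hiso k
      have h5 : Function.Bijective (((W k).ι ≫ π).residueFieldMap ⟨t, hk⟩).hom :=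
        ConcreteCategory.bijective_of_isIso _
      have h6 : Function.Bijective (((W k).ι).residueFieldMap ⟨t, hk⟩).hom :=
        ConcreteCategory.bijective_of_isIso _
      rw [h4] at h5
      have h7 : Function.Bijective ((((W k).ι).residueFieldMap ⟨t, hk⟩).hom ∘
          (π.residueFieldMap ((W k).ι ⟨t, hk⟩)).hom) := h5
      exact (Function.Bijective.of_comp_iff' h6 _).mp h7
    have hPI : (π.residueFieldMap t).hom.IsPurelyInseparable :=
      isPurelyInseparable_of_bijective _ hbij
    letI := (π.residueFieldMap t).hom.toAlgebra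
    have hPI' : IsPurelyInseparable (V.residueField (π t)) (T.residueField t) := hPI
    have h1 : Field.finSepDegree (V.residueField (π t)) (T.residueField t) = 1 :=
      IsPurelyInseparable.finSepDegree_eq_one _ _
    show (1 : ℤ) * ((Field.finSepDegree (V.residueField (π t)) (T.residueField t) : ℕ) : ℤ) = 1
    rw [h1, Nat.cast_one, mul_one]
  unfold MoreMor.fibreIntegral
  rw [finsum_congr hterm, ← finsum_comp_equiv e]
  haveI := Fintype.ofFinite K
  rw [finsum_eq_sum_of_fintype, Finset.sum_const, Finset.card_univ, Nat.card_eq_fintype_card]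
  simp

/-- If an étale morphism is finite over an open `U`, the fibre integral of `1` is constant near every
point of `U`. -/
theorem fibreIntegral_one_const_of_isFinite_restrict {X Y : Scheme.{u}} (f : X ⟶ Y) [Etale f]
    (hfin : ∀ y : Y, (f ⁻¹' {y}).Finite) (U : Y.Opens) (y : Y) (hy : y ∈ U)
    (hfinU : IsFinite (f ∣_ U)) :
    ∃ O : Y.Opens, y ∈ O ∧ ∀ y' ∈ O,
      MoreMor.fibreIntegral f (fun _ ↦ 1) y' = MoreMor.fibreIntegral f (fun _ ↦ 1) y := by
  haveI := hfinU
  haveI : LocallyQuasiFinite f := UR.locallyQuasiFinite_of_formallyUnramified f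
  haveI : Etale (f ∣_ U) :=
    MorphismProperty.of_isPullback (P := @Etale) (isPullback_morphismRestrict f U).flip inferInstance
  obtain ⟨U', g, u, hg, hgu, K, hK, W, hcov, hdisj, -, hiso⟩ :=
    UR.exists_etale_nbhd_finite (f := f ∣_ U) ⟨y, hy⟩
  haveI := hg
  haveI := hK
  have hiso' := hiso inferInstance
  have sq : IsPullback (pullback.fst (f ∣_ U) g ≫ (f ⁻¹ᵁ U).ι) (pullback.snd (f ∣_ U) g) f
      (g ≫ U.ι) :=
    (IsPullback.of_hasPullback (f ∣_ U) g).paste_horiz (isPullback_morphismRestrict f U).flip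
  haveI : LocallyQuasiFinite (pullback.snd (f ∣_ U) g) :=
    MorphismProperty.pullback_snd (P := @LocallyQuasiFinite) _ _ inferInstance
  have hconst : ∀ v : U', MoreMor.fibreIntegral f (fun _ ↦ 1) ((g ≫ U.ι) v) = Nat.card K := by
    intro v
    have h1 := WT.fibreIntegral_baseChange sq (fun _ ↦ (1 : ℤ)) v (hfin _)
      (fun p ↦ EL.finite_residueFieldMap_of_quasiFiniteAt (f.quasiFiniteAt p))
      (fun p ↦ EL.finite_residueFieldMap_of_quasiFiniteAt
        ((pullback.snd (f ∣_ U) g).quasiFiniteAt p))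
    have h2 := fibreIntegral_one_of_split (pullback.snd (f ∣_ U) g) W hcov hdisj hiso' v
    unfold MoreMor.fibreIntegral at h2 ⊢
    rw [← h1]
    exact h2
  have hGu : (g ≫ U.ι) u = y := by
    rw [Scheme.Hom.comp_apply, hgu]
    rfl
  refine ⟨⟨Set.range (g ≫ U.ι), (g ≫ U.ι).isOpenMap.isOpen_range⟩, ⟨u, hGu⟩, ?_⟩
  rintro _ ⟨v, rfl⟩
  rw [hconst v, ← hGu, hconst u]

section Etale

variable {X Y : Scheme.{u}} (f : X ⟶ Y) [Etale f] [IsSeparated f] [LocallyOfFiniteType f]
  [QuasiCompact f]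

/-- Lower semicontinuity of the number of points of the geometric fibres of a separated étale
morphism of finite type. -/
theorem etale_card_geomFiber_lsc :
    LowerSemicontinuous (fun y : Y => ENat.card ↥(MoreMor.geomFiber f y)) := by
  haveI : LocallyQuasiFinite f := UR.locallyQuasiFinite_of_formallyUnramified f
  intro y c hc
  obtain ⟨O, hO, hyO, hle⟩ := nGeom_lsc_at f y (fun x _ ↦ isUnivOpenAt_of_universallyOpen f x)
  refine Filter.mem_of_superset (hO.mem_nhds hyO) (fun z hz ↦ ?_)
  show c < ENat.card ↥(MoreMor.geomFiber f z)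
  have hc' : c < ENat.card ↥(MoreMor.geomFiber f y) := hc
  rw [card_geomFiber_eq_nGeom] at hc' ⊢
  exact lt_of_lt_of_le hc' (hle z hz)

/-- The number of points of the geometric fibres is constant near `y` iff `f` is finite over a
neighbourhood of `y`. -/
theorem etale_finite_nbhd_iff (y : Y) :
    (∃ U : Y.Opens, y ∈ U ∧ ∀ y' : Y, y' ∈ U →
        ENat.card ↥(MoreMor.geomFiber f y') = ENat.card ↥(MoreMor.geomFiber f y)) ↔
      ∃ U : Y.Opens, y ∈ U ∧ IsFinite (f ∣_ U) := by
  haveI : LocallyQuasiFinite f := UR.locallyQuasiFinite_of_formallyUnramified f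
  have hfin : ∀ y : Y, (f ⁻¹' {y}).Finite := fun y ↦ Scheme.Hom.finite_preimage_singleton f y
  constructor
  · rintro ⟨U, hyU, hconst⟩
    obtain ⟨O, hyO, hprop⟩ := nGeom_proper_at f y
      (fun x _ ↦ isUnivOpenAt_of_universallyOpen f x)
      ⟨(U : Set Y), U.isOpen.mem_nhds hyU, fun z hz ↦ by
        rw [← card_geomFiber_eq_nGeom, ← card_geomFiber_eq_nGeom]
        exact hconst z hz⟩
    haveI := hprop
    haveI : LocallyQuasiFinite (f ∣_ O) :=
      MorphismProperty.of_isPullback (P := @LocallyQuasiFinite)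
        (isPullback_morphismRestrict f O).flip inferInstance
    exact ⟨O, hyO, IsFinite.of_isProper_of_locallyQuasiFinite _⟩
  · rintro ⟨U, hyU, hfinU⟩
    obtain ⟨O, hyO, hconst⟩ := fibreIntegral_one_const_of_isFinite_restrict f hfin U y hyU hfinU
    refine ⟨O, hyO, fun y' hy' ↦ ?_⟩
    obtain ⟨n, -, hn, hn'⟩ := nGeom_eq f y (hfin y)
    obtain ⟨m, -, hm, hm'⟩ := nGeom_eq f y' (hfin y')
    rw [hn, hm]
    have := hconst y' hy'
    rw [← hn', ← hm'] at this
    exact_mod_cast this

/-- Over a connected base, `f` is finite iff all geometric fibres have the same number of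
points. -/
theorem etale_isFinite_iff [ConnectedSpace ↥Y] :
    IsFinite f ↔ ∃ n : ℕ∞, ∀ y : Y, ENat.card ↥(MoreMor.geomFiber f y) = n := by
  haveI : LocallyQuasiFinite f := UR.locallyQuasiFinite_of_formallyUnramified f
  constructor
  · intro hf
    have hloc : IsLocallyConstant (fun y : Y => ENat.card ↥(MoreMor.geomFiber f y)) := by
      rw [IsLocallyConstant.iff_exists_open]
      intro y
      have hfinT : IsFinite (f ∣_ (⊤ : Y.Opens)) :=
        MorphismProperty.of_isPullback (P := @IsFinite)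
          (isPullback_morphismRestrict f ⊤).flip hf
      obtain ⟨U, hyU, hU⟩ := (etale_finite_nbhd_iff f y).mpr ⟨⊤, trivial, hfinT⟩
      exact ⟨U, U.isOpen, hyU, fun y' hy' ↦ hU y' hy'⟩
    obtain ⟨y₀⟩ : Nonempty ↥Y := inferInstance
    exact ⟨_, fun y ↦ hloc.apply_eq_of_preconnectedSpace y y₀⟩
  · rintro ⟨n, hn⟩
    apply IsZariskiLocalAtTarget.of_forall_exists_morphismRestrict (P := @IsFinite)
    intro y
    obtain ⟨U, hyU, hU⟩ := (etale_finite_nbhd_iff f y).mp
      ⟨⊤, trivial, fun y' _ ↦ (hn y').trans (hn y).symm⟩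
    exact ⟨U, hyU, hU⟩

end Etale

end Groth.Agent.Lib.helper13.GF
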