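import Mathlib

/-!
# Objects closed for a localizing class: basics (helper13)

`SubQuot X' X`: `X'` is a subquotient of `X`; `Good M Y`: `Hom(Y, M) = 0` and every extension of `Y`
by `M` splits; `BM M`: objects all of whose subquotients are good for `M`.
-/

universe w v u

namespace Groth.Agent.Lib.helper13.GL

open CategoryTheory Category Limits

variable {C : Type u} [Category.{v} C] [Abelian C]

/-- `X'` is a subquotient of `X` -/
def SubQuot (X' X : C) : Prop := ∃ (B : C) (i : B ⟶ X) (p : B ⟶ X'), Mono i ∧ Epi p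

lemma SubQuot.refl (X : C) : SubQuot X X := ⟨X, 𝟙 X, 𝟙 X, inferInstance, inferInstance⟩

lemma SubQuot.of_mono {X' X : C} (i : X' ⟶ X) [Mono i] : SubQuot X' X :=
  ⟨X', i, 𝟙 X', inferInstance, inferInstance⟩

lemma SubQuot.of_epi {X X' : C} (p : X ⟶ X') [Epi p] : SubQuot X' X :=
  ⟨X, 𝟙 X, p, inferInstance, inferInstance⟩

lemma SubQuot.of_iso {X X' : C} (e : X ≅ X') : SubQuot X' X := SubQuot.of_epi e.hom

lemma SubQuot.trans {X'' X' X : C} (h₁ : SubQuot X'' X') (h₂ : SubQuot X' X) : SubQuot X'' X := by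
  obtain ⟨B', i', p', hi', hp'⟩ := h₁
  obtain ⟨B, i, p, hi, hp⟩ := h₂
  refine ⟨pullback p i', pullback.fst p i' ≫ i, pullback.snd p i' ≫ p', ?_, ?_⟩
  · haveI : Mono (pullback.fst p i') := inferInstance
    exact mono_comp _ _
  · haveI : Epi (pullback.snd p i') := Abelian.epi_pullback_of_epi_f p i'
    exact epi_comp _ _

/-- `Hom(Y, M) = 0` and `Ext¹(Y, M) = 0` -/
def Good (M Y : C) : Prop :=
  (∀ f : Y ⟶ M, f = 0) ∧
    ∀ ⦃N : C⦄ (i : M ⟶ N) (p : N ⟶ Y) (hp : i ≫ p = 0),
      (ShortComplex.mk i p hp).ShortExact → IsSplitMono i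

/-- objects all of whose subquotients are good -/
def BM (M : C) : ObjectProperty C := fun X => ∀ X', SubQuot X' X → Good M X'

lemma BM.good {M X : C} (h : BM M X) : Good M X := h X (SubQuot.refl X)

lemma BM.of_subQuot {M X X' : C} (h : BM M X) (h' : SubQuot X' X) : BM M X' :=
  fun X'' h'' => h X'' (h''.trans h')

lemma BM.of_iso {M X X' : C} (h : BM M X) (e : X ≅ X') : BM M X' := h.of_subQuot (SubQuot.of_iso e)

/-- a section of `p` in a short exact sequence gives a retraction of `i` -/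
lemma isSplitMono_of_section {M N Y : C} (i : M ⟶ N) (p : N ⟶ Y) (hp : i ≫ p = 0)
    (hS : (ShortComplex.mk i p hp).ShortExact) (s : Y ⟶ N) (hs : s ≫ p = 𝟙 Y) : IsSplitMono i := by
  haveI : Mono (ShortComplex.mk i p hp).f := hS.mono_f
  haveI : Mono i := hS.mono_f
  have h0 : (𝟙 N - p ≫ s) ≫ (ShortComplex.mk i p hp).g = 0 := by
    show (𝟙 N - p ≫ s) ≫ p = 0
    rw [Preadditive.sub_comp, Category.id_comp, Category.assoc, hs, Category.comp_id, sub_self]
  let ρ : N ⟶ M := hS.exact.lift (𝟙 N - p ≫ s) h0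
  have hρ : ρ ≫ i = 𝟙 N - p ≫ s := hS.exact.lift_f (𝟙 N - p ≫ s) h0
  refine IsSplitMono.mk' ⟨ρ, ?_⟩
  rw [← cancel_mono i, Category.assoc, hρ, Preadditive.comp_sub, Category.comp_id,
    ← Category.assoc, hp, zero_comp, sub_zero, Category.id_comp]

lemma good_of_isZero {M Y : C} (hY : IsZero Y) : Good M Y := by
  refine ⟨fun f => hY.eq_of_src _ _, ?_⟩
  intro N i p hp hS
  exact isSplitMono_of_section i p hp hS 0 (hY.eq_of_src _ _)

lemma bm_of_isZero {M X : C} (hX : IsZero X) : BM M X := by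
  rintro X' ⟨B, i, p, hi, hp⟩
  have hB : IsZero B := by
    rw [IsZero.iff_id_eq_zero, ← cancel_mono i]
    exact hX.eq_of_tgt _ _
  have hX' : IsZero X' := by
    rw [IsZero.iff_id_eq_zero, ← cancel_epi p]
    exact hB.eq_of_src _ _
  exact good_of_isZero hX'

end Groth.Agent.Lib.helper13.GL
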