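import Mathlib
import Groth.Agent.Lib.Helper13.GL1

/-!
# Objects closed for a localizing class: `Good M` is closed under extensions (helper13)
-/

universe w v u

namespace Groth.Agent.Lib.helper13.GL

open CategoryTheory Category Limits

variable {C : Type u} [Category.{v} C] [Abelian C]

/-- pullback of a short exact sequence along a morphism to the quotient -/
lemma pullback_ses {M N Y Y' : C} (i : M ⟶ N) (p : N ⟶ Y) (hp : i ≫ p = 0)
    (hS : (ShortComplex.mk i p hp).ShortExact) (a : Y' ⟶ Y) :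
    (ShortComplex.mk (pullback.lift i 0 (by rw [hp, zero_comp]) : M ⟶ pullback p a)
      (pullback.snd p a) (pullback.lift_snd _ _ _)).ShortExact := by
  haveI : Mono i := hS.mono_f
  haveI : Epi p := hS.epi_g
  haveI : Mono (ShortComplex.mk i p hp).f := hS.mono_f
  have hm : Mono (pullback.lift i 0 (by rw [hp, zero_comp]) : M ⟶ pullback p a) :=
    mono_of_mono_fac (pullback.lift_fst _ _ _)
  have he : Epi (pullback.snd p a) := Abelian.epi_pullback_of_epi_f p a
  refine { exact := ?_, mono_f := hm, epi_g := he }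
  rw [ShortComplex.exact_iff_exact_up_to_refinements]
  intro A x₂ hx₂
  have hx₂' : x₂ ≫ pullback.snd p a = 0 := hx₂
  have h0 : (x₂ ≫ pullback.fst p a) ≫ (ShortComplex.mk i p hp).g = 0 := by
    show (x₂ ≫ pullback.fst p a) ≫ p = 0
    rw [Category.assoc, pullback.condition, ← Category.assoc, hx₂', zero_comp]
  refine ⟨A, 𝟙 A, inferInstance, hS.exact.lift (x₂ ≫ pullback.fst p a) h0, ?_⟩
  have hl : hS.exact.lift (x₂ ≫ pullback.fst p a) h0 ≫ i = x₂ ≫ pullback.fst p a :=
    hS.exact.lift_f _ h0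
  rw [Category.id_comp]
  apply pullback.hom_ext
  · rw [Category.assoc]
    show _ = _ ≫ pullback.lift i 0 _ ≫ pullback.fst p a
    rw [pullback.lift_fst, hl]
  · rw [Category.assoc]
    show _ = _ ≫ pullback.lift i 0 _ ≫ pullback.snd p a
    rw [pullback.lift_snd, comp_zero, hx₂']

/-- a retraction of `i` in a short exact sequence gives a section of `p` -/
lemma exists_section_of_isSplitMono {M N Y : C} (i : M ⟶ N) (p : N ⟶ Y) (hp : i ≫ p = 0)
    (hS : (ShortComplex.mk i p hp).ShortExact) (h : IsSplitMono i) :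
    ∃ s : Y ⟶ N, s ≫ p = 𝟙 Y := by
  haveI : Epi (ShortComplex.mk i p hp).g := hS.epi_g
  haveI : Epi p := hS.epi_g
  have h0 : (ShortComplex.mk i p hp).f ≫ (𝟙 N - retraction i ≫ i) = 0 := by
    show i ≫ (𝟙 N - retraction i ≫ i) = 0
    rw [Preadditive.comp_sub, Category.comp_id, ← Category.assoc, IsSplitMono.id, Category.id_comp,
      sub_self]
  refine ⟨hS.exact.desc (𝟙 N - retraction i ≫ i) h0, ?_⟩
  have hd : p ≫ hS.exact.desc (𝟙 N - retraction i ≫ i) h0 = 𝟙 N - retraction i ≫ i :=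
    hS.exact.g_desc _ h0
  rw [← cancel_epi p, ← Category.assoc, hd, Preadditive.sub_comp, Category.id_comp, Category.assoc,
    hp, comp_zero, sub_zero, Category.comp_id]

/-- `Good M` is closed under extensions -/
theorem good_of_ses {M : C} {S : ShortComplex C} (hS : S.ShortExact) (h₁ : Good M S.X₁)
    (h₃ : Good M S.X₃) : Good M S.X₂ := by
  haveI : Mono S.f := hS.mono_f
  haveI : Epi S.g := hS.epi_g
  refine ⟨fun φ => ?_, ?_⟩
  · have h0 : S.f ≫ φ = 0 := h₁.1 _
    have : φ = S.g ≫ hS.exact.desc φ h0 := (hS.exact.g_desc φ h0).symm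
    rw [this, h₃.1 (hS.exact.desc φ h0), comp_zero]
  · intro N i p hp hE
    haveI : Mono i := hE.mono_f
    haveI : Epi p := hE.epi_g
    haveI : Mono (ShortComplex.mk i p hp).f := hE.mono_f
    -- step 1: split over `S.X₁`
    have hE₁ := pullback_ses i p hp hE S.f
    have hsp₁ := h₁.2 _ _ _ hE₁
    obtain ⟨σ₁, hσ₁⟩ := exists_section_of_isSplitMono _ _ _ hE₁ hsp₁
    let s₁ : S.X₁ ⟶ N := σ₁ ≫ pullback.fst p S.f
    have hs₁ : s₁ ≫ p = S.f := by
      rw [Category.assoc, pullback.condition, ← Category.assoc, hσ₁, Category.id_comp]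
    haveI : Mono s₁ := mono_of_mono_fac hs₁
    -- step 2: the quotient extension
    let q : N ⟶ cokernel s₁ := cokernel.π s₁
    let p₂ : cokernel s₁ ⟶ S.X₃ := cokernel.desc s₁ (p ≫ S.g) (by
      rw [← Category.assoc, hs₁, S.zero])
    have hqp₂ : q ≫ p₂ = p ≫ S.g := cokernel.π_desc _ _ _
    have hz₂ : (i ≫ q) ≫ p₂ = 0 := by
      rw [Category.assoc, hqp₂, ← Category.assoc, hp, zero_comp]
    have hE₂ : (ShortComplex.mk (i ≫ q) p₂ hz₂).ShortExact := by
      have hm : Mono (i ≫ q) := by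
        apply Preadditive.mono_of_cancel_zero
        intro Z z hz
        have hz' : (z ≫ i) ≫ cokernel.π s₁ = 0 := by rw [Category.assoc]; exact hz
        have hw : Abelian.monoLift s₁ (z ≫ i) hz' ≫ s₁ = z ≫ i := Abelian.monoLift_comp _ _ hz'
        have hw0 : Abelian.monoLift s₁ (z ≫ i) hz' = 0 := by
          rw [← cancel_mono S.f, zero_comp, ← hs₁, ← Category.assoc, hw, Category.assoc, hp,
            comp_zero]
        rw [hw0, zero_comp] at hw
        rw [← cancel_mono i, zero_comp, ← hw]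
      have he : Epi p₂ := by
        haveI : Epi (q ≫ p₂) := by rw [hqp₂]; exact epi_comp _ _
        exact epi_of_epi q p₂
      refine { exact := ?_, mono_f := hm, epi_g := he }
      rw [ShortComplex.exact_iff_exact_up_to_refinements]
      intro A x₂ hx₂
      have hx₂' : x₂ ≫ p₂ = 0 := hx₂
      obtain ⟨A₁, π₁, hπ₁, y, hy⟩ := surjective_up_to_refinements_of_epi q x₂
      have h1 : (y ≫ p) ≫ S.g = 0 := by
        rw [Category.assoc, ← hqp₂, ← Category.assoc, ← hy, Category.assoc, hx₂', comp_zero]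
      have hw : hS.exact.lift (y ≫ p) h1 ≫ S.f = y ≫ p := hS.exact.lift_f _ h1
      have h2 : (y - hS.exact.lift (y ≫ p) h1 ≫ s₁) ≫ (ShortComplex.mk i p hp).g = 0 := by
        show (y - hS.exact.lift (y ≫ p) h1 ≫ s₁) ≫ p = 0
        rw [Preadditive.sub_comp, Category.assoc, hs₁, hw, sub_self]
      have hv : hE.exact.lift _ h2 ≫ i = y - hS.exact.lift (y ≫ p) h1 ≫ s₁ :=
        hE.exact.lift_f _ h2
      refine ⟨A₁, π₁, hπ₁, hE.exact.lift _ h2, ?_⟩
      show π₁ ≫ x₂ = hE.exact.lift _ h2 ≫ i ≫ q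
      rw [← Category.assoc, hv, Preadditive.sub_comp, Category.assoc, cokernel.condition, comp_zero,
        sub_zero, hy]
    have hsp₂ := h₃.2 _ _ _ hE₂
    refine IsSplitMono.mk' ⟨q ≫ retraction (i ≫ q), ?_⟩
    rw [← Category.assoc, IsSplitMono.id]

end Groth.Agent.Lib.helper13.GL
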