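import Mathlib
import Groth.Agent.Lib.Helper13.GL2

/-!
# Objects closed for a localizing class: `BM M` is a Serre class (helper13)
-/

universe w v u

namespace Groth.Agent.Lib.helper13.GL

open CategoryTheory Category Limits

variable {C : Type u} [Category.{v} C] [Abelian C]

/-- `BM M` is closed under extensions -/
theorem bm_of_ses {M : C} {S : ShortComplex C} (hS : S.ShortExact) (h₁ : BM M S.X₁)
    (h₃ : BM M S.X₃) : BM M S.X₂ := by
  haveI : Mono S.f := hS.mono_f
  haveI : Epi S.g := hS.epi_g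
  rintro X' ⟨B, i, π, hi, hπ⟩
  -- `B₁ = B ∩ X₁`
  let β : pullback i S.f ⟶ B := pullback.fst i S.f
  let β' : pullback i S.f ⟶ S.X₁ := pullback.snd i S.f
  haveI : Mono β := inferInstance
  haveI : Mono β' := inferInstance
  -- `X'₁`, the image of `B₁` in `X'`
  let e₁ : pullback i S.f ⟶ Abelian.image (β ≫ π) := Abelian.factorThruImage (β ≫ π)
  let m₁ : Abelian.image (β ≫ π) ⟶ X' := Abelian.image.ι (β ≫ π)
  have hem : e₁ ≫ m₁ = β ≫ π := Abelian.image.fac (β ≫ π)
  have hX'₁ : Good M (Abelian.image (β ≫ π)) :=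
    h₁ _ ⟨pullback i S.f, β', e₁, inferInstance, inferInstance⟩
  -- `X'₂ = X' / X'₁`
  let c : X' ⟶ cokernel m₁ := cokernel.π m₁
  have hβc : β ≫ π ≫ c = 0 := by
    have h1 : (e₁ ≫ m₁) ≫ c = 0 := by rw [Category.assoc, cokernel.condition, comp_zero]
    have h2 : (e₁ ≫ m₁) ≫ c = (β ≫ π) ≫ c := congrArg (· ≫ c) hem
    exact (Category.assoc _ _ _).symm.trans (h2.symm.trans h1)
  have hβib : β ≫ i ≫ S.g = 0 := by
    rw [← Category.assoc, pullback.condition, Category.assoc, S.zero, comp_zero]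
  let j₂ : cokernel β ⟶ S.X₃ := cokernel.desc β (i ≫ S.g) hβib
  let π₂ : cokernel β ⟶ cokernel m₁ := cokernel.desc β (π ≫ c) hβc
  have hj₂ : Mono j₂ := by
    apply Preadditive.mono_of_cancel_zero
    intro Z z hz
    obtain ⟨Z', ε, hε, z', hz'⟩ := surjective_up_to_refinements_of_epi (cokernel.π β) z
    have h1 : (z' ≫ i) ≫ S.g = 0 := by
      have : z' ≫ cokernel.π β ≫ j₂ = 0 := by rw [← Category.assoc, ← hz', Category.assoc, hz,
        comp_zero]
      rw [cokernel.π_desc] at this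
      rw [Category.assoc]; exact this
    have hw : hS.exact.lift (z' ≫ i) h1 ≫ S.f = z' ≫ i := hS.exact.lift_f _ h1
    have h2 : z' = pullback.lift z' (hS.exact.lift (z' ≫ i) h1) hw.symm ≫ β :=
      (pullback.lift_fst _ _ _).symm
    have h3 : z' ≫ cokernel.π β = 0 := by
      rw [h2, Category.assoc, cokernel.condition, comp_zero]
    rw [← cancel_epi ε, hz', h3, comp_zero]
  have hπ₂ : Epi π₂ := by
    haveI : Epi (cokernel.π β ≫ π₂) := by
      rw [cokernel.π_desc]; exact epi_comp _ _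
    exact epi_of_epi (cokernel.π β) π₂
  have hX'₂ : Good M (cokernel m₁) := h₃ _ ⟨cokernel β, j₂, π₂, hj₂, hπ₂⟩
  have hS' : (ShortComplex.mk m₁ c (cokernel.condition m₁)).ShortExact :=
    { exact := ShortComplex.exact_cokernel m₁
      mono_f := inferInstanceAs (Mono m₁)
      epi_g := inferInstanceAs (Epi (cokernel.π m₁)) }
  exact good_of_ses hS' hX'₁ hX'₂

instance isSerreClass_BM (M : C) : (BM M).IsSerreClass where
  exists_zero := by
    obtain ⟨Z, hZ⟩ := HasZeroObject.zero (C := C)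
    exact ⟨Z, hZ, bm_of_isZero hZ⟩
  prop_of_mono f _ h := h.of_subQuot (SubQuot.of_mono f)
  prop_of_epi f _ h := h.of_subQuot (SubQuot.of_epi f)
  prop_X₂_of_shortExact hS h₁ h₃ := bm_of_ses hS h₁ h₃

end Groth.Agent.Lib.helper13.GL
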