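import Mathlib
import Groth.Agent.Lib.Helper13.GD3

/-!
# AB5: pullbacks of a directed exhaustive family of subobjects are jointly epimorphic (helper13)
-/

universe w v u

namespace Groth.Agent.Lib.helper13.GL

open CategoryTheory Category Limits Groth.Agent.Lib.helper13.GD

attribute [local instance] IsFiltered.isConnected

variable {C : Type u} [Category.{v} C] [Abelian C] [IsGrothendieckAbelian.{w} C]

set_option backward.defeqAttrib.useBackward true in
set_option backward.isDefEq.respectTransparency false in
/-- if `𝒟` is a directed family of subobjects of `X` with supremum `⊤`, then for any `z : B ⟶ X`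
the inverse images of the members of `𝒟` are jointly epimorphic on `B` -/
theorem eq_zero_of_pullbacks {X B W : C} (𝒟 : Set (Subobject X)) (hne : 𝒟.Nonempty)
    (hdir : DirectedOn (· ≤ ·) 𝒟) (htop : sSup 𝒟 = ⊤) (z : B ⟶ X) (g : B ⟶ W)
    (h : ∀ Z ∈ 𝒟, pullback.snd Z.arrow z ≫ g = 0) : g = 0 := by
  let J := Jidx.{w} 𝒟
  let e : J ≃o ↥𝒟 := Jidx.e 𝒟
  haveI : Nonempty J := ⟨e.symm ⟨hne.choose, hne.choose_spec⟩⟩
  haveI : IsDirected J (· ≤ ·) := by
    constructor
    intro a b
    obtain ⟨m, hm, h1, h2⟩ := hdir (e a).1 (e a).2 (e b).1 (e b).2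
    refine ⟨e.symm ⟨m, hm⟩, ?_, ?_⟩
    · rw [← e.le_iff_le, OrderIso.apply_symm_apply]; exact h1
    · rw [← e.le_iff_le, OrderIso.apply_symm_apply]; exact h2
  haveI : IsFiltered J := inferInstance
  let F : J ⥤ MonoOver X :=
    { obj := fun j => MonoOver.mk (e j).1.arrow
      map := fun {j j'} f => MonoOver.homMk (Subobject.ofLE _ _ (e.monotone (leOfHom f)))
      map_id := fun j => by ext; simp
      map_comp := fun f f' => by ext; simp }
  let c : Cocone (F ⋙ MonoOver.forget X) :=
    { pt := Over.mk (𝟙 X)
      ι := { app := fun j => Over.homMk (e j).1.arrow (by simp [F])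
             naturality := fun j j' f => by
               ext
               simp [F, MonoOver.forget] } }
  haveI : Mono c.pt.hom := inferInstanceAs (Mono (𝟙 X))
  have h' : Subobject.mk c.pt.hom = ⨆ j, Subobject.mk (F.obj j).obj.hom := by
    have h1 : Subobject.mk c.pt.hom = ⊤ := Subobject.mk_eq_top_of_isIso (𝟙 X)
    have h2 : ∀ j, Subobject.mk (F.obj j).obj.hom = (e j).1 := fun j => Subobject.mk_arrow _
    rw [h1, ← htop]
    simp_rw [h2]
    apply le_antisymm
    · apply sSup_le
      intro M hM
      have := le_iSup (fun j => ((e j).1 : Subobject X)) (e.symm ⟨M, hM⟩)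
      simpa using this
    · exact iSup_le (fun j => le_sSup (e j).2)
  have hc : IsColimit ((Over.forget X).mapCocone c) :=
    IsGrothendieckAbelian.isColimitMapCoconeOfSubobjectMkEqISup F c h'
  haveI : Epi (IsGrothendieckAbelian.IsPresentable.surjectivity.f (c := (Over.forget X).mapCocone c) z) :=
    IsGrothendieckAbelian.IsPresentable.surjectivity.epi_f hc z
  rw [← cancel_epi (IsGrothendieckAbelian.IsPresentable.surjectivity.f
    (c := (Over.forget X).mapCocone c) z), comp_zero]
  apply colimit.hom_ext
  intro j
  rw [← Category.assoc, IsGrothendieckAbelian.IsPresentable.surjectivity.hf, comp_zero]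
  have hcond := congrArg (fun t => t.app j)
    (pullback.condition (f := ((Over.forget X).mapCocone c).ι) (g := (Functor.const J).map z))
  have hcond' : (pullback.fst ((Over.forget X).mapCocone c).ι ((Functor.const J).map z)).app j ≫
      (e j).1.arrow =
      (pullback.snd ((Over.forget X).mapCocone c).ι ((Functor.const J).map z)).app j ≫ z := by
    simpa [c] using hcond
  have hl : (pullback.snd ((Over.forget X).mapCocone c).ι ((Functor.const J).map z)).app j =
      pullback.lift _ _ hcond' ≫ pullback.snd (e j).1.arrow z := (pullback.lift_snd _ _ _).symm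
  rw [hl, Category.assoc, h _ (e j).2, comp_zero]

end Groth.Agent.Lib.helper13.GL
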