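import Mathlib
import Groth.Agent.Lib.Helper13.GL3
import Groth.Agent.Lib.Helper13.GL4

/-!
# Objects closed for a localizing class: `BM M` is closed under coproducts (helper13)
-/

universe w v u

namespace Groth.Agent.Lib.helper13.GL

open CategoryTheory Category Limits Groth.Agent.Lib.helper13.GD

variable {C : Type u} [Category.{v} C] [Abelian C]

/-- the subobjects of `X` lying in `BM M` -/
def bmSub (M X : C) : Set (Subobject X) := {Z | BM M (Z : C)}

lemma bot_mem_bmSub (M X : C) : (⊥ : Subobject X) ∈ bmSub M X :=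
  bm_of_isZero ((Subobject.botCoeIsoZero (B := X)).isZero_iff.2 (isZero_zero C))

lemma mk_mem_bmSub {M X Y : C} (s : Y ⟶ X) [Mono s] (hY : BM M Y) : Subobject.mk s ∈ bmSub M X :=
  hY.of_iso (Subobject.underlyingIso s).symm

lemma directedOn_bmSub (M X : C) : DirectedOn (· ≤ ·) (bmSub M X) := by
  intro Z hZ Z' hZ'
  let φ : (Z : C) ⊞ (Z' : C) ⟶ X := biprod.desc Z.arrow Z'.arrow
  have hbi : BM M ((Z : C) ⊞ (Z' : C)) :=
    bm_of_ses (ShortComplex.Splitting.ofHasBinaryBiproduct (Z : C) (Z' : C)).shortExact hZ hZ'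
  have him : BM M (Abelian.image φ) := hbi.of_subQuot (SubQuot.of_epi (Abelian.factorThruImage φ))
  refine ⟨Subobject.mk (Abelian.image.ι φ), mk_mem_bmSub _ him, ?_, ?_⟩
  · refine Subobject.le_of_comm (biprod.inl ≫ Abelian.factorThruImage φ ≫
      (Subobject.underlyingIso (Abelian.image.ι φ)).inv) ?_
    simp [φ]
  · refine Subobject.le_of_comm (biprod.inr ≫ Abelian.factorThruImage φ ≫
      (Subobject.underlyingIso (Abelian.image.ι φ)).inv) ?_
    simp [φ]

variable [IsGrothendieckAbelian.{w} C]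

/-- in a coproduct of objects of `BM M`, the subobjects in `BM M` have supremum `⊤` -/
lemma sSup_bmSub_sigma (M : C) {J : Type w} (X : J → C) (hX : ∀ j, BM M (X j)) :
    sSup (bmSub M (∐ X)) = ⊤ := by
  let T : Subobject (∐ X) := sSup (bmSub M (∐ X))
  have hle : ∀ j, Subobject.mk (Sigma.ι X j) ≤ T := fun j => le_sSup (mk_mem_bmSub _ (hX j))
  let t : ∀ j, X j ⟶ (T : C) := fun j =>
    (Subobject.underlyingIso (Sigma.ι X j)).inv ≫ Subobject.ofLE _ _ (hle j)
  have ht : ∀ j, t j ≫ T.arrow = Sigma.ι X j := fun j => by simp [t]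
  have hτ : Sigma.desc t ≫ T.arrow = 𝟙 _ := by
    apply Sigma.hom_ext
    intro j
    rw [← Category.assoc, Sigma.ι_desc, ht, Category.comp_id]
  haveI : Epi T.arrow := epi_of_epi_fac hτ
  haveI : IsIso T.arrow := isIso_of_mono_of_epi _
  exact Subobject.eq_top_of_isIso_arrow T

/-- `BM M` is closed under coproducts -/
theorem bm_sigma (M : C) {J : Type w} (X : J → C) (hX : ∀ j, BM M (X j)) : BM M (∐ X) := by
  rintro X' ⟨B, b, π, hb, hπ⟩
  have hne : (bmSub M (∐ X)).Nonempty := ⟨⊥, bot_mem_bmSub M _⟩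
  have hdir := directedOn_bmSub M (∐ X)
  have htop := sSup_bmSub_sigma.{w} M X hX
  -- the pieces of `X'`
  have key : ∀ {W : C} (g : X' ⟶ W), (∀ (Y : C) (m : Y ⟶ X'), Mono m → BM M Y → m ≫ g = 0) →
      g = 0 := by
    intro W g hg
    rw [← cancel_epi π, comp_zero]
    refine eq_zero_of_pullbacks.{w} (bmSub M (∐ X)) hne hdir htop b (π ≫ g) (fun Z hZ => ?_)
    let t := pullback.snd Z.arrow b
    haveI : Mono (pullback.fst Z.arrow b) := inferInstance
    have hY : BM M (Abelian.image (t ≫ π)) :=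
      BM.of_subQuot hZ ⟨pullback Z.arrow b, pullback.fst Z.arrow b,
        Abelian.factorThruImage (t ≫ π), inferInstance, inferInstance⟩
    have h0 := hg _ (Abelian.image.ι (t ≫ π)) inferInstance hY
    have hfac : t ≫ π = Abelian.factorThruImage (t ≫ π) ≫ Abelian.image.ι (t ≫ π) :=
      (Abelian.image.fac _).symm
    rw [← Category.assoc, hfac, Category.assoc, h0, comp_zero]
  refine ⟨fun f => key f (fun Y m _ hY => (hY.of_subQuot (SubQuot.refl _)).good.1 _), ?_⟩
  intro N i p hp hE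
  haveI : Mono i := hE.mono_f
  haveI : Epi p := hE.epi_g
  haveI : Mono (ShortComplex.mk i p hp).f := hE.mono_f
  let T : Subobject N := sSup (bmSub M N)
  have hmono : ∀ Z ∈ bmSub M N, Mono (Z.arrow ≫ p) := by
    intro Z hZ
    apply Preadditive.mono_of_kernel_zero
    have h1 : (kernel.ι (Z.arrow ≫ p) ≫ Z.arrow) ≫ (ShortComplex.mk i p hp).g = 0 := by
      show (kernel.ι (Z.arrow ≫ p) ≫ Z.arrow) ≫ p = 0
      rw [Category.assoc, kernel.condition]
    have hw : hE.exact.lift _ h1 ≫ i = kernel.ι (Z.arrow ≫ p) ≫ Z.arrow := hE.exact.lift_f _ h1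
    have hK : Good M (kernel (Z.arrow ≫ p)) :=
      (BM.of_subQuot hZ (SubQuot.of_mono (kernel.ι (Z.arrow ≫ p)))).good
    rw [hK.1 (hE.exact.lift _ h1), zero_comp] at hw
    rw [← cancel_mono Z.arrow, zero_comp, ← hw]
  haveI hTm : Mono (T.arrow ≫ p) :=
    mono_of_directed_sSup.{w} (bmSub M N) ⟨⊥, bot_mem_bmSub M N⟩ (directedOn_bmSub M N)
      (T.arrow ≫ p) (fun Z hZ hle => by
        rw [← Category.assoc, Subobject.ofLE_arrow]
        exact hmono Z hZ)
  haveI hTe : Epi (T.arrow ≫ p) := by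
    apply Preadditive.epi_of_cancel_zero
    intro W g hg
    refine key g (fun Y m hm hY => ?_)
    have hE' := pullback_ses i p hp hE m
    have hsp := hY.good.2 _ _ _ hE'
    obtain ⟨σ, hσ⟩ := exists_section_of_isSplitMono _ _ _ hE' hsp
    let s : Y ⟶ N := σ ≫ pullback.fst p m
    have hs : s ≫ p = m := by
      rw [Category.assoc, pullback.condition, ← Category.assoc, hσ, Category.id_comp]
    haveI : Mono s := mono_of_mono_fac hs
    have hle : Subobject.mk s ≤ T := le_sSup (mk_mem_bmSub s hY)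
    have hs' : s = ((Subobject.underlyingIso s).inv ≫ Subobject.ofLE _ _ hle) ≫ T.arrow := by
      simp
    have hg' : T.arrow ≫ p ≫ g = 0 := by rw [← Category.assoc]; exact hg
    rw [← hs, hs', Category.assoc, Category.assoc, hg', comp_zero]
  haveI : IsIso (T.arrow ≫ p) := isIso_of_mono_of_epi _
  exact isSplitMono_of_section i p hp hE (inv (T.arrow ≫ p) ≫ T.arrow) (by
    rw [Category.assoc, IsIso.inv_hom_id])

end Groth.Agent.Lib.helper13.GL
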