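import Mathlib
import Groth.Prelude.Def_W4c5qcohlocdualityLoc
import Groth.Agent.Lib.Helper13.GL5

/-!
# Objects closed for a localizing class: `BM M` is localizing, and consequences (helper13)
-/

universe w v u

namespace Groth.Agent.Lib.helper13.GL

open CategoryTheory Category Limits

variable {C : Type u} [Category.{v} C] [Abelian C] [IsGrothendieckAbelian.{w} C]

/-- `BM M` is a localizing class -/
theorem isLocalizing_BM (M : C) : GabLoc.IsLocalizing.{w} (BM M) where
  isSerreClass := isSerreClass_BM M
  isClosedUnderCoproducts J := by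
    haveI := isSerreClass_BM M
    apply ObjectProperty.IsClosedUnderColimitsOfShape.mk'
    rintro _ ⟨F, hF⟩
    have h := bm_sigma.{w} M (fun j : J => F.obj ⟨j⟩) (fun j => hF ⟨j⟩)
    exact h.of_iso (HasColimit.isoOfNatIso (Discrete.natIsoFunctor (F := F))).symm

omit [IsGrothendieckAbelian.{w} C] in
lemma isClosedFor_iff_good (P : ObjectProperty C) (M : C) :
    GabLoc.IsClosedFor P M ↔ ∀ Y, P Y → Good M Y := by
  constructor
  · intro h Y hY
    exact ⟨fun f => h.1 hY f, fun N i p hp hS => h.2 i p hp hY hS⟩
  · intro h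
    exact ⟨fun Y hY f => (h Y hY).1 f, fun N Y i p hp hY hS => (h Y hY).2 i p hp hS⟩

/-- if `P ≤ BM M` then `M` is closed for the localizing closure of `P` -/
theorem isClosedFor_locClosure_of_le (P : ObjectProperty C) (M : C) (h : P ≤ BM M) :
    GabLoc.IsClosedFor (GabLoc.locClosure.{w} P) M := by
  rw [isClosedFor_iff_good]
  intro Y hY
  exact (hY (BM M) (isLocalizing_BM.{w} M) h).good

omit [IsGrothendieckAbelian.{w} C] in
/-- a class closed under subobjects and quotients for which `M` is closed lies in `BM M` -/
theorem le_BM_of_isClosedFor (P : ObjectProperty C) [P.IsClosedUnderSubobjects]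
    [P.IsClosedUnderQuotients] (M : C) (h : GabLoc.IsClosedFor P M) : P ≤ BM M := by
  rw [isClosedFor_iff_good] at h
  rintro X hX X' ⟨B, i, p, hi, hp⟩
  exact h X' (P.prop_of_epi p (P.prop_of_mono i hX))

end Groth.Agent.Lib.helper13.GL
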