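import Mathlib
import Groth.Prelude.Def_DRing3
import Groth.Prelude.Def_DRing4
import Groth.Agent.Lib.Helper13.GM2

/-!
# Greenlees–May duality, part 3 (helper13): quasi-isomorphisms of Hom complexes from bijectivity in `D(A)`

* `quasiIso_homCxMap_of_bijective`: `Hom•(K, f)` is a quasi-isomorphism for `f : L ⟶ L'` between K-injective
  complexes as soon as postcomposition with `Q f⟦n⟧` is bijective on `Hom_D(K, L⟦n⟧)` for all `n`.
* `quasiIso_homCxMapLeft_of_bijective`: `Hom•(g, L)` is a quasi-isomorphism for `g : G ⟶ K` and `L` K-injective as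
  soon as precomposition with `Q g` is bijective on `Hom_D(K, L⟦n⟧)` for all `n`.
-/

set_option autoImplicit false
universe u
open CategoryTheory CategoryTheory.Limits DerivedCategory Pretriangulated
open CochainComplex.HomComplex

attribute [local instance] HasDerivedCategory.standard

namespace Groth.Agent.Lib.helper13.GM

open Groth.Agent.Lib.helper13.RGam Groth.Agent.Lib.helper13.DComp
  Groth.Agent.Lib.helper23.RHomCx Groth.Agent.Lib.helper23.TensHom
  Groth.Agent.Lib.helper13.KFlat Groth.Agent.Lib.helper13.HomKFlat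

variable {A : Type u} [CommRing A]

section QuasiIso

theorem quasiIso_homCxMap_of_bijective (K : DRing.Cx A) {L L' : DRing.Cx A} [L.IsKInjective]
    [L'.IsKInjective] (f : L ⟶ L')
    (hb : ∀ n : ℤ, Function.Bijective
      (fun φ : Q.obj K ⟶ Q.obj (L⟦n⟧) => φ ≫ Q.map (f⟦n⟧'))) :
    QuasiIso (DRing.homCxMap K f) := by
  apply quasiIso_of_elementwise
  · intro n (y : Cochain K L' n) hy
    obtain ⟨φ, hφ⟩ := (hb n).2 (Ψ K L' n (mkCocycle y hy))
    obtain ⟨x, hx⟩ := Ψ_surjective_of_isKInjective (K := K) (L := L) (n := n) φ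
    have h1 : Ψ K L' n (x.postcomp f - mkCocycle y hy) = 0 := by
      rw [map_sub, Ψ_postcomp, hx]
      exact sub_eq_zero.2 hφ
    obtain ⟨β, hβ⟩ := exists_coboundary_of_isKInjective _ h1
    refine ⟨x.1, β, homCx_d_cocycle x, ?_⟩
    show x.1.comp (Cochain.ofHom f) (add_zero n) = y + δ (n - 1) n β
    have h2 : δ (n - 1) n β = x.1.comp (Cochain.ofHom f) (add_zero n) - y := hβ
    rw [h2]
    abel
  · intro n (x : Cochain K L n) hx hb'
    obtain ⟨b, hb'⟩ := hb'
    have h1 : Ψ K L' n ((mkCocycle x hx).postcomp f) = 0 :=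
      Ψ_eq_zero_of_coboundary _ b hb'.symm
    rw [Ψ_postcomp] at h1
    have h2 : Ψ K L n (mkCocycle x hx) = 0 := by
      apply (hb n).1
      show Ψ K L n (mkCocycle x hx) ≫ Q.map (f⟦n⟧') = 0 ≫ Q.map (f⟦n⟧')
      rw [h1, zero_comp]
    obtain ⟨a, ha⟩ := exists_coboundary_of_isKInjective _ h2
    exact ⟨a, ha.symm⟩

theorem quasiIso_homCxMapLeft_of_bijective {G K : DRing.Cx A} (g : G ⟶ K) (L : DRing.Cx A)
    [L.IsKInjective]
    (hb : ∀ n : ℤ, Function.Bijective
      (fun φ : Q.obj K ⟶ Q.obj (L⟦n⟧) => Q.map g ≫ φ)) :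
    QuasiIso (homCxMapLeft g L) := by
  apply quasiIso_of_elementwise
  · intro n (y : Cochain G L n) hy
    obtain ⟨φ, hφ⟩ := (hb n).2 (Ψ G L n (mkCocycle y hy))
    obtain ⟨x, hx⟩ := Ψ_surjective_of_isKInjective (K := K) (L := L) (n := n) φ
    have h1 : Ψ G L n (x.precomp g - mkCocycle y hy) = 0 := by
      rw [map_sub, Ψ_precomp, hx]
      exact sub_eq_zero.2 hφ
    obtain ⟨β, hβ⟩ := exists_coboundary_of_isKInjective _ h1
    refine ⟨x.1, β, homCx_d_cocycle x, ?_⟩
    show (Cochain.ofHom g).comp x.1 (zero_add n) = y + δ (n - 1) n β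
    have h2 : δ (n - 1) n β = (Cochain.ofHom g).comp x.1 (zero_add n) - y := hβ
    rw [h2]
    abel
  · intro n (x : Cochain K L n) hx hb'
    obtain ⟨b, hb'⟩ := hb'
    have h1 : Ψ G L n ((mkCocycle x hx).precomp g) = 0 :=
      Ψ_eq_zero_of_coboundary _ b hb'.symm
    rw [Ψ_precomp] at h1
    have h2 : Ψ K L n (mkCocycle x hx) = 0 := by
      apply (hb n).1
      show Q.map g ≫ Ψ K L n (mkCocycle x hx) = Q.map g ≫ 0
      rw [h1, comp_zero]
    obtain ⟨a, ha⟩ := exists_coboundary_of_isKInjective _ h2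
    exact ⟨a, ha.symm⟩

end QuasiIso


section Shift

omit [CommRing A] in
/-- transport of bijectivity along the shift adjunction -/
lemma bijective_postcomp_shift {C : Type*} [Category C] [HasShift C ℤ] {T X Y : C} (α : X ⟶ Y)
    (n : ℤ) (h : Function.Bijective (fun φ : T⟦-n⟧ ⟶ X => φ ≫ α)) :
    Function.Bijective (fun φ : T ⟶ X⟦n⟧ => φ ≫ α⟦n⟧') := by
  let adj : shiftFunctor C (-n) ⊣ shiftFunctor C n :=
    (shiftEquiv' C (-n) n (by omega)).toAdjunction
  have : (fun φ : T ⟶ X⟦n⟧ => φ ≫ α⟦n⟧') =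
      (adj.homEquiv T Y) ∘ (fun φ : T⟦-n⟧ ⟶ X => φ ≫ α) ∘ (adj.homEquiv T X).symm := by
    funext φ
    simp only [Function.comp_apply]
    rw [adj.homEquiv_naturality_right, Equiv.apply_symm_apply]
  rw [this]
  exact ((adj.homEquiv T Y).bijective.comp h).comp (adj.homEquiv T X).symm.bijective

omit [CommRing A] in
lemma bijective_postcomp_of_isIso {C : Type*} [Category C] {X Y : C} (α : X ⟶ Y) [IsIso α] (Z : C) :
    Function.Bijective (fun φ : Z ⟶ X => φ ≫ α) :=
  ⟨fun a b h => (cancel_mono α).1 h, fun c => ⟨c ≫ inv α, by simp⟩⟩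

lemma bijective_postcomp_Q_shift (K : DRing.Cx A) {L L' : DRing.Cx A} (f : L ⟶ L') (n : ℤ)
    (h : Function.Bijective (fun φ : (Q.obj K)⟦-n⟧ ⟶ Q.obj L => φ ≫ Q.map f)) :
    Function.Bijective (fun φ : Q.obj K ⟶ Q.obj (L⟦n⟧) => φ ≫ Q.map (f⟦n⟧')) := by
  have h1 := bijective_postcomp_shift (T := Q.obj K) (Q.map f) n h
  let eL : Q.obj (L⟦n⟧) ≅ (Q.obj L)⟦n⟧ := (Q.commShiftIso n).app L
  let eL' : Q.obj (L'⟦n⟧) ≅ (Q.obj L')⟦n⟧ := (Q.commShiftIso n).app L'
  have hnat : Q.map (f⟦n⟧') ≫ eL'.hom = eL.hom ≫ (Q.map f)⟦n⟧' :=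
    (Q.commShiftIso n).hom.naturality f
  have : (fun φ : Q.obj K ⟶ Q.obj (L⟦n⟧) => φ ≫ Q.map (f⟦n⟧')) =
      (fun φ : Q.obj K ⟶ (Q.obj L')⟦n⟧ => φ ≫ eL'.inv) ∘
        (fun φ : Q.obj K ⟶ (Q.obj L)⟦n⟧ => φ ≫ (Q.map f)⟦n⟧') ∘
          (fun φ : Q.obj K ⟶ Q.obj (L⟦n⟧) => φ ≫ eL.hom) := by
    funext φ
    simp only [Function.comp_apply, Category.assoc]
    rw [← reassoc_of% hnat, Iso.hom_inv_id, Category.comp_id]
  rw [this]
  exact ((bijective_postcomp_of_isIso eL'.inv _).comp h1).comp (bijective_postcomp_of_isIso eL.hom _)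

end Shift


section Facts

variable (I : Ideal A) [DRing.HasRgammaI I] [IsNoetherianRing A]

/-- maps from an object with `I`-power torsion cohomology to `X` factor uniquely through `RΓ_I X` -/
lemma bijective_postcomp_RgammaIε {T : Dual.D A} (hT : TorsD I T) (X : Dual.D A) :
    Function.Bijective
      (fun φ : T ⟶ (DRing.RgammaI I).obj X => φ ≫ (DRing.RgammaIε I).app X) := by
  haveI := isIso_RgammaIε_app I T hT
  have key : ∀ χ : T ⟶ (DRing.RgammaI I).obj X,
      χ = inv ((DRing.RgammaIε I).app T) ≫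
        (DRing.RgammaI I).map (χ ≫ (DRing.RgammaIε I).app X) := by
    intro χ
    rw [IsIso.eq_inv_comp, Functor.map_comp, RgammaI_map_ε]
    have := (DRing.RgammaIε I).naturality χ
    simp only [Functor.id_map, Functor.id_obj] at this
    exact this.symm
  constructor
  · intro φ ψ h
    have h' : φ ≫ (DRing.RgammaIε I).app X = ψ ≫ (DRing.RgammaIε I).app X := h
    rw [key φ, key ψ, h']
  · intro χ
    refine ⟨inv ((DRing.RgammaIε I).app T) ≫ (DRing.RgammaI I).map χ, ?_⟩
    show (inv _ ≫ _) ≫ _ = χ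
    have := (DRing.RgammaIε I).naturality χ
    simp only [Functor.id_map, Functor.id_obj] at this
    rw [Category.assoc, this, IsIso.inv_hom_id_assoc]

end Facts


section Facts2

variable (fs : List A) [DRing.HasRgammaI (Ideal.span {x : A | x ∈ fs})] [IsNoetherianRing A]

/-- maps from an object with torsion cohomology to `Q J` and to its derived completion agree -/
lemma bijective_postcomp_toCompletion {T : Dual.D A}
    (hT : TorsD (Ideal.span {x : A | x ∈ fs}) T) (J : DRing.Cx A) :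
    Function.Bijective (fun φ : T ⟶ Q.obj J => φ ≫ toCompletion fs J) := by
  haveI := isIso_RgammaI_map_toCompletion (Ideal.span {x : A | x ∈ fs}) J fs
    (fun g hg => Ideal.subset_span hg)
  have h1 := bijective_postcomp_RgammaIε (Ideal.span {x : A | x ∈ fs}) hT (Q.obj J)
  have h2 := bijective_postcomp_RgammaIε (Ideal.span {x : A | x ∈ fs}) hT
    (Q.obj (DRing.homCx (Cech fs) J))
  have h3 := bijective_postcomp_of_isIso
    ((DRing.RgammaI (Ideal.span {x : A | x ∈ fs})).map (toCompletion fs J)) T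
  have hnat := (DRing.RgammaIε (Ideal.span {x : A | x ∈ fs})).naturality (toCompletion fs J)
  simp only [Functor.id_map, Functor.id_obj] at hnat
  have hcomp : (fun φ : T ⟶ Q.obj J => φ ≫ toCompletion fs J) ∘
      (fun φ : T ⟶ (DRing.RgammaI (Ideal.span {x : A | x ∈ fs})).obj (Q.obj J) =>
        φ ≫ (DRing.RgammaIε (Ideal.span {x : A | x ∈ fs})).app (Q.obj J)) =
      (fun φ : T ⟶ (DRing.RgammaI (Ideal.span {x : A | x ∈ fs})).obj
          (Q.obj (DRing.homCx (Cech fs) J)) =>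
        φ ≫ (DRing.RgammaIε (Ideal.span {x : A | x ∈ fs})).app _) ∘
      (fun φ : T ⟶ (DRing.RgammaI (Ideal.span {x : A | x ∈ fs})).obj (Q.obj J) =>
        φ ≫ (DRing.RgammaI (Ideal.span {x : A | x ∈ fs})).map (toCompletion fs J)) := by
    funext φ
    simp only [Function.comp_apply, Category.assoc]
    rw [hnat]
  have hb : Function.Bijective ((fun φ : T ⟶ Q.obj J => φ ≫ toCompletion fs J) ∘
      (fun φ : T ⟶ (DRing.RgammaI (Ideal.span {x : A | x ∈ fs})).obj (Q.obj J) =>
        φ ≫ (DRing.RgammaIε (Ideal.span {x : A | x ∈ fs})).app (Q.obj J))) := by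
    rw [hcomp]
    exact h2.comp h3
  exact (Function.Bijective.of_comp_iff _ h1).1 hb

end Facts2

end Groth.Agent.Lib.helper13.GM
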