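import Mathlib
import Groth.Prelude.Def_DRing3
import Groth.Prelude.Def_DRing4
import Groth.Agent.Lib.Helper13.GM3

/-!
# Greenlees–May duality, part 4 (helper13): `(RHom(K, X))^∧ ≅ RHom(RΓ_I K, RΓ_I X)`

* `exists_Q_map_eq`: morphisms `Q X ⟶ Q J` in `D(A)` with `J` K-injective come from chain maps.
* `nonempty_completion_RHomCx_iso`: for `A` Noetherian, `I = (fs)`, complexes `K`, `G` with `Q G ≅ RΓ_I (Q K)`
  and `X ∈ D(A)`: the derived completion of `RHom(K, X)` is isomorphic to `RHom(G, RΓ_I X)`.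
-/

set_option autoImplicit false
universe u
open CategoryTheory CategoryTheory.Limits DerivedCategory Pretriangulated
open CochainComplex.HomComplex

attribute [local instance] HasDerivedCategory.standard

namespace Groth.Agent.Lib.helper13.GM

open Groth.Agent.Lib.helper13.RGam Groth.Agent.Lib.helper13.DComp
  Groth.Agent.Lib.helper23.RHomCx Groth.Agent.Lib.helper23.TensHom
  Groth.Agent.Lib.helper13.KFlat Groth.Agent.Lib.helper13.HomKFlat

variable {A : Type u} [CommRing A]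

lemma exists_Q_map_eq {X J : DRing.Cx A} [J.IsKInjective] (α : Q.obj X ⟶ Q.obj J) :
    ∃ a : X ⟶ J, Q.map a = α := by
  obtain ⟨a', ha'⟩ := (CochainComplex.IsKInjective.Qh_map_bijective
    ((HomotopyCategory.quotient _ (ComplexShape.up ℤ)).obj X) J).2 α
  obtain ⟨a, rfl⟩ := (HomotopyCategory.quotient _ (ComplexShape.up ℤ)).map_surjective a'
  exact ⟨a, ha'⟩

section Main

variable (fs : List A) [DRing.HasRgammaI (Ideal.span {x : A | x ∈ fs})]
  [DRing.HasDerivedCompletion (Ideal.span {x : A | x ∈ fs})] [IsNoetherianRing A]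

/-- **`(RHom(K, X))^∧ ≅ RHom(RΓ_I K, RΓ_I X)`** -/
theorem nonempty_completion_RHomCx_iso (K G : DRing.Cx A) [DRing.HasRHomCx K] [DRing.HasRHomCx G]
    (hG : Q.obj G ≅ (DRing.RgammaI (Ideal.span {x : A | x ∈ fs})).obj (Q.obj K)) (X : Dual.D A) :
    Nonempty (((DRing.derivedCompletion (Ideal.span {x : A | x ∈ fs})).obj
        ((DRing.RHomCx K).obj X)).obj ≅
      (DRing.RHomCx G).obj ((DRing.RgammaI (Ideal.span {x : A | x ∈ fs})).obj X)) := by
  -- models
  obtain ⟨J, hJ, ⟨eX⟩⟩ := exists_kInjective_model X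
  haveI := hJ
  obtain ⟨Jt, hJt, ⟨et⟩⟩ := exists_kInjective_model
    ((DRing.RgammaI (Ideal.span {x : A | x ∈ fs})).obj X)
  haveI := hJt
  obtain ⟨ε', hε'⟩ := exists_Q_map_eq
    (et.inv ≫ (DRing.RgammaIε (Ideal.span {x : A | x ∈ fs})).app X ≫ eX.hom)
  haveI hJc : (DRing.homCx (Cech fs) J).IsKInjective :=
    isKInjective_homCx (Cech fs) J (isKFlatR_extCech fs)
  let u : J ≅ DRing.homCx (Cech ([] : List A)) J :=
    ((shiftFunctorZero (DRing.Cx A) ℤ).app J).symm ≪≫ (singleShiftIso J 0).symm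
  let η' : J ⟶ DRing.homCx (Cech fs) J := u.hom ≫ homCxMapLeft (aug fs) J
  have hη' : Q.map η' = toCompletion fs J := by
    simp only [toCompletion, unitHomIso, u, η', Iso.trans_hom, Functor.mapIso_hom, Functor.map_comp]
  -- a roof representing `Q G ≅ RΓ_I (Q K) ⟶ Q K`
  obtain ⟨G'', s, hs, g, hg⟩ := DerivedCategory.right_fac
    (hG.hom ≫ (DRing.RgammaIε (Ideal.span {x : A | x ∈ fs})).app (Q.obj K))
  haveI := hs
  haveI : QuasiIso s := by
    rw [← DerivedCategory.isIso_Q_map_iff_quasiIso]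
    exact hs
  have hg' : Q.map g =
      Q.map s ≫ hG.hom ≫ (DRing.RgammaIε (Ideal.span {x : A | x ∈ fs})).app (Q.obj K) := by
    rw [hg, IsIso.hom_inv_id_assoc]
  have hTG : TorsD (Ideal.span {x : A | x ∈ fs}) (Q.obj G) :=
    torsD_of_iso _ hG.symm (torsD_RgammaI _ _)
  -- the four quasi-isomorphisms
  have q1 : QuasiIso (DRing.homCxMap G ε') := by
    apply quasiIso_homCxMap_of_bijective
    intro n
    apply bijective_postcomp_Q_shift
    have hT' := torsD_shift (Ideal.span {x : A | x ∈ fs}) _ hTG (-n)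
    have h1 := bijective_postcomp_RgammaIε (Ideal.span {x : A | x ∈ fs}) hT' X
    have : (fun φ : (Q.obj G)⟦-n⟧ ⟶ Q.obj Jt => φ ≫ Q.map ε') =
        (fun φ : (Q.obj G)⟦-n⟧ ⟶ X => φ ≫ eX.hom) ∘
          (fun φ : (Q.obj G)⟦-n⟧ ⟶ (DRing.RgammaI (Ideal.span {x : A | x ∈ fs})).obj X =>
            φ ≫ (DRing.RgammaIε (Ideal.span {x : A | x ∈ fs})).app X) ∘
          (fun φ : (Q.obj G)⟦-n⟧ ⟶ Q.obj Jt => φ ≫ et.inv) := by
      funext φ
      simp only [Function.comp_apply, Category.assoc, hε']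
    rw [this]
    exact ((bijective_postcomp_of_isIso eX.hom _).comp h1).comp
      (bijective_postcomp_of_isIso et.inv _)
  have q2 : QuasiIso (DRing.homCxMap G η') := by
    apply quasiIso_homCxMap_of_bijective
    intro n
    apply bijective_postcomp_Q_shift
    rw [hη']
    exact bijective_postcomp_toCompletion fs
      (torsD_shift (Ideal.span {x : A | x ∈ fs}) _ hTG (-n)) J
  have q3 : QuasiIso (homCxMapLeft s (DRing.homCx (Cech fs) J)) := quasiIso_homCxMapLeft s _
  have q4 : QuasiIso (homCxMapLeft g (DRing.homCx (Cech fs) J)) := by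
    apply quasiIso_homCxMapLeft_of_bijective
    intro n
    have hM : DRing.IsDerivedComplete (Ideal.span {x : A | x ∈ fs})
        (Q.obj ((DRing.homCx (Cech fs) J)⟦n⟧)) :=
      isDerivedComplete_of_iso _ ((Q.commShiftIso n).app _).symm
        (isDerivedComplete_shift _ _ (isDerivedComplete_homCx_Cech fs J) n)
    have h1 := bijective_precomp_RgammaIε fs (Q.obj K) _ hM
    have : (fun φ : Q.obj K ⟶ Q.obj ((DRing.homCx (Cech fs) J)⟦n⟧) => Q.map g ≫ φ) =
        (fun φ : Q.obj G ⟶ Q.obj ((DRing.homCx (Cech fs) J)⟦n⟧) => Q.map s ≫ φ) ∘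
          (fun φ : (DRing.RgammaI (Ideal.span {x : A | x ∈ fs})).obj (Q.obj K) ⟶
              Q.obj ((DRing.homCx (Cech fs) J)⟦n⟧) => hG.hom ≫ φ) ∘
          (fun φ : Q.obj K ⟶ Q.obj ((DRing.homCx (Cech fs) J)⟦n⟧) =>
            (DRing.RgammaIε (Ideal.span {x : A | x ∈ fs})).app (Q.obj K) ≫ φ) := by
      funext φ
      simp only [Function.comp_apply, hg', Category.assoc]
    rw [this]
    exact ((bijective_precomp_of_isIso (Q.map s) _).comp
      (bijective_precomp_of_isIso hG.hom _)).comp h1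
  haveI i1 : IsIso (Q.map (DRing.homCxMap G ε')) := by
    rw [isIso_Q_map_iff_quasiIso]
    exact q1
  haveI i2 : IsIso (Q.map (DRing.homCxMap G η')) := by
    rw [isIso_Q_map_iff_quasiIso]
    exact q2
  haveI i3 : IsIso (Q.map (homCxMapLeft s (DRing.homCx (Cech fs) J))) := by
    rw [isIso_Q_map_iff_quasiIso]
    exact q3
  haveI i4 : IsIso (Q.map (homCxMapLeft g (DRing.homCx (Cech fs) J))) := by
    rw [isIso_Q_map_iff_quasiIso]
    exact q4
  obtain ⟨e', -⟩ := exists_derivedCompletion_iso_homCx_Cech fs J eX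
  have hR := RHomCx_derivedCompletion fs (Ideal.span {x : A | x ∈ fs}) rfl K X
  obtain ⟨ec, -⟩ := nonempty_derivedCompletion_iso (Ideal.span {x : A | x ∈ fs})
    ((DRing.RHomCx K).obj X) _
    ((DRing.RHomCx K).map (DRing.toDerivedCompletion (Ideal.span {x : A | x ∈ fs}) X)) hR.1 hR.2
  exact ⟨ec ≪≫ (DRing.RHomCx K).mapIso e' ≪≫ (RHomCxIso K (DRing.homCx (Cech fs) J)).symm ≪≫
    asIso (Q.map (homCxMapLeft g (DRing.homCx (Cech fs) J))) ≪≫
    (asIso (Q.map (homCxMapLeft s (DRing.homCx (Cech fs) J)))).symm ≪≫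
    (asIso (Q.map (DRing.homCxMap G η'))).symm ≪≫ (asIso (Q.map (DRing.homCxMap G ε'))).symm ≪≫
    RHomCxIso G Jt ≪≫ (DRing.RHomCx G).mapIso et.symm⟩

end Main

end Groth.Agent.Lib.helper13.GM
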