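import Mathlib
import Groth.Prelude.Def_DRing3
import Groth.Prelude.Def_DRing4
import Groth.Agent.Lib.Helper13.GM4
import Groth.Agent.Lib.Helper23.LDual6
import Groth.Agent.Lib.Helper23.LDual3

/-!
# Greenlees–May duality, part 5 (helper13): `RΓ_m(ω) ≅ E[0]` and S1818

* `nonempty_iso_inD_of_homology`: an object of `D(A)` with cohomology `E` in degree `0` and zero elsewhere is
  isomorphic to `E[0]`.
* `nonempty_RgammaI_dualizing_iso`: `RΓ_m(ω) ≅ E[0]` for a normalized dualizing complex `ω` over a Noetherian local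
  ring and `E` an injective hull of the residue field.
* `nonempty_completion_RHomCx_dualizing_iso`: `(RHom(K, ω))^∧ ≅ RHom(RΓ_m K, E[0])` (S1818).
-/

set_option autoImplicit false
universe u
open CategoryTheory CategoryTheory.Limits DerivedCategory Pretriangulated

attribute [local instance] HasDerivedCategory.standard

namespace Groth.Agent.Lib.helper13.GM

open Groth.Agent.Lib.helper13.RGam Groth.Agent.Lib.helper13.DComp

variable {A : Type u} [CommRing A]

/-- an object of `D(A)` with cohomology `E` in degree `0` and zero elsewhere is `E[0]` -/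
theorem nonempty_iso_inD_of_homology (R : Dual.D A) (E : Type u) [AddCommGroup E] [Module A E]
    (h0 : Nonempty (Dual.HD A R 0 ≃ₗ[A] E)) (h : ∀ i : ℤ, i ≠ 0 → Subsingleton (Dual.HD A R i)) :
    Nonempty (R ≅ Dual.inD A E) := by
  have hz : ∀ q : ℤ, q ≠ 0 → IsZero ((homologyFunctor (ModuleCat.{u} A) q).obj R) := fun q hq => by
    haveI : Subsingleton ((homologyFunctor (ModuleCat.{u} A) q).obj R) := h q hq
    exact ModuleCat.isZero_of_subsingleton _
  haveI : R.IsGE 0 := by
    rw [DerivedCategory.isGE_iff]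
    intro i hi
    exact hz i (by omega)
  haveI : R.IsLE 0 := by
    rw [DerivedCategory.isLE_iff]
    intro i hi
    exact hz i (by omega)
  obtain ⟨M, ⟨eM⟩⟩ := exists_iso_singleFunctor_obj_of_isGE_of_isLE R 0
  let eH : M ≅ (homologyFunctor (ModuleCat.{u} A) 0).obj R :=
    ((singleFunctorCompHomologyFunctorIso (ModuleCat.{u} A) 0).app M).symm ≪≫
      (homologyFunctor (ModuleCat.{u} A) 0).mapIso eM.symm
  obtain ⟨e0⟩ := h0
  let eME : M ≅ ModuleCat.of A E := eH ≪≫ e0.toModuleIso
  exact ⟨eM ≪≫ (singleFunctor (ModuleCat.{u} A) 0).mapIso eME⟩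

section Local

variable [IsLocalRing A] [IsNoetherianRing A] (ω : Dual.D A) (hω : Dual.IsDualizing A ω)
  (hn : Dual.IsNormalized A ω) (E : Type u) [AddCommGroup E] [Module A E]
  (f : IsLocalRing.ResidueField A →ₗ[A] E) (hf : InjHull.IsInjectiveHull f)
  [DRing.HasRgammaI (IsLocalRing.maximalIdeal A)]

include hω hn hf in
/-- **`RΓ_m(ω) ≅ E[0]`** -/
theorem nonempty_RgammaI_dualizing_iso :
    Nonempty ((DRing.RgammaI (IsLocalRing.maximalIdeal A)).obj ω ≅ Dual.inD A E) := by
  obtain ⟨⟨e0⟩, hne⟩ :=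
    Groth.Agent.Lib.helper23.LDual.localCohomology_normalized_dualizing ω hω hn E f hf
  have hH : ∀ q : ℤ, Nonempty (Dual.HD A ((DRing.RgammaI (IsLocalRing.maximalIdeal A)).obj ω) q ≃ₗ[A]
      Dual2.HDI A (IsLocalRing.maximalIdeal A) ω q) := fun q =>
    Groth.Agent.Lib.helper23.LDual.HD_RgammaI_equiv_HDI (IsLocalRing.maximalIdeal A) ω q
  apply nonempty_iso_inD_of_homology
  · obtain ⟨e1⟩ := hH 0
    exact ⟨e1 ≪≫ₗ e0⟩
  · intro i hi
    obtain ⟨e1⟩ := hH i
    haveI := hne i hi
    exact e1.toEquiv.subsingleton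

end Local

section General

variable [IsNoetherianRing A] (I : Ideal A) [DRing.HasRgammaI I] [DRing.HasDerivedCompletion I]

/-- `(RHom(K, X))^∧ ≅ RHom(RΓ_I K, RΓ_I X)` for an arbitrary ideal of a Noetherian ring -/
theorem nonempty_completion_RHomCx_iso' (K G : DRing.Cx A) [DRing.HasRHomCx K] [DRing.HasRHomCx G]
    (hG : Q.obj G ≅ (DRing.RgammaI I).obj (Q.obj K)) (X : Dual.D A) :
    Nonempty (((DRing.derivedCompletion I).obj ((DRing.RHomCx K).obj X)).obj ≅
      (DRing.RHomCx G).obj ((DRing.RgammaI I).obj X)) := by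
  obtain ⟨s, hs⟩ := (isNoetherianRing_iff_ideal_fg A).1 inferInstance I
  have hspan : Ideal.span {x : A | x ∈ s.toList} = I := by
    rw [← hs]
    congr 1
    ext x
    simp
  subst hspan
  exact nonempty_completion_RHomCx_iso s.toList K G hG X

end General

end Groth.Agent.Lib.helper13.GM
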