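import Mathlib
import Groth.Prelude.Def_W4c5qcohlocdualityLoc
import Groth.Agent.Lib.Helper13.GL1

/-!
# Localizing closure and transfinite filtrations, part 1 (helper13)

Monomorphisms with cokernel in a localizing class are stable under transfinite composition.
-/

universe w v u

namespace Groth.Agent.Lib.helper13.GT

open CategoryTheory Category Limits

variable {C : Type u} [Category.{v} C] [Abelian C]

/-- monomorphisms with cokernel in `Q` -/
def monoCoker (Q : ObjectProperty C) : MorphismProperty C := fun _ _ f => Mono f ∧ Q (cokernel f)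

/-- the cokernel of a composite of monomorphisms is an extension -/
lemma shortExact_cokernel_comp {A B D : C} (f : A ⟶ B) (g : B ⟶ D) [Mono f] [Mono g] :
    ∃ (α : cokernel f ⟶ cokernel (f ≫ g)) (β : cokernel (f ≫ g) ⟶ cokernel g) (h : α ≫ β = 0),
      (ShortComplex.mk α β h).ShortExact := by
  let α : cokernel f ⟶ cokernel (f ≫ g) := cokernel.desc f (g ≫ cokernel.π (f ≫ g)) (by
    rw [← Category.assoc, cokernel.condition])
  let β : cokernel (f ≫ g) ⟶ cokernel g := cokernel.desc (f ≫ g) (cokernel.π g) (by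
    rw [Category.assoc, cokernel.condition, comp_zero])
  have hα : cokernel.π f ≫ α = g ≫ cokernel.π (f ≫ g) := cokernel.π_desc _ _ _
  have hβ : cokernel.π (f ≫ g) ≫ β = cokernel.π g := cokernel.π_desc _ _ _
  have h : α ≫ β = 0 := by
    rw [← cancel_epi (cokernel.π f), ← Category.assoc, hα, Category.assoc, hβ, cokernel.condition,
      comp_zero]
  haveI : Mono (f ≫ g) := mono_comp _ _
  have hm : Mono α := by
    apply Preadditive.mono_of_cancel_zero
    intro Z z hz
    obtain ⟨Z', ε, hε, z', hz'⟩ := surjective_up_to_refinements_of_epi (cokernel.π f) z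
    have h1 : (z' ≫ g) ≫ cokernel.π (f ≫ g) = 0 := by
      rw [Category.assoc, ← hα, ← Category.assoc, ← hz', Category.assoc, hz, comp_zero]
    have hw : Abelian.monoLift (f ≫ g) (z' ≫ g) h1 ≫ f ≫ g = z' ≫ g :=
      Abelian.monoLift_comp _ _ h1
    have hw' : Abelian.monoLift (f ≫ g) (z' ≫ g) h1 ≫ f = z' := by
      rw [← cancel_mono g, Category.assoc]; exact hw
    have h2 : z' ≫ cokernel.π f = 0 := by
      rw [← hw', Category.assoc, cokernel.condition, comp_zero]
    rw [← cancel_epi ε, hz', h2, comp_zero]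
  have he : Epi β := by
    haveI : Epi (cokernel.π (f ≫ g) ≫ β) := by rw [hβ]; infer_instance
    exact epi_of_epi (cokernel.π (f ≫ g)) β
  refine ⟨α, β, h, { exact := ?_, mono_f := hm, epi_g := he }⟩
  rw [ShortComplex.exact_iff_exact_up_to_refinements]
  intro Z x hx
  have hx' : x ≫ β = 0 := hx
  obtain ⟨Z', ε, hε, x', hx''⟩ := surjective_up_to_refinements_of_epi (cokernel.π (f ≫ g)) x
  have h1 : x' ≫ cokernel.π g = 0 := by
    rw [← hβ, ← Category.assoc, ← hx'', Category.assoc, hx', comp_zero]
  have hy : Abelian.monoLift g x' h1 ≫ g = x' := Abelian.monoLift_comp _ _ h1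
  refine ⟨Z', ε, hε, Abelian.monoLift g x' h1 ≫ cokernel.π f, ?_⟩
  show ε ≫ x = (Abelian.monoLift g x' h1 ≫ cokernel.π f) ≫ α
  rw [Category.assoc, hα, ← Category.assoc, hy, hx'']

end Groth.Agent.Lib.helper13.GT
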