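import Mathlib
import Groth.Prelude.Def_W4c5qcohlocdualityLoc
import Groth.Agent.Lib.Helper13.GT1

/-!
# Localizing closure and transfinite filtrations, part 2 (helper13)

`monoCoker Q` is stable under transfinite compositions for `Q` localizing.
-/

universe w v u

namespace Groth.Agent.Lib.helper13.GT

open CategoryTheory Category Limits

attribute [local instance] IsFiltered.isConnected

variable {C : Type u} [Category.{v} C] [Abelian C]

lemma monoCoker_of_iso (Q : ObjectProperty C) [Q.IsClosedUnderIsomorphisms] {A B A' B' : C}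
    (f : A ⟶ B) (g : A' ⟶ B') (eA : A ≅ A') (eB : B ≅ B') (hw : f ≫ eB.hom = eA.hom ≫ g)
    (hf : monoCoker Q f) : monoCoker Q g := by
  obtain ⟨hm, hq⟩ := hf
  refine ⟨?_, Q.prop_of_iso (cokernel.mapIso f g eA eB hw) hq⟩
  haveI := hm
  have hg : g = eA.inv ≫ f ≫ eB.hom := by rw [hw, Iso.inv_hom_id_assoc]
  rw [hg]
  infer_instance

lemma monoCoker_respectsIso (Q : ObjectProperty C) [Q.IsClosedUnderIsomorphisms] :
    (monoCoker Q).RespectsIso :=
  MorphismProperty.RespectsIso.mk _
    (fun {X Y Z} e f hf => monoCoker_of_iso Q f (e.hom ≫ f) e.symm (Iso.refl _) (by simp) hf)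
    (fun {X Y Z} e f hf => monoCoker_of_iso Q f (f ≫ e.hom) (Iso.refl _) e (by simp) hf)

lemma monoCoker_isMultiplicative (Q : ObjectProperty C) [Q.IsSerreClass] :
    (monoCoker Q).IsMultiplicative where
  id_mem X := ⟨inferInstance, by
    obtain ⟨Z, hZ, hQZ⟩ := Q.exists_prop_of_containsZero
    have hz : IsZero (cokernel (𝟙 X)) := by
      rw [IsZero.iff_id_eq_zero, ← cancel_epi (cokernel.π (𝟙 X))]
      have : cokernel.π (𝟙 X) = 0 := by
        have := cokernel.condition (𝟙 X)
        rwa [Category.id_comp] at this
      rw [this, zero_comp, zero_comp]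
    exact Q.prop_of_iso (hZ.iso hz) hQZ⟩
  comp_mem f g hf hg := by
    haveI := hf.1
    haveI := hg.1
    obtain ⟨α, β, h, hS⟩ := shortExact_cokernel_comp f g
    exact ⟨mono_comp _ _, Q.prop_X₂_of_shortExact hS hf.2 hg.2⟩

variable [IsGrothendieckAbelian.{w} C]

lemma monoCoker_isStableUnderFilteredColimits (Q : ObjectProperty C)
    (hQ : GabLoc.IsLocalizing.{w} Q) :
    MorphismProperty.IsStableUnderFilteredColimits.{w, w} (monoCoker Q) where
  isStableUnderColimitsOfShape J _ _ :=
    { condition := by
        intro X₁ X₂ c₁ c₂ h₁ h₂ f hf φ hφ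
        haveI := hQ.isSerreClass
        haveI : ∀ j, Mono (f.app j) := fun j => (hf j).1
        haveI : Mono f := NatTrans.mono_of_mono_app f
        refine ⟨colim.map_mono' f h₁ h₂ φ hφ, ?_⟩
        let κ : ∀ j, cokernel (f.app j) ⟶ cokernel φ := fun j =>
          cokernel.map (f.app j) φ (c₁.ι.app j) (c₂.ι.app j) (hφ j).symm
        have hκ : ∀ j, cokernel.π (f.app j) ≫ κ j = c₂.ι.app j ≫ cokernel.π φ := fun j =>
          cokernel.π_desc _ _ _
        have he : Epi (Sigma.desc κ) := by
          apply Preadditive.epi_of_cancel_zero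
          intro W g hg
          have h0 : cokernel.π φ ≫ g = 0 := by
            apply h₂.hom_ext
            intro j
            rw [comp_zero, ← Category.assoc, ← hκ j, Category.assoc]
            have : κ j ≫ g = 0 := by
              have := congrArg (fun t => Sigma.ι (fun j => cokernel (f.app j)) j ≫ t) hg
              simpa using this
            rw [this, comp_zero]
          rw [← cancel_epi (cokernel.π φ), h0, comp_zero]
        haveI := hQ.isClosedUnderCoproducts J
        have hsig : Q (∐ fun j => cokernel (f.app j)) :=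
          Q.prop_colimit (Discrete.functor fun j => cokernel (f.app j)) (fun j => (hf j.as).2)
        exact Q.prop_of_epi (Sigma.desc κ) hsig }

/-- `monoCoker Q` is stable under transfinite compositions when `Q` is localizing -/
lemma transfiniteCompositions_monoCoker_le (Q : ObjectProperty C) (hQ : GabLoc.IsLocalizing.{w} Q) :
    MorphismProperty.transfiniteCompositions.{w} (monoCoker Q) ≤ monoCoker Q := by
  haveI := hQ.isSerreClass
  haveI := monoCoker_respectsIso Q
  haveI := monoCoker_isMultiplicative Q
  haveI := monoCoker_isStableUnderFilteredColimits.{w} Q hQ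
  exact MorphismProperty.transfiniteCompositions_le _

end Groth.Agent.Lib.helper13.GT
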