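import Mathlib
import Groth.Prelude.Def_W4c5qcohlocdualityLoc
import Groth.Agent.Lib.Helper13.GT2

/-!
# Localizing closure and transfinite filtrations, part 3 (helper13)

The easy direction: if `0 ⟶ X` is a transfinite composition of `monoModSubquot P`-maps then `X` lies
in the localizing closure of `P`.
-/

universe w v u

namespace Groth.Agent.Lib.helper13.GT

open CategoryTheory Category Limits

variable {C : Type u} [Category.{v} C] [Abelian C] [IsGrothendieckAbelian.{w} C]

lemma subquotCoprod_le (P Q : ObjectProperty C) (hQ : GabLoc.IsLocalizing.{w} Q) (hPQ : P ≤ Q) :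
    GabLoc.subquotCoprod.{w} P ≤ Q := by
  rintro A ⟨J, X, hX, B, i, p, hi, hp⟩
  haveI := hQ.isSerreClass
  haveI := hQ.isClosedUnderCoproducts J
  have hsig : Q (∐ X) :=
    Q.prop_colimit (Discrete.functor X) (fun j => hPQ _ (hX j.as))
  exact Q.prop_of_epi p (Q.prop_of_mono i hsig)

lemma monoModSubquot_le_monoCoker (P Q : ObjectProperty C) (hQ : GabLoc.IsLocalizing.{w} Q)
    (hPQ : P ≤ Q) : GabLoc.monoModSubquot.{w} P ≤ monoCoker Q := by
  rintro A B f ⟨hm, hq⟩
  exact ⟨hm, subquotCoprod_le P Q hQ hPQ _ hq⟩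

open ZeroObject in
lemma locClosure_of_transfiniteCompositions (P : ObjectProperty C) (X : C)
    (h : MorphismProperty.transfiniteCompositions.{w} (GabLoc.monoModSubquot.{w} P)
      (0 : (0 : C) ⟶ X)) : GabLoc.locClosure.{w} P X := by
  intro Q hQ hPQ
  haveI := hQ.isSerreClass
  have h1 := MorphismProperty.transfiniteCompositions_monotone.{w}
    (monoModSubquot_le_monoCoker P Q hQ hPQ) _ h
  have h2 := transfiniteCompositions_monoCoker_le.{w} Q hQ _ h1
  exact Q.prop_of_iso cokernelZeroIsoTarget h2.2

end Groth.Agent.Lib.helper13.GT
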