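import Mathlib
import Groth.Prelude.Def_W4c5qcohlocdualityLoc
import Groth.Agent.Lib.Helper13.GD1
import Groth.Agent.Lib.Helper13.GD4
import Groth.Agent.Lib.Helper13.GD5

/-!
# Localizing closure and transfinite filtrations, part 4 (helper13)

The torsion class `TT P'` generated by a class `P'` closed under subobjects and quotients: objects all
of whose nonzero quotients have a nonzero subobject in `P'`.  It is a localizing class.
-/

universe w v u

namespace Groth.Agent.Lib.helper13.GT

open CategoryTheory Category Limits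

variable {C : Type u} [Category.{v} C] [Abelian C]

/-- objects all of whose nonzero quotients have a nonzero subobject in `P'` -/
def TT (P' : ObjectProperty C) : ObjectProperty C := fun X =>
  ∀ ⦃Y : C⦄ (p : X ⟶ Y), Epi p → ¬ IsZero Y → ∃ (A : C) (a : A ⟶ Y), Mono a ∧ ¬ IsZero A ∧ P' A

variable (P' : ObjectProperty C)

lemma tt_of_epi {X X' : C} (p : X ⟶ X') [Epi p] (h : TT P' X) : TT P' X' := by
  intro Y q hq hY
  haveI := hq
  exact h (p ≫ q) (epi_comp _ _) hY

lemma tt_of_isZero {X : C} (hX : IsZero X) : TT P' X := by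
  intro Y p hp hY
  haveI := hp
  exfalso
  apply hY
  rw [IsZero.iff_id_eq_zero, ← cancel_epi p]
  exact hX.eq_of_src _ _

lemma tt_of_prop (hquot : ∀ ⦃A B : C⦄ (p : A ⟶ B), Epi p → P' A → P' B) {X : C} (h : P' X) :
    TT P' X := by
  intro Y p hp hY
  exact ⟨Y, 𝟙 Y, inferInstance, hY, hquot p hp h⟩

/-- a nonzero map from a `TT` object hits a nonzero `P'`-subobject -/
lemma tt_exists_of_ne_zero {X Y : C} (h : TT P' X) (f : X ⟶ Y) (hf : f ≠ 0) :
    ∃ (A : C) (a : A ⟶ Y), Mono a ∧ ¬ IsZero A ∧ P' A := by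
  have hne : ¬ IsZero (Abelian.image f) := by
    intro hz
    apply hf
    rw [← Abelian.image.fac f]
    rw [hz.eq_of_tgt (Abelian.factorThruImage f) 0, zero_comp]
  obtain ⟨A, a, ha, hA, hPA⟩ := h (Abelian.factorThruImage f) inferInstance hne
  haveI := ha
  exact ⟨A, a ≫ Abelian.image.ι f, mono_comp _ _, hA, hPA⟩

lemma tt_of_shortExact {S : ShortComplex C} (hS : S.ShortExact) (h₁ : TT P' S.X₁)
    (h₃ : TT P' S.X₃) : TT P' S.X₂ := by
  intro Y p hp hY
  haveI := hp
  haveI := hS.epi_g
  by_cases h0 : S.f ≫ p = 0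
  · have hd : S.g ≫ hS.exact.desc p h0 = p := hS.exact.g_desc p h0
    haveI : Epi (S.g ≫ hS.exact.desc p h0) := by rw [hd]; infer_instance
    haveI : Epi (hS.exact.desc p h0) := epi_of_epi S.g _
    exact h₃ (hS.exact.desc p h0) inferInstance hY
  · exact tt_exists_of_ne_zero P' h₁ (S.f ≫ p) h0

lemma tt_sigma {J : Type w} [HasCoproductsOfShape J C] (X : J → C) (h : ∀ j, TT P' (X j)) :
    TT P' (∐ X) := by
  intro Y p hp hY
  haveI := hp
  have hp0 : p ≠ 0 := by
    intro h0
    apply hY
    rw [IsZero.iff_id_eq_zero, ← cancel_epi p, h0, zero_comp, zero_comp]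
  have : ∃ j, Sigma.ι X j ≫ p ≠ 0 := by
    by_contra hcon
    push Not at hcon
    apply hp0
    apply Sigma.hom_ext
    intro j
    rw [hcon j, comp_zero]
  obtain ⟨j, hj⟩ := this
  exact tt_exists_of_ne_zero P' (h j) _ hj

section

variable [IsGrothendieckAbelian.{w} C]

lemma tt_of_mono (hsub : ∀ ⦃A B : C⦄ (i : A ⟶ B), Mono i → P' B → P' A) {X' X : C} (m : X' ⟶ X)
    [Mono m] (h : TT P' X) : TT P' X' := by
  intro Y p hp hY
  haveI := hp
  haveI := IsGrothendieckAbelian.enoughInjectives.{w} (C := C)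
  obtain ⟨J, ι, r, u, hr, hu, hEss⟩ := GD.exists_ess_retract.{w} (Injective.ι Y)
  haveI : Injective J := GD.injective_of_retract ι r hr
  haveI : Mono u := by
    haveI : Mono (u ≫ ι) := by rw [hu]; infer_instance
    exact mono_of_mono u ι
  let g : X ⟶ J := Injective.factorThru (p ≫ u) m
  have hg : m ≫ g = p ≫ u := Injective.comp_factorThru _ _
  have hg0 : g ≠ 0 := by
    intro h0
    apply hY
    have h1 : p ≫ u = 0 := by rw [← hg, h0, comp_zero]
    have h2 : u = 0 := by rwa [← cancel_epi p, comp_zero]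
    exact GD.isZero_of_mono_eq_zero u h2
  obtain ⟨A, a, ha, hA, hPA⟩ := tt_exists_of_ne_zero P' h g hg0
  haveI := ha
  refine ⟨pullback u a, pullback.fst u a, inferInstance, ?_, hsub (pullback.snd u a) inferInstance hPA⟩
  intro hz
  have hm : Mono (u ≫ cokernel.π a) := GD.mono_comp_cokernel_of_isZero_pullback u a hz
  have hm' : Mono (cokernel.π a) := hEss _ hm
  apply hA
  apply GD.isZero_of_mono_eq_zero a
  rw [← cancel_mono (cokernel.π a), cokernel.condition, zero_comp]

/-- `TT P'` is localizing when `P'` is closed under subobjects and quotients -/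
theorem isLocalizing_TT (hsub : ∀ ⦃A B : C⦄ (i : A ⟶ B), Mono i → P' B → P' A) :
    GabLoc.IsLocalizing.{w} (TT P') where
  isSerreClass :=
    { exists_zero := by
        obtain ⟨Z, hZ⟩ := HasZeroObject.zero (C := C)
        exact ⟨Z, hZ, tt_of_isZero P' hZ⟩
      prop_of_mono := fun f _ h => tt_of_mono.{w} P' hsub f h
      prop_of_epi := fun f _ h => tt_of_epi P' f h
      prop_X₂_of_shortExact := fun hS h₁ h₃ => tt_of_shortExact P' hS h₁ h₃ }
  isClosedUnderCoproducts J := by
    haveI : (TT P').IsClosedUnderIsomorphisms :=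
      ⟨fun e h => tt_of_epi P' e.hom h⟩
    apply ObjectProperty.IsClosedUnderColimitsOfShape.mk'
    rintro _ ⟨F, hF⟩
    have h := tt_sigma.{w} P' (fun j : J => F.obj ⟨j⟩) (fun j => hF ⟨j⟩)
    exact (TT P').prop_of_iso (HasColimit.isoOfNatIso (Discrete.natIsoFunctor (F := F))).symm h

end

end Groth.Agent.Lib.helper13.GT
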