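import Mathlib
import Groth.Prelude.Def_W4c5qcohlocdualityLoc
import Groth.Agent.Lib.Helper13.GT2
import Groth.Agent.Lib.Helper13.GT4
import Groth.Agent.Lib.Helper13.GT5

/-!
# Localizing closure and transfinite filtrations, part 6 (helper13)

Objects of the torsion class `TT P'` have transfinite filtrations with graded pieces in `P'`.
-/

universe w v u

namespace Groth.Agent.Lib.helper13.GT

open CategoryTheory Category Limits

variable {C : Type u} [Category.{v} C] [Abelian C]

/-- a proper subobject of a `TT P'`-object is contained in a strictly larger one with quotient in `P'` -/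
lemma exists_larger_of_tt (P' : ObjectProperty C)
    (hsub : ∀ ⦃A B : C⦄ (i : A ⟶ B), Mono i → P' B → P' A) {X : C} (hX : TT P' X)
    (A : Subobject X) (hA : A ≠ ⊤) :
    ∃ (A' : Subobject X) (h : A < A'), monoCoker P' (Subobject.ofLE A A' h.le) := by
  let π := cokernel.π A.arrow
  have hπ : A.arrow ≫ π = 0 := cokernel.condition _
  have hY : ¬ IsZero (cokernel A.arrow) := by
    intro hz
    apply hA
    have h0 : 𝟙 X ≫ π = 0 := hz.eq_of_tgt _ _
    have hl : Abelian.monoLift A.arrow (𝟙 X) h0 ≫ A.arrow = 𝟙 X := Abelian.monoLift_comp _ _ h0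
    haveI : IsSplitEpi A.arrow := IsSplitEpi.mk' ⟨_, hl⟩
    haveI : IsIso A.arrow := isIso_of_mono_of_isSplitEpi _
    exact Subobject.eq_top_of_isIso_arrow A
  obtain ⟨A₁, a, ha, hA₁, hPA₁⟩ := hX π inferInstance hY
  haveI := ha
  let A' : Subobject X := Subobject.mk (pullback.snd a π)
  let e : (A' : C) ≅ pullback a π := Subobject.underlyingIso (pullback.snd a π)
  have he : e.hom ≫ pullback.snd a π = A'.arrow := Subobject.underlyingIso_hom_comp_eq_mk _
  have hle : A ≤ A' :=
    Subobject.le_mk_of_comm (pullback.lift (0 : (A : C) ⟶ A₁) A.arrow (by rw [zero_comp, hπ]))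
      (pullback.lift_snd _ _ _)
  have hof : Subobject.ofLE A A' hle ≫ A'.arrow = A.arrow := Subobject.ofLE_arrow _
  have hq0 : Subobject.ofLE A A' hle ≫ e.hom ≫ pullback.fst a π = 0 := by
    rw [← cancel_mono a, zero_comp, Category.assoc, Category.assoc, pullback.condition,
      ← Category.assoc e.hom, he, ← Category.assoc, hof, hπ]
  let q : cokernel (Subobject.ofLE A A' hle) ⟶ A₁ :=
    cokernel.desc _ (e.hom ≫ pullback.fst a π) hq0
  have hq : cokernel.π (Subobject.ofLE A A' hle) ≫ q = e.hom ≫ pullback.fst a π :=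
    cokernel.π_desc _ _ _
  have hqm : Mono q := by
    apply Preadditive.mono_of_cancel_zero
    intro Z z hz
    obtain ⟨Z', ε, hε, z', hz'⟩ :=
      surjective_up_to_refinements_of_epi (cokernel.π (Subobject.ofLE A A' hle)) z
    have h1 : z' ≫ e.hom ≫ pullback.fst a π = 0 := by
      rw [← hq, ← Category.assoc, ← hz', Category.assoc, hz, comp_zero]
    have h2 : (z' ≫ A'.arrow) ≫ π = 0 := by
      rw [← he, Category.assoc, Category.assoc, ← pullback.condition, ← Category.assoc e.hom,
        ← Category.assoc z', h1, zero_comp]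
    have hl : Abelian.monoLift A.arrow (z' ≫ A'.arrow) h2 ≫ A.arrow = z' ≫ A'.arrow :=
      Abelian.monoLift_comp _ _ h2
    have hl' : Abelian.monoLift A.arrow (z' ≫ A'.arrow) h2 ≫ Subobject.ofLE A A' hle = z' := by
      rw [← cancel_mono A'.arrow, Category.assoc, hof, hl]
    rw [← cancel_epi ε, comp_zero, hz', ← hl', Category.assoc, cokernel.condition, comp_zero]
  have hne : A ≠ A' := by
    intro heq
    apply hA₁
    have h3 : A'.arrow ≫ π = 0 := by
      rw [← heq]; exact hπ
    have h4 : pullback.fst a π = 0 := by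
      rw [← cancel_mono a, zero_comp, pullback.condition, ← cancel_epi e.hom, comp_zero,
        ← Category.assoc, he, h3]
    haveI : Epi (pullback.fst a π) := Abelian.epi_pullback_of_epi_g a π
    rw [IsZero.iff_id_eq_zero, ← cancel_epi (pullback.fst a π), h4, zero_comp, zero_comp]
  exact ⟨A', lt_of_le_of_ne hle hne, inferInstance, hsub q hqm hPA₁⟩


/-- `HypX` holds for objects of `TT P'` -/
lemma hypX_of_tt (P' : ObjectProperty C) [P'.IsClosedUnderIsomorphisms]
    (hsub : ∀ ⦃A B : C⦄ (i : A ⟶ B), Mono i → P' B → P' A)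
    (hzero : ∀ ⦃Z : C⦄, IsZero Z → P' Z) {X : C} (hX : TT P' X) :
    HypX (monoCoker P') X where
  respectsIso := monoCoker_respectsIso P'
  id_mem Y := ⟨inferInstance, hzero (by
    rw [IsZero.iff_id_eq_zero, ← cancel_epi (cokernel.π (𝟙 Y))]
    have : cokernel.π (𝟙 Y) = 0 := by
      have := cokernel.condition (𝟙 Y)
      rwa [Category.id_comp] at this
    rw [this, zero_comp, zero_comp])⟩
  exists_larger A hA := exists_larger_of_tt P' hsub hX A hA

end Groth.Agent.Lib.helper13.GT
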