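import Mathlib
import Groth.Prelude.Def_W4c5qcohlocdualityLoc
import Groth.Agent.Lib.Helper13.GL1
import Groth.Agent.Lib.Helper13.GT3
import Groth.Agent.Lib.Helper13.GT6

/-!
# Localizing closure and transfinite filtrations, part 7 (helper13)

The localizing closure of `P` consists of the objects with a transfinite filtration whose graded pieces
are subquotients of coproducts of objects of `P`.
-/

universe w v u

namespace Groth.Agent.Lib.helper13.GT

open CategoryTheory Category Limits

variable {C : Type u} [Category.{v} C] [Abelian C] [IsGrothendieckAbelian.{w} C]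

lemma subquotCoprod_of_subQuot (P : ObjectProperty C) {A A' : C} (h : GL.SubQuot A' A)
    (hA : GabLoc.subquotCoprod.{w} P A) : GabLoc.subquotCoprod.{w} P A' := by
  obtain ⟨J, X, hX, hsq⟩ := hA
  exact ⟨J, X, hX, h.trans hsq⟩

lemma subquotCoprod_of_isZero (P : ObjectProperty C) {Z : C} (hZ : IsZero Z) :
    GabLoc.subquotCoprod.{w} P Z := by
  refine ⟨PEmpty.{w+1}, fun j => j.elim, fun j => j.elim, Z, 0, 𝟙 Z, ?_, inferInstance⟩
  constructor
  intro W a b _
  exact hZ.eq_of_tgt _ _

lemma subquotCoprod_of_prop (P : ObjectProperty C) {X : C} (hX : P X) :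
    GabLoc.subquotCoprod.{w} P X :=
  ⟨PUnit.{w+1}, fun _ => X, fun _ => hX, X, Sigma.ι (fun _ : PUnit.{w+1} => X) PUnit.unit, 𝟙 X,
    inferInstance, inferInstance⟩

open ZeroObject in
theorem transfiniteCompositions_of_locClosure (P : ObjectProperty C) (X : C)
    (h : GabLoc.locClosure.{w} P X) :
    MorphismProperty.transfiniteCompositions.{w} (GabLoc.monoModSubquot.{w} P)
      (0 : (0 : C) ⟶ X) := by
  let P' : ObjectProperty C := GabLoc.subquotCoprod.{w} P
  have hsub : ∀ ⦃A B : C⦄ (i : A ⟶ B), Mono i → P' B → P' A := fun A B i hi hB => by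
    haveI := hi
    exact subquotCoprod_of_subQuot P (GL.SubQuot.of_mono i) hB
  have hquot : ∀ ⦃A B : C⦄ (p : A ⟶ B), Epi p → P' A → P' B := fun A B p hp hA => by
    haveI := hp
    exact subquotCoprod_of_subQuot P (GL.SubQuot.of_epi p) hA
  haveI : P'.IsClosedUnderIsomorphisms :=
    ⟨fun e hA => subquotCoprod_of_subQuot P (GL.SubQuot.of_iso e) hA⟩
  have hTT : TT P' X := h (TT P') (isLocalizing_TT.{w} P' hsub)
    (fun Y hY => tt_of_prop P' hquot (subquotCoprod_of_prop P hY))
  have hW : HypX (monoCoker P') X :=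
    hypX_of_tt P' hsub (fun Z hZ => subquotCoprod_of_isZero P hZ) hTT
  exact transfiniteCompositions_of_hypX.{w} hW (0 : (0 : C) ⟶ X)

open ZeroObject in
theorem locClosure_iff (P : ObjectProperty C) (X : C) :
    GabLoc.locClosure.{w} P X ↔
      MorphismProperty.transfiniteCompositions.{w} (GabLoc.monoModSubquot.{w} P)
        (0 : (0 : C) ⟶ X) :=
  ⟨transfiniteCompositions_of_locClosure P X, locClosure_of_transfiniteCompositions P X⟩

end Groth.Agent.Lib.helper13.GT
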