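import Mathlib

set_option autoImplicit false
universe v₁ v₂ u₁ u₂
open CategoryTheory CategoryTheory.Limits

/-!
# Sections with support of an injective object (abstract form) (helper13)

`R : A ⥤ B` ("restriction to an open") with an exact left adjoint `L` ("extension by zero") whose counit
is a monomorphism, and a right adjoint `P` ("direct image").  Then for `I` injective the kernel of the unit
`I ⟶ P R I` ("sections with support in the complement") is injective.
-/

namespace Groth.Agent.Lib.helper13.GammaZInj

variable {A : Type u₁} {B : Type u₂} [Category.{v₁} A] [Category.{v₂} B] [Abelian A] [Abelian B]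
  {L : B ⥤ A} {R : A ⥤ B} {P : B ⥤ A} (adjL : L ⊣ R) (adjP : R ⊣ P)

section

variable [R.PreservesZeroMorphisms]

include adjL in
/-- a morphism killed by `R` is killed by the counit of `L ⊣ R` -/
lemma counit_comp_eq_zero {M I : A} (u : M ⟶ I) (hu : R.map u = 0) :
    adjL.counit.app M ≫ u = 0 := by
  apply (adjL.homEquiv _ _).injective
  rw [Adjunction.homEquiv_apply, Adjunction.homEquiv_apply, Functor.map_comp, hu, comp_zero,
    comp_zero, Functor.map_zero, comp_zero]

variable [P.PreservesZeroMorphisms]

include adjP in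
/-- a morphism killed by `R` is killed by the unit of `R ⊣ P` -/
lemma comp_unit_eq_zero {M I : A} (u : M ⟶ I) (hu : R.map u = 0) :
    u ≫ adjP.unit.app I = 0 := by
  have := adjP.unit.naturality u
  simp only [Functor.id_obj, Functor.id_map, Functor.comp_obj, Functor.comp_map] at this
  rw [this, hu, Functor.map_zero, comp_zero]

include adjP in
lemma map_kernel_ι_unit_eq_zero (I : A) : R.map (kernel.ι (adjP.unit.app I)) = 0 := by
  haveI : Mono (R.map (adjP.unit.app I) ≫ adjP.counit.app (R.obj I)) := by
    rw [adjP.left_triangle_components I]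
    exact ⟨fun a b h => by simpa using h⟩
  haveI : Mono (R.map (adjP.unit.app I)) := mono_of_mono _ (adjP.counit.app (R.obj I))
  rw [← cancel_mono (R.map (adjP.unit.app I)), ← Functor.map_comp, kernel.condition,
    Functor.map_zero, zero_comp]

include adjL in
lemma map_cokernel_π_counit_eq_zero (hc : ∀ M, Mono (adjL.counit.app M)) (M : A) :
    R.map (cokernel.π (adjL.counit.app M)) = 0 := by
  haveI : Epi (adjL.unit.app (R.obj M) ≫ R.map (adjL.counit.app M)) := by
    rw [adjL.right_triangle_components M]
    exact ⟨fun a b h => by simpa using h⟩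
  haveI : Epi (R.map (adjL.counit.app M)) := epi_of_epi (adjL.unit.app (R.obj M)) _
  rw [← cancel_epi (R.map (adjL.counit.app M)), ← Functor.map_comp, cokernel.condition,
    Functor.map_zero, comp_zero]

end

section

variable [PreservesFiniteLimits L] [PreservesFiniteLimits R] [PreservesFiniteColimits L]
  [PreservesFiniteColimits R]

include adjL in
/-- `M ↦ coker (L R M ⟶ M)` preserves monomorphisms -/
lemma mono_cokernel_map (hc : ∀ M, Mono (adjL.counit.app M)) {X Y : A} (f : X ⟶ Y) [Mono f] :
    Mono (cokernel.map (adjL.counit.app X) (adjL.counit.app Y) (L.map (R.map f)) f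
      (adjL.counit.naturality f).symm) := by
  haveI := hc
  let c := fun M => adjL.counit.app M
  let Qf := cokernel.map (c X) (c Y) (L.map (R.map f)) f (adjL.counit.naturality f).symm
  have hQf : cokernel.π (c X) ≫ Qf = f ≫ cokernel.π (c Y) := cokernel.π_desc _ _ _
  let S : ShortComplex A := ShortComplex.mk f (cokernel.π f) (cokernel.condition f)
  have hS : S.ShortExact :=
    { exact := ShortComplex.exact_cokernel f
      mono_f := inferInstanceAs (Mono f)
      epi_g := inferInstanceAs (Epi (cokernel.π f)) }
  have hS' : (S.map (R ⋙ L)).ShortExact := hS.map_of_exact (R ⋙ L)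
  haveI : Mono (S.map (R ⋙ L)).f := hS'.mono_f
  apply Preadditive.mono_of_cancel_zero
  intro T z hz
  obtain ⟨T', ε, hε, a, ha⟩ := surjective_up_to_refinements_of_epi (cokernel.π (c X)) z
  have h1 : (a ≫ f) ≫ cokernel.π (c Y) = 0 := by
    rw [Category.assoc, ← hQf, ← Category.assoc, ← ha, Category.assoc, hz, comp_zero]
  let b : T' ⟶ L.obj (R.obj Y) := Abelian.monoLift (c Y) (a ≫ f) h1
  have hb : b ≫ c Y = a ≫ f := Abelian.monoLift_comp _ _ h1
  have hnat : L.map (R.map (cokernel.π f)) ≫ c (cokernel f) = c Y ≫ cokernel.π f :=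
    adjL.counit.naturality (cokernel.π f)
  have h2 : b ≫ (S.map (R ⋙ L)).g = 0 := by
    show b ≫ L.map (R.map (cokernel.π f)) = 0
    rw [← cancel_mono (c (cokernel f)), Category.assoc, hnat, ← Category.assoc, hb, Category.assoc,
      cokernel.condition, comp_zero, zero_comp]
  let b' : T' ⟶ L.obj (R.obj X) := hS'.exact.lift b h2
  have hb' : b' ≫ L.map (R.map f) = b := hS'.exact.lift_f b h2
  have hnat' : L.map (R.map f) ≫ c Y = c X ≫ f := adjL.counit.naturality f
  have h3 : a = b' ≫ c X := by
    rw [← cancel_mono f, Category.assoc, ← hnat', ← Category.assoc, hb', hb]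
  rw [← cancel_epi ε, comp_zero, ha, h3, Category.assoc, cokernel.condition, comp_zero]

include adjL in
/-- **the kernel of the unit `I ⟶ P R I` at an injective object is injective** -/
theorem injective_kernel_unit [R.PreservesZeroMorphisms] [P.PreservesZeroMorphisms]
    (hc : ∀ M, Mono (adjL.counit.app M)) (I : A) [Injective I] :
    Injective (kernel (adjP.unit.app I)) := by
  constructor
  intro X Y g f _
  let c := fun M => adjL.counit.app M
  let ι := kernel.ι (adjP.unit.app I)
  have hRg : R.map (g ≫ ι) = 0 := by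
    rw [Functor.map_comp, map_kernel_ι_unit_eq_zero adjP I, comp_zero]
  have h0 : c X ≫ g ≫ ι = 0 := counit_comp_eq_zero adjL (g ≫ ι) hRg
  let gbar : cokernel (c X) ⟶ I := cokernel.desc (c X) (g ≫ ι) h0
  have hgbar : cokernel.π (c X) ≫ gbar = g ≫ ι := cokernel.π_desc _ _ _
  let Qf := cokernel.map (c X) (c Y) (L.map (R.map f)) f (adjL.counit.naturality f).symm
  have hQf : cokernel.π (c X) ≫ Qf = f ≫ cokernel.π (c Y) := cokernel.π_desc _ _ _
  haveI : Mono Qf := mono_cokernel_map adjL hc f
  let hbar : cokernel (c Y) ⟶ I := Injective.factorThru gbar Qf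
  have hhbar : Qf ≫ hbar = gbar := Injective.comp_factorThru _ _
  have hRh : R.map (cokernel.π (c Y) ≫ hbar) = 0 := by
    rw [Functor.map_comp, map_cokernel_π_counit_eq_zero adjL hc Y, zero_comp]
  have h1 : (cokernel.π (c Y) ≫ hbar) ≫ adjP.unit.app I = 0 :=
    comp_unit_eq_zero adjP _ hRh
  refine ⟨kernel.lift (adjP.unit.app I) (cokernel.π (c Y) ≫ hbar) h1, ?_⟩
  rw [← cancel_mono ι, Category.assoc, kernel.lift_ι, ← Category.assoc, ← hQf, Category.assoc,
    hhbar, hgbar]

end

end Groth.Agent.Lib.helper13.GammaZInj
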