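import Mathlib
import Groth.Prelude.Def_DCoh2
import Groth.Agent.Lib.Helper13.NoethShriek
import Groth.Agent.Lib.Helper13.GammaZInj1

set_option autoImplicit false
universe u
open CategoryTheory CategoryTheory.Limits AlgebraicGeometry

/-!
# Sections with support of an injective `O_X`-module are injective (helper13)
-/

namespace Groth.Agent.Lib.helper13.GammaZInj

open Scheme.Modules Groth.Agent.Lib.helper13.NoethShriek

/-- for an injective `O_X`-module `I` and an open immersion `j : U ⟶ X`, the module `Γ_Z(I)` of
sections with support in the complement of `U` is injective -/
theorem injective_gammaZ {U X : Scheme.{u}} (j : U ⟶ X) [IsOpenImmersion j] (I : X.Modules)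
    [Injective I] : Injective ((DCoh.gammaZ j).obj I) := by
  haveI : PreservesFiniteLimits (restrictFunctor j) :=
    haveI := (adj' j).rightAdjoint_preservesLimits
    inferInstance
  haveI : PreservesFiniteColimits (restrictFunctor j) :=
    haveI := (restrictAdjunction j).leftAdjoint_preservesColimits
    inferInstance
  haveI : PreservesFiniteColimits (L' j) :=
    haveI := (adj' j).leftAdjoint_preservesColimits
    inferInstance
  haveI : (pushforward j).PreservesZeroMorphisms :=
    haveI : (pushforward j).Additive := (restrictAdjunction j).right_adjoint_additive
    inferInstance
  exact injective_kernel_unit (adj' j) (restrictAdjunction j) (fun M => inferInstance) I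

end Groth.Agent.Lib.helper13.GammaZInj
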