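import Mathlib
import Groth.Agent.LibKoszulFlat29
import Groth.Agent.Lib.Helper17.LciGor
import Groth.Agent.S8656
import Groth.Agent.Lib.Helper13.GoodChart1

/-!
# Good charts for a closed immersion of smooth schemes (helper13)

Block B6b of helper20's plan for S11924: for a closed immersion `i : X ⟶ P` with `P → S` smooth of
relative dimension `N`, `X → S` smooth of relative dimension `r` and `S` locally Noetherian, every
point of `X` has an affine open neighbourhood `U` in `P` on which the ideal of `X` is generated by a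
sequence of length `N - r` which is regular (Mathlib) and Koszul-regular (prelude).

* `isRegularImmersion_koszul_of_smooth`: `i` is a Koszul-regular immersion (from S8656; no
  Noetherian hypothesis).
* `shrink`: Koszul charts restrict to basic opens.
* `length_of_chart`: the length of a Koszul chart is `N - r`.
* `exists_chart`, `exists_chart'`: the good charts.
-/

set_option autoImplicit false
set_option linter.unusedSectionVars false
universe u
open CategoryTheory CategoryTheory.Limits AlgebraicGeometry TensorProduct RingTheory.Sequence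

namespace Groth.Agent.Lib.helper13.GoodChart

section Sch

variable {X P : Scheme.{u}} (i : X ⟶ P) [IsClosedImmersion i]

/-- shrinking a Koszul chart of a closed immersion to a basic open -/
theorem shrink (U : P.affineOpens) (rs : List Γ(P, U.1))
    (hK : LCI.IsKoszulRegularSeq Γ(P, U.1) rs) (hJ : i.ker.ideal U = Ideal.ofList rs)
    (f : Γ(P, U.1)) :
    LCI.IsKoszulRegularSeq Γ(P, P.basicOpen f)
      (rs.map (algebraMap Γ(P, U.1) Γ(P, P.basicOpen f))) ∧
    i.ker.ideal (P.affineBasicOpen f) =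
      Ideal.ofList (rs.map (algebraMap Γ(P, U.1) Γ(P, P.basicOpen f))) := by
  haveI := U.2.isLocalization_basicOpen f
  constructor
  · apply Groth.Agent.LibKoszulFlat29.isKoszulRegularSeq_map_of_flat _ ?_ rs hK
    rw [RingHom.flat_algebraMap_iff]
    exact IsLocalization.flat _ (Submonoid.powers f)
  · rw [← i.ker.map_ideal_basicOpen U f, hJ, Ideal.map_ofList]
    rfl

/-- the ideal of a closed immersion lies in the prime of every point of the image -/
theorem ker_le_primeIdealOf (U : P.affineOpens) (x : X) (hx : i x ∈ U.1) :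
    i.ker.ideal U ≤ (U.2.primeIdealOf ⟨i x, hx⟩).asIdeal := by
  intro a ha
  by_contra hna
  rw [Scheme.Hom.ker_apply] at ha
  have h1 : i x ∈ P.basicOpen a := by
    have h2 : U.2.fromSpec (U.2.primeIdealOf ⟨i x, hx⟩) ∈ P.basicOpen a := by
      have h3 : U.2.fromSpec (U.2.primeIdealOf ⟨i x, hx⟩) ∈ P.basicOpen a ↔
          U.2.primeIdealOf ⟨i x, hx⟩ ∈ U.2.fromSpec ⁻¹ᵁ P.basicOpen a := Iff.rfl
      rw [h3, U.2.fromSpec_preimage_basicOpen]
      exact hna
    rwa [U.2.fromSpec_primeIdealOf] at h2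
  have h4 : x ∈ i ⁻¹ᵁ P.basicOpen a := h1
  rw [Scheme.preimage_basicOpen] at h4
  have h5 : (i.app U.1) a = 0 := ha
  rw [h5, Scheme.basicOpen_zero] at h4
  exact h4

/-- a closed immersion of smooth schemes is a Koszul-regular immersion -/
theorem isRegularImmersion_koszul_of_smooth {S : Scheme.{u}} (p : P ⟶ S) [Smooth p]
    [Smooth (i ≫ p)] : RegImm.IsRegularImmersion .koszul i := by
  refine Groth.Agent.S8656.result (i ≫ p) (fun x => ?_) p i rfl
  refine ⟨⊤, X, (⊤ : X.Opens).ι, i ≫ p, trivial, inferInstance, ?_, inferInstance, rfl⟩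
  haveI : IsIso (⊤ : X.Opens).ι := by
    rw [← Scheme.topIso_hom]; infer_instance
  exact Groth.Agent.LibRegImmSmoothDesc29.isRegularImmersion_koszul_of_isIso _

/-- the length count on a chart mapping into an affine open of the base -/
theorem length_of_chart {S : Scheme.{u}} (p : P ⟶ S) (N r : ℕ) [SmoothOfRelativeDimension N p]
    [SmoothOfRelativeDimension r (i ≫ p)] (U : P.affineOpens) (W : S.Opens) (hW : IsAffineOpen W)
    (hUW : U.1 ≤ p ⁻¹ᵁ W) (x : X) (hx : i x ∈ U.1)
    (rs : List Γ(P, U.1)) (hK : LCI.IsKoszulRegularSeq Γ(P, U.1) rs)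
    (hJ : i.ker.ideal U = Ideal.ofList rs) : rs.length + r = N := by
  have hV : IsAffineOpen (i ⁻¹ᵁ U.1) := U.2.preimage i
  have hVW : i ⁻¹ᵁ U.1 ≤ (i ≫ p) ⁻¹ᵁ W := fun y hy => hUW hy
  have hA := HasRingHomProperty.appLE (P := @SmoothOfRelativeDimension N) p inferInstance
    ⟨W, hW⟩ U hUW
  have hB := HasRingHomProperty.appLE (P := @SmoothOfRelativeDimension r) (i ≫ p) inferInstance
    ⟨W, hW⟩ ⟨i ⁻¹ᵁ U.1, hV⟩ hVW
  have hcomp : ((i ≫ p).appLE W (i ⁻¹ᵁ U.1) hVW).hom =
      (i.app U.1).hom.comp (p.appLE W U.1 hUW).hom := by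
    rw [← CommRingCat.hom_comp, ← Scheme.Hom.appLE_comp_appLE _ _ W U.1 (i ⁻¹ᵁ U.1) hUW le_rfl,
      Scheme.Hom.appLE_eq_app]
  haveI : Nontrivial Γ(X, i ⁻¹ᵁ U.1) := by
    by_contra hnt
    rw [not_nontrivial_iff_subsingleton] at hnt
    have h1 : x ∈ X.basicOpen (1 : Γ(X, i ⁻¹ᵁ U.1)) := by
      rw [Scheme.basicOpen_of_isUnit _ isUnit_one]; exact hx
    rw [Subsingleton.elim (1 : Γ(X, i ⁻¹ᵁ U.1)) 0, Scheme.basicOpen_zero] at h1
    exact h1
  refine length_add_eq' (p.appLE W U.1 hUW).hom (i.app U.1).hom (i.app_surjective U.1 U.2) N r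
    hA ?_ rs hK ?_
  · rw [← hcomp]; exact hB
  · rw [← Scheme.Hom.ker_apply, hJ]

/-- from a Koszul chart inside the preimage of an affine open of the base to a good chart -/
theorem exists_chart_of_koszul_chart {S : Scheme.{u}} [IsLocallyNoetherian S] (p : P ⟶ S) (N r : ℕ)
    [SmoothOfRelativeDimension N p] [SmoothOfRelativeDimension r (i ≫ p)] (x : X)
    (U₁ : P.affineOpens) (hxU₁ : i x ∈ U₁.1) (W : S.Opens) (hW : IsAffineOpen W)
    (hU₁W : U₁.1 ≤ p ⁻¹ᵁ W) (rs₁ : List Γ(P, U₁.1)) (hK₁ : LCI.IsKoszulRegularSeq Γ(P, U₁.1) rs₁)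
    (hJ₁ : i.ker.ideal U₁ = Ideal.ofList rs₁) :
    ∃ U : P.affineOpens, i x ∈ U.1 ∧ ∃ rs : List Γ(P, U.1), rs.length + r = N ∧
      IsRegular Γ(P, U.1) rs ∧ LCI.IsKoszulRegularSeq Γ(P, U.1) rs ∧
      i.ker.ideal U = Ideal.ofList rs := by
  haveI : Smooth p := SmoothOfRelativeDimension.smooth N p
  haveI : IsLocallyNoetherian P := LocallyOfFiniteType.isLocallyNoetherian p
  haveI : IsNoetherianRing Γ(P, U₁.1) := IsLocallyNoetherian.component_noetherian U₁
  -- regularity in the local ring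
  set q := (U₁.2.primeIdealOf ⟨i x, hxU₁⟩).asIdeal with hq
  have hle : Ideal.ofList rs₁ ≤ q := by
    rw [← hJ₁]; exact ker_le_primeIdealOf i U₁ x hxU₁
  have hKq : LCI.IsKoszulRegularSeq (Localization.AtPrime q)
      (rs₁.map (algebraMap Γ(P, U₁.1) (Localization.AtPrime q))) := by
    apply Groth.Agent.LibKoszulFlat29.isKoszulRegularSeq_map_of_flat _ ?_ rs₁ hK₁
    rw [RingHom.flat_algebraMap_iff]
    exact IsLocalization.flat _ q.primeCompl
  have hregq : IsRegular (Localization.AtPrime q)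
      (rs₁.map (algebraMap Γ(P, U₁.1) (Localization.AtPrime q))) := by
    refine Groth.Agent.Lib.helper17.LciGor.isRegular_of_isKoszulRegularSeq _ _ ?_ hKq
    intro a ha
    obtain ⟨b, hb, rfl⟩ := List.mem_map.mp ha
    have hbq : b ∈ q := hle (Ideal.subset_span hb)
    rw [← Localization.AtPrime.map_eq_maximalIdeal]
    exact Ideal.mem_map_of_mem _ hbq
  obtain ⟨g, hgq, hreg⟩ := exists_away_isRegular rs₁ q hle hregq.toIsWeaklyRegular
  obtain ⟨hK₂, hJ₂⟩ := shrink i U₁ rs₁ hK₁ hJ₁ g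
  haveI := U₁.2.isLocalization_basicOpen g
  have hxU₂ : i x ∈ P.basicOpen g := by
    have h2 : U₁.2.fromSpec (U₁.2.primeIdealOf ⟨i x, hxU₁⟩) ∈ P.basicOpen g := by
      have h3 : U₁.2.fromSpec (U₁.2.primeIdealOf ⟨i x, hxU₁⟩) ∈ P.basicOpen g ↔
          U₁.2.primeIdealOf ⟨i x, hxU₁⟩ ∈ U₁.2.fromSpec ⁻¹ᵁ P.basicOpen g := Iff.rfl
      rw [h3, U₁.2.fromSpec_preimage_basicOpen]
      exact hgq
    rwa [U₁.2.fromSpec_primeIdealOf] at h2
  refine ⟨P.affineBasicOpen g, hxU₂, _, ?_, hreg Γ(P, P.basicOpen g), hK₂, hJ₂⟩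
  refine length_of_chart i p N r (P.affineBasicOpen g) W hW ?_ x hxU₂ _ hK₂ hJ₂
  exact (P.basicOpen_le g).trans hU₁W

/-- **Good charts** (block B6b): a closed immersion `i : X ⟶ P` of schemes smooth of relative
dimensions `r` and `N` over a locally Noetherian base is, around every point of `X`, cut out on an
affine open of `P` by a sequence of length `N - r` which is both regular and Koszul-regular. -/
theorem exists_chart {S : Scheme.{u}} [IsLocallyNoetherian S] (p : P ⟶ S) (N r : ℕ)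
    [SmoothOfRelativeDimension N p] [SmoothOfRelativeDimension r (i ≫ p)] (x : X) :
    ∃ U : P.affineOpens, i x ∈ U.1 ∧ ∃ rs : List Γ(P, U.1), rs.length + r = N ∧
      IsRegular Γ(P, U.1) rs ∧ LCI.IsKoszulRegularSeq Γ(P, U.1) rs ∧
      i.ker.ideal U = Ideal.ofList rs := by
  haveI : Smooth p := SmoothOfRelativeDimension.smooth N p
  haveI : Smooth (i ≫ p) := SmoothOfRelativeDimension.smooth r (i ≫ p)
  obtain ⟨U₀, hxU₀, -, rs₀, hK₀, hker₀⟩ := (isRegularImmersion_koszul_of_smooth i p).2 x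
  have hJ₀ : i.ker.ideal U₀ = Ideal.ofList rs₀ := by rw [Scheme.Hom.ker_apply]; exact hker₀
  -- an affine open of the base
  obtain ⟨_, ⟨W, hW, rfl⟩, hsW, -⟩ :=
    S.isBasis_affineOpens.exists_subset_of_mem_open (Set.mem_univ (p (i x))) isOpen_univ
  -- shrink into the preimage of `W`
  obtain ⟨h₀, hle₀, hx₀⟩ := U₀.2.exists_basicOpen_le (V := p ⁻¹ᵁ W) ⟨i x, hsW⟩ hxU₀
  obtain ⟨hK₁, hJ₁⟩ := shrink i U₀ rs₀ hK₀ hJ₀ h₀
  exact exists_chart_of_koszul_chart i p N r x (P.affineBasicOpen h₀) hx₀ W hW hle₀ _ hK₁ hJ₁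

/-- `exists_chart` with the length written as `N - r`. -/
theorem exists_chart' {S : Scheme.{u}} [IsLocallyNoetherian S] (p : P ⟶ S) (N r : ℕ)
    [SmoothOfRelativeDimension N p] [SmoothOfRelativeDimension r (i ≫ p)] (x : X) :
    r ≤ N ∧ ∃ U : P.affineOpens, i x ∈ U.1 ∧ ∃ rs : List Γ(P, U.1), rs.length = N - r ∧
      IsRegular Γ(P, U.1) rs ∧ LCI.IsKoszulRegularSeq Γ(P, U.1) rs ∧
      i.ker.ideal U = Ideal.ofList rs := by
  obtain ⟨U, hx, rs, hlen, h1, h2, h3⟩ := exists_chart i p N r x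
  exact ⟨by omega, U, hx, rs, by omega, h1, h2, h3⟩

end Sch

end Groth.Agent.Lib.helper13.GoodChart
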