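import Mathlib
import Groth.Agent.Lib.Helper13.GoodChart2
import Groth.Prelude.Def_Mor2

/-!
# Regular charts for closed immersions of smooth schemes, without relative dimensions (helper13)

* `exists_regular_chart`: for a closed immersion `i : X ⟶ P` with `P → S` and `X → S` smooth and `S`
  locally Noetherian, every point of `X` has an affine open neighbourhood `U` in `P` on which the ideal
  of `X` is generated by a sequence which is regular and Koszul-regular.
* `isRegularClosedImmersion_of_smooth`: such an `i` is a regular closed immersion (prelude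
  `Mor2.IsRegularClosedImmersion`).
* `isRegularClosedImmersion_diagonal_of_smooth`: the diagonal of a separated smooth morphism with
  locally Noetherian source is a regular closed immersion.
-/

set_option autoImplicit false
set_option linter.unusedSectionVars false
universe u
open CategoryTheory CategoryTheory.Limits AlgebraicGeometry TensorProduct RingTheory.Sequence

namespace Groth.Agent.Lib.helper13.GoodChart

section Sch

variable {X P : Scheme.{u}} (i : X ⟶ P) [IsClosedImmersion i]

/-- from a Koszul chart to a regular chart -/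
theorem exists_regular_chart_of_koszul_chart [IsLocallyNoetherian P] (x : X)
    (U₁ : P.affineOpens) (hxU₁ : i x ∈ U₁.1) (rs₁ : List Γ(P, U₁.1))
    (hK₁ : LCI.IsKoszulRegularSeq Γ(P, U₁.1) rs₁) (hJ₁ : i.ker.ideal U₁ = Ideal.ofList rs₁) :
    ∃ U : P.affineOpens, i x ∈ U.1 ∧ ∃ rs : List Γ(P, U.1),
      IsRegular Γ(P, U.1) rs ∧ LCI.IsKoszulRegularSeq Γ(P, U.1) rs ∧
      i.ker.ideal U = Ideal.ofList rs := by
  haveI : IsNoetherianRing Γ(P, U₁.1) := IsLocallyNoetherian.component_noetherian U₁
  set q := (U₁.2.primeIdealOf ⟨i x, hxU₁⟩).asIdeal with hq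
  have hle : Ideal.ofList rs₁ ≤ q := by
    rw [← hJ₁]; exact ker_le_primeIdealOf i U₁ x hxU₁
  have hKq : LCI.IsKoszulRegularSeq (Localization.AtPrime q)
      (rs₁.map (algebraMap Γ(P, U₁.1) (Localization.AtPrime q))) := by
    apply Groth.Agent.LibKoszulFlat29.isKoszulRegularSeq_map_of_flat _ ?_ rs₁ hK₁
    rw [RingHom.flat_algebraMap_iff]
    exact IsLocalization.flat _ q.primeCompl
  have hregq : IsRegular (Localization.AtPrime q)
      (rs₁.map (algebraMap Γ(P, U₁.1) (Localization.AtPrime q))) := by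
    refine Groth.Agent.Lib.helper17.LciGor.isRegular_of_isKoszulRegularSeq _ _ ?_ hKq
    intro a ha
    obtain ⟨b, hb, rfl⟩ := List.mem_map.mp ha
    have hbq : b ∈ q := hle (Ideal.subset_span hb)
    rw [← Localization.AtPrime.map_eq_maximalIdeal]
    exact Ideal.mem_map_of_mem _ hbq
  obtain ⟨g, hgq, hreg⟩ := exists_away_isRegular rs₁ q hle hregq.toIsWeaklyRegular
  obtain ⟨hK₂, hJ₂⟩ := shrink i U₁ rs₁ hK₁ hJ₁ g
  haveI := U₁.2.isLocalization_basicOpen g
  have hxU₂ : i x ∈ P.basicOpen g := by
    have h2 : U₁.2.fromSpec (U₁.2.primeIdealOf ⟨i x, hxU₁⟩) ∈ P.basicOpen g := by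
      have h3 : U₁.2.fromSpec (U₁.2.primeIdealOf ⟨i x, hxU₁⟩) ∈ P.basicOpen g ↔
          U₁.2.primeIdealOf ⟨i x, hxU₁⟩ ∈ U₁.2.fromSpec ⁻¹ᵁ P.basicOpen g := Iff.rfl
      rw [h3, U₁.2.fromSpec_preimage_basicOpen]
      exact hgq
    rwa [U₁.2.fromSpec_primeIdealOf] at h2
  exact ⟨P.affineBasicOpen g, hxU₂, _, hreg Γ(P, P.basicOpen g), hK₂, hJ₂⟩

/-- **regular charts** for a closed immersion of smooth schemes over a locally Noetherian base -/
theorem exists_regular_chart {S : Scheme.{u}} [IsLocallyNoetherian S] (p : P ⟶ S) [Smooth p]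
    [Smooth (i ≫ p)] (x : X) :
    ∃ U : P.affineOpens, i x ∈ U.1 ∧ ∃ rs : List Γ(P, U.1),
      IsRegular Γ(P, U.1) rs ∧ LCI.IsKoszulRegularSeq Γ(P, U.1) rs ∧
      i.ker.ideal U = Ideal.ofList rs := by
  haveI : IsLocallyNoetherian P := LocallyOfFiniteType.isLocallyNoetherian p
  obtain ⟨U₀, hxU₀, -, rs₀, hK₀, hker₀⟩ := (isRegularImmersion_koszul_of_smooth i p).2 x
  have hJ₀ : i.ker.ideal U₀ = Ideal.ofList rs₀ := by rw [Scheme.Hom.ker_apply]; exact hker₀
  exact exists_regular_chart_of_koszul_chart i x U₀ hxU₀ rs₀ hK₀ hJ₀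

/-- a closed immersion of smooth schemes over a locally Noetherian base is a regular closed
immersion -/
theorem isRegularClosedImmersion_of_smooth {S : Scheme.{u}} [IsLocallyNoetherian S] (p : P ⟶ S)
    [Smooth p] [Smooth (i ≫ p)] : Mor2.IsRegularClosedImmersion i := by
  refine ⟨inferInstance, fun z => ?_⟩
  obtain ⟨U, hz, rs, hreg, -, hJ⟩ := exists_regular_chart i p z
  exact ⟨U.1, U.2, hz, rs, hreg, hJ⟩

end Sch

/-- the diagonal of a separated smooth morphism with locally Noetherian source is a regular closed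
immersion -/
theorem isRegularClosedImmersion_diagonal_of_smooth {X Y : Scheme.{u}} (f : X ⟶ Y) [IsSeparated f]
    [Smooth f] [IsLocallyNoetherian X] : Mor2.IsRegularClosedImmersion (pullback.diagonal f) := by
  haveI : Smooth (pullback.snd f f) := MorphismProperty.pullback_snd f f inferInstance
  haveI : Smooth (pullback.diagonal f ≫ pullback.snd f f) := by
    rw [pullback.diagonal_snd]; infer_instance
  exact isRegularClosedImmersion_of_smooth (pullback.diagonal f) (pullback.snd f f)

end Groth.Agent.Lib.helper13.GoodChart
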