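import Mathlib

/-!
# Graded algebras generated by finitely many homogeneous elements (helper13)
-/

set_option autoImplicit false
universe u

namespace Groth.Agent.Lib.helper13

open DirectSum

variable {R A : Type u} [CommRing R] [CommRing A] [Algebra R A] (𝒜 : ℕ → Submodule R A)
  [GradedAlgebra 𝒜] {s : ℕ} (f : Fin s → A) (deg : Fin s → ℕ)

/-- A monomial in homogeneous elements is homogeneous of the weighted degree. -/
theorem monomial_mem (hf : ∀ i, f i ∈ 𝒜 (deg i)) (a : Fin s → ℕ) :
    ∏ i, f i ^ a i ∈ 𝒜 (∑ i, a i * deg i) := by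
  have := SetLike.prod_pow_mem_graded 𝒜 deg f a (F := Finset.univ) fun i _ => hf i
  simpa [smul_eq_mul] using this

/-- If the homogeneous `f i` generate `A`, the degree `m` part is spanned by the monomials of
weighted degree `m`. -/
theorem mem_span_monomials (hf : ∀ i, f i ∈ 𝒜 (deg i))
    (hgen : Algebra.adjoin R (Set.range f) = ⊤) (m : ℕ) (x : A) (hx : x ∈ 𝒜 m) :
    x ∈ Submodule.span R {y | ∃ a : Fin s → ℕ, ∑ i, a i * deg i = m ∧ y = ∏ i, f i ^ a i} := by
  set T := Submodule.span R {y | ∃ a : Fin s → ℕ, ∑ i, a i * deg i = m ∧ y = ∏ i, f i ^ a i}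
  have hx' : x ∈ Submodule.span R (Submonoid.closure (Set.range f) : Set A) := by
    rw [← Algebra.adjoin_eq_span, hgen]; trivial
  have key : ∀ y ∈ Submodule.span R (Submonoid.closure (Set.range f) : Set A),
      GradedAlgebra.proj 𝒜 m y ∈ T := by
    intro y hy
    induction hy using Submodule.span_induction with
    | mem y hy =>
      obtain ⟨a, rfl⟩ := Submonoid.exists_of_mem_closure_range _ _ hy
      by_cases H : ∑ i, a i * deg i = m
      · rw [GradedAlgebra.proj_apply, DirectSum.decompose_of_mem_same 𝒜 (H ▸ monomial_mem 𝒜 f deg hf a)]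
        exact Submodule.subset_span ⟨a, H, rfl⟩
      · rw [GradedAlgebra.proj_apply, DirectSum.decompose_of_mem_ne 𝒜 (monomial_mem 𝒜 f deg hf a) H]
        exact T.zero_mem
    | zero => rw [map_zero]; exact T.zero_mem
    | add y z _ _ hy hz => rw [map_add]; exact T.add_mem hy hz
    | smul r y _ hy => rw [map_smul]; exact T.smul_mem r hy
  have := key x hx'
  rwa [GradedAlgebra.proj_apply, DirectSum.decompose_of_mem_same 𝒜 hx] at this

end Groth.Agent.Lib.helper13
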