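import Groth.Prelude.Def_QuadGrp
import Mathlib

/-!
# The universal half-discriminant lies in the ideal of the polar matrix entries (helper13)
-/

set_option autoImplicit false

namespace Groth.Agent.Lib.helper13.HalfDisc

open MvPolynomial
open scoped Classical

variable {n : ℕ}

/-- Kill the non-diagonal variables. -/
noncomputable def psi (n : ℕ) : MvPolynomial (Sym2 (Fin n)) ℤ →ₐ[ℤ] MvPolynomial (Sym2 (Fin n)) ℤ :=
  aeval (fun s => if s.IsDiag then X s else 0)

/-- A monomial only involving diagonal variables. -/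
def DiagOnly (M : Sym2 (Fin n) →₀ ℕ) : Prop := ∀ s ∈ M.support, s.IsDiag

theorem psi_monomial (M : Sym2 (Fin n) →₀ ℕ) (a : ℤ) :
    psi n (monomial M a) = if DiagOnly M then monomial M a else 0 := by
  classical
  rw [psi, aeval_monomial]
  split_ifs with h
  · rw [monomial_eq, Finsupp.prod, Finsupp.prod]
    congr 1
    apply Finset.prod_congr rfl
    intro s hs
    rw [if_pos (h s hs)]
  · unfold DiagOnly at h
    push Not at h
    obtain ⟨s, hs, hsd⟩ := h
    rw [Finsupp.prod, Finset.prod_eq_zero hs, mul_zero]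
    rw [if_neg hsd, zero_pow (Finsupp.mem_support_iff.mp hs)]

theorem coeff_psi (p : MvPolynomial (Sym2 (Fin n)) ℤ) (M : Sym2 (Fin n) →₀ ℕ) (hM : DiagOnly M) :
    coeff M (psi n p) = coeff M p := by
  classical
  induction p using MvPolynomial.induction_on' with
  | monomial M' a =>
    rw [psi_monomial]
    split_ifs with h
    · rfl
    · rw [coeff_zero, coeff_monomial, if_neg]
      rintro rfl
      exact h hM
  | add p q hp hq => rw [map_add, coeff_add, coeff_add, hp, hq]


/-- The diagonal monomial `∏ A_ii`. -/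
noncomputable def M0 (n : ℕ) : Sym2 (Fin n) →₀ ℕ := ∑ i : Fin n, Finsupp.single (Sym2.diag i) 1

theorem psi_discUniv : psi n (QuadGrp.discUniv n) = monomial (M0 n) ((2 : ℤ) ^ n) := by
  rw [QuadGrp.discUniv, AlgHom.map_det]
  have h : (psi n).mapMatrix (QuadGrp.univPolarMat n) =
      Matrix.diagonal (fun i => 2 * X (Sym2.diag i)) := by
    ext i j
    rw [AlgHom.mapMatrix_apply, Matrix.map_apply, Matrix.diagonal_apply, QuadGrp.univPolarMat,
      Matrix.of_apply]
    split_ifs with hij
    · subst hij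
      rw [map_mul, map_ofNat, psi, aeval_X, if_pos (Sym2.mk_isDiag_iff.mpr rfl)]
      rfl
    · rw [psi, aeval_X, if_neg (fun hd => hij (Sym2.mk_isDiag_iff.mp hd))]
  rw [h, Matrix.det_diagonal, Finset.prod_mul_distrib, Finset.prod_const, Finset.card_univ,
    Fintype.card_fin, M0, monomial_sum_index]
  congr 1
  simp


theorem M0_apply_diag (i0 : Fin n) : M0 n (Sym2.diag i0) = 1 := by
  rw [M0, Finsupp.finsetSum_apply]
  simp only [Finsupp.single_apply]
  rw [Finset.sum_eq_single i0]
  · simp
  · intro i _ hne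
    rw [if_neg]
    intro h
    exact hne (Sym2.diag_injective h)
  · simp

theorem eval₂_halfDiscUniv_eq_zero {S : Type*} [CommRing S] (hn : 2 ≤ n) (c : Sym2 (Fin n) → S)
    (h1 : ∀ s, ¬ s.IsDiag → c s = 0) (h2 : ∀ i, 2 * c (Sym2.diag i) = 0) :
    eval₂ (Int.castRingHom S) c (QuadGrp.halfDiscUniv n) = 0 := by
  rw [eval₂_eq]
  apply Finset.sum_eq_zero
  intro d _
  by_cases hdiag : DiagOnly d
  · have hc : coeff d (QuadGrp.halfDiscUniv n) = (if M0 n = d then (2 : ℤ) ^ n else 0) / 2 := by
      rw [QuadGrp.coeff_halfDiscUniv, ← coeff_psi _ d hdiag, psi_discUniv, coeff_monomial]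
    rw [hc]
    split_ifs with hM
    · subst hM
      have h2n : ((2 : ℤ) ^ n / 2) = 2 * 2 ^ (n - 2) := by
        obtain ⟨k, rfl⟩ : ∃ k, n = k + 2 := ⟨n - 2, by omega⟩
        rw [pow_succ, Int.mul_ediv_cancel _ (by norm_num), pow_succ]
        simp
        ring
      rw [h2n]
      let i0 : Fin n := ⟨0, by omega⟩
      have hM0 : M0 n (Sym2.diag i0) = 1 := M0_apply_diag i0
      have hmem : Sym2.diag i0 ∈ (M0 n).support := by
        rw [Finsupp.mem_support_iff, hM0]
        exact one_ne_zero
      rw [← Finset.mul_prod_erase _ _ hmem, hM0, pow_one]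
      have hcast : (Int.castRingHom S) (2 * 2 ^ (n - 2)) = (2 : S) * 2 ^ (n - 2) := by simp
      rw [hcast]
      calc (2 : S) * 2 ^ (n - 2) * (c (Sym2.diag i0) * ∏ x ∈ (M0 n).support.erase (Sym2.diag i0),
            c x ^ (M0 n) x)
          = 2 ^ (n - 2) * (2 * c (Sym2.diag i0)) * ∏ x ∈ (M0 n).support.erase (Sym2.diag i0),
            c x ^ (M0 n) x := by ring
        _ = 0 := by rw [h2 i0, mul_zero, zero_mul]
    · simp
  · unfold DiagOnly at hdiag
    push Not at hdiag
    obtain ⟨s, hs, hsd⟩ := hdiag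
    rw [Finset.prod_eq_zero hs, mul_zero]
    rw [h1 s hsd, zero_pow (Finsupp.mem_support_iff.mp hs)]


/-- The ideal generated by the entries of the polar matrix in the standard basis. -/
def polarIdeal {R : Type*} [CommRing R] (Q : QuadraticForm R (Fin n → R)) : Ideal R :=
  Ideal.span (Set.range fun ij : Fin n × Fin n =>
    QuadraticMap.polar Q (Pi.single ij.1 1) (Pi.single ij.2 1))

theorem polar_mem_polarIdeal {R : Type*} [CommRing R] (Q : QuadraticForm R (Fin n → R))
    (i j : Fin n) : QuadraticMap.polar Q (Pi.single i 1) (Pi.single j 1) ∈ polarIdeal Q :=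
  Ideal.subset_span ⟨(i, j), rfl⟩

/-- For a semiregular form of rank at least two the entries of the polar matrix generate the unit
ideal. -/
theorem polarIdeal_eq_top_of_semiregular {R : Type*} [CommRing R] (hn : 2 ≤ n)
    (Q : QuadraticForm R (Fin n → R))
    (hQ : QuadGrp.IsSemiregular (Pi.basisFun R (Fin n)) (LinearEquiv.refl R R) Q) :
    polarIdeal Q = ⊤ := by
  have hmem : QuadGrp.halfDisc (Pi.basisFun R (Fin n)) (LinearEquiv.refl R R) Q ∈ polarIdeal Q := by
    rw [← Ideal.Quotient.eq_zero_iff_mem, QuadGrp.halfDisc,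
      MvPolynomial.eval₂_comp_left (Ideal.Quotient.mk (polarIdeal Q))]
    have hc : (Ideal.Quotient.mk (polarIdeal Q)).comp (Int.castRingHom R) =
        Int.castRingHom (R ⧸ polarIdeal Q) := RingHom.ext_int _ _
    rw [hc]
    apply eval₂_halfDiscUniv_eq_zero hn
    · intro s hs
      induction s using Sym2.ind with
      | _ i j =>
        rw [Function.comp_apply, QuadGrp.coeffs_mk,
          if_neg (fun h => hs (Sym2.mk_isDiag_iff.mpr h)), Ideal.Quotient.eq_zero_iff_mem]
        simp only [Pi.basisFun_apply, LinearEquiv.refl_apply]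
        exact polar_mem_polarIdeal Q i j
    · intro i
      rw [Function.comp_apply, show Sym2.diag i = Sym2.mk i i from rfl, QuadGrp.coeffs_mk,
        if_pos rfl, ← map_ofNat (Ideal.Quotient.mk (polarIdeal Q)) 2, ← map_mul,
        Ideal.Quotient.eq_zero_iff_mem]
      simp only [Pi.basisFun_apply, LinearEquiv.refl_apply]
      have h := polar_mem_polarIdeal Q i i
      rw [QuadraticMap.polar_self] at h
      simpa [two_mul, two_smul] using h
  exact Ideal.eq_top_of_isUnit_mem _ hmem hQ


theorem eq_sum_single {R : Type*} [CommRing R] (v : Fin n → R) :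
    v = ∑ l, v l • (Pi.single l 1 : Fin n → R) := by
  funext i
  simp [Finset.sum_apply, Pi.single_apply]

theorem polar_mem_polarIdeal' {R : Type*} [CommRing R] (Q : QuadraticForm R (Fin n → R))
    (v w : Fin n → R) : QuadraticMap.polar Q v w ∈ polarIdeal Q := by
  have h : QuadraticMap.polar Q v w = ∑ l, ∑ k, v l * (w k *
      QuadraticMap.polar Q (Pi.single l 1) (Pi.single k 1)) := by
    conv_lhs => rw [eq_sum_single v, eq_sum_single w]
    change QuadraticMap.polarBilin Q _ _ = _
    simp only [map_sum, map_smul, LinearMap.sum_apply, LinearMap.smul_apply, smul_eq_mul,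
      Finset.mul_sum]
    rw [Finset.sum_comm]
    refine Finset.sum_congr rfl fun l _ => Finset.sum_congr rfl fun k _ => ?_
    rw [QuadraticMap.polarBilin_apply_apply]
    ring
  rw [h]
  refine Ideal.sum_mem _ fun l _ => Ideal.sum_mem _ fun k _ => ?_
  exact Ideal.mul_mem_left _ _ (Ideal.mul_mem_left _ _ (polar_mem_polarIdeal Q l k))

theorem polarIdeal_eq_top_of_surjective {R : Type*} [CommRing R] (hn : 1 ≤ n)
    (Q : QuadraticForm R (Fin n → R))
    (hQ : Function.Surjective (QuadraticMap.polarBilin Q)) : polarIdeal Q = ⊤ := by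
  let i0 : Fin n := ⟨0, by omega⟩
  obtain ⟨f, hf⟩ := hQ (LinearMap.proj i0)
  have h1 : QuadraticMap.polar Q f (Pi.single i0 1) = 1 := by
    have := LinearMap.congr_fun hf (Pi.single i0 1)
    simpa using this
  rw [Ideal.eq_top_iff_one, ← h1]
  exact polar_mem_polarIdeal' Q _ _

/-- An element annihilating all values `c * Q v` annihilates the polar ideal. -/
theorem eq_zero_of_mul_polar {R : Type*} [CommRing R] (Q : QuadraticForm R (Fin n → R))
    (htop : polarIdeal Q = ⊤) (c : R)
    (hc : ∀ i j : Fin n, c * QuadraticMap.polar Q (Pi.single i 1) (Pi.single j 1) = 0) : c = 0 := by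
  have h1 : (1 : R) ∈ polarIdeal Q := by rw [htop]; trivial
  have h2 : ∀ r ∈ polarIdeal Q, c * r = 0 := by
    intro r hr
    refine Submodule.span_induction ?_ ?_ ?_ ?_ hr
    · rintro _ ⟨ij, rfl⟩
      exact hc ij.1 ij.2
    · simp
    · intro x y _ _ hx hy
      rw [mul_add, hx, hy, add_zero]
    · intro a x _ hx
      rw [smul_eq_mul, mul_left_comm, hx, mul_zero]
  simpa using h2 1 h1

end Groth.Agent.Lib.helper13.HalfDisc
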