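import Mathlib
import Groth.Prelude.Def_DRing4
import Groth.Agent.Lib.Helper13.HomKFlat2
import Groth.Agent.Lib.Helper13.KFlat8

/-!
# K-flatness of Hom complexes, part 3 (helper13)

* `PM K q₀ M`: `Hom•(M[-q₀], K)` is K-flat; closure properties; `PM_of_finite_projective`.
* `PK_of_bounded_finite_projective`: `Hom•(E, K)` is K-flat for `E` bounded termwise finite projective, `K` K-flat.
* `isKFlatR_homCx_of_perfect`: `Hom•(P, K)` is K-flat for `P` bounded above termwise projective and perfect, `K` K-flat.
-/

set_option autoImplicit false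
universe u
open CategoryTheory CategoryTheory.Limits HomologicalComplex MonoidalCategory
open CochainComplex.HomComplex

attribute [local instance] HasDerivedCategory.standard

namespace Groth.Agent.Lib.helper13.HomKFlat
open Groth.Agent.Lib.helper23.RHomCx Groth.Agent.Lib.helper13.KFlat

variable {A : Type u} [CommRing A]

section Modules

/-- the property `M ↦ Hom•(M[-q₀], K)` is K-flat -/
def PM (K : DRing.Cx A) (q₀ : ℤ) (M : ModuleCat.{u} A) : Prop :=
  PK K ((CochainComplex.singleFunctor (ModuleCat.{u} A) q₀).obj M)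

variable {K : DRing.Cx A} {q₀ : ℤ}

theorem PM_of_retract {M N : ModuleCat.{u} A} (i : M ⟶ N) (r : N ⟶ M) (h : i ≫ r = 𝟙 M)
    (hN : PM K q₀ N) : PM K q₀ M :=
  PK_of_retract ((CochainComplex.singleFunctor (ModuleCat.{u} A) q₀).map i)
    ((CochainComplex.singleFunctor (ModuleCat.{u} A) q₀).map r)
    (by rw [← Functor.map_comp, h, CategoryTheory.Functor.map_id]) hN

theorem PM_of_iso {M N : ModuleCat.{u} A} (e : M ≅ N) (hN : PM K q₀ N) : PM K q₀ M :=
  PM_of_retract e.hom e.inv e.hom_inv_id hN

theorem PM_of_isZero {M : ModuleCat.{u} A} (h : IsZero M) : PM K q₀ M :=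
  PK_of_isZero ((CochainComplex.singleFunctor (ModuleCat.{u} A) q₀).map_isZero h)

theorem PM_biprod {M₁ M₂ : ModuleCat.{u} A} (h1 : PM K q₀ M₁) (h2 : PM K q₀ M₂) :
    PM K q₀ (M₁ ⊞ M₂) :=
  PK_of_split ((ShortComplex.mk (biprod.inl : M₁ ⟶ M₁ ⊞ M₂) biprod.snd (by simp)).map
      (CochainComplex.singleFunctor (ModuleCat.{u} A) q₀))
    ((ShortComplex.Splitting.ofHasBinaryBiproduct M₁ M₂).map
      (CochainComplex.singleFunctor (ModuleCat.{u} A) q₀)) h1 h2

theorem PM_self (hK : IsKFlatR K) : PM K q₀ (ModuleCat.of A A) := isKFlatR_homCx_S₀ K q₀ hK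

theorem PM_pi (hK : IsKFlatR K) (n : ℕ) : PM K q₀ (ModuleCat.of A (Fin n → A)) := by
  induction n with
  | zero => exact PM_of_isZero (ModuleCat.isZero_of_subsingleton _)
  | succ n ih =>
    refine PM_of_iso ((Fin.consLinearEquiv A (fun _ : Fin (n + 1) => A)).symm.toModuleIso ≪≫
      (ModuleCat.biprodIsoProd (ModuleCat.of A A) (ModuleCat.of A (Fin n → A))).symm)
      (PM_biprod (PM_self hK) ih)

theorem PM_of_finite_projective (hK : IsKFlatR K) (M : ModuleCat.{u} A) [Module.Finite A M]
    [Module.Projective A M] : PM K q₀ M := by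
  obtain ⟨n, f, g, -, -, hfg⟩ := Module.Finite.exists_comp_eq_id_of_projective A M
  refine PM_of_retract (N := ModuleCat.of A (Fin n → A)) (ModuleCat.ofHom g) (ModuleCat.ofHom f)
    ?_ (PM_pi hK n)
  rw [← ModuleCat.ofHom_comp, hfg]
  rfl

end Modules

section Bounded

variable {K : DRing.Cx A}

/-- `Hom•(E, K)` is K-flat for `E` a bounded complex of finite projective modules and `K` K-flat -/
theorem PK_of_bounded_finite_projective (hK : IsKFlatR K) (E : DRing.Cx A) (a b : ℤ)
    (hE : DRing.VanishesOutside E a b) (hfp : DRing.TermwiseFiniteProjective E) : PK K E := by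
  have key : ∀ (n : ℕ) (E : DRing.Cx A) (a : ℤ), (∀ q, q < a → IsZero (E.X q)) →
      (∀ q, a + n ≤ q → IsZero (E.X q)) →
      (∀ q, Module.Finite A (E.X q) ∧ Module.Projective A (E.X q)) → PK K E := by
    apply Groth.Agent.Lib.helper13.KFlat.of_bounded
      (fun M : ModuleCat.{u} A => Module.Finite A M ∧ Module.Projective A M) (PK K)
    · rintro M N e ⟨h1, h2⟩
      exact ⟨Module.Finite.equiv e.toLinearEquiv, Module.Projective.of_equiv e.toLinearEquiv⟩
    · intro M hM
      haveI : Subsingleton M := ModuleCat.subsingleton_of_isZero hM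
      exact ⟨inferInstance, inferInstance⟩
    · -- single degree
      intro E q₀ hE hfp
      haveI : E.IsStrictlyGE q₀ := by
        rw [CochainComplex.isStrictlyGE_iff]
        intro i hi
        exact hE i (by omega)
      haveI : E.IsStrictlyLE q₀ := by
        rw [CochainComplex.isStrictlyLE_iff]
        intro i hi
        exact hE i (by omega)
      obtain ⟨M, ⟨e⟩⟩ := CochainComplex.exists_iso_single E q₀
      let eM : E.X q₀ ≅ M := (HomologicalComplex.eval _ _ q₀).mapIso e ≪≫
        HomologicalComplex.singleObjXSelf (ComplexShape.up ℤ) q₀ M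
      haveI : Module.Finite A M := by
        haveI := hfp.1
        exact Module.Finite.equiv eM.toLinearEquiv
      haveI : Module.Projective A M := by
        haveI := hfp.2
        exact Module.Projective.of_equiv eM.toLinearEquiv
      exact PK_of_iso e (PM_of_finite_projective (q₀ := q₀) hK M)
    · -- extensions
      intro S hS h3 p1 p3
      refine isKFlatR_homCx_of_degreewise_split S K (fun q => ?_) p1 p3
      have hSq : (S.map (HomologicalComplex.eval _ _ q)).ShortExact := hS.map_of_exact _
      haveI := (h3 q).2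
      haveI : Projective (S.map (HomologicalComplex.eval _ _ q)).X₃ :=
        ModuleCat.projective_of_categoryTheory_projective (S.X₃.X q)
      haveI := hSq.epi_g
      haveI := hSq.mono_f
      exact ⟨ShortComplex.Splitting.ofExactOfSection _ hSq.exact
        (Projective.factorThru (𝟙 _) (S.map (HomologicalComplex.eval _ _ q)).g)
        (Projective.factorThru_comp _ _) inferInstance⟩
  by_cases hab : a ≤ b
  · obtain ⟨n, hn⟩ := Int.eq_ofNat_of_zero_le (show 0 ≤ b - a + 1 by omega)
    exact key n E a (fun q hq => hE q (Or.inl hq)) (fun q hq => hE q (Or.inr (by omega))) hfp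
  · exact key 0 E a (fun q hq => hE q (Or.inl hq)) (fun q hq => hE q (Or.inr (by omega))) hfp

end Bounded


section Main

/-- `Hom•(P, K)` is K-flat for `P` a bounded above complex of projectives which is perfect in `D(A)`
and `K` K-flat. -/
theorem isKFlatR_homCx_of_perfect (P K : DRing.Cx A) (b : ℤ) (hPb : DRing.VanishesAbove P b)
    (hPp : ∀ i : ℤ, Module.Projective A (P.X i)) (hperf : DRing.IsPerfect A (DRing.toD P))
    (hK : IsKFlatR K) : IsKFlatR (DRing.homCx P K) := by
  obtain ⟨E, a', b', hE, hfp, ⟨e⟩⟩ := hperf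
  haveI : P.IsStrictlyLE b := by
    rw [CochainComplex.isStrictlyLE_iff]
    intro i hi
    exact hPb i hi
  haveI : ∀ n : ℤ, Projective (P.X n) := fun n => by
    haveI := hPp n
    exact ModuleCat.projective_of_categoryTheory_projective (P.X n)
  haveI : P.IsKProjective := CochainComplex.isKProjective_of_projective P b
  haveI : E.IsStrictlyLE b' := by
    rw [CochainComplex.isStrictlyLE_iff]
    intro i hi
    exact hE i (Or.inr hi)
  haveI : ∀ n : ℤ, Projective (E.X n) := fun n => by
    haveI := (hfp n).2
    exact ModuleCat.projective_of_categoryTheory_projective (E.X n)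
  haveI : E.IsKProjective := CochainComplex.isKProjective_of_projective E b'
  obtain ⟨h⟩ := nonempty_homotopyEquiv_of_iso_Q E P e
  exact isKFlatR_of_homotopyEquiv (homCxHomotopyEquivLeft h K)
    (PK_of_bounded_finite_projective hK E a' b' hE hfp)

end Main

end Groth.Agent.Lib.helper13.HomKFlat
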