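import Mathlib

/-!
Helper library (helper13): the dual of a finite-dimensional cocommutative Hopf algebra over a
field is a commutative Hopf algebra.
-/

set_option autoImplicit false
set_option linter.unusedSectionVars false
open scoped TensorProduct

namespace Groth.Agent.Lib.helper13.HopfDual

open WithConv Coalgebra

section
variable (k : Type*) [Field k] (H : Type*) [Ring H] [HopfAlgebra k H] [Module.Finite k H]
  [Coalgebra.IsCocomm k H]

/-- the dual of `H` with the convolution product (a type synonym, so that only the instances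
declared below are visible) -/
def Dl : Type _ := WithConv (H →ₗ[k] k)

noncomputable instance : CommRing (Dl k H) := inferInstanceAs (CommRing (WithConv (H →ₗ[k] k)))
noncomputable instance : Algebra k (Dl k H) := inferInstanceAs (Algebra k (WithConv (H →ₗ[k] k)))

variable {k H}

/-- the evaluation equivalence -/
noncomputable def ev : Dl k H ≃ₗ[k] Module.Dual k H := WithConv.linearEquiv k (H →ₗ[k] k)

theorem ev_ext {f g : Dl k H} (h : ∀ x, ev f x = ev g x) : f = g :=
  ev.injective (LinearMap.ext h)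

theorem mul_ev (f g : Dl k H) (x : H) :
    ev (f * g) x = LinearMap.mul' k k (TensorProduct.map (ev f) (ev g) (comul x)) := rfl

theorem one_ev (x : H) : ev (1 : Dl k H) x = counit x := rfl

theorem algebraMap_ev (c : k) (x : H) : ev (algebraMap k (Dl k H) c) x = c * counit x := rfl

variable (k H)

/-- pairing of `Dl ⊗ Dl` with `H ⊗ H` -/
noncomputable def P2e : Dl k H ⊗[k] Dl k H ≃ₗ[k] Module.Dual k (H ⊗[k] H) :=
  (TensorProduct.congr ev ev).trans (TensorProduct.dualDistribEquiv k H H)

/-- pairing of `Dl ⊗ (Dl ⊗ Dl)` with `H ⊗ (H ⊗ H)` -/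
noncomputable def P3e :
    Dl k H ⊗[k] (Dl k H ⊗[k] Dl k H) ≃ₗ[k] Module.Dual k (H ⊗[k] (H ⊗[k] H)) :=
  (TensorProduct.congr ev (P2e k H)).trans (TensorProduct.dualDistribEquiv k H (H ⊗[k] H))

variable {k H}

theorem P2e_tmul_tmul (f g : Dl k H) (x y : H) :
    P2e k H (f ⊗ₜ[k] g) (x ⊗ₜ[k] y) = ev f x * ev g y := by
  simp [P2e]

theorem P3e_tmul_tmul (f : Dl k H) (t : Dl k H ⊗[k] Dl k H) (x : H) (w : H ⊗[k] H) :
    P3e k H (f ⊗ₜ[k] t) (x ⊗ₜ[k] w) = ev f x * P2e k H t w := by
  simp [P3e]

theorem dual2_ext {s t : Dl k H ⊗[k] Dl k H}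
    (h : ∀ x y : H, P2e k H s (x ⊗ₜ[k] y) = P2e k H t (x ⊗ₜ[k] y)) : s = t := by
  apply (P2e k H).injective
  exact TensorProduct.ext' h

theorem dual3_ext {s t : Dl k H ⊗[k] (Dl k H ⊗[k] Dl k H)}
    (h : ∀ x y z : H, P3e k H s (x ⊗ₜ[k] (y ⊗ₜ[k] z)) = P3e k H t (x ⊗ₜ[k] (y ⊗ₜ[k] z))) :
    s = t := by
  apply (P3e k H).injective
  refine TensorProduct.ext' fun x w => ?_
  induction w using TensorProduct.induction_on with
  | zero => simp
  | tmul y z => exact h x y z
  | add a c ha hc => rw [TensorProduct.tmul_add, map_add, map_add, ha, hc]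

theorem P2e_tmul (f g : Dl k H) :
    P2e k H (f ⊗ₜ[k] g) =
      (Algebra.TensorProduct.lmul' k (S := k)).toLinearMap ∘ₗ TensorProduct.map (ev f) (ev g) := by
  refine TensorProduct.ext' fun x y => ?_
  rw [P2e_tmul_tmul]
  rfl

theorem P2e_mul_tmul (f g f' g' : Dl k H) :
    (toConv (P2e k H ((f ⊗ₜ[k] g) * (f' ⊗ₜ[k] g'))) : WithConv ((H ⊗[k] H) →ₗ[k] k)) =
      toConv (P2e k H (f ⊗ₜ[k] g)) * toConv (P2e k H (f' ⊗ₜ[k] g')) := by
  rw [Algebra.TensorProduct.tmul_mul_tmul, P2e_tmul, P2e_tmul, P2e_tmul]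
  have h1 := TensorProduct.map_convMul_map (R := k) (f := (f : WithConv (H →ₗ[k] k))) (h := f')
    (g := (g : WithConv (H →ₗ[k] k))) (k := g')
  have h2 := LinearMap.algHom_comp_convMul_distrib (R := k) (Algebra.TensorProduct.lmul' k (S := k))
    (toConv (TensorProduct.map (ev f) (ev g))) (toConv (TensorProduct.map (ev f') (ev g')))
  apply WithConv.ext
  refine Eq.trans ?_ h2
  change _ = (Algebra.TensorProduct.lmul' k (S := k)).toLinearMap ∘ₗ
    (toConv (TensorProduct.map (WithConv.ofConv (f : WithConv (H →ₗ[k] k)))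
      (WithConv.ofConv (g : WithConv (H →ₗ[k] k)))) *
    toConv (TensorProduct.map (WithConv.ofConv (f' : WithConv (H →ₗ[k] k)))
      (WithConv.ofConv (g' : WithConv (H →ₗ[k] k))))).ofConv
  rw [h1]
  rfl

theorem P2e_mul (s t : Dl k H ⊗[k] Dl k H) :
    (toConv (P2e k H (s * t)) : WithConv ((H ⊗[k] H) →ₗ[k] k)) =
      toConv (P2e k H s) * toConv (P2e k H t) := by
  induction s using TensorProduct.induction_on with
  | zero => simp
  | tmul f g =>
    induction t using TensorProduct.induction_on with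
    | zero => simp
    | tmul f' g' => exact P2e_mul_tmul f g f' g'
    | add a c ha hc => rw [mul_add, map_add, map_add, toConv_add, toConv_add, ha, hc, mul_add]
  | add a c ha hc => rw [add_mul, map_add, map_add, toConv_add, toConv_add, ha, hc, add_mul]

variable (k H)

/-- the comultiplication of the dual, as a linear map -/
noncomputable def cmL : Dl k H →ₗ[k] Dl k H ⊗[k] Dl k H :=
  (P2e k H).symm.toLinearMap ∘ₗ (Module.Dual.transpose (LinearMap.mul' k H)) ∘ₗ
    (ev (k := k) (H := H)).toLinearMap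

variable {k H}

theorem P2e_cmL (f : Dl k H) : P2e k H (cmL k H f) = ev f ∘ₗ LinearMap.mul' k H := by
  simp only [cmL, LinearMap.comp_apply, LinearEquiv.coe_coe, LinearEquiv.apply_symm_apply]
  rfl

theorem P2e_cmL_apply (f : Dl k H) (w : H ⊗[k] H) :
    P2e k H (cmL k H f) w = ev f (LinearMap.mul' k H w) := by
  rw [P2e_cmL]; rfl

theorem P2e_cmL_tmul (f : Dl k H) (x y : H) :
    P2e k H (cmL k H f) (x ⊗ₜ[k] y) = ev f (x * y) := by
  rw [P2e_cmL_apply]; rfl

theorem cmL_one : cmL k H 1 = 1 := by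
  apply dual2_ext
  intro x y
  rw [P2e_cmL_tmul, Algebra.TensorProduct.one_def, P2e_tmul_tmul, one_ev, one_ev, one_ev,
    Bialgebra.counit_mul]

theorem cmL_mul (f g : Dl k H) : cmL k H (f * g) = cmL k H f * cmL k H g := by
  apply (P2e k H).injective
  apply toConv_injective
  rw [P2e_mul, P2e_cmL, P2e_cmL, P2e_cmL]
  apply WithConv.ext
  exact LinearMap.convMul_comp_coalgHom_distrib (f : WithConv (H →ₗ[k] k)) g
    (Bialgebra.mulCoalgHom k H)

variable (k H)

/-- the comultiplication of the dual -/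
noncomputable def cm : Dl k H →ₐ[k] Dl k H ⊗[k] Dl k H :=
  AlgHom.ofLinearMap (cmL k H) cmL_one cmL_mul

/-- the counit of the dual: evaluation at `1` -/
noncomputable def ce : Dl k H →ₐ[k] k :=
  AlgHom.ofLinearMap ((LinearMap.applyₗ (1 : H)).comp (ev (k := k) (H := H)).toLinearMap)
    (by
      change ev (1 : Dl k H) 1 = 1
      rw [one_ev, Bialgebra.counit_one])
    (by
      intro f g
      change ev (f * g) 1 = ev f 1 * ev g 1
      rw [mul_ev, Bialgebra.comul_one, Algebra.TensorProduct.one_def, TensorProduct.map_tmul,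
        LinearMap.mul'_apply])

variable {k H}

theorem cm_apply (f : Dl k H) : cm k H f = cmL k H f := rfl

theorem ce_apply (f : Dl k H) : ce k H f = ev f 1 := rfl


theorem P3e_lTensor_cm (t : Dl k H ⊗[k] Dl k H) (x y z : H) :
    P3e k H ((Algebra.TensorProduct.map (AlgHom.id k (Dl k H)) (cm k H)) t)
      (x ⊗ₜ[k] (y ⊗ₜ[k] z)) = P2e k H t (x ⊗ₜ[k] (y * z)) := by
  induction t using TensorProduct.induction_on with
  | zero => simp
  | tmul f g =>
    rw [Algebra.TensorProduct.map_tmul, AlgHom.id_apply, P3e_tmul_tmul, cm_apply, P2e_cmL_tmul,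
      P2e_tmul_tmul]
  | add a c ha hc => simp only [map_add, LinearMap.add_apply, ha, hc]

theorem P3e_assoc_tmul (s : Dl k H ⊗[k] Dl k H) (g : Dl k H) (x y z : H) :
    P3e k H ((Algebra.TensorProduct.assoc k k k (Dl k H) (Dl k H) (Dl k H)) (s ⊗ₜ[k] g))
      (x ⊗ₜ[k] (y ⊗ₜ[k] z)) = P2e k H s (x ⊗ₜ[k] y) * ev g z := by
  induction s using TensorProduct.induction_on with
  | zero => simp
  | tmul a c =>
    rw [Algebra.TensorProduct.assoc_tmul, P3e_tmul_tmul, P2e_tmul_tmul, P2e_tmul_tmul, mul_assoc]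
  | add a c ha hc =>
    simp only [TensorProduct.add_tmul, map_add, LinearMap.add_apply, ha, hc, add_mul]

theorem P3e_rTensor_cm (t : Dl k H ⊗[k] Dl k H) (x y z : H) :
    P3e k H ((Algebra.TensorProduct.assoc k k k (Dl k H) (Dl k H) (Dl k H))
      ((Algebra.TensorProduct.map (cm k H) (AlgHom.id k (Dl k H))) t))
      (x ⊗ₜ[k] (y ⊗ₜ[k] z)) = P2e k H t ((x * y) ⊗ₜ[k] z) := by
  induction t using TensorProduct.induction_on with
  | zero => simp
  | tmul f g =>
    rw [Algebra.TensorProduct.map_tmul, AlgHom.id_apply, P3e_assoc_tmul, cm_apply, P2e_cmL_tmul,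
      P2e_tmul_tmul]
  | add a c ha hc => simp only [map_add, LinearMap.add_apply, ha, hc]

theorem cm_coassoc :
    (Algebra.TensorProduct.assoc k k k (Dl k H) (Dl k H) (Dl k H)).toAlgHom.comp
      ((Algebra.TensorProduct.map (cm k H) (.id k (Dl k H))).comp (cm k H))
      = (Algebra.TensorProduct.map (.id k (Dl k H)) (cm k H)).comp (cm k H) := by
  refine AlgHom.ext fun f => ?_
  apply dual3_ext
  intro x y z
  change P3e k H ((Algebra.TensorProduct.assoc k k k (Dl k H) (Dl k H) (Dl k H))
      ((Algebra.TensorProduct.map (cm k H) (AlgHom.id k (Dl k H))) (cm k H f)))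
      (x ⊗ₜ[k] (y ⊗ₜ[k] z)) =
    P3e k H ((Algebra.TensorProduct.map (AlgHom.id k (Dl k H)) (cm k H)) (cm k H f))
      (x ⊗ₜ[k] (y ⊗ₜ[k] z))
  rw [P3e_rTensor_cm, P3e_lTensor_cm, cm_apply, P2e_cmL_tmul, P2e_cmL_tmul, mul_assoc]

theorem lid_map_ce (t : Dl k H ⊗[k] Dl k H) (x : H) :
    ev ((Algebra.TensorProduct.lid k (Dl k H))
      ((Algebra.TensorProduct.map (ce k H) (AlgHom.id k (Dl k H))) t)) x =
      P2e k H t ((1 : H) ⊗ₜ[k] x) := by
  induction t using TensorProduct.induction_on with
  | zero => simp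
  | tmul f g =>
    rw [Algebra.TensorProduct.map_tmul, AlgHom.id_apply, Algebra.TensorProduct.lid_tmul,
      P2e_tmul_tmul, ce_apply, map_smul, LinearMap.smul_apply, smul_eq_mul]
  | add a c ha hc => simp only [map_add, LinearMap.add_apply, ha, hc]

theorem rid_map_ce (t : Dl k H ⊗[k] Dl k H) (x : H) :
    ev ((Algebra.TensorProduct.rid k k (Dl k H))
      ((Algebra.TensorProduct.map (AlgHom.id k (Dl k H)) (ce k H)) t)) x =
      P2e k H t (x ⊗ₜ[k] (1 : H)) := by
  induction t using TensorProduct.induction_on with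
  | zero => simp
  | tmul f g =>
    rw [Algebra.TensorProduct.map_tmul, AlgHom.id_apply, Algebra.TensorProduct.rid_tmul,
      P2e_tmul_tmul, ce_apply, map_smul, LinearMap.smul_apply, smul_eq_mul, mul_comm]
  | add a c ha hc => simp only [map_add, LinearMap.add_apply, ha, hc]

theorem cm_rTensor :
    (Algebra.TensorProduct.map (ce k H) (.id k (Dl k H))).comp (cm k H)
      = (Algebra.TensorProduct.lid k (Dl k H)).symm := by
  refine AlgHom.ext fun f => ?_
  apply (Algebra.TensorProduct.lid k (Dl k H)).injective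
  change (Algebra.TensorProduct.lid k (Dl k H))
      ((Algebra.TensorProduct.map (ce k H) (AlgHom.id k (Dl k H))) (cm k H f)) =
    (Algebra.TensorProduct.lid k (Dl k H)) ((Algebra.TensorProduct.lid k (Dl k H)).symm f)
  rw [AlgEquiv.apply_symm_apply]
  apply ev_ext
  intro x
  rw [lid_map_ce, cm_apply, P2e_cmL_tmul, one_mul]

theorem cm_lTensor :
    (Algebra.TensorProduct.map (.id k (Dl k H)) (ce k H)).comp (cm k H)
      = (Algebra.TensorProduct.rid k k (Dl k H)).symm := by
  refine AlgHom.ext fun f => ?_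
  apply (Algebra.TensorProduct.rid k k (Dl k H)).injective
  change (Algebra.TensorProduct.rid k k (Dl k H))
      ((Algebra.TensorProduct.map (AlgHom.id k (Dl k H)) (ce k H)) (cm k H f)) =
    (Algebra.TensorProduct.rid k k (Dl k H)) ((Algebra.TensorProduct.rid k k (Dl k H)).symm f)
  rw [AlgEquiv.apply_symm_apply]
  apply ev_ext
  intro x
  rw [rid_map_ce, cm_apply, P2e_cmL_tmul, mul_one]

noncomputable instance bialgDl : Bialgebra k (Dl k H) :=
  Bialgebra.ofAlgHom (cm k H) (ce k H) cm_coassoc cm_rTensor cm_lTensor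

theorem comul_eq (f : Dl k H) : CoalgebraStruct.comul (R := k) f = cmL k H f := rfl
theorem counit_eq (f : Dl k H) : CoalgebraStruct.counit (R := k) f = ev f 1 := rfl


variable (k H)

/-- the antipode of the dual: precomposition with the antipode of `H` -/
noncomputable def SA : Dl k H →ₗ[k] Dl k H :=
  (ev (k := k) (H := H)).symm.toLinearMap ∘ₗ
    (Module.Dual.transpose (HopfAlgebraStruct.antipode k (A := H))) ∘ₗ
    (ev (k := k) (H := H)).toLinearMap

variable {k H}

theorem SA_ev (f : Dl k H) (x : H) : ev (SA k H f) x = ev f (HopfAlgebraStruct.antipode k x) := by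
  simp only [SA, LinearMap.comp_apply, LinearEquiv.coe_coe, LinearEquiv.apply_symm_apply]
  rfl

theorem SA_ev' (f : Dl k H) : ev (SA k H f) = ev f ∘ₗ HopfAlgebraStruct.antipode k := by
  refine LinearMap.ext fun x => ?_
  rw [SA_ev]; rfl

theorem mul_SA_id (t : Dl k H ⊗[k] Dl k H) (x : H) :
    ev (LinearMap.mul' k (Dl k H) (TensorProduct.map (SA k H) LinearMap.id t)) x =
      P2e k H t (TensorProduct.map (HopfAlgebraStruct.antipode k) LinearMap.id
        (CoalgebraStruct.comul (R := k) x)) := by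
  induction t using TensorProduct.induction_on with
  | zero => simp
  | tmul f g =>
    rw [TensorProduct.map_tmul, LinearMap.mul'_apply, LinearMap.id_apply, mul_ev, SA_ev', P2e_tmul,
      LinearMap.comp_apply, ← LinearMap.comp_apply (TensorProduct.map (ev f) (ev g)),
      ← TensorProduct.map_comp, LinearMap.comp_id]
    rfl
  | add a c ha hc => simp only [map_add, LinearMap.add_apply, ha, hc]

theorem mul_id_SA (t : Dl k H ⊗[k] Dl k H) (x : H) :
    ev (LinearMap.mul' k (Dl k H) (TensorProduct.map LinearMap.id (SA k H) t)) x =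
      P2e k H t (TensorProduct.map LinearMap.id (HopfAlgebraStruct.antipode k)
        (CoalgebraStruct.comul (R := k) x)) := by
  induction t using TensorProduct.induction_on with
  | zero => simp
  | tmul f g =>
    rw [TensorProduct.map_tmul, LinearMap.mul'_apply, LinearMap.id_apply, mul_ev, SA_ev', P2e_tmul,
      LinearMap.comp_apply, ← LinearMap.comp_apply (TensorProduct.map (ev f) (ev g)),
      ← TensorProduct.map_comp, LinearMap.comp_id]
    rfl
  | add a c ha hc => simp only [map_add, LinearMap.add_apply, ha, hc]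

noncomputable instance hopfDl : HopfAlgebra k (Dl k H) :=
  HopfAlgebra.ofConvInverse (SA k H)
    (by
      apply WithConv.ext
      refine LinearMap.ext fun f => ?_
      change LinearMap.mul' k (Dl k H) (TensorProduct.map (SA k H) LinearMap.id (cmL k H f)) =
        algebraMap k (Dl k H) (ev f 1)
      apply ev_ext
      intro x
      rw [mul_SA_id, P2e_cmL_apply, algebraMap_ev]
      have h := HopfAlgebra.mul_antipode_rTensor_comul_apply (R := k) x
      rw [LinearMap.rTensor] at h
      rw [h, Algebra.algebraMap_eq_smul_one, map_smul, smul_eq_mul, mul_comm])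
    (by
      apply WithConv.ext
      refine LinearMap.ext fun f => ?_
      change LinearMap.mul' k (Dl k H) (TensorProduct.map LinearMap.id (SA k H) (cmL k H f)) =
        algebraMap k (Dl k H) (ev f 1)
      apply ev_ext
      intro x
      rw [mul_id_SA, P2e_cmL_apply, algebraMap_ev]
      have h := HopfAlgebra.mul_antipode_lTensor_comul_apply (R := k) x
      rw [LinearMap.lTensor] at h
      rw [h, Algebra.algebraMap_eq_smul_one, map_smul, smul_eq_mul, mul_comm])

instance finiteDl : Module.Finite k (Dl k H) :=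
  Module.Finite.equiv (ev (k := k) (H := H)).symm

end

end Groth.Agent.Lib.helper13.HopfDual
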