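import Mathlib
import Groth.Agent.Lib.Helper13.HopfDual

/-!
Helper library (helper13): left-invariant derivations of the dual of a finite-dimensional
cocommutative Hopf algebra, coming from primitive elements.
-/

set_option autoImplicit false
set_option linter.unusedSectionVars false
open scoped TensorProduct

namespace Groth.Agent.Lib.helper13.HopfDual

open WithConv Coalgebra

section
variable {k : Type*} [Field k] {H : Type*} [Ring H] [HopfAlgebra k H] [Module.Finite k H]
  [Coalgebra.IsCocomm k H]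

variable (k) in
/-- transpose of right multiplication by `v` -/
noncomputable def Rt (v : H) : Dl k H →ₗ[k] Dl k H :=
  (ev (k := k) (H := H)).symm.toLinearMap ∘ₗ
    (Module.Dual.transpose (LinearMap.mulRight k v)) ∘ₗ (ev (k := k) (H := H)).toLinearMap

theorem Rt_ev (v : H) (f : Dl k H) (x : H) : ev (Rt k v f) x = ev f (x * v) := by
  simp only [Rt, LinearMap.comp_apply, LinearEquiv.coe_coe, LinearEquiv.apply_symm_apply]
  rfl

theorem Rt_ev' (v : H) (f : Dl k H) : ev (Rt k v f) = ev f ∘ₗ LinearMap.mulRight k v := by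
  refine LinearMap.ext fun x => ?_
  rw [Rt_ev]; rfl

theorem map_mul_tmul (f g : Module.Dual k H) (w : H ⊗[k] H) (a c : H) :
    TensorProduct.map f g (w * (a ⊗ₜ[k] c)) =
      TensorProduct.map (f ∘ₗ LinearMap.mulRight k a) (g ∘ₗ LinearMap.mulRight k c) w := by
  induction w using TensorProduct.induction_on with
  | zero => simp
  | tmul x y =>
    rw [Algebra.TensorProduct.tmul_mul_tmul, TensorProduct.map_tmul, TensorProduct.map_tmul]
    rfl
  | add x y hx hy => rw [add_mul, map_add, map_add, hx, hy]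

theorem mulRight_one' : LinearMap.mulRight k (1 : H) = LinearMap.id := by
  refine LinearMap.ext fun x => ?_
  simp

/-- `v` is primitive -/
def IsPrim (v : H) : Prop := CoalgebraStruct.comul (R := k) v = v ⊗ₜ[k] 1 + 1 ⊗ₜ[k] v

theorem Rt_leibniz {v : H} (hv : IsPrim (k := k) v) (f g : Dl k H) :
    Rt k v (f * g) = f • Rt k v g + g • Rt k v f := by
  apply ev_ext
  intro x
  rw [smul_eq_mul, smul_eq_mul, mul_comm g, map_add, LinearMap.add_apply, Rt_ev, mul_ev, mul_ev,
    mul_ev, Bialgebra.comul_mul, hv, mul_add, map_add, map_add, map_mul_tmul, map_mul_tmul,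
    mulRight_one', LinearMap.comp_id, LinearMap.comp_id, Rt_ev', Rt_ev', add_comm]

variable (k) in
/-- the derivation attached to a primitive element -/
noncomputable def derOf (v : H) (hv : IsPrim (k := k) v) : Derivation k (Dl k H) (Dl k H) :=
  Derivation.mk' (Rt k v) (Rt_leibniz hv)

theorem derOf_ev (v : H) (hv : IsPrim (k := k) v) (f : Dl k H) (x : H) :
    ev (derOf k v hv f) x = ev f (x * v) := Rt_ev v f x


section Der
variable {k : Type*} [Field k] {H : Type*} [Ring H] [HopfAlgebra k H] [Module.Finite k H]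
  [Coalgebra.IsCocomm k H] {V : Type*} [AddCommGroup V] [Module k V] (ρ : V →ₗ[k] H)
  (hρ : ∀ a : V, IsPrim (k := k) (ρ a))

/-- the family of derivations attached to a linear family of primitive elements -/
noncomputable def derL : V →ₗ[k] Derivation k (Dl k H) (Dl k H) where
  toFun a := derOf k (ρ a) (hρ a)
  map_add' a c := by
    apply Derivation.ext
    intro f
    apply ev_ext
    intro x
    rw [derOf_ev, Derivation.add_apply]
    change ev f (x * ρ (a + c)) = ev (derOf k (ρ a) (hρ a) f) x + ev (derOf k (ρ c) (hρ c) f) x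
    rw [derOf_ev, derOf_ev, map_add, mul_add, map_add]
  map_smul' r a := by
    apply Derivation.ext
    intro f
    apply ev_ext
    intro x
    rw [derOf_ev, RingHom.id_apply, Derivation.smul_apply]
    change ev f (x * ρ (r • a)) = r • ev (derOf k (ρ a) (hρ a) f) x
    rw [derOf_ev, map_smul, mul_smul_comm, map_smul]

theorem derL_ev (a : V) (f : Dl k H) (x : H) : ev (derL ρ hρ a f) x = ev f (x * ρ a) :=
  derOf_ev (ρ a) (hρ a) f x

theorem derL_injective (hinj : Function.Injective ρ) : Function.Injective (derL ρ hρ) := by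
  rw [← LinearMap.ker_eq_bot, LinearMap.ker_eq_bot']
  intro a ha
  apply hinj
  rw [map_zero]
  rw [← Module.forall_dual_apply_eq_zero_iff k]
  intro ψ
  have h := derL_ev ρ hρ a (ev.symm ψ) 1
  rw [ha, Derivation.zero_apply, map_zero, LinearMap.zero_apply, one_mul,
    LinearEquiv.apply_symm_apply] at h
  exact h.symm

theorem derL_pow_ev (a : V) (n : ℕ) (f : Dl k H) (x : H) :
    ev (((derL ρ hρ a).toLinearMap ^ n) f) x = ev f (x * ρ a ^ n) := by
  induction n generalizing f with
  | zero => rw [pow_zero, pow_zero, mul_one]; rfl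
  | succ n ih =>
    rw [pow_succ, pow_succ, Module.End.mul_apply, ih, ← mul_assoc]
    exact derL_ev ρ hρ a f _

theorem derL_pmap (p : ℕ) (a c : V) (h : ρ c = ρ a ^ p) :
    (derL ρ hρ c).toLinearMap = (derL ρ hρ a).toLinearMap ^ p := by
  refine LinearMap.ext fun f => ?_
  apply ev_ext
  intro x
  rw [derL_pow_ev, ← h]
  exact derL_ev ρ hρ c f x

theorem P2e_lTensor_of (D : Dl k H →ₗ[k] Dl k H) (v : H)
    (hD : ∀ g : Dl k H, ∀ y : H, ev (D g) y = ev g (y * v)) (t : Dl k H ⊗[k] Dl k H) (x y : H) :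
    P2e k H (LinearMap.lTensor (Dl k H) D t) (x ⊗ₜ[k] y) = P2e k H t (x ⊗ₜ[k] (y * v)) := by
  induction t using TensorProduct.induction_on with
  | zero => simp
  | tmul f g => rw [LinearMap.lTensor_tmul, P2e_tmul_tmul, P2e_tmul_tmul, hD]
  | add a c ha hc => simp only [map_add, LinearMap.add_apply, ha, hc]

theorem derL_leftInvariant (a : V) :
    CoalgebraStruct.comul (R := k) (A := Dl k H) ∘ₗ (derL ρ hρ a).toLinearMap =
      LinearMap.lTensor (Dl k H) (derL ρ hρ a).toLinearMap ∘ₗ
        CoalgebraStruct.comul (R := k) (A := Dl k H) := by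
  refine LinearMap.ext fun f => ?_
  apply dual2_ext
  intro x y
  change P2e k H (cmL k H (derL ρ hρ a f)) (x ⊗ₜ[k] y) =
    P2e k H (LinearMap.lTensor (Dl k H) (derL ρ hρ a).toLinearMap (cmL k H f)) (x ⊗ₜ[k] y)
  rw [P2e_cmL_tmul, P2e_lTensor_of _ (ρ a) (fun g y => derL_ev ρ hρ a g y), P2e_cmL_tmul, derL_ev,
    mul_assoc]

end Der

section DerLie
variable {k : Type*} [Field k] {H : Type*} [Ring H] [HopfAlgebra k H] [Module.Finite k H]
  [Coalgebra.IsCocomm k H] {V : Type*} [LieRing V] [LieAlgebra k V] (ρ : V →ₗ[k] H)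
  (hρ : ∀ a : V, IsPrim (k := k) (ρ a))

theorem derL_lie
    (hlie : ∀ a c : V, ρ ⁅a, c⁆ = ρ a * ρ c - ρ c * ρ a) (a c : V) :
    derL ρ hρ ⁅a, c⁆ = ⁅derL ρ hρ a, derL ρ hρ c⁆ := by
  apply Derivation.ext
  intro f
  apply ev_ext
  intro x
  rw [Derivation.commutator_apply, map_sub, LinearMap.sub_apply, derL_ev, derL_ev, derL_ev,
    derL_ev, derL_ev, hlie, mul_sub, map_sub, mul_assoc, mul_assoc]

end DerLie

section Conv
variable {k : Type*} [Field k] {H : Type*} [Ring H] [HopfAlgebra k H] [Module.Finite k H]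
  [Coalgebra.IsCocomm k H]

theorem P2e_lTensor_one (D : Dl k H →ₗ[k] Dl k H) (v : H)
    (hD : ∀ g : Dl k H, ev (D g) 1 = ev g v) (t : Dl k H ⊗[k] Dl k H) (x : H) :
    P2e k H (LinearMap.lTensor (Dl k H) D t) (x ⊗ₜ[k] 1) = P2e k H t (x ⊗ₜ[k] v) := by
  induction t using TensorProduct.induction_on with
  | zero => simp
  | tmul f g => rw [LinearMap.lTensor_tmul, P2e_tmul_tmul, P2e_tmul_tmul, hD]
  | add a c ha hc => simp only [map_add, LinearMap.add_apply, ha, hc]

theorem ev_mul_one (f g : Dl k H) : ev (f * g) 1 = ev f 1 * ev g 1 := map_mul (ce k H) f g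

/-- a left-invariant derivation is the transpose of right multiplication by a primitive element -/
theorem exists_prim_of_leftInvariant (D : Derivation k (Dl k H) (Dl k H))
    (hD : CoalgebraStruct.comul (R := k) (A := Dl k H) ∘ₗ D.toLinearMap =
      LinearMap.lTensor (Dl k H) D.toLinearMap ∘ₗ CoalgebraStruct.comul (R := k) (A := Dl k H)) :
    ∃ v : H, IsPrim (k := k) v ∧ ∀ (f : Dl k H) (x : H), ev (D f) x = ev f (x * v) := by
  -- the element `v`
  let lam : Module.Dual k (Module.Dual k H) :=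
    (LinearMap.applyₗ (1 : H)).comp ((ev (k := k) (H := H)).toLinearMap.comp
      (D.toLinearMap.comp (ev (k := k) (H := H)).symm.toLinearMap))
  obtain ⟨v, hv⟩ := (Module.evalEquiv k H).surjective lam
  have h1 : ∀ g : Dl k H, ev (D g) 1 = ev g v := by
    intro g
    have := congrArg (fun F => F (ev g)) hv
    simp only [Module.evalEquiv_apply, Module.Dual.eval_apply] at this
    rw [this]
    change ev (D g) 1 = ev (D (ev.symm (ev g))) 1
    rw [LinearEquiv.symm_apply_apply]
  have h2 : ∀ (f : Dl k H) (x : H), ev (D f) x = ev f (x * v) := by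
    intro f x
    have h := congrArg (fun F => P2e k H (F f) (x ⊗ₜ[k] (1 : H))) hD
    change P2e k H (cmL k H (D f)) (x ⊗ₜ[k] 1) =
      P2e k H (LinearMap.lTensor (Dl k H) D.toLinearMap (cmL k H f)) (x ⊗ₜ[k] 1) at h
    rw [P2e_cmL_tmul, mul_one, P2e_lTensor_one D.toLinearMap v h1, P2e_cmL_tmul] at h
    exact h
  refine ⟨v, ?_, h2⟩
  -- primitivity
  have h3 : ∀ t : Dl k H ⊗[k] Dl k H,
      P2e k H t (CoalgebraStruct.comul (R := k) v - (v ⊗ₜ[k] 1 + 1 ⊗ₜ[k] v)) = 0 := by
    intro t
    induction t using TensorProduct.induction_on with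
    | zero => simp
    | tmul f g =>
      rw [map_sub, map_add, P2e_tmul_tmul, P2e_tmul_tmul, P2e_tmul, LinearMap.comp_apply]
      have h4 : (Algebra.TensorProduct.lmul' k (S := k)).toLinearMap
          (TensorProduct.map (ev f) (ev g) (CoalgebraStruct.comul (R := k) v)) = ev (f * g) v := by
        rw [mul_ev]; rfl
      rw [h4, ← h1, Derivation.leibniz, map_add, LinearMap.add_apply, smul_eq_mul, smul_eq_mul,
        ev_mul_one, ev_mul_one, h1, h1]
      ring
    | add a c ha hc => rw [map_add, LinearMap.add_apply, ha, hc, add_zero]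
  have h5 : CoalgebraStruct.comul (R := k) v - (v ⊗ₜ[k] 1 + 1 ⊗ₜ[k] v) = 0 := by
    rw [← Module.forall_dual_apply_eq_zero_iff k]
    intro ψ
    obtain ⟨t, rfl⟩ := (P2e k H).surjective ψ
    exact h3 t
  exact sub_eq_zero.1 h5

theorem mem_range_derL_iff {V : Type*} [AddCommGroup V] [Module k V] (ρ : V →ₗ[k] H)
    (hρ : ∀ a : V, IsPrim (k := k) (ρ a))
    (hprim : ∀ v : H, IsPrim (k := k) v → ∃ a, ρ a = v) :
    Set.range (derL ρ hρ) = {D : Derivation k (Dl k H) (Dl k H) |
      CoalgebraStruct.comul (R := k) (A := Dl k H) ∘ₗ D.toLinearMap =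
        LinearMap.lTensor (Dl k H) D.toLinearMap ∘ₗ
          CoalgebraStruct.comul (R := k) (A := Dl k H)} := by
  ext D
  constructor
  · rintro ⟨a, rfl⟩
    exact derL_leftInvariant ρ hρ a
  · intro hD
    obtain ⟨v, hv, h2⟩ := exists_prim_of_leftInvariant D hD
    obtain ⟨a, rfl⟩ := hprim v hv
    refine ⟨a, ?_⟩
    apply Derivation.ext
    intro f
    apply ev_ext
    intro x
    rw [derL_ev, h2]

end Conv

end

section Frob
variable {k : Type*} [Field k] {H : Type*} [Ring H] [HopfAlgebra k H] [Module.Finite k H]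
  [Coalgebra.IsCocomm k H] (p : ℕ) [hp : Fact p.Prime] [CharP k p]

theorem add_pow_p {R : Type*} [CommRing R] [Algebra k R] (s t : R) :
    (s + t) ^ p = s ^ p + t ^ p := by
  have hp0 : ((p : ℕ) : R) = 0 := by
    rw [← map_natCast (algebraMap k R), CharP.cast_eq_zero, map_zero]
  rw [(Commute.all s t).add_pow_prime_eq' hp.out, hp0, zero_mul, add_zero]

/-- the elements on which every `p`-th power acts through the counit -/
def FrobSet : Set H :=
  {x | ∀ f : Dl k H, ev (f ^ p) x = (ev f 1) ^ p * CoalgebraStruct.counit (R := k) x}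

theorem ev_pow_one (f : Dl k H) (n : ℕ) : ev (f ^ n) 1 = (ev f 1) ^ n := map_pow (ce k H) f n

theorem P2e_pow_of_mem {x y : H} (hx : x ∈ FrobSet (k := k) p) (hy : y ∈ FrobSet (k := k) p)
    (t : Dl k H ⊗[k] Dl k H) :
    P2e k H (t ^ p) (x ⊗ₜ[k] y) =
      (P2e k H t (1 ⊗ₜ[k] 1)) ^ p * (CoalgebraStruct.counit (R := k) x *
        CoalgebraStruct.counit (R := k) y) := by
  induction t using TensorProduct.induction_on with
  | zero =>
    rw [zero_pow hp.out.ne_zero, map_zero, LinearMap.zero_apply, LinearMap.zero_apply,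
      zero_pow hp.out.ne_zero, zero_mul]
  | tmul f g =>
    rw [Algebra.TensorProduct.tmul_pow, P2e_tmul_tmul, P2e_tmul_tmul, hx f, hy g]
    ring
  | add a c ha hc =>
    rw [add_pow_p (k := k) p a c, map_add, LinearMap.add_apply, ha, hc, map_add,
      LinearMap.add_apply, add_pow_p (k := k) p (P2e k H a (1 ⊗ₜ[k] 1)) (P2e k H c (1 ⊗ₜ[k] 1))]
    ring

theorem frobSet_mul {x y : H} (hx : x ∈ FrobSet (k := k) p) (hy : y ∈ FrobSet (k := k) p) :
    x * y ∈ FrobSet (k := k) p := by
  intro f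
  have h1 : ev (f ^ p) (x * y) = P2e k H ((cm k H f) ^ p) (x ⊗ₜ[k] y) := by
    rw [← map_pow, cm_apply, P2e_cmL_tmul]
  rw [h1, P2e_pow_of_mem p hx hy, cm_apply, P2e_cmL_tmul, mul_one, Bialgebra.counit_mul]

theorem frobSet_eq_univ {V : Type*} [AddCommGroup V] [Module k V] (ρ : V →ₗ[k] H)
    (hρ : ∀ a : V, IsPrim (k := k) (ρ a))
    (hρ0 : ∀ a : V, CoalgebraStruct.counit (R := k) (ρ a) = 0)
    (hgen : Algebra.adjoin k (Set.range ρ) = ⊤) (x : H) : x ∈ FrobSet (k := k) p := by
  let S : Subalgebra k H :=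
    { carrier := FrobSet (k := k) p
      mul_mem' := fun {a c} ha hc => frobSet_mul p ha hc
      add_mem' := fun {a c} ha hc f => by
        rw [map_add, ha f, hc f, map_add, mul_add]
      algebraMap_mem' := fun r f => by
        rw [Algebra.algebraMap_eq_smul_one, map_smul, ev_pow_one, map_smul, Bialgebra.counit_one,
          smul_eq_mul, smul_eq_mul, mul_one, mul_comm] }
  have hS : S = ⊤ := by
    rw [eq_top_iff, ← hgen]
    refine Algebra.adjoin_le ?_
    rintro _ ⟨a, rfl⟩
    intro f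
    have h1 := derL_ev ρ hρ a (f ^ p) 1
    rw [one_mul] at h1
    rw [← h1, Derivation.leibniz_pow, hρ0 a, mul_zero]
    have hp0 : ((p : ℕ) : k) = 0 := CharP.cast_eq_zero k p
    rw [← Nat.cast_smul_eq_nsmul k, hp0, zero_smul, map_zero, LinearMap.zero_apply]
  have : x ∈ S := by rw [hS]; exact Algebra.mem_top
  exact this

theorem pow_p_eq_zero {V : Type*} [AddCommGroup V] [Module k V] (ρ : V →ₗ[k] H)
    (hρ : ∀ a : V, IsPrim (k := k) (ρ a))
    (hρ0 : ∀ a : V, CoalgebraStruct.counit (R := k) (ρ a) = 0)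
    (hgen : Algebra.adjoin k (Set.range ρ) = ⊤) (f : Dl k H)
    (hf : Bialgebra.counitAlgHom k (Dl k H) f = 0) : f ^ p = 0 := by
  have hf' : ev f 1 = 0 := hf
  apply ev_ext
  intro x
  rw [frobSet_eq_univ p ρ hρ hρ0 hgen x f, hf', zero_pow hp.out.ne_zero, zero_mul, map_zero,
    LinearMap.zero_apply]

end Frob

end Groth.Agent.Lib.helper13.HopfDual
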