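import Mathlib
import Groth.Agent.Lib.Helper13.CMM1

set_option autoImplicit false
set_option linter.unusedSectionVars false
open scoped LieRing TensorProduct

namespace Groth.Agent.Lib.helper13.HopfU

open Groth.Agent.Lib.helper13.PBW Groth.Agent.Lib.helper13.CMM

attribute [local instance 100] LieRing.ofAssociativeRing

section
variable {k : Type*} {L : Type*} [CommRing k] [LieRing L] [LieAlgebra k L]

local notation "U" => UniversalEnvelopingAlgebra k L

/-- the counit of `U(L)` -/
noncomputable def counitU : U →ₐ[k] k := UniversalEnvelopingAlgebra.lift k (0 : L →ₗ⁅k⁆ k)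

theorem counitU_ι (x : L) : counitU (UniversalEnvelopingAlgebra.ι k x) = 0 := by
  rw [counitU, UniversalEnvelopingAlgebra.lift_ι_apply]; rfl

theorem coassocU : (Algebra.TensorProduct.assoc k k k U U U).toAlgHom.comp
      ((Algebra.TensorProduct.map (comulU (k := k) (L := L)) (.id k U)).comp comulU)
      = (Algebra.TensorProduct.map (.id k U) comulU).comp comulU := by
  apply UniversalEnvelopingAlgebra.hom_ext
  ext x
  simp only [LieHom.coe_comp, Function.comp_apply, AlgHom.coe_toLieHom, AlgHom.coe_comp,
    comulU_ι, map_add, Algebra.TensorProduct.map_tmul, map_one, AlgHom.coe_id, id_eq,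
    TensorProduct.add_tmul, TensorProduct.tmul_add,
    Algebra.TensorProduct.one_def]
  abel

theorem rTensorU : (Algebra.TensorProduct.map (counitU (k := k) (L := L)) (.id k U)).comp comulU
      = (Algebra.TensorProduct.lid k U).symm := by
  apply UniversalEnvelopingAlgebra.hom_ext
  refine DFunLike.ext _ _ fun x => ?_
  change (Algebra.TensorProduct.map (counitU (k := k) (L := L)) (.id k U))
    (comulU (UniversalEnvelopingAlgebra.ι k x)) =
    (Algebra.TensorProduct.lid k U).symm (UniversalEnvelopingAlgebra.ι k x)
  rw [comulU_ι, map_add, Algebra.TensorProduct.map_tmul, Algebra.TensorProduct.map_tmul,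
    counitU_ι, TensorProduct.zero_tmul, zero_add, map_one, Algebra.TensorProduct.lid_symm_apply]
  rfl

theorem lTensorU : (Algebra.TensorProduct.map (.id k U) (counitU (k := k) (L := L))).comp comulU
      = (Algebra.TensorProduct.rid k k U).symm := by
  apply UniversalEnvelopingAlgebra.hom_ext
  refine LieHom.ext fun x => ?_
  change (Algebra.TensorProduct.map (.id k U) (counitU (k := k) (L := L)))
    (comulU (UniversalEnvelopingAlgebra.ι k x)) =
    (Algebra.TensorProduct.rid k k U).symm (UniversalEnvelopingAlgebra.ι k x)
  rw [comulU_ι, map_add, Algebra.TensorProduct.map_tmul, Algebra.TensorProduct.map_tmul,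
    counitU_ι, TensorProduct.tmul_zero, add_zero, map_one, Algebra.TensorProduct.rid_symm_apply]
  rfl

noncomputable instance bialgU : Bialgebra k U :=
  Bialgebra.ofAlgHom comulU counitU coassocU rTensorU lTensorU

theorem comul_eq (u : U) : CoalgebraStruct.comul (R := k) u = comulU u := rfl
theorem counit_eq (u : U) : CoalgebraStruct.counit (R := k) u = counitU u := rfl

/-- the antipode of `U(L)` as an algebra map to the opposite algebra -/
noncomputable def antipodeOp : U →ₐ[k] Uᵐᵒᵖ :=
  UniversalEnvelopingAlgebra.lift k
    { toFun := fun x => MulOpposite.op (-(UniversalEnvelopingAlgebra.ι k x))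
      map_add' := by intro x y; simp [add_comm]
      map_smul' := by intro c x; simp
      map_lie' := by
        intro x y
        simp only [LieHom.map_lie, LieRing.of_associative_ring_bracket, ← MulOpposite.op_mul,
          ← MulOpposite.op_sub, neg_mul_neg]
        congr 1
        abel }

theorem antipodeOp_ι (x : L) :
    antipodeOp (UniversalEnvelopingAlgebra.ι k x) =
      MulOpposite.op (-(UniversalEnvelopingAlgebra.ι k x)) := by
  rw [antipodeOp, UniversalEnvelopingAlgebra.lift_ι_apply]; rfl

/-- the antipode of `U(L)` -/
noncomputable def antipodeU : U →ₗ[k] U :=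
  (MulOpposite.opLinearEquiv k).symm.toLinearMap.comp (antipodeOp (k := k) (L := L)).toLinearMap

theorem antipodeU_apply (u : U) : antipodeU u = MulOpposite.unop (antipodeOp u) := rfl

theorem antipodeU_mul (u v : U) : antipodeU (u * v) = antipodeU v * antipodeU u := by
  rw [antipodeU_apply, map_mul, MulOpposite.unop_mul]; rfl

theorem antipodeU_ι (x : L) :
    antipodeU (UniversalEnvelopingAlgebra.ι k x) = -(UniversalEnvelopingAlgebra.ι k x) := by
  rw [antipodeU_apply, antipodeOp_ι]; rfl

theorem antipodeU_one : antipodeU (1 : U) = 1 := by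
  rw [antipodeU_apply, map_one]; rfl


/-- induction principle: a submodule containing `1` and stable under left multiplication by
generators is everything -/
theorem submodule_eq_top_of_left (M : Submodule k U) (h1 : (1 : U) ∈ M)
    (hι : ∀ (x : L) (u : U), u ∈ M → UniversalEnvelopingAlgebra.ι k x * u ∈ M) : M = ⊤ := by
  let S : Subalgebra k U :=
    { carrier := {a | ∀ u ∈ M, a * u ∈ M}
      mul_mem' := fun {a c} ha hc u hu => by rw [mul_assoc]; exact ha _ (hc _ hu)
      add_mem' := fun {a c} ha hc u hu => by rw [add_mul]; exact add_mem (ha _ hu) (hc _ hu)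
      algebraMap_mem' := fun r u hu => by
        rw [← Algebra.smul_def]; exact M.smul_mem r hu }
  have hS : S = ⊤ := by
    rw [eq_top_iff, ← adjoin_range_ι]
    refine Algebra.adjoin_le ?_
    rintro _ ⟨x, rfl⟩
    exact fun u hu => hι x u hu
  rw [eq_top_iff]
  intro a _
  have : a ∈ S := by rw [hS]; exact Algebra.mem_top
  have := this 1 h1
  rwa [mul_one] at this

theorem submodule_eq_top_of_right (M : Submodule k U) (h1 : (1 : U) ∈ M)
    (hι : ∀ (x : L) (u : U), u ∈ M → u * UniversalEnvelopingAlgebra.ι k x ∈ M) : M = ⊤ := by
  let S : Subalgebra k U :=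
    { carrier := {a | ∀ u ∈ M, u * a ∈ M}
      mul_mem' := fun {a c} ha hc u hu => by rw [← mul_assoc]; exact hc _ (ha _ hu)
      add_mem' := fun {a c} ha hc u hu => by rw [mul_add]; exact add_mem (ha _ hu) (hc _ hu)
      algebraMap_mem' := fun r u hu => by
        rw [← Algebra.commutes, ← Algebra.smul_def]; exact M.smul_mem r hu }
  have hS : S = ⊤ := by
    rw [eq_top_iff, ← adjoin_range_ι]
    refine Algebra.adjoin_le ?_
    rintro _ ⟨x, rfl⟩
    exact fun u hu => hι x u hu
  rw [eq_top_iff]
  intro a _
  have : a ∈ S := by rw [hS]; exact Algebra.mem_top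
  have := this 1 h1
  rwa [one_mul] at this

theorem antipode_left_aux (x : L) (w : U ⊗[k] U) :
    LinearMap.mul' k U ((TensorProduct.map antipodeU LinearMap.id)
      ((UniversalEnvelopingAlgebra.ι k x ⊗ₜ[k] 1 + 1 ⊗ₜ[k] UniversalEnvelopingAlgebra.ι k x) * w))
      = 0 := by
  induction w using TensorProduct.induction_on with
  | zero => simp
  | tmul a c =>
    rw [add_mul, Algebra.TensorProduct.tmul_mul_tmul, Algebra.TensorProduct.tmul_mul_tmul,
      map_add, map_add, TensorProduct.map_tmul, TensorProduct.map_tmul, LinearMap.mul'_apply,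
      LinearMap.mul'_apply, one_mul, one_mul, antipodeU_mul, antipodeU_ι, LinearMap.id_apply,
      LinearMap.id_apply, mul_neg, neg_mul, mul_assoc, neg_add_cancel]
  | add a c ha hc => rw [mul_add, map_add, map_add, ha, hc, add_zero]

theorem antipode_right_aux (x : L) (w : U ⊗[k] U) :
    LinearMap.mul' k U ((TensorProduct.map LinearMap.id antipodeU)
      (w * (UniversalEnvelopingAlgebra.ι k x ⊗ₜ[k] 1 + 1 ⊗ₜ[k] UniversalEnvelopingAlgebra.ι k x)))
      = 0 := by
  induction w using TensorProduct.induction_on with
  | zero => simp
  | tmul a c =>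
    rw [mul_add, Algebra.TensorProduct.tmul_mul_tmul, Algebra.TensorProduct.tmul_mul_tmul,
      map_add, map_add, TensorProduct.map_tmul, TensorProduct.map_tmul, LinearMap.mul'_apply,
      LinearMap.mul'_apply, mul_one, mul_one, antipodeU_mul, antipodeU_ι, LinearMap.id_apply,
      LinearMap.id_apply, neg_mul, mul_neg, mul_assoc, add_neg_cancel]
  | add a c ha hc => rw [add_mul, map_add, map_add, ha, hc, add_zero]

theorem antipode_left (u : U) :
    LinearMap.mul' k U ((TensorProduct.map antipodeU LinearMap.id) (comulU u)) =
      algebraMap k U (counitU u) := by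
  have h : LinearMap.eqLocus
      ((LinearMap.mul' k U).comp ((TensorProduct.map antipodeU LinearMap.id).comp
        (comulU (k := k) (L := L)).toLinearMap))
      ((Algebra.linearMap k U).comp (counitU (k := k) (L := L)).toLinearMap) = ⊤ := by
    apply submodule_eq_top_of_left
    · rw [LinearMap.mem_eqLocus]
      simp only [LinearMap.comp_apply, AlgHom.toLinearMap_apply, map_one,
        Algebra.TensorProduct.one_def, TensorProduct.map_tmul, antipodeU_one, LinearMap.id_apply,
        LinearMap.mul'_apply, mul_one, Algebra.linearMap_apply]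
    · intro x u _
      rw [LinearMap.mem_eqLocus]
      simp only [LinearMap.comp_apply, AlgHom.toLinearMap_apply, map_mul, comulU_ι,
        antipode_left_aux, counitU_ι, zero_mul, map_zero]
  have hu : u ∈ (⊤ : Submodule k U) := Submodule.mem_top
  rw [← h, LinearMap.mem_eqLocus] at hu
  exact hu

theorem antipode_right (u : U) :
    LinearMap.mul' k U ((TensorProduct.map LinearMap.id antipodeU) (comulU u)) =
      algebraMap k U (counitU u) := by
  have h : LinearMap.eqLocus
      ((LinearMap.mul' k U).comp ((TensorProduct.map LinearMap.id antipodeU).comp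
        (comulU (k := k) (L := L)).toLinearMap))
      ((Algebra.linearMap k U).comp (counitU (k := k) (L := L)).toLinearMap) = ⊤ := by
    apply submodule_eq_top_of_right
    · rw [LinearMap.mem_eqLocus]
      simp only [LinearMap.comp_apply, AlgHom.toLinearMap_apply, map_one,
        Algebra.TensorProduct.one_def, TensorProduct.map_tmul, antipodeU_one, LinearMap.id_apply,
        LinearMap.mul'_apply, mul_one, Algebra.linearMap_apply]
    · intro x u _
      rw [LinearMap.mem_eqLocus]
      simp only [LinearMap.comp_apply, AlgHom.toLinearMap_apply, map_mul, comulU_ι,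
        antipode_right_aux, counitU_ι, mul_zero, map_zero]
  have hu : u ∈ (⊤ : Submodule k U) := Submodule.mem_top
  rw [← h, LinearMap.mem_eqLocus] at hu
  exact hu

noncomputable instance hopfU : HopfAlgebra k U :=
  HopfAlgebra.ofConvInverse antipodeU
    (by
      apply WithConv.ext
      refine LinearMap.ext fun u => ?_
      exact antipode_left u)
    (by
      apply WithConv.ext
      refine LinearMap.ext fun u => ?_
      exact antipode_right u)

theorem antipode_eq (u : U) : HopfAlgebraStruct.antipode k u = antipodeU u := rfl

instance cocommU : Coalgebra.IsCocomm k U where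
  comm_comp_comul := by
    have h : (Algebra.TensorProduct.comm k U U).toAlgHom.comp (comulU (k := k) (L := L)) = comulU := by
      apply UniversalEnvelopingAlgebra.hom_ext
      refine DFunLike.ext _ _ fun x => ?_
      change (Algebra.TensorProduct.comm k U U) (comulU (UniversalEnvelopingAlgebra.ι k x)) =
        comulU (UniversalEnvelopingAlgebra.ι k x)
      rw [comulU_ι, map_add, Algebra.TensorProduct.comm_tmul, Algebra.TensorProduct.comm_tmul,
        add_comm]
    refine LinearMap.ext fun u => ?_
    exact congrArg (fun f => f u) h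

end

end Groth.Agent.Lib.helper13.HopfU
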