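import Mathlib

/-!
# Jacobson's formula `(x₀ + x₁)^p = x₀^p + x₁^p - J_p(x₀, x₁)` in associative algebras of characteristic `p`

Ring-theoretic form: `bw` is the iterated commutator word, `jc` the coefficient `1/r`.
-/

namespace Groth.Agent.Lib.helper13.Jac

open Finset Polynomial

section AdPow
variable {B : Type*} [Ring B]

/-- iterated commutator `(ad u)^n v` in an associative ring. -/
def adn (u : B) : ℕ → B → B
  | 0, v => v
  | n + 1, v => u * adn u n v - adn u n v * u

theorem adn_eq_end (u v : B) (n : ℕ) :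
    adn u n v = ((LinearMap.mulLeft ℤ u - LinearMap.mulRight ℤ u) ^ n) v := by
  induction n with
  | zero => simp [adn]
  | succ n ih =>
    rw [pow_succ', Module.End.mul_apply, ← ih]
    simp [adn]

theorem adn_expand (u v : B) (n : ℕ) :
    adn u n v = ∑ m ∈ range (n + 1),
      (n.choose m : ℤ) • ((-1 : ℤ) ^ (n - m) • (u ^ m * v * u ^ (n - m))) := by
  rw [adn_eq_end, sub_eq_add_neg,
    ((LinearMap.commute_mulLeft_right (R := ℤ) u u).neg_right).add_pow]
  rw [LinearMap.sum_apply]
  refine Finset.sum_congr rfl fun m _ => ?_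
  rw [neg_pow, LinearMap.pow_mulLeft, LinearMap.pow_mulRight]
  have h1 : ((-1 : Module.End ℤ B) ^ (n - m)) = (((-1 : ℤ) ^ (n - m) : ℤ) : Module.End ℤ B) := by
    push_cast; rfl
  have h2 : ((n.choose m : ℕ) : Module.End ℤ B) = (((n.choose m : ℕ) : ℤ) : Module.End ℤ B) := by
    push_cast; rfl
  rw [h1, h2]
  simp only [Module.End.mul_apply, LinearMap.mulLeft_apply, LinearMap.mulRight_apply,
    Module.End.intCast_apply]
  rw [smul_mul_assoc, mul_smul_comm, mul_assoc, smul_comm, mul_smul_comm]

variable {p : ℕ} [hp : Fact p.Prime]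

theorem zsmul_congr_of_dvd (hB : (p : B) = 0) {k l : ℤ} (h : (p : ℤ) ∣ k - l) (y : B) :
    k • y = l • y := by
  obtain ⟨j, hj⟩ := h
  have : k = l + p * j := by linarith
  rw [this, add_smul, mul_smul]
  have : (p : ℤ) • (j • y) = 0 := by
    rw [natCast_zsmul, nsmul_eq_mul, hB, zero_mul]
  rw [this, add_zero]

theorem choose_pred_zmod (m : ℕ) (hm : m ≤ p - 1) :
    ((p - 1).choose m : ZMod p) = (-1) ^ m := by
  induction m with
  | zero => simp
  | succ m ih =>
    have h1 : (p - 1).choose (m + 1) + (p - 1).choose m = p.choose (m + 1) := by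
      have := Nat.succ_sub_one p
      have hp1 : p - 1 + 1 = p := Nat.sub_add_cancel hp.out.one_le
      rw [← hp1, Nat.choose_succ_succ', hp1]; ring
    have h2 : (p.choose (m + 1) : ZMod p) = 0 := by
      rw [ZMod.natCast_eq_zero_iff]
      exact hp.out.dvd_choose_self (Nat.succ_ne_zero m) (by have := hp.out.one_le; omega)
    have h3 := congrArg (Nat.cast (R := ZMod p)) h1
    rw [h2] at h3
    push_cast at h3
    rw [ih (by omega)] at h3
    rw [pow_succ]
    linear_combination h3

theorem neg_one_pow_pred_zmod : ((-1 : ZMod p)) ^ (p - 1) = 1 := by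
  have : ((-1 : ZMod p)) ≠ 0 := by simp
  exact ZMod.pow_card_sub_one_eq_one this

theorem adn_pred (hB : (p : B) = 0) (u v : B) :
    adn u (p - 1) v = ∑ m ∈ range p, u ^ m * v * u ^ (p - 1 - m) := by
  rw [adn_expand, Nat.sub_add_cancel hp.out.one_le]
  refine Finset.sum_congr rfl fun m hm => ?_
  rw [Finset.mem_range] at hm
  rw [smul_smul]
  have key : (p : ℤ) ∣ ((p - 1).choose m : ℤ) * (-1) ^ (p - 1 - m) - 1 := by
    rw [← ZMod.intCast_zmod_eq_zero_iff_dvd]
    push_cast
    rw [choose_pred_zmod m (by omega)]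
    rw [← pow_add, show m + (p - 1 - m) = p - 1 by omega, neg_one_pow_pred_zmod, sub_self]
  rw [zsmul_congr_of_dvd hB key, one_smul]

theorem adn_p (hB : (p : B) = 0) (u v : B) :
    adn u p v = u ^ p * v - v * u ^ p := by
  rw [adn_expand]
  rw [Finset.sum_eq_add_of_mem 0 p (by simp) (by simp) hp.out.pos.ne]
  · simp only [Nat.choose_zero_right, Nat.cast_one, one_smul, pow_zero, one_mul, Nat.sub_zero,
      Nat.choose_self, Nat.sub_self, mul_one]
    have key : (p : ℤ) ∣ (-1) ^ p - (-1) := by
      rw [← ZMod.intCast_zmod_eq_zero_iff_dvd]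
      push_cast
      have h1 : ((-1 : ZMod p)) ^ p = -1 := by
        have := pow_succ (-1 : ZMod p) (p - 1)
        rw [Nat.sub_add_cancel hp.out.one_le, neg_one_pow_pred_zmod, one_mul] at this
        exact this
      rw [h1]; ring
    rw [zsmul_congr_of_dvd hB key]
    simp [sub_eq_neg_add]
  · intro m hm hne
    rw [Finset.mem_range] at hm
    have hd : (p : ℤ) ∣ (p.choose m : ℤ) - 0 := by
      rw [sub_zero]
      exact_mod_cast hp.out.dvd_choose_self hne.1 (by omega)
    rw [zsmul_congr_of_dvd hB hd, zero_smul]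

end AdPow

section Poly
variable {A : Type*} [Ring A]

/-- the pair `(x₀, x₁)` as a Bool-indexed family (`false ↦ x₀`, `true ↦ x₁`). -/
def pair (x₀ x₁ : A) : Bool → A := fun b => if b then x₁ else x₀

/-- commutator bracket word. -/
def bw (x : Bool → A) (x₁ : A) : List Bool → A
  | [] => x₁
  | i :: w => x i * bw x x₁ w - bw x x₁ w * x i

theorem sum_ofFn_succ {M : Type*} [AddCommMonoid M] (n : ℕ) (F : List Bool → M) :
    ∑ t : Fin (n + 1) → Bool, F (List.ofFn t) =
      ∑ t : Fin n → Bool, F (false :: List.ofFn t) + ∑ t : Fin n → Bool, F (true :: List.ofFn t) := by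
  rw [← (Fin.consEquiv fun _ => Bool).sum_comp, Fintype.sum_prod_type, Fintype.sum_bool]
  simp only [Fin.consEquiv_apply, List.ofFn_succ, Fin.cons_zero, Fin.cons_succ]
  rw [add_comm]

theorem derivative_pow_noncomm (a : A[X]) (n : ℕ) :
    derivative (a ^ n) = ∑ j ∈ range n, a ^ j * derivative a * a ^ (n - 1 - j) := by
  induction n with
  | zero => simp
  | succ n ih =>
    rw [pow_succ, derivative_mul, ih, Finset.sum_range_succ, Finset.sum_mul]
    congr 1
    · refine Finset.sum_congr rfl fun j hj => ?_
      rw [Finset.mem_range] at hj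
      rw [mul_assoc, ← pow_succ]
      congr 2
      omega
    · simp

/-- the polynomial `x₀ + T x₁`. -/
noncomputable def lin (x₀ x₁ : A) : A[X] := monomial 0 x₀ + monomial 1 x₁

theorem adn_lin (x₀ x₁ : A) (n : ℕ) :
    adn (lin x₀ x₁) n (monomial 0 x₁) =
      ∑ t : Fin n → Bool, monomial ((List.ofFn t).count true)
        (bw (pair x₀ x₁) x₁ (List.ofFn t)) := by
  induction n with
  | zero => simp [adn, bw]
  | succ n ih =>
    rw [adn, ih, sum_ofFn_succ n (fun l => monomial (l.count true) (bw (pair x₀ x₁) x₁ l)),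
      Finset.mul_sum, Finset.sum_mul, ← Finset.sum_sub_distrib, ← Finset.sum_add_distrib]
    refine Finset.sum_congr rfl fun t _ => ?_
    simp only [lin, add_mul, mul_add, monomial_mul_monomial, bw, pair, List.count_cons]
    simp only [Bool.false_eq_true, if_false, if_true, map_sub, zero_add, add_zero, beq_self_eq_true,
      Bool.false_eq_true, beq_iff_eq]
    simp only [add_comm 1]
    abel

theorem card_eq_count {n : ℕ} (t : Fin n → Bool) (b : Bool) :
    Fintype.card {i // t i = b} = (List.ofFn t).count b := by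
  induction n with
  | zero => simp
  | succ n ih =>
    rw [Fintype.card_subtype, Fin.card_filter_univ_succ', List.ofFn_succ, List.count_cons,
      ← ih (fun i => t i.succ), Fintype.card_subtype, add_comm]
    simp

theorem count_true_add_count_false (l : List Bool) :
    l.count true + l.count false = l.length := by
  induction l with
  | nil => simp
  | cons b l ih => cases b <;> simp [List.count_cons] <;> omega

end Poly

section Main
variable {R : Type*} [CommRing R] {A : Type*} [Ring A] [Algebra R A]
variable (p : ℕ) [hp : Fact p.Prime] [CharP R p]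

/-- the Jacobson coefficient of a word. -/
noncomputable def jc (l : List Bool) : R :=
  ZMod.castHom (dvd_refl p) R ((l.count false : ZMod p)⁻¹)

omit hp in
theorem natCast_eq_zero_of_charP (R : Type*) [CommRing R] {A : Type*} [Ring A] [Algebra R A]
    (p : ℕ) [CharP R p] : (p : A) = 0 := by
  rw [← map_natCast (algebraMap R A), CharP.cast_eq_zero, map_zero]

theorem jc_of_lt (l : List Bool) (hl : l.length = p - 1) (i : ℕ) (hi : l.count true = i)
    (hlt : i < p - 1) :
    jc (R := R) p l = - ZMod.castHom (dvd_refl p) R (((i : ZMod p) + 1)⁻¹) := by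
  have h1 := count_true_add_count_false l
  have hp1 : p - 1 + 1 = p := Nat.sub_add_cancel hp.out.one_le
  have h2 : l.count false + (i + 1) = p := by omega
  have h3 : ((l.count false : ℕ) : ZMod p) = -((i : ZMod p) + 1) := by
    have := congrArg (Nat.cast (R := ZMod p)) h2
    push_cast at this
    rw [ZMod.natCast_self] at this
    linear_combination this
  rw [jc, h3, inv_neg, map_neg]

theorem jc_of_not_lt (l : List Bool) (hl : l.length = p - 1) (hlt : ¬ l.count true < p - 1) :
    jc (R := R) p l = 0 := by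
  have h1 := count_true_add_count_false l
  have h2 : l.count false = 0 := by omega
  rw [jc, h2]
  simp

theorem jacobson_lin (x₀ x₁ : A) :
    (x₀ + x₁) ^ p = x₀ ^ p + x₁ ^ p - ∑ t : Fin (p - 1) → Bool,
      jc (R := R) p (List.ofFn t) • bw (pair x₀ x₁) x₁ (List.ofFn t) := by
  have hA : (p : A) = 0 := natCast_eq_zero_of_charP R p
  have hAX : (p : A[X]) = 0 := by rw [← map_natCast (C : A →+* A[X]), hA, map_zero]
  have hp1 : p - 1 + 1 = p := Nat.sub_add_cancel hp.out.one_le
  set a := lin x₀ x₁ with ha
  set Q := a ^ p with hQ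
  have hder : derivative a = monomial 0 x₁ := by
    simp [ha, lin, derivative_monomial]
  have hQ' : derivative Q = ∑ t : Fin (p - 1) → Bool, monomial ((List.ofFn t).count true)
        (bw (pair x₀ x₁) x₁ (List.ofFn t)) := by
    rw [hQ, derivative_pow_noncomm, hder, ← adn_pred hAX, adn_lin]
  have hcoef : ∀ i, coeff Q (i + 1) * ((i : A) + 1) =
      ∑ t : Fin (p - 1) → Bool, if (List.ofFn t).count true = i then
        bw (pair x₀ x₁) x₁ (List.ofFn t) else 0 := by
    intro i
    rw [← coeff_derivative, hQ', finsetSum_coeff]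
    simp [coeff_monomial]
  have hdeg : a.natDegree ≤ 1 := by
    rw [ha, lin]
    refine (natDegree_add_le _ _).trans (max_le ?_ ?_)
    · exact (natDegree_monomial_le _).trans (Nat.zero_le _)
    · exact natDegree_monomial_le _
  have hQdeg : Q.natDegree ≤ p := by
    calc Q.natDegree ≤ p * a.natDegree := natDegree_pow_le
      _ ≤ p * 1 := Nat.mul_le_mul_left _ hdeg
      _ = p := mul_one p
  -- evaluation at 1
  let ev : A[X] →+* A := eval₂RingHom' (RingHom.id A) 1 (fun a => Commute.one_right a)
  have hev : ev a = x₀ + x₁ := by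
    simp [ev, ha, lin, eval₂_add, eval₂_monomial]
  have hevQ : ev Q = (x₀ + x₁) ^ p := by rw [hQ, map_pow, hev]
  have hsum : ev Q = ∑ i ∈ range (p + 1), coeff Q i := by
    change eval₂ (RingHom.id A) 1 Q = _
    rw [eval₂_eq_sum_range' (RingHom.id A) (Nat.lt_succ_of_le hQdeg)]
    simp
  -- coefficient 0
  let ev0 : A[X] →+* A := eval₂RingHom' (RingHom.id A) 0 (fun a => Commute.zero_right a)
  have hq0 : coeff Q 0 = x₀ ^ p := by
    have h1 : ev0 Q = coeff Q 0 := by
      change eval₂ (RingHom.id A) 0 Q = _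
      rw [eval₂_at_zero]; rfl
    have h2 : ev0 a = x₀ := by
      simp [ev0, ha, lin, eval₂_add, eval₂_monomial]
    rw [← h1, hQ, map_pow, h2]
  have hqp : coeff Q p = x₁ ^ p := by
    have := coeff_pow_of_natDegree_le (m := p) hdeg
    rw [mul_one] at this
    rw [hQ, this, ha, lin]
    simp [coeff_monomial]
  have hsplit : ∑ i ∈ range p, coeff Q i = ∑ i ∈ range (p - 1), coeff Q (i + 1) + coeff Q 0 := by
    have := Finset.sum_range_succ' (fun i => coeff Q i) (p - 1)
    rw [hp1] at this
    exact this
  have hkey : ∀ i ∈ range (p - 1), coeff Q (i + 1) =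
      - ∑ t : Fin (p - 1) → Bool, if (List.ofFn t).count true = i then
        jc (R := R) p (List.ofFn t) • bw (pair x₀ x₁) x₁ (List.ofFn t) else 0 := by
    intro i hi
    rw [Finset.mem_range] at hi
    set r : R := ZMod.castHom (dvd_refl p) R (((i : ZMod p) + 1)⁻¹) with hr
    have hne : ((i : ZMod p) + 1) ≠ 0 := by
      have : ((i + 1 : ℕ) : ZMod p) ≠ 0 := by
        rw [Ne, ZMod.natCast_eq_zero_iff]
        intro hdvd
        have := Nat.le_of_dvd (Nat.succ_pos i) hdvd
        omega
      simpa using this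
    have h1 : coeff Q (i + 1) = r • (coeff Q (i + 1) * ((i : A) + 1)) := by
      have h2 : ((i : A) + 1) = algebraMap R A (ZMod.castHom (dvd_refl p) R ((i : ZMod p) + 1)) := by
        simp
      rw [h2, ← Algebra.commutes, ← Algebra.smul_def, smul_smul, hr, ← map_mul,
        inv_mul_cancel₀ hne, map_one, one_smul]
    rw [h1, hcoef, Finset.smul_sum, ← Finset.sum_neg_distrib]
    refine Finset.sum_congr rfl fun t _ => ?_
    split_ifs with hc
    · rw [jc_of_lt (R := R) p (List.ofFn t) (by simp) i hc hi, neg_smul, neg_neg]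
    · simp
  rw [← hevQ, hsum, Finset.sum_range_succ, hqp, hsplit, hq0, Finset.sum_congr rfl hkey,
    Finset.sum_neg_distrib, Finset.sum_comm]
  have hfin : ∀ t : Fin (p - 1) → Bool,
      (∑ i ∈ range (p - 1), if (List.ofFn t).count true = i then
        jc (R := R) p (List.ofFn t) • bw (pair x₀ x₁) x₁ (List.ofFn t) else 0) =
      jc (R := R) p (List.ofFn t) • bw (pair x₀ x₁) x₁ (List.ofFn t) := by
    intro t
    rw [Finset.sum_ite_eq]
    split_ifs with h
    · rfl
    · rw [Finset.mem_range] at h
      rw [jc_of_not_lt (R := R) p (List.ofFn t) (by simp) h, zero_smul]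
  rw [Finset.sum_congr rfl (fun t _ => hfin t)]
  abel

end Main

end Groth.Agent.Lib.helper13.Jac
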