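import Mathlib
import Groth.Prelude.Def_PLie
import Groth.Agent.Lib.Helper13.Jac1
import Groth.Agent.Lib.Helper13.PBW3

/-!
# Jacobson's formula for Lie homomorphisms into associative algebras; Jacobson's basis theorem
-/

set_option autoImplicit false
set_option linter.unusedSectionVars false
open scoped LieRing

namespace Groth.Agent.Lib.helper13.Jac

open Finset

section Transfer
variable {R : Type*} [CommRing R] {L : Type*} [LieRing L] [LieAlgebra R L]
  {A : Type*} [Ring A] [Algebra R A] (f : L →ₗ[R] A)
  (hf : ∀ x y, f ⁅x, y⁆ = f x * f y - f y * f x)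
include hf

theorem map_bracketWord (x : Bool → L) (x₁ : L) (w : List Bool) :
    f (PLie.bracketWord x x₁ w) = bw (fun b => f (x b)) (f x₁) w := by
  induction w with
  | nil => rfl
  | cons i w ih => rw [PLie.bracketWord_cons, hf, ih]; rfl

theorem map_ad_pow (x y : L) (n : ℕ) :
    f ((LieAlgebra.ad R L x ^ n) y) = adn (f x) n (f y) := by
  induction n with
  | zero => rfl
  | succ n ih =>
    rw [pow_succ', Module.End.mul_apply, LieAlgebra.ad_apply, hf, ih]; rfl

variable (p : ℕ) [hp : Fact p.Prime] [CharP R p]

theorem map_jacobson (x₀ x₁ : L) :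
    f (PLie.jacobson R p x₀ x₁) = ∑ t : Fin (p - 1) → Bool,
      jc (R := R) p (List.ofFn t) • bw (pair (f x₀) (f x₁)) (f x₁) (List.ofFn t) := by
  unfold PLie.jacobson
  rw [map_sum]
  refine Finset.sum_congr rfl fun t _ => ?_
  rw [map_smul, map_bracketWord f hf]
  congr 1
  · unfold jc
    congr 3
    convert card_eq_count t false
  · congr 1
    funext b
    cases b <;> rfl

theorem add_pow_char_lie (x₀ x₁ : L) :
    (f x₀ + f x₁) ^ p = f x₀ ^ p + f x₁ ^ p - f (PLie.jacobson R p x₀ x₁) := by
  rw [map_jacobson f hf p, jacobson_lin (R := R) p]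

theorem pow_comm_eq (x y : L) :
    f x ^ p * f y - f y * f x ^ p = f ((LieAlgebra.ad R L x ^ p) y) := by
  rw [map_ad_pow f hf, adn_p (natCast_eq_zero_of_charP R p)]

end Transfer

section Basis
attribute [local instance 100] LieRing.ofAssociativeRing

variable {R : Type*} [CommRing R] {L : Type*} [LieRing L] [LieAlgebra R L]
  {ι : Type*} [LinearOrder ι] (b : Module.Basis ι R L)

local notation "U" => UniversalEnvelopingAlgebra R L

/-- the canonical map `L → U(L)` as a linear map -/
noncomputable def iU : L →ₗ[R] U := (UniversalEnvelopingAlgebra.ι R : L →ₗ⁅R⁆ U).toLinearMap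

theorem iU_lie (x y : L) : iU (R := R) ⁅x, y⁆ = iU x * iU y - iU y * iU x := by
  change UniversalEnvelopingAlgebra.ι R ⁅x, y⁆ = _
  rw [LieHom.map_lie]
  rfl

include b in
theorem iU_injective : Function.Injective (iU (R := R) (L := L)) := by
  have hli := PBW.mon_linearIndependent b
  have hs : ∀ i : ι, PBW.Srt [i] := fun i => List.pairwise_singleton _ _
  have h2 := hli.comp (fun i : ι => (⟨[i], hs i⟩ : {l : List ι // PBW.Srt l}))
    (fun i j h => by simpa using congrArg Subtype.val h)
  have h3 : LinearIndependent R (fun i => iU (R := R) (b i)) := by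
    convert h2 using 1
    funext i
    simp [PBW.mon, iU]
  rw [← LinearMap.ker_eq_bot, LinearMap.ker_eq_bot']
  intro x hx
  have hx' : Finsupp.linearCombination R (fun i => iU (R := R) (b i)) (b.repr x) = 0 := by
    rw [← hx]
    conv_rhs => rw [← b.linearCombination_repr x]
    rw [Finsupp.linearCombination_apply, Finsupp.linearCombination_apply, map_finsuppSum]
    simp
  have := linearIndependent_iff.1 h3 _ hx'
  rw [← b.repr.map_eq_zero_iff]
  exact this

end Basis

end Groth.Agent.Lib.helper13.Jac
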