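import Mathlib
import Groth.Prelude.Def_PLie
import Groth.Agent.Lib.Helper13.Jac2

set_option autoImplicit false
set_option linter.unusedSectionVars false
open scoped LieRing

namespace Groth.Agent.Lib.helper13.Jac

open Finset

section Constr
attribute [local instance 100] LieRing.ofAssociativeRing

variable {R : Type*} [CommRing R] {L : Type*} [LieRing L] [LieAlgebra R L]
  {ι : Type*} [LinearOrder ι] (b : Module.Basis ι R L)
  (p : ℕ) [hp : Fact p.Prime] [CharP R p] (y : ι → L)
  (hy : ∀ i : ι, LieAlgebra.ad R L (b i) ^ p = LieAlgebra.ad R L (y i))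

local notation "U" => UniversalEnvelopingAlgebra R L

/-- the central elements `b_i^p - y_i` -/
noncomputable def zc (i : ι) : U := iU (R := R) (b i) ^ p - iU (R := R) (y i)

include hy in
theorem zc_comm (i : ι) (w : L) : zc b p y i * iU (R := R) w = iU (R := R) w * zc b p y i := by
  have h1 := pow_comm_eq (iU (R := R) (L := L)) iU_lie p (b i) w
  rw [hy i, LieAlgebra.ad_apply, iU_lie] at h1
  unfold zc
  rw [sub_mul, mul_sub]
  exact sub_eq_sub_iff_sub_eq_sub.mpr h1

/-- the `p`-semilinear map `x ↦ ∑ c_i^p z_i`. -/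
noncomputable def fz (x : L) : U := (b.repr x).sum fun i c => c ^ p • zc b p y i

theorem fz_add (x₀ x₁ : L) : fz b p y (x₀ + x₁) = fz b p y x₀ + fz b p y x₁ := by
  unfold fz
  rw [map_add, Finsupp.sum_add_index']
  · intro i; rw [zero_pow hp.out.ne_zero, zero_smul]
  · intro i c d; rw [add_pow_char, add_smul]

theorem fz_smul (c : R) (x : L) : fz b p y (c • x) = c ^ p • fz b p y x := by
  unfold fz
  rw [map_smul, Finsupp.sum_smul_index', Finsupp.smul_sum]
  · refine Finsupp.sum_congr fun i _ => ?_
    rw [smul_eq_mul, mul_pow, mul_smul]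
  · intro i; rw [zero_pow hp.out.ne_zero, zero_smul]

theorem fz_basis (i : ι) : fz b p y (b i) = zc b p y i := by
  unfold fz
  rw [b.repr_self, Finsupp.sum_single_index]
  · rw [one_pow, one_smul]
  · rw [zero_pow hp.out.ne_zero, zero_smul]

include hy in
theorem fz_comm (x w : L) : fz b p y x * iU (R := R) w = iU (R := R) w * fz b p y x := by
  unfold fz Finsupp.sum
  rw [Finset.sum_mul, Finset.mul_sum]
  refine Finset.sum_congr rfl fun i _ => ?_
  rw [smul_mul_assoc, mul_smul_comm, zc_comm b p y hy]

include hy in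
theorem exists_pmap_val (x : L) : ∃ w : L, iU (R := R) w = iU (R := R) x ^ p - fz b p y x := by
  have hx : x ∈ Submodule.span R (Set.range b) := by rw [b.span_eq]; trivial
  induction hx using Submodule.span_induction with
  | mem x hx =>
    obtain ⟨i, rfl⟩ := hx
    exact ⟨y i, by rw [fz_basis]; unfold zc; abel⟩
  | zero =>
    refine ⟨0, ?_⟩
    have : fz b p y (0 : L) = 0 := by
      have := fz_smul b p y (0 : R) (0 : L)
      rwa [zero_smul, zero_pow hp.out.ne_zero, zero_smul] at this
    rw [this, map_zero, zero_pow hp.out.ne_zero, sub_zero]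
  | add x₀ x₁ _ _ h₀ h₁ =>
    obtain ⟨w₀, hw₀⟩ := h₀
    obtain ⟨w₁, hw₁⟩ := h₁
    refine ⟨w₀ + w₁ - PLie.jacobson R p x₀ x₁, ?_⟩
    rw [map_sub, map_add, hw₀, hw₁, map_add, add_pow_char_lie (iU (R := R) (L := L)) iU_lie p,
      fz_add]
    abel
  | smul c x _ h =>
    obtain ⟨w, hw⟩ := h
    refine ⟨c ^ p • w, ?_⟩
    rw [map_smul, hw, map_smul, smul_pow, fz_smul, smul_sub]

/-- the value of the `p`-map. -/
noncomputable def pval (x : L) : L := (exists_pmap_val b p y hy x).choose

theorem iU_pval (x : L) :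
    iU (R := R) (pval b p y hy x) = iU (R := R) x ^ p - fz b p y x :=
  (exists_pmap_val b p y hy x).choose_spec

/-- Jacobson's `p`-map with prescribed values on a basis. -/
noncomputable def pmapOfBasis : PLie.PMap R p L where
  toFun := pval b p y hy
  map_smul c x := by
    apply iU_injective b
    rw [iU_pval, map_smul, map_smul, iU_pval, smul_pow, fz_smul, smul_sub]
  ad_map x := by
    refine LinearMap.ext fun w => ?_
    apply iU_injective b
    rw [LieAlgebra.ad_apply, iU_lie, iU_pval, ← pow_comm_eq (iU (R := R) (L := L)) iU_lie p x w,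
      sub_mul, mul_sub, fz_comm b p y hy]
    abel
  map_add x₀ x₁ := by
    apply iU_injective b
    rw [iU_pval, map_sub, map_add, map_add, iU_pval, iU_pval,
      add_pow_char_lie (iU (R := R) (L := L)) iU_lie p, fz_add]
    abel

theorem pmapOfBasis_basis (i : ι) : pmapOfBasis b p y hy (b i) = y i := by
  apply iU_injective b
  change iU (R := R) (pval b p y hy (b i)) = _
  rw [iU_pval, fz_basis]
  unfold zc
  abel

omit [LinearOrder ι] in
theorem pmap_ext_basis (φ ψ : PLie.PMap R p L) (h : ∀ i, φ (b i) = ψ (b i)) : φ = ψ := by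
  have key : ∀ x, φ x = ψ x := by
    intro x
    have hx : x ∈ Submodule.span R (Set.range b) := by rw [b.span_eq]; trivial
    induction hx using Submodule.span_induction with
    | mem x hx => obtain ⟨i, rfl⟩ := hx; exact h i
    | zero =>
      have h1 := φ.map_smul 0 0
      have h2 := ψ.map_smul 0 0
      rw [zero_smul, zero_pow hp.out.ne_zero, zero_smul] at h1 h2
      exact h1.trans h2.symm
    | add x₀ x₁ _ _ h₀ h₁ =>
      have h1 := φ.map_add x₀ x₁
      have h2 := ψ.map_add x₀ x₁
      change φ (x₀ + x₁) = _ at h1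
      change ψ (x₀ + x₁) = _ at h2
      rw [h1, h2]
      change φ x₀ + φ x₁ - _ = ψ x₀ + ψ x₁ - _
      rw [h₀, h₁]
    | smul c x _ h =>
      have h1 := φ.map_smul c x
      have h2 := ψ.map_smul c x
      change φ (c • x) = c ^ p • φ x at h1
      change ψ (c • x) = c ^ p • ψ x at h2
      rw [h1, h2, h]
  cases φ; cases ψ
  congr
  funext x
  exact key x

end Constr

section Final
variable {R : Type*} [CommRing R] {L : Type*} [LieRing L] [LieAlgebra R L]
  {ι : Type*} (b : Module.Basis ι R L)
  (p : ℕ) [hp : Fact p.Prime] [CharP R p] (y : ι → L)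
  (hy : ∀ i : ι, LieAlgebra.ad R L (b i) ^ p = LieAlgebra.ad R L (y i))

include hy in
/-- Jacobson's basis theorem. -/
theorem existsUnique_pmap_basis : ∃! φ : PLie.PMap R p L, ∀ i : ι, φ (b i) = y i := by
  obtain ⟨_, _⟩ := exists_wellFoundedLT ι
  refine ⟨pmapOfBasis b p y hy, pmapOfBasis_basis b p y hy, fun ψ hψ => ?_⟩
  exact pmap_ext_basis b p ψ _ fun i => (hψ i).trans (pmapOfBasis_basis b p y hy i).symm

end Final

end Groth.Agent.Lib.helper13.Jac
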