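import Mathlib
import Groth.Agent.Lib.Helper13.Jac3

set_option autoImplicit false
set_option linter.unusedSectionVars false
open scoped LieRing

namespace Groth.Agent.Lib.helper13.RPBW

open Finset PBW Jac

section Tri
variable {k : Type*} [CommRing k] {V : Type*} [AddCommGroup V] [Module k V]

/-- a filtered-unitriangular endomorphism is bijective -/
theorem bijective_of_unitriangular (G : ℕ → Submodule k V) (h0 : G 0 = ⊥)
    (hex : ∀ v : V, ∃ n, v ∈ G n) (T : V →ₗ[k] V)
    (hT : ∀ n, ∀ v ∈ G (n + 1), T v - v ∈ G n) : Function.Bijective T := by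
  constructor
  · rw [← LinearMap.ker_eq_bot, LinearMap.ker_eq_bot']
    have key : ∀ n, ∀ u ∈ G n, T u = 0 → u = 0 := by
      intro n
      induction n with
      | zero => intro u hu _; rw [h0] at hu; exact (Submodule.mem_bot k).1 hu
      | succ n ih =>
        intro u hu hTu
        have h1 := hT n u hu
        rw [hTu, zero_sub] at h1
        exact ih u (by simpa using (G n).neg_mem h1) hTu
    intro u hu
    obtain ⟨n, hn⟩ := hex u
    exact key n u hn hu
  · have key : ∀ n, ∀ v ∈ G n, v ∈ LinearMap.range T := by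
      intro n
      induction n with
      | zero => intro v hv; rw [h0] at hv; rw [(Submodule.mem_bot k).1 hv]; exact zero_mem _
      | succ n ih =>
        intro v hv
        have h1 := ih _ (hT n v hv)
        have h2 : T v ∈ LinearMap.range T := ⟨v, rfl⟩
        have := sub_mem h2 h1
        rwa [sub_sub_cancel] at this
    intro v
    obtain ⟨n, hn⟩ := hex v
    exact key n v hn

end Tri

section Reindex
variable {ι : Type*} [LinearOrder ι]

/-- the sorted list of a multiplicity function -/
noncomputable def sl (m : ι →₀ ℕ) : List ι := (Finsupp.toMultiset m).sort (· ≤ ·)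

theorem srt_sl (m : ι →₀ ℕ) : Srt (sl m) := Multiset.pairwise_sort _ _

theorem coe_sl (m : ι →₀ ℕ) : ((sl m : List ι) : Multiset ι) = Finsupp.toMultiset m :=
  Multiset.sort_eq _ _

theorem length_sl (m : ι →₀ ℕ) : (sl m).length = m.sum fun _ n => n := by
  rw [sl, Multiset.length_sort, Finsupp.card_toMultiset]; rfl

theorem count_sl (m : ι →₀ ℕ) (i : ι) : (sl m).count i = m i := by
  rw [← Multiset.coe_count, coe_sl, Finsupp.count_toMultiset]

/-- sorted lists are the same as multiplicity functions -/
noncomputable def slEquiv : (ι →₀ ℕ) ≃ {l : List ι // Srt l} where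
  toFun m := ⟨sl m, srt_sl m⟩
  invFun l := Multiset.toFinsupp (l.1 : Multiset ι)
  left_inv m := by
    change Multiset.toFinsupp ((sl m : List ι) : Multiset ι) = m
    rw [coe_sl, Finsupp.toMultiset_toFinsupp]
  right_inv l := by
    apply Subtype.ext
    change sl (Multiset.toFinsupp (l.1 : Multiset ι)) = l.1
    have hp : (sl (Multiset.toFinsupp (l.1 : Multiset ι))).Perm l.1 := by
      rw [← Multiset.coe_eq_coe, coe_sl, Multiset.toFinsupp_toMultiset]
    exact List.Perm.eq_of_pairwise' (r := (· ≤ ·)) (srt_sl _) l.2 hp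

theorem sl_single (i : ι) : sl (Finsupp.single i 1) = [i] := by
  rw [sl, Finsupp.toMultiset_single, one_smul, Multiset.sort_singleton]

theorem sl_zero : sl (0 : ι →₀ ℕ) = [] := by
  rw [sl, map_zero, Multiset.sort_zero]

end Reindex

section Filt
variable {k : Type*} {L : Type*} {ι : Type*} [CommRing k] [LieRing L] [LieAlgebra k L]
  [LinearOrder ι] (b : Module.Basis ι k L)

local notation "U" => UniversalEnvelopingAlgebra k L

theorem F_mul {n m : ℕ} {u v : U} (hu : u ∈ F b (n + 1)) (hv : v ∈ F b (m + 1)) :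
    u * v ∈ F b (n + m + 1) := by
  unfold F at hu
  induction hu using Submodule.span_induction with
  | mem u hu =>
    obtain ⟨l₁, hl₁, rfl⟩ := hu
    unfold F at hv
    induction hv using Submodule.span_induction with
    | mem v hv =>
      obtain ⟨l₂, hl₂, rfl⟩ := hv
      rw [← mon_append]
      refine mon_mem_F b ?_
      rw [List.length_append]
      simp only [Set.mem_setOf_eq] at hl₁ hl₂
      omega
    | zero => rw [mul_zero]; exact zero_mem _
    | add x y _ _ hx hy => rw [mul_add]; exact add_mem hx hy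
    | smul c x _ hx => rw [mul_smul_comm]; exact Submodule.smul_mem _ c hx
  | zero => rw [zero_mul]; exact zero_mem _
  | add x y _ _ hx hy => rw [add_mul]; exact add_mem hx hy
  | smul c x _ hx => rw [smul_mul_assoc]; exact Submodule.smul_mem _ c hx

theorem F_zero : F b 0 = ⊥ := by
  unfold F
  rw [Submodule.span_eq_bot]
  rintro _ ⟨l, hl, rfl⟩
  exact absurd hl (Nat.not_lt_zero _)

theorem exists_mem_F (u : U) : ∃ n, u ∈ F b n := by
  have hu : u ∈ Submodule.span k (Set.range (mon b)) := by rw [span_mon_eq_top]; trivial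
  induction hu using Submodule.span_induction with
  | mem u hu => obtain ⟨l, rfl⟩ := hu; exact ⟨l.length + 1, mon_mem_F b (Nat.lt_succ_self _)⟩
  | zero => exact ⟨0, zero_mem _⟩
  | add x y _ _ hx hy =>
    obtain ⟨n, hn⟩ := hx
    obtain ⟨m, hm⟩ := hy
    exact ⟨max n m, add_mem (F_mono b (le_max_left _ _) hn) (F_mono b (le_max_right _ _) hm)⟩
  | smul c x _ hx => obtain ⟨n, hn⟩ := hx; exact ⟨n, Submodule.smul_mem _ c hn⟩

/-- the PBW basis reindexed by multiplicity functions -/
noncomputable def B₀ : Module.Basis (ι →₀ ℕ) k U := (pbwBasis b).reindex slEquiv.symm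

theorem B₀_apply (m : ι →₀ ℕ) : B₀ b m = mon b (sl m) := by
  rw [B₀, Module.Basis.reindex_apply, pbwBasis_apply]
  rfl

/-- total degree of a multiplicity function -/
noncomputable def tdeg (m : ι →₀ ℕ) : ℕ := m.sum fun _ n => n

/-- sorted span with length control -/
noncomputable def G (n : ℕ) : Submodule k U :=
  Submodule.span k (B₀ b '' {m | tdeg m < n})

theorem G_mono {m n : ℕ} (h : m ≤ n) : G b m ≤ G b n :=
  Submodule.span_mono (Set.image_mono fun _ hl => lt_of_lt_of_le hl h)

theorem G_zero : G b 0 = ⊥ := by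
  unfold G
  rw [Submodule.span_eq_bot]
  rintro _ ⟨l, hl, rfl⟩
  exact absurd hl (Nat.not_lt_zero _)

theorem B₀_mem_G {m : ι →₀ ℕ} {n : ℕ} (h : tdeg m < n) : B₀ b m ∈ G b n :=
  Submodule.subset_span ⟨m, h, rfl⟩

theorem F_le_G (n : ℕ) : F b n ≤ G b n := by
  induction n with
  | zero => rw [F_zero]; exact bot_le
  | succ n ih =>
    refine Submodule.span_le.2 ?_
    rintro _ ⟨l, hl, rfl⟩
    have hp : (l.insertionSort (· ≤ ·)).Perm l := List.perm_insertionSort _ l
    have hs : Srt (l.insertionSort (· ≤ ·)) := List.pairwise_insertionSort _ l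
    have h1 := perm_sub_mem b hp.symm
    have h2 : mon b l - mon b (l.insertionSort (· ≤ ·)) ∈ G b (n + 1) :=
      G_mono b (Nat.le_succ n) (ih (F_mono b (Nat.lt_succ_iff.1 hl) h1))
    have h3 : mon b (l.insertionSort (· ≤ ·)) ∈ G b (n + 1) := by
      set m := slEquiv.symm ⟨_, hs⟩ with hm
      have hm' : sl m = l.insertionSort (· ≤ ·) :=
        congrArg Subtype.val (slEquiv.apply_symm_apply ⟨_, hs⟩)
      rw [← hm', ← B₀_apply]
      refine B₀_mem_G b ?_
      rw [tdeg, ← length_sl, hm', hp.length_eq]
      exact hl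
    have := add_mem h2 h3
    rwa [sub_add_cancel] at this

theorem exists_mem_G (u : U) : ∃ n, u ∈ G b n := by
  obtain ⟨n, hn⟩ := exists_mem_F b u
  exact ⟨n, F_le_G b n hn⟩

end Filt

end Groth.Agent.Lib.helper13.RPBW
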