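import Mathlib
import Groth.Agent.Lib.Helper13.RPBW1

set_option autoImplicit false
set_option linter.unusedSectionVars false
open scoped LieRing

namespace Groth.Agent.Lib.helper13.RPBW

open Finset PBW Jac

section Central
attribute [local instance 100] LieRing.ofAssociativeRing

variable {k : Type*} {L : Type*} {ι : Type*} [CommRing k] [LieRing L] [LieAlgebra k L]
  [LinearOrder ι] (b : Module.Basis ι k L)
  (p : ℕ) [hp : Fact p.Prime] [CharP k p] (y : ι → L)
  (hy : ∀ i : ι, LieAlgebra.ad k L (b i) ^ p = LieAlgebra.ad k L (y i))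

local notation "U" => UniversalEnvelopingAlgebra k L

include hy in
theorem zc_central (i : ι) (u : U) : zc b p y i * u = u * zc b p y i := by
  have hu : u ∈ Algebra.adjoin k (Set.range (UniversalEnvelopingAlgebra.ι k : L → U)) := by
    rw [adjoin_range_ι]; trivial
  induction hu using Algebra.adjoin_induction with
  | mem u hu => obtain ⟨w, rfl⟩ := hu; exact zc_comm b p y hy i w
  | algebraMap r => exact (Algebra.commutes r _).symm
  | add u v _ _ hu hv => rw [mul_add, add_mul, hu, hv]
  | mul u v _ _ hu hv => rw [← mul_assoc, hu, mul_assoc, hv, mul_assoc]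

/-- `z_i` as an element of the centre -/
noncomputable def zC (i : ι) : Subalgebra.center k U :=
  ⟨zc b p y i, Subalgebra.mem_center_iff.2 fun u => (zc_central b p y hy i u).symm⟩

/-- the central monomial `∏ z_i^{a_i}` -/
noncomputable def Z (a : ι →₀ ℕ) : U :=
  ((a.prod fun i n => zC b p y hy i ^ n : Subalgebra.center k U) : U)

theorem Z_zero : Z b p y hy 0 = 1 := by
  unfold Z
  rw [Finsupp.prod_zero_index]
  rfl

theorem Z_add (a a' : ι →₀ ℕ) : Z b p y hy (a + a') = Z b p y hy a * Z b p y hy a' := by
  unfold Z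
  rw [Finsupp.prod_add_index' (fun _ => pow_zero _) (fun _ _ _ => pow_add _ _ _)]
  rfl

theorem Z_single (i : ι) (n : ℕ) : Z b p y hy (Finsupp.single i n) = zc b p y i ^ n := by
  unfold Z
  rw [Finsupp.prod_single_index (h := fun i n => zC b p y hy i ^ n) (pow_zero _)]
  rfl

theorem Z_central (a : ι →₀ ℕ) (u : U) : Z b p y hy a * u = u * Z b p y hy a :=
  (Subalgebra.mem_center_iff.1 (a.prod fun i n => zC b p y hy i ^ n).2 u).symm

/-- `u` has leading monomial `mon l` -/
def Lead (u : U) (l : List ι) : Prop := u - mon b l ∈ F b l.length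

theorem F_mul_left {n m : ℕ} {u v : U} (hu : u ∈ F b n) (hv : v ∈ F b (m + 1)) :
    u * v ∈ F b (n + m) := by
  cases n with
  | zero =>
    rw [F_zero] at hu
    rw [(Submodule.mem_bot k).1 hu, zero_mul]; exact zero_mem _
  | succ n =>
    have := F_mul b hu hv
    rwa [show n + m + 1 = n + 1 + m by omega] at this

theorem F_mul_right {n m : ℕ} {u v : U} (hu : u ∈ F b (n + 1)) (hv : v ∈ F b m) :
    u * v ∈ F b (n + m) := by
  cases m with
  | zero =>
    rw [F_zero] at hv
    rw [(Submodule.mem_bot k).1 hv, mul_zero]; exact zero_mem _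
  | succ m => exact F_mul b hu hv

theorem Lead.mem {u : U} {l : List ι} (h : Lead b u l) : u ∈ F b (l.length + 1) := by
  have h1 : mon b l ∈ F b (l.length + 1) := mon_mem_F b (Nat.lt_succ_self _)
  have h2 := add_mem (F_mono b (Nat.le_succ _) h) h1
  rwa [sub_add_cancel] at h2

theorem Lead.mul {u v : U} {l m : List ι} (hu : Lead b u l) (hv : Lead b v m) :
    Lead b (u * v) (l ++ m) := by
  unfold Lead
  have e : u * v - mon b (l ++ m) = (u - mon b l) * v + mon b l * (v - mon b m) := by
    rw [mon_append]; noncomm_ring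
  rw [e, List.length_append]
  exact add_mem (F_mul_left b hu hv.mem) (F_mul_right b (mon_mem_F b (Nat.lt_succ_self _)) hv)

theorem Lead.refl (l : List ι) : Lead b (mon b l) l := by
  unfold Lead; rw [sub_self]; exact zero_mem _

theorem mon_replicate (i : ι) (n : ℕ) :
    mon b (List.replicate n i) = iU (R := k) (b i) ^ n := by
  induction n with
  | zero => rw [List.replicate_zero, mon_nil, pow_zero]
  | succ n ih => rw [List.replicate_succ, mon_cons, ih, pow_succ']; rfl

theorem iU_mem_F (x : L) : iU (R := k) x ∈ F b 2 := by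
  have h1 : (1 : U) ∈ F b 1 := by
    have := mon_mem_F b (l := []) (n := 1) (by simp)
    rwa [mon_nil] at this
  have := ι_mul_mem_F b x h1
  rwa [mul_one] at this

theorem Lead_zc (i : ι) : Lead b (zc b p y i) (List.replicate p i) := by
  unfold Lead
  rw [mon_replicate, List.length_replicate]
  unfold zc
  rw [sub_sub_cancel_left]
  exact F_mono b hp.out.two_le ((F b 2).neg_mem (iU_mem_F b (y i)))

theorem Lead_zc_pow (i : ι) (n : ℕ) : Lead b (zc b p y i ^ n) (List.replicate (p * n) i) := by
  induction n with
  | zero =>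
    rw [pow_zero, mul_zero, List.replicate_zero]
    have := Lead.refl b ([] : List ι)
    rwa [mon_nil] at this
  | succ n ih =>
    rw [pow_succ', Nat.mul_succ, Nat.add_comm, List.replicate_add]
    exact (Lead_zc b p y i).mul b ih

theorem Lead_Z (a : ι →₀ ℕ) :
    ∃ l : List ι, (∀ j, l.count j = p * a j) ∧ Lead b (Z b p y hy a) l := by
  induction a using Finsupp.induction with
  | zero =>
    refine ⟨[], fun j => by simp, ?_⟩
    rw [Z_zero]
    have := Lead.refl b ([] : List ι)
    rwa [mon_nil] at this
  | single_add i n a' hi hn ih =>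
    obtain ⟨l', hl', hL⟩ := ih
    refine ⟨List.replicate (p * n) i ++ l', fun j => ?_, ?_⟩
    · rw [List.count_append, hl', List.count_replicate, Finsupp.add_apply, Finsupp.single_apply,
        mul_add]
      by_cases h : i = j
      · subst h; simp
      · simp [h]
    · rw [Z_add, Z_single]
      exact (Lead_zc_pow b p y i n).mul b hL

/-- the new basis vectors -/
noncomputable def w (m : ι →₀ ℕ) : U :=
  Z b p y hy (m.mapRange (· / p) (Nat.zero_div p)) * mon b (sl (m.mapRange (· % p) (Nat.zero_mod p)))

theorem w_sub_mem (m : ι →₀ ℕ) : w b p y hy m - mon b (sl m) ∈ F b (tdeg m) := by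
  obtain ⟨l, hl, hL⟩ := Lead_Z b p y hy (m.mapRange (· / p) (Nat.zero_div p))
  have h1 := hL.mul b (Lead.refl b (sl (m.mapRange (· % p) (Nat.zero_mod p))))
  have hperm : (l ++ sl (m.mapRange (· % p) (Nat.zero_mod p))).Perm (sl m) := by
    rw [List.perm_iff_count]
    intro j
    rw [List.count_append, hl, count_sl, count_sl, Finsupp.mapRange_apply, Finsupp.mapRange_apply]
    exact Nat.div_add_mod (m j) p
  have h2 := perm_sub_mem b hperm
  have hlen : (l ++ sl (m.mapRange (· % p) (Nat.zero_mod p))).length = tdeg m := by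
    rw [hperm.length_eq, length_sl]; rfl
  unfold Lead at h1
  rw [hlen] at h1 h2
  have := add_mem h1 h2
  rwa [sub_add_sub_cancel] at this

/-- the unitriangular change of basis -/
noncomputable def T : U →ₗ[k] U := (B₀ b).constr k (w b p y hy)

theorem T_B₀ (m : ι →₀ ℕ) : T b p y hy (B₀ b m) = w b p y hy m := by
  rw [T, Module.Basis.constr_basis]

theorem T_sub_mem (n : ℕ) (v : U) (hv : v ∈ G b (n + 1)) : T b p y hy v - v ∈ G b n := by
  unfold G at hv
  induction hv using Submodule.span_induction with
  | mem v hv =>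
    obtain ⟨m, hm, rfl⟩ := hv
    rw [T_B₀, B₀_apply]
    have hm' : tdeg m ≤ n := Nat.lt_succ_iff.1 hm
    exact G_mono b hm' (F_le_G b _ (w_sub_mem b p y hy m))
  | zero => rw [map_zero, sub_zero]; exact zero_mem _
  | add x z _ _ hx hz =>
    rw [map_add, add_sub_add_comm]; exact add_mem hx hz
  | smul c x _ hx =>
    rw [map_smul, ← smul_sub]; exact Submodule.smul_mem _ c hx

theorem T_bijective : Function.Bijective (T b p y hy) :=
  bijective_of_unitriangular (G b) (G_zero b) (exists_mem_G b) (T b p y hy) (T_sub_mem b p y hy)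

/-- the restricted PBW basis of `U(L)` over the central subalgebra: `Z(m / p) * mon (m % p)` -/
noncomputable def B' : Module.Basis (ι →₀ ℕ) k U :=
  (B₀ b).map (LinearEquiv.ofBijective (T b p y hy) (T_bijective b p y hy))

theorem B'_apply (m : ι →₀ ℕ) : B' b p y hy m = w b p y hy m := by
  rw [B', Module.Basis.map_apply, LinearEquiv.ofBijective_apply, T_B₀]

end Central

end Groth.Agent.Lib.helper13.RPBW
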