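import Mathlib
import Groth.Agent.Lib.Helper13.RPBW2

set_option autoImplicit false
set_option linter.unusedSectionVars false
open scoped LieRing

namespace Groth.Agent.Lib.helper13.RPBW

open Finset PBW Jac

section Quot
attribute [local instance 100] LieRing.ofAssociativeRing

variable {k : Type*} {L : Type*} {ι : Type*} [CommRing k] [LieRing L] [LieAlgebra k L]
  [LinearOrder ι] (b : Module.Basis ι k L)
  (p : ℕ) [hp : Fact p.Prime] [CharP k p] (y : ι → L)
  (hy : ∀ i : ι, LieAlgebra.ad k L (b i) ^ p = LieAlgebra.ad k L (y i))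

local notation "U" => UniversalEnvelopingAlgebra k L

/-- the left ideal generated by the central elements `z_i` -/
noncomputable def Ires : Ideal U := Ideal.span (Set.range (zc b p y))

/-- multiplicity functions with some entry `≥ p` -/
def Big (m : ι →₀ ℕ) : Prop := ∃ i, p ≤ m i

/-- the span of the basis vectors with non-restricted index -/
noncomputable def Wp : Submodule k U := Submodule.span k (B' b p y hy '' {m | Big p m})

theorem zc_mul_B' (i : ι) (m : ι →₀ ℕ) :
    zc b p y i * B' b p y hy m = B' b p y hy (m + Finsupp.single i p) := by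
  rw [B'_apply, B'_apply, w, w]
  have h1 : (m + Finsupp.single i p).mapRange (· / p) (Nat.zero_div p) =
      m.mapRange (· / p) (Nat.zero_div p) + Finsupp.single i 1 := by
    ext j
    simp only [Finsupp.mapRange_apply, Finsupp.add_apply, Finsupp.single_apply]
    by_cases h : i = j
    · simp [h, Nat.add_div_right _ hp.out.pos]
    · simp [h]
  have h2 : (m + Finsupp.single i p).mapRange (· % p) (Nat.zero_mod p) =
      m.mapRange (· % p) (Nat.zero_mod p) := by
    ext j
    simp only [Finsupp.mapRange_apply, Finsupp.add_apply, Finsupp.single_apply]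
    by_cases h : i = j
    · simp [h]
    · simp [h]
  rw [h1, h2, Z_add, Z_single, pow_one, Z_central b p y hy _ (zc b p y i), mul_assoc]

theorem B'_zero : B' b p y hy 0 = 1 := by
  rw [B'_apply, w]
  simp only [Finsupp.mapRange_zero]
  rw [Z_zero, sl_zero, mon_nil, mul_one]

theorem zc_mul_mem_Wp (i : ι) (v : U) : zc b p y i * v ∈ Wp b p y hy := by
  rw [← (B' b p y hy).linearCombination_repr v, Finsupp.linearCombination_apply, Finsupp.sum,
    Finset.mul_sum]
  refine Submodule.sum_mem _ fun m _ => ?_
  rw [mul_smul_comm, zc_mul_B']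
  refine Submodule.smul_mem _ _ (Submodule.subset_span ⟨_, ⟨i, ?_⟩, rfl⟩)
  simp

theorem B'_big_eq {m : ι →₀ ℕ} {i : ι} (hi : p ≤ m i) :
    B' b p y hy m = zc b p y i * B' b p y hy (m - Finsupp.single i p) := by
  rw [zc_mul_B']
  congr 1
  ext j
  simp only [Finsupp.add_apply, Finsupp.tsub_apply, Finsupp.single_apply]
  by_cases h : i = j
  · subst h; simp; omega
  · simp [h]

theorem mul_mem_Wp (u : U) {x : U} (hx : x ∈ Wp b p y hy) : u * x ∈ Wp b p y hy := by
  unfold Wp at hx
  induction hx using Submodule.span_induction with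
  | mem x hx =>
    obtain ⟨m, ⟨i, hi⟩, rfl⟩ := hx
    rw [B'_big_eq b p y hy hi, ← mul_assoc, ← zc_central b p y hy, mul_assoc]
    exact zc_mul_mem_Wp b p y hy i _
  | zero => rw [mul_zero]; exact zero_mem _
  | add x z _ _ hx hz => rw [mul_add]; exact add_mem hx hz
  | smul c x _ hx => rw [mul_smul_comm]; exact Submodule.smul_mem _ c hx

theorem Ires_le_Wp {x : U} (hx : x ∈ Ires b p y) : x ∈ Wp b p y hy := by
  unfold Ires at hx
  induction hx using Submodule.span_induction with
  | mem x hx =>
    obtain ⟨i, rfl⟩ := hx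
    have := zc_mul_mem_Wp b p y hy i 1
    rwa [mul_one] at this
  | zero => exact zero_mem _
  | add x z _ _ hx hz => exact add_mem hx hz
  | smul u x _ hx => exact mul_mem_Wp b p y hy u hx

theorem Wp_le_Ires {x : U} (hx : x ∈ Wp b p y hy) : x ∈ Ires b p y := by
  unfold Wp at hx
  induction hx using Submodule.span_induction with
  | mem x hx =>
    obtain ⟨m, ⟨i, hi⟩, rfl⟩ := hx
    rw [B'_big_eq b p y hy hi, zc_central b p y hy]
    exact Ideal.mul_mem_left _ _ (Ideal.subset_span ⟨i, rfl⟩)
  | zero => exact zero_mem _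
  | add x z _ _ hx hz => exact add_mem hx hz
  | smul c x _ hx =>
    rw [Algebra.smul_def]
    exact Ideal.mul_mem_left _ _ hx

theorem mem_Ires_iff {x : U} : x ∈ Ires b p y ↔ x ∈ Wp b p y hy :=
  ⟨Ires_le_Wp b p y hy, Wp_le_Ires b p y hy⟩

theorem repr_eq_zero_of_mem_Ires {x : U} (hx : x ∈ Ires b p y) {m : ι →₀ ℕ} (hm : ¬ Big p m) :
    (B' b p y hy).repr x m = 0 := by
  have h := (Module.Basis.mem_span_image (B' b p y hy)).1 (Ires_le_Wp b p y hy hx)
  by_contra hne
  exact hm (h (Finsupp.mem_support_iff.2 hne))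

theorem iU_basis_eq (i : ι) : iU (R := k) (b i) = B' b p y hy (Finsupp.single i 1) := by
  rw [B'_apply, w]
  have h1 : (Finsupp.single i 1).mapRange (· / p) (Nat.zero_div p) = 0 := by
    rw [Finsupp.mapRange_single, Nat.div_eq_of_lt hp.out.one_lt, Finsupp.single_zero]
  have h2 : (Finsupp.single i 1).mapRange (· % p) (Nat.zero_mod p) = Finsupp.single i 1 := by
    rw [Finsupp.mapRange_single, Nat.mod_eq_of_lt hp.out.one_lt]
  rw [h1, h2, Z_zero, one_mul, sl_single, mon_cons, mon_nil, mul_one]
  rfl

include hy in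
theorem eq_zero_of_iU_mem_Ires {x : L} (hx : iU (R := k) x ∈ Ires b p y) : x = 0 := by
  have hx' : iU (R := k) x = Finsupp.linearCombination k (B' b p y hy)
      ((b.repr x).mapDomain fun i => Finsupp.single i 1) := by
    conv_lhs => rw [← b.linearCombination_repr x]
    rw [Finsupp.linearCombination_apply, map_finsuppSum, Finsupp.linearCombination_mapDomain,
      Finsupp.linearCombination_apply]
    refine Finsupp.sum_congr fun i _ => ?_
    rw [map_smul, iU_basis_eq b p y hy]
    rfl
  have hrepr : (B' b p y hy).repr (iU (R := k) x) =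
      (b.repr x).mapDomain fun i => Finsupp.single i 1 := by
    rw [hx', Module.Basis.repr_linearCombination]
  rw [← b.repr.map_eq_zero_iff]
  ext i
  have h0 := repr_eq_zero_of_mem_Ires b p y hy hx (m := Finsupp.single i 1) (by
    rintro ⟨j, hj⟩
    rw [Finsupp.single_apply] at hj
    have := hp.out.one_lt
    split_ifs at hj <;> omega)
  rw [hrepr, Finsupp.mapDomain_apply (Finsupp.single_left_injective one_ne_zero)] at h0
  exact h0

end Quot

end Groth.Agent.Lib.helper13.RPBW
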