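import Mathlib
import Groth.Agent.Lib.Helper13.RPBW3

set_option autoImplicit false
set_option linter.unusedSectionVars false
open scoped LieRing

namespace Groth.Agent.Lib.helper13.RPBW

open Finset PBW Jac

section Rep
attribute [local instance 100] LieRing.ofAssociativeRing

variable {k : Type*} {L : Type*} {ι : Type*} [CommRing k] [LieRing L] [LieAlgebra k L]
  [LinearOrder ι] (b : Module.Basis ι k L)
  (p : ℕ) [hp : Fact p.Prime] [CharP k p] (y : ι → L)
  (hy : ∀ i : ι, LieAlgebra.ad k L (b i) ^ p = LieAlgebra.ad k L (y i))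

local notation "U" => UniversalEnvelopingAlgebra k L

include hy in
theorem fz_central (x : L) (u : U) : fz b p y x * u = u * fz b p y x := by
  unfold fz Finsupp.sum
  rw [Finset.sum_mul, Finset.mul_sum]
  refine Finset.sum_congr rfl fun i _ => ?_
  rw [smul_mul_assoc, mul_smul_comm, zc_central b p y hy]

theorem fz_mem_Ires (x : L) : fz b p y x ∈ Ires b p y := by
  unfold fz Finsupp.sum
  refine Submodule.sum_mem _ fun i _ => ?_
  change (b.repr x i) ^ p • zc b p y i ∈ Ires b p y
  rw [Algebra.smul_def]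
  exact Ideal.mul_mem_left _ _ (Ideal.subset_span ⟨i, rfl⟩)

/-- the restricted regular representation space -/
abbrev Vres : Type _ := U ⧸ Ires b p y

/-- the representation of `U(L)` on `U(L)/I` -/
noncomputable def Lam : U →ₐ[k] Module.End k (Vres b p y) := Algebra.lsmul k k (Vres b p y)

theorem Lam_mk (u v : U) : Lam b p y u (Submodule.Quotient.mk v) = Submodule.Quotient.mk (u * v) :=
  rfl

/-- the representation of `L` -/
noncomputable def eL : L →ₗ[k] Module.End k (Vres b p y) :=
  (Lam b p y).toLinearMap.comp (iU (R := k) (L := L))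

theorem eL_apply (x : L) : eL b p y x = Lam b p y (iU (R := k) x) := rfl

theorem eL_lie (x z : L) :
    eL b p y ⁅x, z⁆ = eL b p y x * eL b p y z - eL b p y z * eL b p y x := by
  rw [eL_apply, eL_apply, eL_apply, iU_lie, map_sub, map_mul, map_mul]

include hy in
theorem eL_injective : Function.Injective (eL b p y) := by
  rw [← LinearMap.ker_eq_bot, LinearMap.ker_eq_bot']
  intro x hx
  have h1 : eL b p y x (Submodule.Quotient.mk (1 : U)) = 0 := by rw [hx]; rfl
  rw [eL_apply, Lam_mk, mul_one, Submodule.Quotient.mk_eq_zero] at h1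
  exact eq_zero_of_iU_mem_Ires b p y hy h1

include hy in
theorem Lam_eq_zero_of_central_mem {u : U} (hc : ∀ v : U, u * v = v * u) (hu : u ∈ Ires b p y) :
    Lam b p y u = 0 := by
  refine LinearMap.ext fun v => ?_
  obtain ⟨v, rfl⟩ := Submodule.Quotient.mk_surjective _ v
  rw [Lam_mk, LinearMap.zero_apply, Submodule.Quotient.mk_eq_zero, hc]
  exact Ideal.mul_mem_left _ _ hu

theorem eL_pmap (φ : PLie.PMap k p L) (hφ : ∀ i, φ (b i) = y i) (x : L) :
    eL b p y (φ x) = eL b p y x ^ p := by
  have hy : ∀ i : ι, LieAlgebra.ad k L (b i) ^ p = LieAlgebra.ad k L (y i) := fun i => by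
    rw [← hφ i]; exact (φ.ad_map (b i)).symm
  have hφ' : φ = pmapOfBasis b p y hy :=
    pmap_ext_basis b p φ _ fun i => (hφ i).trans (pmapOfBasis_basis b p y hy i).symm
  have h1 : iU (R := k) (φ x) = iU (R := k) x ^ p - fz b p y x := by
    rw [hφ']; exact iU_pval b p y hy x
  rw [eL_apply, eL_apply, h1, map_sub, map_pow,
    Lam_eq_zero_of_central_mem b p y hy (fz_central b p y hy x) (fz_mem_Ires b p y x), sub_zero]

theorem finite_restricted [Finite ι] : {m : ι →₀ ℕ | ¬ Big p m}.Finite := by
  have h1 : (Set.pi Set.univ fun _ : ι => Set.Iio p).Finite :=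
    Set.Finite.pi fun _ => Set.finite_Iio p
  have h2 := Set.Finite.preimage (f := fun m : ι →₀ ℕ => (⇑m : ι → ℕ))
    (fun a _ c _ h => DFunLike.coe_injective h) h1
  refine h2.subset ?_
  intro m hm
  simp only [Set.mem_preimage, Set.mem_pi, Set.mem_univ, Set.mem_Iio, forall_true_left]
  intro i
  by_contra hi
  exact hm ⟨i, not_lt.1 hi⟩

/-- the quotient map as a `k`-linear map -/
noncomputable def mkV : U →ₗ[k] Vres b p y := (Submodule.mkQ (Ires b p y)).restrictScalars k

theorem mkV_apply (u : U) : mkV b p y u = Submodule.Quotient.mk u := rfl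

theorem mkV_B'_big {m : ι →₀ ℕ} (hm : Big p m) : mkV b p y (B' b p y hy m) = 0 := by
  rw [mkV_apply, Submodule.Quotient.mk_eq_zero]
  exact Wp_le_Ires b p y hy (Submodule.subset_span ⟨m, hm, rfl⟩)

theorem span_mkV_restricted :
    Submodule.span k (mkV b p y '' (B' b p y hy '' {m | ¬ Big p m})) = ⊤ := by
  rw [eq_top_iff]
  rintro v -
  obtain ⟨u, rfl⟩ := Submodule.Quotient.mk_surjective _ v
  change mkV b p y u ∈ _
  rw [← (B' b p y hy).linearCombination_repr u, Finsupp.linearCombination_apply, map_finsuppSum]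
  refine Submodule.sum_mem _ fun m _ => ?_
  change mkV b p y (((B' b p y hy).repr u) m • (B' b p y hy) m) ∈ _
  rw [map_smul]
  by_cases hm : Big p m
  · rw [mkV_B'_big b p y hy hm, smul_zero]; exact zero_mem _
  · exact Submodule.smul_mem _ _ (Submodule.subset_span ⟨_, ⟨m, hm, rfl⟩, rfl⟩)

include hy in
theorem finite_Vres [Finite ι] : Module.Finite k (Vres b p y) := by
  rw [Module.finite_def, Submodule.fg_def]
  exact ⟨_, ((finite_restricted p).image _).image _, span_mkV_restricted b p y hy⟩

end Rep

end Groth.Agent.Lib.helper13.RPBW
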