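import Mathlib
import Groth.Prelude.Def_PLie
import Groth.Agent.Lib.Helper13.HopfU
import Groth.Agent.Lib.Helper13.RPBW4

/-!
Helper library (helper13): the restricted enveloping algebra `u(L) = U(L)/(x^p - x^[p])`
as a quotient Hopf algebra of `U(L)`.
-/

set_option autoImplicit false
set_option linter.unusedSectionVars false
open scoped LieRing TensorProduct

namespace Groth.Agent.Lib.helper13.HopfRes

open Groth.Agent.Lib.helper13.PBW Groth.Agent.Lib.helper13.CMM Groth.Agent.Lib.helper13.Jac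
  Groth.Agent.Lib.helper13.RPBW Groth.Agent.Lib.helper13.HopfU

attribute [local instance 100] LieRing.ofAssociativeRing

theorem add_pow_of_commute_of_natCast_eq_zero {R : Type*} [Ring R] (p : ℕ) [hp : Fact p.Prime]
    (hp0 : (p : R) = 0) {x y : R} (h : Commute x y) : (x + y) ^ p = x ^ p + y ^ p := by
  rw [h.add_pow_prime_eq' hp.out, hp0, zero_mul, add_zero]

theorem neg_pow_of_natCast_eq_zero {R : Type*} [Ring R] (p : ℕ) [hp : Fact p.Prime]
    (hp0 : (p : R) = 0) (x : R) : (-x) ^ p = -x ^ p := by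
  have h := add_pow_of_commute_of_natCast_eq_zero p hp0 (Commute.neg_right (Commute.refl x))
  rw [add_neg_cancel, zero_pow hp.out.ne_zero] at h
  exact (neg_eq_of_add_eq_zero_right h.symm).symm

section
variable {k : Type*} {L : Type*} {ι : Type*} [CommRing k] [LieRing L] [LieAlgebra k L]
  [LinearOrder ι] (b : Module.Basis ι k L)
  (p : ℕ) [hp : Fact p.Prime] [CharP k p] (φ : PLie.PMap k p L)

local notation "U" => UniversalEnvelopingAlgebra k L

theorem hyφ (i : ι) : LieAlgebra.ad k L (b i) ^ p = LieAlgebra.ad k L (φ (b i)) :=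
  (φ.ad_map (b i)).symm

/-- the ideal of `U(L)` generated by the `x^p - x^[p]` -/
noncomputable def Iφ : Ideal U := Ires b p (fun i => φ (b i))

/-- the generators of `Iφ` -/
noncomputable def zφ (i : ι) : U := zc b p (fun i => φ (b i)) i

theorem zφ_def (i : ι) : zφ b p φ i = iU (R := k) (b i) ^ p - iU (R := k) (φ (b i)) := rfl

theorem zφ_central (i : ι) (u : U) : zφ b p φ i * u = u * zφ b p φ i :=
  zc_central b p _ (hyφ b p φ) i u

theorem zφ_mem (i : ι) : zφ b p φ i ∈ Iφ b p φ := Ideal.subset_span ⟨i, rfl⟩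

instance Iφ_isTwoSided : (Iφ b p φ).IsTwoSided where
  mul_mem_of_left := by
    intro a c ha
    unfold Iφ Ires at ha ⊢
    induction ha using Submodule.span_induction with
    | mem x hx =>
      obtain ⟨i, rfl⟩ := hx
      change zφ b p φ i * c ∈ _
      rw [zφ_central]
      exact Ideal.mul_mem_left _ _ (Ideal.subset_span ⟨i, rfl⟩)
    | zero => rw [zero_mul]; exact zero_mem _
    | add x z _ _ hx hz => rw [add_mul]; exact add_mem hx hz
    | smul r x _ hx =>
      rw [smul_eq_mul, mul_assoc]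
      exact Ideal.mul_mem_left _ _ hx

theorem iU_eq_ι (x : L) : iU (R := k) x = UniversalEnvelopingAlgebra.ι k x := rfl

theorem comulU_zφ (i : ι) :
    comulU (zφ b p φ i) = zφ b p φ i ⊗ₜ[k] 1 + 1 ⊗ₜ[k] zφ b p φ i := by
  have hp0 : ((p : ℕ) : U ⊗[k] U) = 0 := natCast_eq_zero_of_charP k p
  have hc : Commute (iU (R := k) (b i) ⊗ₜ[k] (1 : U)) ((1 : U) ⊗ₜ[k] iU (R := k) (b i)) := by
    change _ * _ = _ * _
    rw [Algebra.TensorProduct.tmul_mul_tmul, Algebra.TensorProduct.tmul_mul_tmul, one_mul, mul_one]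
  rw [zφ_def, map_sub, map_pow, iU_eq_ι, iU_eq_ι, comulU_ι, comulU_ι, ← iU_eq_ι, ← iU_eq_ι,
    add_pow_of_commute_of_natCast_eq_zero p hp0 hc, Algebra.TensorProduct.tmul_pow,
    Algebra.TensorProduct.tmul_pow, one_pow, TensorProduct.sub_tmul, TensorProduct.tmul_sub]
  abel

theorem counitU_zφ (i : ι) : counitU (zφ b p φ i) = 0 := by
  rw [zφ_def, map_sub, map_pow, iU_eq_ι, iU_eq_ι, counitU_ι, counitU_ι,
    zero_pow hp.out.ne_zero, sub_zero]

theorem antipodeU_pow (u : U) (n : ℕ) : antipodeU (u ^ n) = antipodeU u ^ n := by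
  induction n with
  | zero => rw [pow_zero, pow_zero, antipodeU_one]
  | succ n ih => rw [pow_succ, antipodeU_mul, ih, pow_succ']

theorem antipodeU_zφ (i : ι) : antipodeU (zφ b p φ i) = - zφ b p φ i := by
  have hp0 : ((p : ℕ) : U) = 0 := natCast_eq_zero_of_charP k p
  rw [zφ_def, map_sub, antipodeU_pow, iU_eq_ι, iU_eq_ι, antipodeU_ι, antipodeU_ι,
    neg_pow_of_natCast_eq_zero p hp0]
  abel

theorem counitU_eq_zero_of_mem {x : U} (hx : x ∈ Iφ b p φ) : counitU x = 0 := by
  have : Iφ b p φ ≤ RingHom.ker (counitU (k := k) (L := L)).toRingHom := by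
    unfold Iφ Ires
    rw [Ideal.span_le]
    rintro _ ⟨i, rfl⟩
    exact counitU_zφ b p φ i
  exact this hx

/-- `Δ` followed by the two projections to the quotient -/
noncomputable def comulMk : U →ₐ[k] (U ⧸ Iφ b p φ) ⊗[k] (U ⧸ Iφ b p φ) :=
  (Algebra.TensorProduct.map (Ideal.Quotient.mkₐ k (Iφ b p φ))
    (Ideal.Quotient.mkₐ k (Iφ b p φ))).comp comulU

theorem comulMk_eq_zero_of_mem {x : U} (hx : x ∈ Iφ b p φ) : comulMk b p φ x = 0 := by
  have : Iφ b p φ ≤ RingHom.ker (comulMk b p φ).toRingHom := by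
    unfold Iφ Ires
    rw [Ideal.span_le]
    rintro _ ⟨i, rfl⟩
    change comulMk b p φ (zφ b p φ i) = 0
    have h0 : Ideal.Quotient.mkₐ k (Iφ b p φ) (zφ b p φ i) = 0 :=
      Ideal.Quotient.eq_zero_iff_mem.2 (zφ_mem b p φ i)
    rw [comulMk, AlgHom.comp_apply, comulU_zφ, map_add, Algebra.TensorProduct.map_tmul,
      Algebra.TensorProduct.map_tmul, h0, TensorProduct.zero_tmul, TensorProduct.tmul_zero,
      add_zero]
  exact this hx

theorem antipodeU_mem {x : U} (hx : x ∈ Iφ b p φ) : antipodeU x ∈ Iφ b p φ := by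
  unfold Iφ Ires at hx
  induction hx using Submodule.span_induction with
  | mem x hx =>
    obtain ⟨i, rfl⟩ := hx
    change antipodeU (zφ b p φ i) ∈ _
    rw [antipodeU_zφ]
    exact neg_mem (zφ_mem b p φ i)
  | zero => rw [map_zero]; exact zero_mem _
  | add x z _ _ hx hz => rw [map_add]; exact add_mem hx hz
  | smul r x _ hx =>
    rw [smul_eq_mul, antipodeU_mul]
    exact Ideal.mul_mem_right _ _ hx

instance Iφ_isHopfIdeal : (Iφ b p φ).IsHopfIdeal k where
  counit_eq_zero := fun _ hx => counitU_eq_zero_of_mem b p φ hx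
  map_mkQ_comul_eq_zero := fun _ hx => comulMk_eq_zero_of_mem b p φ hx
  antipode_mem := fun _ hx => antipodeU_mem b p φ hx

/-- the restricted enveloping algebra -/
abbrev uφ : Type _ := U ⧸ Iφ b p φ

noncomputable example : HopfAlgebra k (uφ b p φ) := inferInstance

/-- the quotient map `U(L) → u(L)` -/
noncomputable def mku : U →ₐ[k] uφ b p φ := Ideal.Quotient.mkₐ k (Iφ b p φ)

theorem mku_surjective : Function.Surjective (mku b p φ) := Ideal.Quotient.mk_surjective

theorem mku_eq_zero_iff (u : U) : mku b p φ u = 0 ↔ u ∈ Iφ b p φ :=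
  Ideal.Quotient.eq_zero_iff_mem

/-- the canonical map `L → u(L)` -/
noncomputable def eu : L →ₗ[k] uφ b p φ := (mku b p φ).toLinearMap.comp (iU (R := k) (L := L))

theorem eu_apply (x : L) : eu b p φ x = mku b p φ (iU (R := k) x) := rfl

theorem eu_lie (x z : L) : eu b p φ ⁅x, z⁆ = eu b p φ x * eu b p φ z - eu b p φ z * eu b p φ x := by
  rw [eu_apply, eu_apply, eu_apply, iU_lie, map_sub, map_mul, map_mul]

theorem eu_injective : Function.Injective (eu b p φ) := by
  rw [← LinearMap.ker_eq_bot, LinearMap.ker_eq_bot']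
  intro x hx
  rw [eu_apply, mku_eq_zero_iff] at hx
  exact eq_zero_of_iU_mem_Ires b p _ (hyφ b p φ) hx

theorem eu_pmap (x : L) : eu b p φ (φ x) = eu b p φ x ^ p := by
  have hφ' : φ = pmapOfBasis b p (fun i => φ (b i)) (hyφ b p φ) :=
    pmap_ext_basis b p φ _ fun i => (pmapOfBasis_basis b p _ (hyφ b p φ) i).symm
  have h1 : iU (R := k) (φ x) = iU (R := k) x ^ p - fz b p (fun i => φ (b i)) x := by
    conv_lhs => rw [hφ']
    exact iU_pval b p _ (hyφ b p φ) x
  have h2 : mku b p φ (fz b p (fun i => φ (b i)) x) = 0 :=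
    (mku_eq_zero_iff b p φ _).2 (fz_mem_Ires b p _ x)
  rw [eu_apply, eu_apply, h1, map_sub, map_pow, h2, sub_zero]

theorem comul_mku (u : U) :
    CoalgebraStruct.comul (R := k) (mku b p φ u) =
      TensorProduct.map (mku b p φ).toLinearMap (mku b p φ).toLinearMap (comulU u) := rfl

theorem counit_mku (u : U) : CoalgebraStruct.counit (R := k) (mku b p φ u) = counitU u := rfl

theorem antipode_mku (u : U) :
    HopfAlgebraStruct.antipode k (mku b p φ u) = mku b p φ (antipodeU u) := rfl

theorem comul_eu (x : L) :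
    CoalgebraStruct.comul (R := k) (eu b p φ x) = eu b p φ x ⊗ₜ[k] 1 + 1 ⊗ₜ[k] eu b p φ x := by
  rw [eu_apply, comul_mku, iU_eq_ι, comulU_ι, map_add, TensorProduct.map_tmul,
    TensorProduct.map_tmul, AlgHom.toLinearMap_apply, AlgHom.toLinearMap_apply, map_one]

theorem counit_eu (x : L) : CoalgebraStruct.counit (R := k) (eu b p φ x) = 0 := by
  rw [eu_apply, counit_mku, iU_eq_ι, counitU_ι]

instance cocomm_uφ : Coalgebra.IsCocomm k (uφ b p φ) where
  comm_comp_comul := by
    refine LinearMap.ext fun v => ?_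
    obtain ⟨u, rfl⟩ := mku_surjective b p φ v
    change TensorProduct.comm k _ _ (CoalgebraStruct.comul (R := k) (mku b p φ u)) =
      CoalgebraStruct.comul (R := k) (mku b p φ u)
    rw [comul_mku]
    have h := Coalgebra.comm_comul k u
    rw [comul_eq] at h
    conv_rhs => rw [← h]
    generalize comulU u = w
    induction w using TensorProduct.induction_on with
    | zero => simp
    | tmul a c => simp
    | add a c ha hc => simp only [map_add, ha, hc]

theorem adjoin_eu : Algebra.adjoin k (Set.range (eu b p φ)) = ⊤ := by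
  have h1 : (⊤ : Subalgebra k U).map (mku b p φ) = ⊤ := by
    rw [Algebra.map_top, AlgHom.range_eq_top]
    exact mku_surjective b p φ
  rw [← adjoin_range_ι, AlgHom.map_adjoin] at h1
  rw [← h1]
  congr 1
  ext v
  simp only [Set.mem_range, Set.mem_image, exists_exists_eq_and]
  rfl

theorem finite_uφ [Finite ι] : Module.Finite k (uφ b p φ) :=
  finite_Vres b p (fun i => φ (b i)) (hyφ b p φ)

end

end Groth.Agent.Lib.helper13.HopfRes
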