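import Mathlib
import Groth.Prelude.Def_PLie
import Groth.Agent.Lib.Helper13.HopfRes
import Groth.Agent.Lib.Helper13.CMM2

/-!
Helper library (helper13): primitive elements of the restricted enveloping algebra `u(L)`
are exactly the image of `L`.
-/

set_option autoImplicit false
set_option linter.unusedSectionVars false
open scoped LieRing TensorProduct

namespace Groth.Agent.Lib.helper13.HopfRes

open Groth.Agent.Lib.helper13.PBW Groth.Agent.Lib.helper13.CMM Groth.Agent.Lib.helper13.Jac
  Groth.Agent.Lib.helper13.RPBW Groth.Agent.Lib.helper13.HopfU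

attribute [local instance 100] LieRing.ofAssociativeRing

section Lists
variable {ι : Type*} [DecidableEq ι]

theorem countP_splits_fst_nil (l : List ι) :
    (splits l).countP (fun pr => decide (pr.1 = [])) = 1 := by
  induction l with
  | nil => simp [splits_nil]
  | cons j l ih =>
    rw [splits_cons, List.countP_append, List.countP_map, List.countP_map]
    have h1 : (splits l).countP ((fun pr : List ι × List ι => decide (pr.1 = [])) ∘
        fun p => (j :: p.1, p.2)) = 0 := by
      rw [List.countP_eq_zero]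
      intro a _
      simp
    have h2 : ((fun pr : List ι × List ι => decide (pr.1 = [])) ∘
        fun p : List ι × List ι => (p.1, j :: p.2)) = fun pr => decide (pr.1 = []) := by
      funext pr; rfl
    rw [h1, h2, ih]

theorem countP_splits_fst_singleton (i : ι) (l : List ι) :
    (splits l).countP (fun pr => decide (pr.1 = [i])) = l.count i := by
  induction l with
  | nil => simp [splits_nil]
  | cons j l ih =>
    rw [splits_cons, List.countP_append, List.countP_map, List.countP_map]
    have h2 : ((fun pr : List ι × List ι => decide (pr.1 = [i])) ∘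
        fun p : List ι × List ι => (p.1, j :: p.2)) = fun pr => decide (pr.1 = [i]) := by
      funext pr; rfl
    rw [h2, ih, List.count_cons]
    by_cases hji : j = i
    · subst hji
      have h1 : ((fun pr : List ι × List ι => decide (pr.1 = [j])) ∘
          fun p : List ι × List ι => (j :: p.1, p.2)) = fun pr => decide (pr.1 = []) := by
        funext pr; simp
      rw [h1, countP_splits_fst_nil]
      simp [add_comm]
    · have h1 : (splits l).countP ((fun pr : List ι × List ι => decide (pr.1 = [i])) ∘
          fun p => (j :: p.1, p.2)) = 0 := by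
        rw [List.countP_eq_zero]
        intro a _
        simp [hji]
      rw [h1]
      simp [hji]

end Lists

section Prim
variable {k : Type*} {L : Type*} {ι : Type*} [Field k] [LieRing L] [LieAlgebra k L]
  [LinearOrder ι] (b : Module.Basis ι k L)
  (p : ℕ) [hp : Fact p.Prime] [CharP k p] (φ : PLie.PMap k p L)

local notation "U" => UniversalEnvelopingAlgebra k L

/-- the restricted PBW basis of `U(L)` -/
noncomputable def Bφ : Module.Basis (ι →₀ ℕ) k U := B' b p (fun i => φ (b i)) (hyφ b p φ)

/-- lists in which every element occurs less than `p` times -/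
def Sml (a : List ι) : Prop := ∀ i, a.count i < p

theorem not_big_iff (m : ι →₀ ℕ) : ¬ Big p m ↔ ∀ i, m i < p := by
  unfold Big
  push Not
  rfl

theorem Bφ_small {m : ι →₀ ℕ} (hm : ¬ Big p m) : Bφ b p φ m = mon b (sl m) := by
  rw [not_big_iff] at hm
  rw [Bφ, B'_apply, w]
  have h1 : m.mapRange (· / p) (Nat.zero_div p) = 0 := by
    ext i
    simp [Nat.div_eq_of_lt (hm i)]
  have h2 : m.mapRange (· % p) (Nat.zero_mod p) = m := by
    ext i
    simp [Nat.mod_eq_of_lt (hm i)]
  rw [h1, h2, Z_zero, one_mul]

theorem mku_Bφ_big {m : ι →₀ ℕ} (hm : Big p m) : mku b p φ (Bφ b p φ m) = 0 := by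
  rw [mku_eq_zero_iff]
  exact Wp_le_Ires b p _ (hyφ b p φ) (Submodule.subset_span ⟨m, hm, rfl⟩)

/-- coordinate functionals on `u(L)` -/
noncomputable def chi (q : ι →₀ ℕ) (hq : ¬ Big p q) : uφ b p φ →ₗ[k] k :=
  (((Iφ b p φ).restrictScalars k).liftQ ((Bφ b p φ).coord q) (by
      intro x hx
      rw [LinearMap.mem_ker]
      exact repr_eq_zero_of_mem_Ires b p _ (hyφ b p φ) hx hq)).comp
    (Submodule.Quotient.restrictScalarsEquiv k (Iφ b p φ)).symm.toLinearMap

theorem chi_mku (q : ι →₀ ℕ) (hq : ¬ Big p q) (u : U) :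
    chi b p φ q hq (mku b p φ u) = (Bφ b p φ).repr u q := rfl

theorem small_of_srt_sml {a : List ι} (ha : Srt a) (hs : Sml p a) :
    ¬ Big p (slEquiv.symm ⟨a, ha⟩) := by
  rw [not_big_iff]
  intro i
  have h1 : sl (slEquiv.symm ⟨a, ha⟩) = a := congrArg Subtype.val (slEquiv.apply_symm_apply ⟨a, ha⟩)
  rw [← count_sl, h1]
  exact hs i

theorem mon_eq_Bφ {a : List ι} (ha : Srt a) (hs : Sml p a) :
    mon b a = Bφ b p φ (slEquiv.symm ⟨a, ha⟩) := by
  have h1 : sl (slEquiv.symm ⟨a, ha⟩) = a := congrArg Subtype.val (slEquiv.apply_symm_apply ⟨a, ha⟩)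
  rw [Bφ_small b p φ (small_of_srt_sml p ha hs), h1]

theorem chi_mon (q : ι →₀ ℕ) (hq : ¬ Big p q) {a : List ι} (ha : Srt a) (hs : Sml p a) :
    chi b p φ q hq (mku b p φ (mon b a)) = if a = sl q then 1 else 0 := by
  have h1 : sl (slEquiv.symm ⟨a, ha⟩) = a := congrArg Subtype.val (slEquiv.apply_symm_apply ⟨a, ha⟩)
  rw [mon_eq_Bφ b p φ ha hs, chi_mku, Module.Basis.repr_self, Finsupp.single_apply]
  congr 1
  apply propext
  constructor
  · intro h; rw [← h, h1]
  · intro h
    have : (⟨a, ha⟩ : {l : List ι // Srt l}) = slEquiv q := Subtype.ext h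
    rw [this, Equiv.symm_apply_apply]

theorem sml_sl {m : ι →₀ ℕ} (hm : ¬ Big p m) : Sml p (sl m) := by
  rw [not_big_iff] at hm
  intro i
  rw [count_sl]
  exact hm i

theorem Sml.sublist {a l : List ι} (h : a.Sublist l) (hl : Sml p l) : Sml p a :=
  fun i => lt_of_le_of_lt (h.count_le i) (hl i)

theorem chi_one (q : ι →₀ ℕ) (hq : ¬ Big p q) :
    chi b p φ q hq 1 = if [] = sl q then 1 else 0 := by
  have h := chi_mon b p φ q hq (a := []) List.Pairwise.nil (fun i => by
    rw [List.count_nil]; exact hp.out.pos)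
  rwa [mon_nil, map_one] at h

/-- coordinate functionals on `u ⊗ u` -/
noncomputable def chi2 (qa qc : ι →₀ ℕ) (ha : ¬ Big p qa) (hc : ¬ Big p qc) :
    uφ b p φ ⊗[k] uφ b p φ →ₗ[k] k :=
  (LinearMap.mul' k k).comp (TensorProduct.map (chi b p φ qa ha) (chi b p φ qc hc))

theorem chi2_tmul (qa qc : ι →₀ ℕ) (ha : ¬ Big p qa) (hc : ¬ Big p qc) (x z : uφ b p φ) :
    chi2 b p φ qa qc ha hc (x ⊗ₜ[k] z) = chi b p φ qa ha x * chi b p φ qc hc z := rfl

/-- the functional `coordinate at (qa, qc)` of `Δ(mk u)` -/
noncomputable def Psi (qa qc : ι →₀ ℕ) (ha : ¬ Big p qa) (hc : ¬ Big p qc) : U →ₗ[k] k :=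
  (chi2 b p φ qa qc ha hc).comp
    ((TensorProduct.map (mku b p φ).toLinearMap (mku b p φ).toLinearMap).comp
      (comulU (k := k) (L := L)).toLinearMap)

theorem Psi_eq (qa qc : ι →₀ ℕ) (ha : ¬ Big p qa) (hc : ¬ Big p qc) (u : U) :
    Psi b p φ qa qc ha hc u =
      chi2 b p φ qa qc ha hc (CoalgebraStruct.comul (R := k) (mku b p φ u)) := rfl

theorem Psi_big (qa qc : ι →₀ ℕ) (ha : ¬ Big p qa) (hc : ¬ Big p qc) {m : ι →₀ ℕ}
    (hm : Big p m) : Psi b p φ qa qc ha hc (Bφ b p φ m) = 0 := by
  rw [Psi_eq, mku_Bφ_big b p φ hm, map_zero, map_zero]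

theorem Psi_small (qa qc : ι →₀ ℕ) (ha : ¬ Big p qa) (hc : ¬ Big p qc) {m : ι →₀ ℕ}
    (hm : ¬ Big p m) : Psi b p φ qa qc ha hc (Bφ b p φ m) =
      ((splits (sl m)).countP (fun pr => decide (pr = (sl qa, sl qc))) : k) := by
  rw [Bφ_small b p φ hm, Psi, LinearMap.comp_apply, LinearMap.comp_apply,
    AlgHom.toLinearMap_apply, comulU_mon, map_list_sum, map_list_sum, List.map_map, List.map_map,
    ← sum_map_ite_eq]
  congr 1
  apply List.map_congr_left
  intro pr hpr
  have hs := splits_sublist hpr
  have h1 : Srt pr.1 := List.Pairwise.sublist hs.1 (srt_sl m)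
  have h2 : Srt pr.2 := List.Pairwise.sublist hs.2 (srt_sl m)
  have h3 : Sml p pr.1 := Sml.sublist p hs.1 (sml_sl p hm)
  have h4 : Sml p pr.2 := Sml.sublist p hs.2 (sml_sl p hm)
  rw [Function.comp_apply, Function.comp_apply, TensorProduct.map_tmul, chi2_tmul,
    AlgHom.toLinearMap_apply, AlgHom.toLinearMap_apply, chi_mon b p φ qa ha h1 h3,
    chi_mon b p φ qc hc h2 h4]
  by_cases e1 : pr.1 = sl qa
  · by_cases e2 : pr.2 = sl qc
    · rw [if_pos e1, if_pos e2, if_pos (Prod.ext e1 e2), mul_one]
    · rw [if_neg e2, mul_zero, if_neg]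
      intro h; exact e2 (congrArg Prod.snd h)
  · rw [if_neg e1, zero_mul, if_neg]
    intro h; exact e1 (congrArg Prod.fst h)

theorem Psi_prim (qa qc : ι →₀ ℕ) (ha : ¬ Big p qa) (hc : ¬ Big p qc) {u : U}
    (hu : CoalgebraStruct.comul (R := k) (mku b p φ u) =
      mku b p φ u ⊗ₜ[k] 1 + 1 ⊗ₜ[k] mku b p φ u) :
    Psi b p φ qa qc ha hc u =
      (Bφ b p φ).repr u qa * (if [] = sl qc then 1 else 0) +
        (if [] = sl qa then 1 else 0) * (Bφ b p φ).repr u qc := by
  rw [Psi_eq, hu, map_add, chi2_tmul, chi2_tmul, chi_one, chi_one, chi_mku, chi_mku]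

theorem prim_coeff_zero {u : U}
    (hu : CoalgebraStruct.comul (R := k) (mku b p φ u) =
      mku b p φ u ⊗ₜ[k] 1 + 1 ⊗ₜ[k] mku b p φ u) : (Bφ b p φ).repr u 0 = 0 := by
  have h0 : ¬ Big p (0 : ι →₀ ℕ) := by
    rw [not_big_iff]; intro i; exact hp.out.pos
  have h1 : Psi b p φ 0 0 h0 h0 = (Bφ b p φ).coord 0 := by
    refine (Bφ b p φ).ext fun m => ?_
    rw [Module.Basis.coord_apply, Module.Basis.repr_self, Finsupp.single_apply]
    by_cases hm : Big p m
    · rw [Psi_big b p φ 0 0 h0 h0 hm, if_neg]
      intro h; rw [h] at hm; exact h0 hm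
    · rw [Psi_small b p φ 0 0 h0 h0 hm, sl_zero]
      by_cases hm0 : m = 0
      · subst hm0
        rw [sl_zero, if_pos rfl]
        simp [splits_nil]
      · rw [if_neg hm0]
        have : (splits (sl m)).countP (fun pr => decide (pr = (([] : List ι), ([] : List ι)))) = 0 := by
          rw [List.countP_eq_zero]
          intro pr hpr hpq
          have hpq' : pr = ([], []) := of_decide_eq_true hpq
          have hperm := splits_perm hpr
          rw [hpq'] at hperm
          have hnil : sl m = [] := List.Perm.eq_nil hperm.symm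
          apply hm0
          have : slEquiv m = slEquiv 0 := Subtype.ext (by
            change sl m = sl 0
            rw [hnil, sl_zero])
          exact slEquiv.injective this
        rw [this, Nat.cast_zero]
  have h := Psi_prim b p φ 0 0 h0 h0 hu
  rw [h1, Module.Basis.coord_apply, sl_zero, if_pos rfl, mul_one, one_mul] at h
  have h' : (Bφ b p φ).repr u 0 + (Bφ b p φ).repr u 0 - (Bφ b p φ).repr u 0 =
      (Bφ b p φ).repr u 0 - (Bφ b p φ).repr u 0 := by rw [← h]
  rw [add_sub_cancel_right, sub_self] at h'
  exact h'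

theorem prim_coeff_long {u : U}
    (hu : CoalgebraStruct.comul (R := k) (mku b p φ u) =
      mku b p φ u ⊗ₜ[k] 1 + 1 ⊗ₜ[k] mku b p φ u) {m : ι →₀ ℕ} (hm : ¬ Big p m)
    (hl : 2 ≤ (sl m).length) : (Bφ b p φ).repr u m = 0 := by
  have hsl : Srt (sl m) := srt_sl m
  have hsm : Sml p (sl m) := sml_sl p hm
  generalize hlm : sl m = l at hl hsl hsm
  cases l with
  | nil => simp at hl
  | cons i l' =>
    have hl' : l' ≠ [] := by
      intro h; subst h; simp at hl
    have hsl' : Srt l' := List.Pairwise.of_cons hsl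
    have hsm' : Sml p l' := Sml.sublist p (List.sublist_cons_self i l') hsm
    set qa : ι →₀ ℕ := Finsupp.single i 1 with hqa
    set qc : ι →₀ ℕ := slEquiv.symm ⟨l', hsl'⟩ with hqc
    have ha : ¬ Big p qa := by
      rw [not_big_iff]
      intro j
      rw [hqa, Finsupp.single_apply]
      split_ifs
      · exact hp.out.one_lt
      · exact hp.out.pos
    have hc : ¬ Big p qc := small_of_srt_sml p hsl' hsm'
    have hsa : sl qa = [i] := sl_single i
    have hsc : sl qc = l' := congrArg Subtype.val (slEquiv.apply_symm_apply ⟨l', hsl'⟩)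
    set N : ℕ := (splits (i :: l')).countP (fun pr => decide (pr = ([i], l'))) with hN
    have hNpos : N ≠ 0 := by
      rw [hN]
      intro h0
      rw [List.countP_eq_zero] at h0
      refine h0 ([i], l') ?_ (decide_eq_true rfl)
      rw [splits_cons, List.mem_append]
      left
      exact List.mem_map.2 ⟨([], l'), nil_mem_splits l', rfl⟩
    have hNlt : N < p := by
      have h1 : N ≤ (splits (i :: l')).countP (fun pr => decide (pr.1 = [i])) := by
        rw [hN]
        apply List.countP_mono_left
        intro pr _ hpr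
        have hpr' : pr = ([i], l') := of_decide_eq_true hpr
        exact decide_eq_true (congrArg Prod.fst hpr')
      rw [countP_splits_fst_singleton] at h1
      exact lt_of_le_of_lt h1 (hsm i)
    have hNk : (N : k) ≠ 0 := by
      intro h
      rw [CharP.cast_eq_zero_iff k p] at h
      exact hNpos (Nat.eq_zero_of_dvd_of_lt h hNlt)
    have h1 : Psi b p φ qa qc ha hc = (N : k) • (Bφ b p φ).coord m := by
      refine (Bφ b p φ).ext fun m' => ?_
      rw [LinearMap.smul_apply, Module.Basis.coord_apply, Module.Basis.repr_self,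
        Finsupp.single_apply]
      by_cases hm' : Big p m'
      · rw [Psi_big b p φ qa qc ha hc hm', if_neg, smul_zero]
        intro h; rw [h] at hm'; exact hm hm'
      · rw [Psi_small b p φ qa qc ha hc hm', hsa, hsc]
        by_cases hmm : m' = m
        · subst hmm
          rw [if_pos rfl, smul_eq_mul, mul_one, hlm]
        · rw [if_neg hmm, smul_zero]
          have : (splits (sl m')).countP (fun pr => decide (pr = ([i], l'))) = 0 := by
            rw [List.countP_eq_zero]
            intro pr hpr hpq
            have hpq' : pr = ([i], l') := of_decide_eq_true hpq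
            have hperm := splits_perm hpr
            rw [hpq'] at hperm
            have hperm' : (i :: l').Perm (sl m') := hperm
            have heq : i :: l' = sl m' :=
              List.Perm.eq_of_pairwise' (r := (· ≤ ·)) hsl (srt_sl m') hperm'
            apply hmm
            have : slEquiv m' = slEquiv m := Subtype.ext (by
              change sl m' = sl m
              rw [hlm, heq])
            exact slEquiv.injective this
          rw [this, Nat.cast_zero]
    have h := Psi_prim b p φ qa qc ha hc hu
    rw [h1, LinearMap.smul_apply, Module.Basis.coord_apply, hsa, hsc, if_neg (Ne.symm hl'),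
      if_neg (by simp), mul_zero, zero_mul, add_zero, smul_eq_mul] at h
    rcases mul_eq_zero.1 h with h | h
    · exact absurd h hNk
    · exact h

/-- primitive elements of the restricted enveloping algebra come from `L` -/
theorem prim_mem_range_eu {v : uφ b p φ}
    (hv : CoalgebraStruct.comul (R := k) v = v ⊗ₜ[k] 1 + 1 ⊗ₜ[k] v) :
    ∃ x : L, eu b p φ x = v := by
  obtain ⟨u, rfl⟩ := mku_surjective b p φ v
  have hmem : mku b p φ u ∈ LinearMap.range (eu b p φ) := by
    have hrep := (Bφ b p φ).linearCombination_repr u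
    rw [← hrep, Finsupp.linearCombination_apply, map_finsuppSum]
    refine Submodule.sum_mem _ fun m hm => ?_
    have hne : (Bφ b p φ).repr u m ≠ 0 := Finsupp.mem_support_iff.1 hm
    change mku b p φ ((Bφ b p φ).repr u m • Bφ b p φ m) ∈ _
    rw [map_smul]
    refine Submodule.smul_mem _ _ ?_
    by_cases hbig : Big p m
    · rw [mku_Bφ_big b p φ hbig]; exact zero_mem _
    · have hlen : (sl m).length = 1 := by
        by_contra hlen
        rcases Nat.lt_or_ge (sl m).length 2 with h | h
        · have h0 : (sl m).length = 0 := by omega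
          have hnil : sl m = [] := List.eq_nil_of_length_eq_zero h0
          have hm0 : m = 0 := by
            have : slEquiv m = slEquiv 0 := Subtype.ext (by
              change sl m = sl 0
              rw [hnil, sl_zero])
            exact slEquiv.injective this
          rw [hm0] at hne
          exact hne (prim_coeff_zero b p φ hv)
        · exact hne (prim_coeff_long b p φ hv hbig h)
      obtain ⟨i, hi⟩ := List.length_eq_one_iff.1 hlen
      refine ⟨b i, ?_⟩
      rw [Bφ_small b p φ hbig, hi, mon_cons, mon_nil, mul_one]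
      rfl
  obtain ⟨x, hx⟩ := hmem
  exact ⟨x, hx⟩

end Prim

end Groth.Agent.Lib.helper13.HopfRes
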