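import Mathlib
import Groth.Agent.Lib.Helper13.TildeStalk

set_option autoImplicit false
universe u
open CategoryTheory CategoryTheory.Limits AlgebraicGeometry Opposite TopologicalSpace

/-!
# Skyscraper modules on `Spec R` which are quasi-coherent (helper13)

If `N` is an `O_{Spec R, x}`-module in which every element is killed by a power of each `f ∈ 𝔭_x`,
then the skyscraper `sky_x N` is the sheaf associated with `N` viewed as an `R`-module.
-/

namespace Groth.Agent.Lib.helper13.InjTilde
open Groth.Agent.Lib.Helper25.StalkSky Groth.Agent.Lib.helper13.TildeStalk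

variable (R : CommRingCat.{u}) (x : Spec R)
variable (N : ModuleCat.{u} ((Spec R).presheaf.stalk x))

/-- evaluation of a section of the skyscraper -/
def ev {U : (Spec R).Opens} (s : ↑((modulesSpecToSheaf.obj ((sky x).obj N)).obj.obj (op U)))
    (h : PLift (x ∈ U)) : N :=
  ((show Γ((sky x).obj N, U) from s) : PLift (x ∈ U) → N) h

lemma ev_ext {U : (Spec R).Opens} (s t : ↑((modulesSpecToSheaf.obj ((sky x).obj N)).obj.obj (op U)))
    (h : ∀ p, ev R x N s p = ev R x N t p) : s = t := by
  funext p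
  exact h p

lemma ev_map {U V : (Spec R).Opens} (i : V ⟶ U)
    (s : ↑((modulesSpecToSheaf.obj ((sky x).obj N)).obj.obj (op U))) (p : PLift (x ∈ V)) :
    ev R x N (((modulesSpecToSheaf.obj ((sky x).obj N)).obj.map i.op).hom s) p =
      ev R x N s ⟨leOfHom i p.down⟩ := rfl

lemma ev_add {U : (Spec R).Opens}
    (s t : ↑((modulesSpecToSheaf.obj ((sky x).obj N)).obj.obj (op U))) (p : PLift (x ∈ U)) :
    ev R x N (s + t) p = ev R x N s p + ev R x N t p := rfl

lemma ev_smul {U : (Spec R).Opens} (r : R)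
    (s : ↑((modulesSpecToSheaf.obj ((sky x).obj N)).obj.obj (op U))) (p : PLift (x ∈ U)) :
    ev R x N (r • s) p = φ R x r • ev R x N s p := by
  have h1 : ev R x N (r • s) p =
      ((Spec R).presheaf.germ U x p.down
        (((Spec R).presheaf.map U.leTop.op) ((Scheme.ΓSpecIso R).inv r))) • ev R x N s p := rfl
  rw [h1]
  congr 1
  exact (Spec R).presheaf.germ_res_apply U.leTop x p.down _

lemma ev_pow_smul {U : (Spec R).Opens} (r : R) (k : ℕ)
    (s : ↑((modulesSpecToSheaf.obj ((sky x).obj N)).obj.obj (op U))) (p : PLift (x ∈ U)) :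
    ev R x N (r ^ k • s) p = (φ R x r) ^ k • ev R x N s p := by
  rw [ev_smul, map_pow]

/-- `sky_x N` is localizing when `N` is `𝔭_x`-power torsion -/
theorem isLocalizing_sky
    (hN : ∀ f : R, f ∈ x.asIdeal → ∀ n : N, ∃ k : ℕ, (φ R x f) ^ k • n = 0) :
    IsLocalizing (modulesSpecToSheaf.obj ((sky x).obj N)) := by
  intro f
  refine
    { map_units := ?_
      surj := ?_
      exists_of_eq := ?_ }
  · rintro ⟨s, k, rfl⟩
    have h1 := ((sky x).obj N).isUnit_algebraMap_end_of_le_basicOpen (U := PrimeSpectrum.basicOpen f)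
      f le_rfl
    have h2 := h1.pow k
    rw [← map_pow] at h2
    exact h2
  · intro y
    by_cases hx : x ∈ PrimeSpectrum.basicOpen f
    · refine ⟨⟨(show Γ((sky x).obj N, ⊤) from
        (fun _ => ev R x N y ⟨hx⟩ : PLift (x ∈ (⊤ : (Spec R).Opens)) → N)), 1⟩, ?_⟩
      rw [one_smul]
      apply ev_ext
      intro p
      rfl
    · refine ⟨⟨0, 1⟩, ?_⟩
      apply ev_ext
      intro p
      exact absurd p.down hx
  · intro a b hab
    by_cases hx : x ∈ PrimeSpectrum.basicOpen f
    · refine ⟨1, ?_⟩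
      rw [one_smul, one_smul]
      apply ev_ext
      intro p
      have := congrArg (fun t => ev R x N t ⟨hx⟩) hab
      exact this
    · have hf : f ∈ x.asIdeal := by
        by_contra hcon
        exact hx hcon
      obtain ⟨k, hk⟩ := hN f hf (ev R x N a ⟨trivial⟩ - ev R x N b ⟨trivial⟩)
      refine ⟨⟨f ^ k, k, rfl⟩, ?_⟩
      apply ev_ext
      intro p
      show ev R x N (f ^ k • a) p = ev R x N (f ^ k • b) p
      rw [ev_pow_smul, ev_pow_smul]
      rw [smul_sub, sub_eq_zero] at hk
      exact hk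

/-- the skyscraper at `x` of a `𝔭_x`-power torsion module is the sheaf associated with its
global sections -/
theorem isIso_fromTildeΓ_sky
    (hN : ∀ f : R, f ∈ x.asIdeal → ∀ n : N, ∃ k : ℕ, (φ R x f) ^ k • n = 0) :
    IsIso ((sky x).obj N).fromTildeΓ :=
  (isIso_fromTildeΓ_iff_isLocalizing _).2 (isLocalizing_sky R x N hN)

/-- `(N_R)^~ ≅ sky_x N` for `N` a `𝔭_x`-power torsion `O_x`-module -/
noncomputable def tildeSkyIso
    (hN : ∀ f : R, f ∈ x.asIdeal → ∀ n : N, ∃ k : ℕ, (φ R x f) ^ k • n = 0) :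
    (tilde.functor R).obj ((ModuleCat.restrictScalars (φ R x)).obj N) ≅ (sky x).obj N :=
  (tilde.functor R).mapIso ((skyΓIso R x).app N).symm ≪≫
    @asIso _ _ _ _ ((sky x).obj N).fromTildeΓ (isIso_fromTildeΓ_sky R x N hN)

end Groth.Agent.Lib.helper13.InjTilde
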