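import Mathlib

set_option autoImplicit false
universe u

/-!
# Injective modules over Noetherian rings: localization and the local-global principle (helper13)
-/

namespace Groth.Agent.Lib.helper13.InjTilde

open TensorProduct

section

variable {A : Type u} [CommRing A] (S₀ : Submonoid A) (S : Type u) [CommRing S] [Algebra A S]
  [IsLocalization S₀ S]

include S₀ in
/-- a module over a localization `S` of `A` which is injective over `S` is injective over `A` -/
theorem injective_restrictScalars_of_isLocalization (N : Type u) [AddCommGroup N] [Module A N]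
    [Module S N] [IsScalarTower A S N] (h : Module.Injective S N) : Module.Injective A N := by
  haveI : Module.Flat A S := IsLocalization.flat S S₀
  constructor
  intro X Y _ _ _ _ f hf g
  have hfS : Function.Injective (f.baseChange S) :=
    Module.Flat.lTensor_preserves_injective_linearMap f hf
  obtain ⟨hS, hhS⟩ := h.out (f.baseChange S) hfS (g.liftBaseChange S)
  refine ⟨(hS.restrictScalars A).comp (TensorProduct.mk A S Y 1), ?_⟩
  intro x
  have h1 := hhS ((1 : S) ⊗ₜ[A] x)
  rw [LinearMap.baseChange_tmul, LinearMap.liftBaseChange_tmul, one_smul] at h1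
  exact h1

variable [IsNoetherianRing A] {M N : Type u} [AddCommGroup M] [Module A M] [AddCommGroup N]
  [Module A N] [Module S N] [IsScalarTower A S N] (g : M →ₗ[A] N) [IsLocalizedModule S₀ g]

include S₀ g in
/-- a localization of an injective module over a Noetherian ring is injective -/
theorem injective_of_isLocalizedModule (hM : Module.Injective A M) : Module.Injective S N := by
  apply Module.Baer.injective
  intro J γ
  let I : Ideal A := J.comap (algebraMap A S)
  let γ' : I →ₗ[A] N :=
    { toFun := fun a => γ ⟨algebraMap A S a.1, a.2⟩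
      map_add' := fun a b => by
        have : (⟨algebraMap A S (a + b).1, (a + b).2⟩ : J) =
            ⟨algebraMap A S a.1, a.2⟩ + ⟨algebraMap A S b.1, b.2⟩ := by
          ext; simp
        rw [this, map_add]
      map_smul' := fun r a => by
        have : (⟨algebraMap A S (r • a).1, (r • a).2⟩ : J) =
            algebraMap A S r • ⟨algebraMap A S a.1, a.2⟩ := by
          ext; simp [Algebra.smul_def]
        rw [this, map_smul, RingHom.id_apply, algebraMap_smul] }
  haveI : Module.FinitePresentation A I := Module.finitePresentation_of_finite A I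
  obtain ⟨β, s, hβ⟩ := Module.FinitePresentation.exists_lift_of_isLocalizedModule S₀ g γ'
  obtain ⟨β', hβ'⟩ := Module.Baer.of_injective hM I β
  have hu : IsUnit (algebraMap A S s) := IsLocalization.map_units S s
  let n : N := (hu.unit⁻¹ : Sˣ).1 • g (β' 1)
  have key : ∀ (a : A) (ha : a ∈ I), γ ⟨algebraMap A S a, ha⟩ = algebraMap A S a • n := by
    intro a ha
    have h1 : g (β ⟨a, ha⟩) = s • γ' ⟨a, ha⟩ := LinearMap.congr_fun hβ ⟨a, ha⟩
    have h2 : β ⟨a, ha⟩ = a • β' 1 := by
      rw [← hβ' a ha, ← map_smul, smul_eq_mul, mul_one]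
    have h3 : algebraMap A S s • γ ⟨algebraMap A S a, ha⟩ = algebraMap A S a • g (β' 1) := by
      have e1 : algebraMap A S s • γ ⟨algebraMap A S a, ha⟩ = s • γ' ⟨a, ha⟩ :=
        algebraMap_smul S (s : A) (γ ⟨algebraMap A S a, ha⟩)
      have e2 : algebraMap A S a • g (β' 1) = a • g (β' 1) := algebraMap_smul S a (g (β' 1))
      rw [e1, e2, ← h1, h2, map_smul]
    have h4 := congrArg (fun z => (hu.unit⁻¹ : Sˣ).1 • z) h3
    simp only [← mul_smul, IsUnit.val_inv_mul, one_smul] at h4
    rw [h4, mul_comm, mul_smul]
  refine ⟨LinearMap.toSpanSingleton S N n, ?_⟩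
  intro j hj
  obtain ⟨⟨a, t⟩, hat⟩ := IsLocalization.surj S₀ j
  have hat' : j * algebraMap A S t = algebraMap A S a := hat
  have ha : a ∈ I := by
    show algebraMap A S a ∈ J
    rw [← hat']
    exact J.mul_mem_right _ hj
  have h5 : (⟨algebraMap A S a, ha⟩ : J) = algebraMap A S t • ⟨j, hj⟩ := by
    ext
    simp only [SetLike.val_smul, smul_eq_mul]
    rw [← hat', mul_comm]
  have hut : IsUnit (algebraMap A S t) := IsLocalization.map_units S t
  have h6 : algebraMap A S t • γ ⟨j, hj⟩ = algebraMap A S t • (j • n) := by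
    rw [← map_smul, ← h5, key a ha, ← hat', mul_comm, mul_smul]
  have h7 := congrArg (fun z => (hut.unit⁻¹ : Sˣ).1 • z) h6
  simp only [← mul_smul, ← mul_assoc, IsUnit.val_inv_mul, one_smul, one_mul] at h7
  rw [LinearMap.toSpanSingleton_apply]
  exact h7.symm

end

section

variable {A : Type u} [CommRing A] [IsNoetherianRing A] (M : Type u) [AddCommGroup M] [Module A M]

/-- **local-global principle for injectivity over a Noetherian ring**: if every localization of `M`
at a prime is injective (as a module over `A`, equivalently over the local ring) then `M` is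
injective -/
theorem injective_of_forall_isLocalizedModule
    (h : ∀ (𝔭 : Ideal A) (_ : 𝔭.IsPrime), ∃ (N : Type u) (_ : AddCommGroup N) (_ : Module A N)
      (g : M →ₗ[A] N) (_ : IsLocalizedModule 𝔭.primeCompl g), Module.Injective A N) :
    Module.Injective A M := by
  apply Module.Baer.injective
  intro I γ
  let 𝔠 : Ideal A :=
    { carrier := {c | ∃ m : M, ∀ (a : A) (ha : a ∈ I), c • γ ⟨a, ha⟩ = a • m}
      add_mem' := by
        rintro c c' ⟨m, hm⟩ ⟨m', hm'⟩
        refine ⟨m + m', fun a ha => ?_⟩
        rw [add_smul, hm a ha, hm' a ha, smul_add]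
      zero_mem' := ⟨0, fun a ha => by rw [zero_smul, smul_zero]⟩
      smul_mem' := by
        rintro r c ⟨m, hm⟩
        refine ⟨r • m, fun a ha => ?_⟩
        rw [smul_eq_mul, mul_smul, hm a ha, smul_comm] }
  have htop : 𝔠 = ⊤ := by
    by_contra hne
    obtain ⟨𝔭, hmax, hle⟩ := Ideal.exists_le_maximal 𝔠 hne
    haveI hprime : 𝔭.IsPrime := hmax.isPrime
    obtain ⟨N, _, _, g, _, hN⟩ := h 𝔭 hprime
    obtain ⟨h', hh'⟩ := Module.Baer.of_injective hN I (g.comp γ)
    obtain ⟨⟨m, s⟩, hms⟩ := IsLocalizedModule.surj 𝔭.primeCompl g (h' 1)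
    have hms' : s • h' 1 = g m := hms
    haveI : Module.Finite A I := Module.Finite.of_fg (IsNoetherian.noetherian I)
    have hcomp : g.comp ((s : A) • γ) = g.comp ((LinearMap.toSpanSingleton A M m).comp I.subtype) := by
      ext ⟨a, ha⟩
      simp only [LinearMap.coe_comp, Function.comp_apply, LinearMap.smul_apply, map_smul,
        Submodule.coe_subtype, LinearMap.toSpanSingleton_apply]
      have h1 : g (γ ⟨a, ha⟩) = h' a := (hh' a ha).symm
      have h2 : h' a = a • h' 1 := by rw [← map_smul, smul_eq_mul, mul_one]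
      rw [h1, h2, smul_comm, ← hms']
      rfl
    obtain ⟨t, ht⟩ := Module.Finite.exists_smul_of_comp_eq_of_isLocalizedModule 𝔭.primeCompl g _ _ hcomp
    have hts : (t : A) * (s : A) ∈ 𝔠 := by
      refine ⟨(t : A) • m, fun a ha => ?_⟩
      have := LinearMap.congr_fun ht ⟨a, ha⟩
      simp only [LinearMap.smul_apply, LinearMap.coe_comp, Function.comp_apply,
        Submodule.coe_subtype, LinearMap.toSpanSingleton_apply] at this
      rw [mul_smul, smul_comm a]
      exact this
    rcases hprime.mem_or_mem (hle hts) with h1 | h1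
    · exact t.2 h1
    · exact s.2 h1
  have h1 : (1 : A) ∈ 𝔠 := by rw [htop]; trivial
  obtain ⟨m, hm⟩ := h1
  refine ⟨LinearMap.toSpanSingleton A M m, fun a ha => ?_⟩
  rw [LinearMap.toSpanSingleton_apply, ← hm a ha, one_smul]

end

end Groth.Agent.Lib.helper13.InjTilde
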