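import Mathlib

set_option autoImplicit false
universe u

/-!
# Injective modules and localization (helper13)

* `injective_of_isLocalization`: a module over a localization `S` of `R` which is injective as an
  `R`-module is injective as an `S`-module.
* `bijective_mk_of_units`: if the elements of `M` act bijectively on `E` then `E → S ⊗ E` is bijective.
-/

namespace Groth.Agent.Lib.helper13.InjTilde

open TensorProduct

section

variable {R : Type u} [CommRing R] (M : Submonoid R) (S : Type u) [CommRing S] [Algebra R S]
  [IsLocalization M S]

include M in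
/-- a module over a localization which is injective over the base ring is injective -/
theorem injective_of_isLocalization (N : Type u) [AddCommGroup N] [Module R N] [Module S N]
    [IsScalarTower R S N] (h : Module.Injective R N) : Module.Injective S N := by
  apply Module.Baer.injective
  intro I g
  let I' : Ideal R := I.comap (algebraMap R S)
  let g' : I' →ₗ[R] N :=
    { toFun := fun a => g ⟨algebraMap R S a.1, a.2⟩
      map_add' := fun a b => by
        have : (⟨algebraMap R S (a + b).1, (a + b).2⟩ : I) =
            ⟨algebraMap R S a.1, a.2⟩ + ⟨algebraMap R S b.1, b.2⟩ := by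
          ext; simp
        rw [this, map_add]
      map_smul' := fun r a => by
        have : (⟨algebraMap R S (r • a).1, (r • a).2⟩ : I) =
            algebraMap R S r • ⟨algebraMap R S a.1, a.2⟩ := by
          ext; simp [Algebra.smul_def]
        rw [this, map_smul, RingHom.id_apply, algebraMap_smul] }
  obtain ⟨h', hh'⟩ := Module.Baer.of_injective h I' g'
  refine ⟨LinearMap.toSpanSingleton S N (h' 1), ?_⟩
  intro j hj
  obtain ⟨⟨a, t⟩, hat⟩ := IsLocalization.surj M j
  have hat' : j * algebraMap R S t = algebraMap R S a := hat
  have ha : a ∈ I' := by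
    show algebraMap R S a ∈ I
    rw [← hat']
    exact I.mul_mem_right _ hj
  have h1 : g ⟨algebraMap R S a, ha⟩ = a • h' 1 := by
    have h0 : h' a = g ⟨algebraMap R S a, ha⟩ := hh' a ha
    rw [← h0, ← map_smul, smul_eq_mul, mul_one]
  have h2 : (⟨algebraMap R S a, ha⟩ : I) = algebraMap R S t • ⟨j, hj⟩ := by
    ext
    simp only [SetLike.val_smul, smul_eq_mul]
    rw [← hat', mul_comm]
  have hu : IsUnit (algebraMap R S t) := IsLocalization.map_units S t
  have h3 : algebraMap R S t • g ⟨j, hj⟩ = algebraMap R S t • (j • h' 1) := by
    rw [← map_smul, ← h2, h1, ← algebraMap_smul S a (h' 1), ← hat', mul_comm, mul_smul]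
  have h4 := congrArg (fun z => (hu.unit⁻¹ : Sˣ).1 • z) h3
  simp only [← mul_smul, ← mul_assoc, IsUnit.val_inv_mul, one_smul, one_mul] at h4
  rw [LinearMap.toSpanSingleton_apply]
  exact h4.symm

/-- if the elements of `M` act bijectively on `E` then `E → S ⊗ E` is bijective -/
theorem bijective_mk_of_units (E : Type u) [AddCommGroup E] [Module R E]
    (hE : ∀ s ∈ M, Function.Bijective (fun e : E => s • e)) :
    Function.Bijective (TensorProduct.mk R S E 1) := by
  haveI h1 : IsLocalizedModule M (LinearMap.id : E →ₗ[R] E) :=
    { map_units := fun s => by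
        rw [Module.End.isUnit_iff]
        exact hE s.1 s.2
      surj := fun y => ⟨⟨y, 1⟩, by simp⟩
      exists_of_eq := fun {a b} hab => ⟨1, by simpa using hab⟩ }
  haveI h2 : IsLocalizedModule M (TensorProduct.mk R S E 1) :=
    (isLocalizedModule_iff_isBaseChange M S _).2 (TensorProduct.isBaseChange R E S)
  have h3 : ∀ e, IsLocalizedModule.linearEquiv M (LinearMap.id : E →ₗ[R] E)
      (TensorProduct.mk R S E 1) e = TensorProduct.mk R S E 1 e := fun e =>
    IsLocalizedModule.linearEquiv_apply M (LinearMap.id : E →ₗ[R] E) (TensorProduct.mk R S E 1) e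
  have h4 : ⇑(TensorProduct.mk R S E 1) =
      ⇑(IsLocalizedModule.linearEquiv M (LinearMap.id : E →ₗ[R] E) (TensorProduct.mk R S E 1)) := by
    funext e
    exact (h3 e).symm
  rw [h4]
  exact LinearEquiv.bijective _

end

end Groth.Agent.Lib.helper13.InjTilde
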