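import Mathlib
import Groth.Agent.Lib.Helper13.InjTilde1
import Groth.Agent.Lib.Helper13.InjTilde2
import Groth.Agent.Lib.Helper25.StalkExact

set_option autoImplicit false
universe u
open CategoryTheory CategoryTheory.Limits AlgebraicGeometry Opposite TopologicalSpace

/-!
# The sheaf associated with an injective module which is local at a prime (helper13)
-/

namespace Groth.Agent.Lib.helper13.InjTilde
open Groth.Agent.Lib.Helper25.StalkSky Groth.Agent.Lib.helper13.TildeStalk

variable (R : CommRingCat.{u}) (x : Spec R)

lemma φ_eq : φ R x = (StructureSheaf.toStalk R x).hom := rfl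

/-- `O_{Spec R, x}` is the localization of `R` at `𝔭_x` (for the algebra structure given by `φ`) -/
lemma isLocalization_stalk :
    @IsLocalization.AtPrime _ _ ((Spec R).presheaf.stalk x) _ (φ R x).toAlgebra x.asIdeal _ :=
  StructureSheaf.IsLocalization.to_stalk R x

/-- the sheaf associated with an injective `R`-module `E` on which the elements outside `𝔭_x` act
bijectively and the elements of `𝔭_x` act locally nilpotently is an injective `O`-module -/
theorem injective_tilde_of_local (E : ModuleCat.{u} R) [Injective E]
    (ha : ∀ s : R, s ∉ x.asIdeal → Function.Bijective (fun e : E => s • e))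
    (hb : ∀ f : R, f ∈ x.asIdeal → ∀ e : E, ∃ k : ℕ, f ^ k • e = 0) :
    Injective ((tilde.functor R).obj E) := by
  letI alg : Algebra R ((Spec R).presheaf.stalk x) := (φ R x).toAlgebra
  haveI loc : IsLocalization.AtPrime ((Spec R).presheaf.stalk x) x.asIdeal :=
    isLocalization_stalk R x
  let N : ModuleCat.{u} ((Spec R).presheaf.stalk x) :=
    (ModuleCat.extendScalars.{u, u, u} (φ R x)).obj E
  let η : E ⟶ (ModuleCat.restrictScalars (φ R x)).obj N :=
    (ModuleCat.extendRestrictScalarsAdj.{u, u, u} (φ R x)).unit.app E
  have hη : Function.Bijective η.hom :=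
    bijective_mk_of_units x.asIdeal.primeCompl ((Spec R).presheaf.stalk x) E
      (fun s hs => ha s hs)
  haveI : IsIso η := (ConcreteCategory.isIso_iff_bijective η).2 hη
  have hN : ∀ f : R, f ∈ x.asIdeal → ∀ n : N, ∃ k : ℕ, (φ R x f) ^ k • n = 0 := by
    intro f hf n
    obtain ⟨e, rfl⟩ := hη.2 n
    obtain ⟨k, hk⟩ := hb f hf e
    refine ⟨k, ?_⟩
    have h1 : (η.hom (f ^ k • e) : N) = (φ R x f) ^ k • (η.hom e : N) := by
      rw [map_smul, ← map_pow]
      rfl
    exact h1.symm.trans (by rw [hk, map_zero]; rfl)
  -- injectivity of `N`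
  haveI h1 : Injective ((ModuleCat.restrictScalars (φ R x)).obj N) := Injective.of_iso (asIso η) ‹_›
  letI : Module R N := Module.compHom N (φ R x)
  haveI : IsScalarTower R ((Spec R).presheaf.stalk x) N :=
    IsScalarTower.of_algebraMap_smul (fun r n => rfl)
  have h2 : Module.Injective R N :=
    Module.injective_module_of_injective_object R ((ModuleCat.restrictScalars (φ R x)).obj N)
  have h3 : Module.Injective ((Spec R).presheaf.stalk x) N :=
    injective_of_isLocalization x.asIdeal.primeCompl _ N h2
  haveI h4 : Injective N := @Module.injective_object_of_injective_module _ N _ _ _ h3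
  haveI h5 : Injective ((sky x).obj N) := Injective.injective_of_adjoint (stalkSkyAdj x) N
  exact Injective.of_iso ((tilde.functor R).mapIso (asIso η) ≪≫ tildeSkyIso R x N hN).symm h5

end Groth.Agent.Lib.helper13.InjTilde
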