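import Mathlib

set_option autoImplicit false
universe u

/-!
# Indecomposable injective modules over a Noetherian ring are local and torsion (helper13, module level)
-/

namespace Groth.Agent.Lib.helper13.InjTilde

variable {R : Type u} [CommRing R] [IsNoetherianRing R] {E : Type u} [AddCommGroup E] [Module R E]

/-- module-level hypotheses: `x` has prime annihilator `𝔭` and `R x` is essential in `E` -/
structure LocalData (𝔭 : Ideal R) (x : E) : Prop where
  prime : 𝔭.IsPrime
  ann : ∀ r : R, r ∈ 𝔭 ↔ r • x = 0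
  ess : ∀ y : E, y ≠ 0 → ∃ a b : R, a • y = b • x ∧ b • x ≠ 0

omit [IsNoetherianRing R] in
lemma LocalData.smul_injective {𝔭 : Ideal R} {x : E} (h : LocalData 𝔭 x) (s : R) (hs : s ∉ 𝔭) :
    Function.Injective (fun e : E => s • e) := by
  haveI := h.prime
  intro y y' hyy'
  have hz : s • (y - y') = 0 := by
    rw [smul_sub]; exact sub_eq_zero.2 hyy'
  by_contra hne
  have hne' : y - y' ≠ 0 := sub_ne_zero.2 hne
  obtain ⟨a, b, hab, hb⟩ := h.ess _ hne'
  have h1 : (s * b) • x = 0 := by
    rw [mul_smul, ← hab, smul_comm, hz, smul_zero]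
  have h2 : s * b ∈ 𝔭 := (h.ann _).2 h1
  have h3 : b ∈ 𝔭 := (h.prime.mem_or_mem h2).resolve_left hs
  exact hb ((h.ann b).1 h3)

lemma LocalData.exists_pow_smul_eq_zero {𝔭 : Ideal R} {x : E} (h : LocalData 𝔭 x) (f : R)
    (hf : f ∈ 𝔭) (y : E) : ∃ k : ℕ, f ^ k • y = 0 := by
  let I : ℕ →o Ideal R :=
    { toFun := fun k => (⊥ : Submodule R E).colon {f ^ k • y}
      monotone' := by
        apply monotone_nat_of_le_succ
        intro k a ha
        rw [Submodule.mem_colon_singleton, Submodule.mem_bot] at ha ⊢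
        rw [pow_succ', mul_smul, smul_comm, ha, smul_zero] }
  obtain ⟨k, hk⟩ := monotone_stabilizes_iff_noetherian.2 ‹IsNoetherianRing R› I
  refine ⟨k, ?_⟩
  by_contra hne
  obtain ⟨a, b, hab, hb⟩ := h.ess _ hne
  have h1 : a ∈ I (k + 1) := by
    show a ∈ (⊥ : Submodule R E).colon {f ^ (k + 1) • y}
    rw [Submodule.mem_colon_singleton, Submodule.mem_bot, pow_succ', mul_smul, smul_comm, hab,
      smul_comm, (h.ann f).1 hf, smul_zero]
  rw [← hk (k + 1) (Nat.le_succ k)] at h1
  have h2 : a • f ^ k • y = 0 := by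
    have : a ∈ (⊥ : Submodule R E).colon {f ^ k • y} := h1
    rwa [Submodule.mem_colon_singleton, Submodule.mem_bot] at this
  exact hb (hab ▸ h2)

end Groth.Agent.Lib.helper13.InjTilde
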