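import Mathlib
import Groth.Agent.Lib.Helper13.GD8
import Groth.Agent.Lib.Helper13.InjTilde4

set_option autoImplicit false
universe u
open CategoryTheory CategoryTheory.Limits

/-!
# Indecomposable injective modules over a Noetherian ring are local and torsion (helper13)
-/

namespace Groth.Agent.Lib.helper13.InjTilde

open Groth.Agent.Lib.helper13.GD

variable {R : Type u} [CommRing R] [IsNoetherianRing R]

/-- an injective endomorphism of an indecomposable injective module is bijective -/
lemma bijective_of_injective_of_indec (E : ModuleCat.{u} R) [Injective E] (hind : Indec E)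
    (hE : ¬ IsZero E) (s : E ⟶ E) (hs : Function.Injective s.hom) : Function.Bijective s.hom := by
  haveI : Mono s := (ModuleCat.mono_iff_injective s).2 hs
  let r : E ⟶ E := Injective.factorThru (𝟙 E) s
  have hr : s ≫ r = 𝟙 E := Injective.comp_factorThru _ _
  have hK : IsZero (kernel r) := (hind _ _ ⟨isoBiprodOfRetract s r hr⟩).resolve_left hE
  haveI : Mono r := Preadditive.mono_of_isZero_kernel _ hK
  have hrs : r ≫ s = 𝟙 E := by
    rw [← cancel_mono r, Category.assoc, hr, Category.comp_id, Category.id_comp]
  haveI : IsIso s := ⟨r, hr, hrs⟩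
  exact ConcreteCategory.bijective_of_isIso s

/-- an indecomposable injective module over a Noetherian ring is local at a prime `𝔭` and
`𝔭`-power torsion -/
theorem exists_prime_of_indec (E : ModuleCat.{u} R) [Injective E] (hind : Indec E)
    (hE : ¬ IsZero E) :
    ∃ 𝔭 : Ideal R, 𝔭.IsPrime ∧
      (∀ s : R, s ∉ 𝔭 → Function.Bijective (fun e : E => s • e)) ∧
      (∀ f : R, f ∈ 𝔭 → ∀ e : E, ∃ k : ℕ, f ^ k • e = 0) := by
  haveI : Nontrivial E := by
    by_contra hcon
    rw [not_nontrivial_iff_subsingleton] at hcon
    exact hE (ModuleCat.isZero_of_subsingleton E)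
  obtain ⟨𝔭, h𝔭⟩ := associatedPrimes.nonempty R E
  obtain ⟨hprime, x, hx⟩ := isAssociatedPrime_iff.1 h𝔭
  have hann : ∀ r : R, r ∈ 𝔭 ↔ r • x = 0 := fun r => by
    rw [hx, Submodule.mem_colon_singleton, Submodule.mem_bot]
  have hx0 : x ≠ 0 := by
    intro h0
    apply hprime.ne_top
    rw [Ideal.eq_top_iff_one, hann, h0, smul_zero]
  -- essentiality
  let U : ModuleCat.{u} R := ModuleCat.of R (Submodule.span R {x})
  let u₀ : U ⟶ E := ModuleCat.ofHom (Submodule.span R {x}).subtype
  haveI : Mono u₀ := (ModuleCat.mono_iff_injective u₀).2 (Submodule.injective_subtype _)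
  have hU : ¬ IsZero U := by
    intro hz
    have : Subsingleton U := ModuleCat.subsingleton_of_isZero hz
    have h1 : (⟨x, Submodule.mem_span_singleton_self x⟩ : Submodule.span R {x}) = 0 :=
      Subsingleton.elim _ _
    exact hx0 (congrArg Subtype.val h1)
  have hess := ess_of_indec.{u} hind u₀ hU
  have hdata : LocalData 𝔭 x :=
    { prime := hprime
      ann := hann
      ess := by
        intro y hy
        by_contra hcon
        push Not at hcon
        let g : E ⟶ ModuleCat.of R (E ⧸ Submodule.span R {y}) :=
          ModuleCat.ofHom (Submodule.span R {y}).mkQ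
        have hmono : Mono (u₀ ≫ g) := by
          rw [ModuleCat.mono_iff_injective]
          rw [injective_iff_map_eq_zero]
          rintro ⟨z, hz⟩ hz0
          obtain ⟨b, rfl⟩ := Submodule.mem_span_singleton.1 hz
          have h1 : (Submodule.span R {y}).mkQ (b • x) = 0 := hz0
          rw [Submodule.mkQ_apply, Submodule.Quotient.mk_eq_zero, Submodule.mem_span_singleton] at h1
          obtain ⟨a, ha⟩ := h1
          have := hcon a b ha
          exact Subtype.ext this
        have hg : Mono g := hess g hmono
        rw [ModuleCat.mono_iff_injective] at hg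
        apply hy
        apply hg
        show (Submodule.span R {y}).mkQ y = (Submodule.span R {y}).mkQ 0
        rw [map_zero, Submodule.mkQ_apply, Submodule.Quotient.mk_eq_zero]
        exact Submodule.mem_span_singleton_self y }
  refine ⟨𝔭, hprime, ?_, fun f hf e => hdata.exists_pow_smul_eq_zero f hf e⟩
  intro s hs
  have hinj := hdata.smul_injective s hs
  exact bijective_of_injective_of_indec E hind hE
    (ModuleCat.ofHom (LinearMap.lsmul R E s)) hinj

end Groth.Agent.Lib.helper13.InjTilde
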