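import Mathlib

set_option autoImplicit false
universe u
open CategoryTheory CategoryTheory.Limits

/-!
# Direct sums of injective modules over a Noetherian ring (Bass) (helper13)
-/

namespace Groth.Agent.Lib.helper13.InjTilde

open DirectSum

section

variable {R : Type u} [CommRing R] [IsNoetherianRing R] {ι : Type u} (Z : ι → Type u)
  [∀ i, AddCommGroup (Z i)] [∀ i, Module R (Z i)]

open Classical in
/-- **Bass**: over a Noetherian ring, a direct sum of injective modules is injective -/
theorem injective_directSum (hZ : ∀ i, Module.Injective R (Z i)) :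
    Module.Injective R (⨁ i, Z i) := by
  apply Module.Baer.injective
  intro I g
  haveI : Module.Finite R I := Module.Finite.of_fg (IsNoetherian.noetherian I)
  obtain ⟨n, a, ha⟩ := Module.Finite.exists_fin (R := R) (M := I)
  let T : Finset ι := Finset.univ.biUnion (fun j : Fin n => (g (a j)).support)
  let Q : Submodule R (⨁ i, Z i) :=
    { carrier := {z | ∀ i, i ∉ T → z i = 0}
      add_mem' := fun {z z'} hz hz' i hi => by
        rw [DirectSum.add_apply, hz i hi, hz' i hi, add_zero]
      zero_mem' := fun i _ => rfl
      smul_mem' := fun r z hz i hi => by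
        rw [DirectSum.smul_apply, hz i hi, smul_zero] }
  have hQ : ∀ b : I, g b ∈ Q := by
    intro b
    have hb : b ∈ (⊤ : Submodule R I) := trivial
    rw [← ha] at hb
    have hle : Submodule.span R (Set.range a) ≤ Q.comap g := by
      rw [Submodule.span_le]
      rintro _ ⟨j, rfl⟩
      intro i hi
      by_contra hne
      apply hi
      rw [Finset.mem_biUnion]
      exact ⟨j, Finset.mem_univ j, DFinsupp.mem_support_iff.2 hne⟩
    exact hle hb
  have hsum : ∀ z ∈ Q, z = ∑ i ∈ T, DirectSum.lof R ι Z i (z i) := by
    intro z hz
    have h1 : ∑ i ∈ z.support, DirectSum.of Z i (z i) = z := DirectSum.sum_support_of z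
    have h2 : z.support ⊆ T := by
      intro i hi
      by_contra hcon
      exact (DFinsupp.mem_support_iff.1 hi) (hz i hcon)
    rw [← Finset.sum_subset h2] 
    · exact h1.symm
    · intro i _ hi
      have : z i = 0 := by
        by_contra hne
        exact hi (DFinsupp.mem_support_iff.2 hne)
      rw [this, map_zero]
  choose h hh using fun i =>
    Module.Baer.of_injective (hZ i) I ((DirectSum.component R ι Z i).comp g)
  refine ⟨∑ i ∈ T, (DirectSum.lof R ι Z i).comp (h i), ?_⟩
  intro x mem
  rw [hsum _ (hQ ⟨x, mem⟩), LinearMap.sum_apply]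
  apply Finset.sum_congr rfl
  intro i _
  rw [LinearMap.comp_apply, hh i x mem]
  rfl

end

end Groth.Agent.Lib.helper13.InjTilde
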