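import Mathlib
import Groth.Agent.Lib.Helper13.GD7
import Groth.Agent.Lib.Helper13.NoethInj
import Groth.Agent.Lib.Helper13.InjTilde3
import Groth.Agent.Lib.Helper13.InjTilde5
import Groth.Agent.Lib.Helper13.InjTilde6

set_option autoImplicit false
universe u
open CategoryTheory CategoryTheory.Limits AlgebraicGeometry

/-!
# The sheaf associated with an injective module over a Noetherian ring is injective (helper13)
-/

namespace Groth.Agent.Lib.helper13.InjTilde

open Groth.Agent.Lib.helper13.GD

section

variable {R : Type u} [CommRing R] [IsNoetherianRing R]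

open Classical in
/-- coproducts of injective modules over a Noetherian ring are injective -/
theorem injective_sigma_moduleCat {ι : Type u} (J : ι → ModuleCat.{u} R)
    (hJ : ∀ i, Injective (J i)) : Injective (∐ J) := by
  have hJ' : ∀ i, Module.Injective R (J i : Type u) := fun i =>
    haveI := hJ i
    Module.injective_module_of_injective_object R (J i)
  haveI h := injective_directSum (R := R) (fun i => (J i : Type u)) hJ'
  haveI := Module.injective_object_of_injective_module R (DirectSum ι fun i => (J i : Type u))
  exact Injective.of_iso (ModuleCat.coprodIsoDirectSum J).symm inferInstance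

/-- every nonzero module over a Noetherian ring has a nonzero Noetherian submodule -/
theorem hasNoethSub_moduleCat : HasNoethSub (ModuleCat.{u} R) := by
  intro M hM
  have : Nontrivial M := by
    by_contra hcon
    rw [not_nontrivial_iff_subsingleton] at hcon
    exact hM (ModuleCat.isZero_of_subsingleton M)
  obtain ⟨x, hx⟩ := exists_ne (0 : M)
  let N : ModuleCat.{u} R := ModuleCat.of R (Submodule.span R {x})
  let i : N ⟶ M := ModuleCat.ofHom (Submodule.span R {x}).subtype
  refine ⟨N, i, (ModuleCat.mono_iff_injective i).2 (Submodule.injective_subtype _), ?_, ?_⟩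
  · haveI : IsNoetherian R (Submodule.span R {x}) :=
      isNoetherian_span_of_finite R (Set.finite_singleton x)
    haveI : WellFoundedGT (Submodule R (Submodule.span R {x})) := inferInstance
    have : WellFoundedGT (Subobject N) :=
      (ModuleCat.subobjectModule N).toOrderEmbedding.wellFoundedGT
    exact ⟨this⟩
  · intro hz
    have : Subsingleton N := ModuleCat.subsingleton_of_isZero hz
    have h1 : (⟨x, Submodule.mem_span_singleton_self x⟩ : Submodule.span R {x}) = 0 :=
      Subsingleton.elim _ _
    exact hx (congrArg Subtype.val h1)

end

/-- **the sheaf associated with an injective module over a Noetherian ring is an injective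
`O`-module** -/
theorem injective_tilde (R : CommRingCat.{u}) [IsNoetherianRing R] (M : ModuleCat.{u} R)
    [Injective M] : Injective ((tilde.functor R).obj M) := by
  obtain ⟨ι, J, hJinj, hJnz, hJind, ⟨e⟩⟩ := GD.exists_decomposition.{u} (hasNoethSub_moduleCat (R := R))
    (fun ι J hJ => injective_sigma_moduleCat J hJ) M
  have hJ' : ∀ i, Injective ((tilde.functor R).obj (J i)) := by
    intro i
    haveI := hJinj i
    obtain ⟨𝔭, h𝔭, ha, hb⟩ := exists_prime_of_indec (J i) (hJind i) (hJnz i)
    exact injective_tilde_of_local R ⟨𝔭, h𝔭⟩ (J i) ha hb
  haveI : IsLocallyNoetherian (Spec R) := inferInstance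
  have h1 : Injective (∐ fun i => (tilde.functor R).obj (J i)) :=
    Groth.Agent.Lib.helper13.NoethInj.injective_sigma (Spec R) _ hJ'
  have e2 : (tilde.functor R).obj (∐ J) ≅ ∐ fun i => (tilde.functor R).obj (J i) :=
    PreservesCoproduct.iso (tilde.functor R) J
  exact Injective.of_iso ((tilde.functor R).mapIso e ≪≫ e2).symm h1

end Groth.Agent.Lib.helper13.InjTilde
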