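import Mathlib
import Groth.Agent.S9498
import Groth.Agent.Lib.Helper16.QCohPullback
import Groth.Agent.Lib.Helper13.NoethShriek
import Groth.Agent.Lib.Helper13.InjTilde7

set_option autoImplicit false
universe u
open CategoryTheory CategoryTheory.Limits AlgebraicGeometry TopologicalSpace Opposite

/-!
# Injectivity of a quasi-coherent module on an affine open versus injectivity of its sections
(helper13)
-/

namespace Groth.Agent.Lib.helper13.InjTilde

open Scheme.Modules Groth.Agent.Lib.helper16.QCohPullback

/-- restriction along an open immersion preserves injective objects -/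
lemma injective_restrict {U X : Scheme.{u}} (j : U ⟶ X) [IsOpenImmersion j] (I : X.Modules)
    [Injective I] : Injective (I.restrict j) :=
  Injective.injective_of_adjoint (Groth.Agent.Lib.helper13.NoethShriek.adj' j) I

lemma moduleInjective_of_equiv {R : Type u} [CommRing R] {M N : Type u} [AddCommGroup M]
    [Module R M] [AddCommGroup N] [Module R N] (e : M ≃ₗ[R] N) (h : Module.Injective R M) :
    Module.Injective R N :=
  Module.Baer.injective (Module.Baer.of_equiv e (Module.Baer.of_injective h))

variable {X : Scheme.{u}} (F : X.Modules) {U : X.Opens} (hU : IsAffineOpen U)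

/-- the restrictions along `U.ι` and along `Spec Γ(X, U) ⟶ X` correspond -/
noncomputable def restrictIso :
    (F.restrict hU.fromSpec).restrict hU.isoSpec.hom ≅ F.restrict U.ι :=
  ((restrictFunctorComp hU.isoSpec.hom hU.fromSpec).app F).symm ≪≫
    (restrictFunctorCongr (by simp)).app F

noncomputable def restrictIso' :
    (F.restrict U.ι).restrict hU.isoSpec.inv ≅ F.restrict hU.fromSpec :=
  ((restrictFunctorComp hU.isoSpec.inv U.ι).app F).symm ≪≫
    (restrictFunctorCongr hU.isoSpec_inv_ι).app F

lemma injective_restrict_ι_iff :
    Injective (F.restrict U.ι) ↔ Injective (F.restrict hU.fromSpec) := by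
  constructor
  · intro h
    haveI := h
    exact Injective.of_iso (restrictIso' F hU) (injective_restrict hU.isoSpec.inv _)
  · intro h
    haveI := h
    exact Injective.of_iso (restrictIso F hU) (injective_restrict hU.isoSpec.hom _)

/-- `tilde` reflects injectivity -/
lemma injective_of_injective_tilde (R : CommRingCat.{u}) (M : ModuleCat.{u} R)
    [Injective ((tilde.functor R).obj M)] : Injective M := by
  haveI := Groth.Agent.S9498.preservesFiniteLimits_tilde R
  constructor
  intro A B g i _
  haveI : Mono ((tilde.functor R).map i) := inferInstance
  refine ⟨(tilde.fullyFaithfulFunctor (R := R)).preimage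
    (Injective.factorThru ((tilde.functor R).map g) ((tilde.functor R).map i)), ?_⟩
  apply (tilde.functor R).map_injective
  rw [Functor.map_comp, Functor.FullyFaithful.map_preimage, Injective.comp_factorThru]

variable [IsLocallyNoetherian X] [F.IsQuasicoherent]

include hU in
/-- on an affine open of a locally Noetherian scheme, a quasi-coherent module with injective
module of sections restricts to an injective `O_U`-module -/
theorem injective_restrict_of_sections (h : Module.Injective Γ(X, U) Γ(F, U)) :
    Injective (F.restrict U.ι) := by
  haveI : IsNoetherianRing Γ(X, U) := IsLocallyNoetherian.component_noetherian ⟨U, hU⟩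
  rw [injective_restrict_ι_iff F hU]
  have h1 : Module.Injective Γ(X, U) (secMod F hU) := moduleInjective_of_equiv (secEquiv F hU) h
  haveI h2 : Injective (secMod F hU) :=
    Module.injective_object_of_injective_module Γ(X, U) (secMod F hU)
  have h3 := injective_tilde Γ(X, U) (secMod F hU)
  haveI : (F.restrict hU.fromSpec).IsQuasicoherent := inferInstance
  haveI : IsIso (F.restrict hU.fromSpec).fromTildeΓ := inferInstance
  exact Injective.of_iso (asIso (F.restrict hU.fromSpec).fromTildeΓ) h3

include hU in
/-- conversely the module of sections over an affine open of a quasi-coherent module whose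
restriction is injective is an injective module -/
theorem injective_sections_of_restrict (h : Injective (F.restrict U.ι)) :
    Module.Injective Γ(X, U) Γ(F, U) := by
  rw [injective_restrict_ι_iff F hU] at h
  haveI : (F.restrict hU.fromSpec).IsQuasicoherent := inferInstance
  haveI : IsIso (F.restrict hU.fromSpec).fromTildeΓ := inferInstance
  haveI : Injective ((tilde.functor Γ(X, U)).obj (secMod F hU)) :=
    Injective.of_iso (asIso (F.restrict hU.fromSpec).fromTildeΓ).symm h
  haveI := injective_of_injective_tilde Γ(X, U) (secMod F hU)
  have h1 : Module.Injective Γ(X, U) (secMod F hU) :=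
    Module.injective_module_of_injective_object Γ(X, U) (secMod F hU)
  exact moduleInjective_of_equiv (secEquiv F hU).symm h1

end Groth.Agent.Lib.helper13.InjTilde
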