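import Mathlib
import Groth.Prelude.Def_CxOX
import Groth.Agent.Lib.Helper13.BaerBasis
import Groth.Agent.Lib.Helper13.NoethShriek
import Groth.Agent.Lib.Helper13.NoethInj
import Groth.Agent.Lib.Helper7.RestrictSupport

/-!
# Injectivity of O_X-modules is local (helper13)
-/

set_option autoImplicit false
universe u
open CategoryTheory CategoryTheory.Limits AlgebraicGeometry Opposite
open Scheme.Modules

namespace Groth.Agent.Lib.helper13.LocInj

open Groth.Agent.Lib.helper13.NoethShriek Groth.Agent.Lib.helper13.BaerBasis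

section AbstractCat

variable {C D : Type*} [Category C] [Category D] [Abelian C] [Abelian D]
  {L : D ⥤ C} {R : C ⥤ D} (adj : L ⊣ R) [PreservesFiniteLimits L] [PreservesFiniteLimits R]
  [L.Additive] [R.Additive]

include adj in
/-- extension of morphisms from subobjects of `L G₀` into `F` when `R F` is injective -/
theorem exists_extension (hc : ∀ M, Mono (adj.counit.app M)) {E S F : C} (G₀ : D) (ε : E ≅ L.obj G₀)
    (i : S ⟶ E) [Mono i] (hF : Injective (R.obj F)) (φ : S ⟶ F) : ∃ ψ : E ⟶ F, i ≫ ψ = φ := by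
  have hE := isIso_counit_of_iso adj hc G₀ ε
  haveI := isIso_counit_of_mono adj hc i hE
  haveI : Mono (R.map i) := inferInstance
  let ψ' : R.obj E ⟶ R.obj F := Injective.factorThru (R.map φ) (R.map i)
  have hψ' : R.map i ≫ ψ' = R.map φ := Injective.comp_factorThru _ _
  refine ⟨inv (adj.counit.app E) ≫ L.map ψ' ≫ adj.counit.app F, ?_⟩
  have h1 : adj.counit.app S ≫ i = L.map (R.map i) ≫ adj.counit.app E :=
    (adj.counit.naturality i).symm
  have h2 : i ≫ inv (adj.counit.app E) = inv (adj.counit.app S) ≫ L.map (R.map i) := by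
    rw [IsIso.comp_inv_eq, Category.assoc, ← h1, IsIso.inv_hom_id_assoc]
  have h3 : L.map (R.map φ) ≫ adj.counit.app F = adj.counit.app S ≫ φ := adj.counit.naturality φ
  rw [← Category.assoc, h2, Category.assoc, ← Category.assoc (L.map _), ← L.map_comp, hψ', h3,
    IsIso.inv_hom_id_assoc]

end AbstractCat

noncomputable section

variable {X : Scheme.{u}} {V U : X.Opens} (h : V ≤ U)

/-- restriction to `V ≤ U` in two steps -/
def compIso : restrictFunctor U.ι ⋙ restrictFunctor (X.homOfLE h) ≅ restrictFunctor V.ι :=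
  (restrictFunctorComp (X.homOfLE h) U.ι).symm ≪≫ restrictFunctorCongr (X.homOfLE_ι h)

/-- the composite adjunction -/
def adjComp : L' (X.homOfLE h) ⋙ L' U.ι ⊣ restrictFunctor V.ι :=
  ((adj' (X.homOfLE h)).comp (adj' U.ι)).ofNatIsoRight (compIso h)

/-- `j_{V!} O_V` is in the image of `j_{U!}` for `V ≤ U` -/
def εV : E X V ≅ (L' U.ι).obj ((L' (X.homOfLE h)).obj (OU (V : Scheme.{u}))) :=
  (Groth.Agent.Lib.helper13.NoethInj.extZeroUnitIso V).symm ≪≫
    ((CxOX.extZeroAdj V.ι).leftAdjointUniq (adjComp h)).app (OU (V : Scheme.{u}))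

end

lemma isZero_of_isEmpty {X : Scheme.{u}} [IsEmpty X] (M : X.Modules) : IsZero M := by
  rw [Groth.Agent.Lib.helper7.RestrictSupport.isZero_iff_subsingleton_sections]
  intro V
  have hV : V = ⊥ := by
    ext y
    exact (IsEmpty.false y).elim
  rw [hV]
  have hT : IsTerminal ((⟨M.presheaf, M.isSheaf⟩ : TopCat.Sheaf Ab X).obj.obj (op ⊥)) :=
    TopCat.Sheaf.isTerminalOfEmpty _
  have hz : IsZero (M.presheaf.obj (op ⊥)) := by
    have : IsZero ((⟨M.presheaf, M.isSheaf⟩ : TopCat.Sheaf Ab X).obj.obj (op ⊥)) :=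
      (isZero_zero Ab).of_iso (hT.uniqueUpToIso (isZero_zero Ab).isTerminal)
    exact this
  exact AddCommGrpCat.subsingleton_of_isZero hz

/-- injectivity of `O_X`-modules is a local property -/
theorem injective_of_locally {X : Scheme.{u}} (F : X.Modules)
    (hF : ∀ x : X, ∃ U : X.Opens, x ∈ U ∧ Injective ((restrictFunctor U.ι).obj F)) :
    Injective F := by
  by_cases hX : Nonempty X
  · let ℬ : Set X.Opens := {V | ∃ U : X.Opens, V ≤ U ∧ Injective ((restrictFunctor U.ι).obj F)}
    have hB : TopologicalSpace.Opens.IsBasis ℬ := by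
      rw [TopologicalSpace.Opens.isBasis_iff_nbhd]
      intro W x hx
      obtain ⟨U, hxU, hU⟩ := hF x
      exact ⟨W ⊓ U, ⟨U, inf_le_right, hU⟩, ⟨hx, hxU⟩, inf_le_left⟩
    obtain ⟨x⟩ := hX
    obtain ⟨U₀, _, hU₀⟩ := hF x
    refine injective_of_baer X ℬ hB ⟨⊥, U₀, bot_le, hU₀⟩ F ?_
    rintro ⟨V, U, hVU, hU⟩ S i _ φ
    exact exists_extension (adj' U.ι) (fun M => mono_adj'_counit_app U.ι M) _ (εV hVU) i hU φ
  · haveI : IsEmpty X := not_nonempty_iff.1 hX
    have hz := isZero_of_isEmpty F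
    constructor
    intro A B g f _
    exact ⟨0, hz.eq_of_tgt _ _⟩

end Groth.Agent.Lib.helper13.LocInj
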