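import Mathlib
import Groth.Prelude.Def_FlatMod2
import Groth.Agent.Lib.Helper16.CohStalk
import Groth.Agent.Lib.Helper13.LocInj
import Groth.Agent.Lib.Helper13.InjTilde8
import Groth.Agent.Lib.Helper13.InjTilde9

set_option autoImplicit false
universe u
open CategoryTheory CategoryTheory.Limits AlgebraicGeometry TopologicalSpace Opposite

/-!
# A quasi-coherent module on a locally Noetherian scheme is injective iff its stalks are (helper13)
-/

namespace Groth.Agent.Lib.helper13.InjTilde

open Scheme.Modules Groth.Agent.Lib.helper16.CohStalk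

variable {X : Scheme.{u}} [IsLocallyNoetherian X] (F : X.Modules) [F.IsQuasicoherent]

/-- the stalks of an injective quasi-coherent module are injective -/
theorem injective_stalk_of_injective [Injective F] (x : X) :
    Module.Injective (X.presheaf.stalk x) (F.presheaf.stalk x) := by
  obtain ⟨_, ⟨U', hU' : IsAffineOpen U', rfl⟩, hxU', -⟩ :=
    X.isBasis_affineOpens.exists_subset_of_mem_open (Set.mem_univ x) isOpen_univ
  obtain ⟨U, hU, hxU⟩ : ∃ U : X.Opens, IsAffineOpen U ∧ x ∈ U := ⟨U', hU', hxU'⟩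
  haveI : IsNoetherianRing Γ(X, U) := IsLocallyNoetherian.component_noetherian ⟨U, hU⟩
  have h1 : Injective (F.restrict U.ι) := injective_restrict U.ι F
  have h2 : Module.Injective Γ(X, U) Γ(F, U) := injective_sections_of_restrict F hU h1
  letI := TopCat.Presheaf.algebra_section_stalk X.presheaf (⟨x, hxU⟩ : U)
  letI := modStalk F x hxU
  haveI := isScalarTower_stalk F x hxU
  haveI : IsLocalization.AtPrime (X.presheaf.stalk x) (hU.primeIdealOf ⟨x, hxU⟩).asIdeal :=
    hU.isLocalization_stalk ⟨x, hxU⟩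
  haveI := isLocalizedModule_stalk F hU x hxU
  exact injective_of_isLocalizedModule (hU.primeIdealOf ⟨x, hxU⟩).asIdeal.primeCompl
    (X.presheaf.stalk x) (germLin F x hxU) h2

/-- a quasi-coherent module on a locally Noetherian scheme all of whose stalks are injective is
injective -/
theorem injective_of_injective_stalks
    (h : ∀ x : X, Module.Injective (X.presheaf.stalk x) (F.presheaf.stalk x)) : Injective F := by
  apply Groth.Agent.Lib.helper13.LocInj.injective_of_locally
  intro x
  obtain ⟨_, ⟨U', hU' : IsAffineOpen U', rfl⟩, hxU', -⟩ :=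
    X.isBasis_affineOpens.exists_subset_of_mem_open (Set.mem_univ x) isOpen_univ
  obtain ⟨U, hU, hxU⟩ : ∃ U : X.Opens, IsAffineOpen U ∧ x ∈ U := ⟨U', hU', hxU'⟩
  refine ⟨U, hxU, ?_⟩
  haveI : IsNoetherianRing Γ(X, U) := IsLocallyNoetherian.component_noetherian ⟨U, hU⟩
  apply injective_restrict_of_sections F hU
  apply injective_of_forall_isLocalizedModule
  intro 𝔭 h𝔭
  let y' : Spec Γ(X, U) := ⟨𝔭, h𝔭⟩
  let y : X := hU.fromSpec y'
  have hy : y ∈ U := (hU.isoSpec.inv y').2
  have hprime : hU.primeIdealOf ⟨y, hy⟩ = y' :=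
    hU.fromSpec.isOpenEmbedding.injective (hU.fromSpec_primeIdealOf ⟨y, hy⟩)
  letI := TopCat.Presheaf.algebra_section_stalk X.presheaf (⟨y, hy⟩ : U)
  letI := modStalk F y hy
  haveI := isScalarTower_stalk F y hy
  haveI hloc : IsLocalization.AtPrime (X.presheaf.stalk y) (hU.primeIdealOf ⟨y, hy⟩).asIdeal :=
    hU.isLocalization_stalk ⟨y, hy⟩
  have hlm := isLocalizedModule_stalk F hU y hy
  have hp : (hU.primeIdealOf ⟨y, hy⟩).asIdeal = 𝔭 := by rw [hprime]
  have hpc : (hU.primeIdealOf ⟨y, hy⟩).asIdeal.primeCompl = 𝔭.primeCompl := by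
    ext a
    show a ∉ (hU.primeIdealOf ⟨y, hy⟩).asIdeal ↔ a ∉ 𝔭
    rw [hp]
  have hloc' : IsLocalization (hU.primeIdealOf ⟨y, hy⟩).asIdeal.primeCompl (X.presheaf.stalk y) :=
    hloc
  rw [hpc] at hlm hloc'
  haveI := hloc'
  exact ⟨F.presheaf.stalk y, inferInstance, inferInstance, germLin F y hy, hlm,
    injective_restrictScalars_of_isLocalization 𝔭.primeCompl (X.presheaf.stalk y) _ (h y)⟩

end Groth.Agent.Lib.helper13.InjTilde
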