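import Mathlib
import Groth.Agent.Lib.Helper25.TildePush
import Groth.Agent.Lib.Helper7.QCohPushQC
import Groth.Agent.Lib.Helper13.InjTilde8
import Groth.Agent.Lib.Helper13.InjTilde9

set_option autoImplicit false
universe u
open CategoryTheory CategoryTheory.Limits AlgebraicGeometry TopologicalSpace Opposite

/-!
# The direct image of `E~` along `Spec O_{X,x} ⟶ X` for an injective `O_{X,x}`-module `E` (helper13)
-/

namespace Groth.Agent.Lib.helper13.InjTilde

open Scheme.Modules

/-- pushforward along an open immersion preserves injective objects -/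
lemma injective_pushforward_of_isOpenImmersion {U X : Scheme.{u}} (j : U ⟶ X) [IsOpenImmersion j]
    (I : U.Modules) [Injective I] : Injective ((pushforward j).obj I) := by
  haveI : (restrictFunctor j).PreservesMonomorphisms :=
    Functor.preservesMonomorphisms_of_adjunction (Groth.Agent.Lib.helper13.NoethShriek.adj' j)
  exact Injective.injective_of_adjoint (restrictAdjunction j) I

variable {X : Scheme.{u}} [IsLocallyNoetherian X] (x : X)

/-- the direct image along `Spec O_{X,x} ⟶ X` of the sheaf associated with an injective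
`O_{X,x}`-module is an injective `O_X`-module -/
theorem injective_pushforward_fromSpecStalk (E : ModuleCat.{u} (X.presheaf.stalk x))
    (hE : Module.Injective (X.presheaf.stalk x) E) :
    Injective ((pushforward (X.fromSpecStalk x)).obj ((tilde.functor (X.presheaf.stalk x)).obj E)) := by
  obtain ⟨_, ⟨U', hU' : IsAffineOpen U', rfl⟩, hxU', -⟩ :=
    X.isBasis_affineOpens.exists_subset_of_mem_open (Set.mem_univ x) isOpen_univ
  obtain ⟨U, hU, hxU⟩ : ∃ U : X.Opens, IsAffineOpen U ∧ x ∈ U := ⟨U', hU', hxU'⟩
  haveI : IsNoetherianRing Γ(X, U) := IsLocallyNoetherian.component_noetherian ⟨U, hU⟩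
  let φ : Γ(X, U) ⟶ X.presheaf.stalk x := X.presheaf.germ U x hxU
  have hfac : Spec.map φ ≫ hU.fromSpec = X.fromSpecStalk x := hU.fromSpecStalk_eq_fromSpecStalk hxU
  -- `E` is injective over `Γ(X, U)`
  letI alg : Algebra Γ(X, U) (X.presheaf.stalk x) :=
    TopCat.Presheaf.algebra_section_stalk X.presheaf (⟨x, hxU⟩ : U)
  haveI : IsLocalization.AtPrime (X.presheaf.stalk x) (hU.primeIdealOf ⟨x, hxU⟩).asIdeal :=
    hU.isLocalization_stalk ⟨x, hxU⟩
  letI : Module Γ(X, U) E := Module.compHom E φ.hom
  haveI : IsScalarTower Γ(X, U) (X.presheaf.stalk x) E :=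
    IsScalarTower.of_algebraMap_smul (fun r n => rfl)
  have h1 : Module.Injective Γ(X, U) E :=
    injective_restrictScalars_of_isLocalization (hU.primeIdealOf ⟨x, hxU⟩).asIdeal.primeCompl
      (X.presheaf.stalk x) E hE
  haveI h2 : Injective ((ModuleCat.restrictScalars φ.hom).obj E) :=
    Module.injective_object_of_injective_module Γ(X, U) E
  haveI h3 : Injective ((tilde.functor Γ(X, U)).obj ((ModuleCat.restrictScalars φ.hom).obj E)) :=
    injective_tilde Γ(X, U) _
  haveI h4 : Injective ((pushforward (Spec.map φ)).obj ((tilde.functor (X.presheaf.stalk x)).obj E)) :=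
    Injective.of_iso ((Groth.Agent.Lib.Helper25.TildePush.tildePushIso φ).app E).symm h3
  have h5 := injective_pushforward_of_isOpenImmersion hU.fromSpec
    ((pushforward (Spec.map φ)).obj ((tilde.functor (X.presheaf.stalk x)).obj E))
  exact Injective.of_iso (((pushforwardComp (Spec.map φ) hU.fromSpec).app _) ≪≫
    (pushforwardCongr hfac).app _) h5

/-- the direct image along `Spec O_{X,x} ⟶ X` of a quasi-coherent module is quasi-coherent -/
theorem isQuasicoherent_pushforward_fromSpecStalk (G : (Spec (X.presheaf.stalk x)).Modules)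
    [G.IsQuasicoherent] : ((pushforward (X.fromSpecStalk x)).obj G).IsQuasicoherent :=
  Groth.Agent.Lib.helper7.QCohPushQC.isQuasicoherent_pushforward (X.fromSpecStalk x) G

end Groth.Agent.Lib.helper13.InjTilde
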