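import Mathlib

/-!
# The Jacobian determinant and the naive cotangent complex, algebra part (helper13, S8806)

Mathlib only.  `B = A[x_1..x_n]/(f_1..f_m)`, `m ≤ n`, `J` the `m × m` Jacobian matrix for the first
`m` variables (over `B`), `S` the presentation of `B` by all of its elements (the one used by
`Algebra.Generators.self`), `d = S.cotangentComplex : I/I² → ⊕ B dx`.
* `hS : S.CotangentSpace → S.Cotangent`, `US : S.CotangentSpace → S.CotangentSpace` with
  `hS_d : hS ∘ d = det J`, `d_hS_add_US : d ∘ hS + US = det J`, `US_d : US ∘ d = 0`,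
  `US_eq_zero : n = m → US = 0`, `det_J`.
-/

set_option autoImplicit false
universe u
open MvPolynomial Algebra

namespace Groth.Agent.Lib.helper13.JacNL

variable (A : Type u) [CommRing A] (n m : ℕ) (hmn : m ≤ n) (f : Fin m → MvPolynomial (Fin n) A)

/-- the quotient ring -/
abbrev B : Type u := MvPolynomial (Fin n) A ⧸ Ideal.span (Set.range f)

/-- the naive generators -/
noncomputable def P : Generators A (B A n m f) (Fin n) :=
  Generators.naive (I := Ideal.span (Set.range f))

lemma P_ker : (P A n m f).ker = Ideal.span (Set.range f) := Generators.ker_naive _ _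

/-- the extension -/
noncomputable abbrev E : Extension A (B A n m f) := (P A n m f).toExtension

lemma aeval_P_val (q : MvPolynomial (Fin n) A) :
    aeval (P A n m f).val q = Ideal.Quotient.mk (Ideal.span (Set.range f)) q := by
  rw [← Generators.algebraMap_apply]
  rfl

/-- the classes of the `f j` in `I/I²` -/
noncomputable def c (j : Fin m) : (E A n m f).Cotangent :=
  Extension.Cotangent.mk ⟨f j, by
    change f j ∈ (P A n m f).ker
    rw [P_ker]
    exact Ideal.subset_span ⟨j, rfl⟩⟩

lemma span_c : Submodule.span (B A n m f) (Set.range (c A n m f)) = ⊤ :=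
  Extension.Cotangent.span_eq_top_of_span_eq_ker (P := E A n m f) f (P_ker A n m f).symm

/-- the Jacobian matrix (first `m` variables) over `B` -/
noncomputable def J : Matrix (Fin m) (Fin m) (B A n m f) :=
  Matrix.of (fun i j => Ideal.Quotient.mk _ (pderiv (Fin.castLE hmn i) (f j)))

/-- projection to the first `m` coordinates -/
noncomputable def pr : (E A n m f).CotangentSpace →ₗ[B A n m f] (Fin m → B A n m f) :=
  LinearMap.pi (fun i => (Finsupp.lapply (Fin.castLE hmn i)) ∘ₗ
    (P A n m f).cotangentSpaceBasis.repr.toLinearMap)

lemma pr_d_c (j : Fin m) (i : Fin m) :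
    pr A n m hmn f ((E A n m f).cotangentComplex (c A n m f j)) i = J A n m hmn f i j := by
  simp only [pr, c, LinearMap.pi_apply, LinearMap.coe_comp, Function.comp_apply,
    Extension.cotangentComplex_mk, LinearEquiv.coe_coe, Finsupp.lapply_apply, J, Matrix.of_apply]
  rw [Generators.cotangentSpaceBasis_repr_one_tmul, aeval_P_val]

/-- the surjection `B^m → I/I²` -/
noncomputable def π : (Fin m → B A n m f) →ₗ[B A n m f] (E A n m f).Cotangent :=
  Fintype.linearCombination (B A n m f) (c A n m f)

lemma π_surjective : Function.Surjective (π A n m f) := by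
  rw [← LinearMap.range_eq_top, π, Fintype.range_linearCombination, span_c]

lemma pr_d_π (v : Fin m → B A n m f) :
    pr A n m hmn f ((E A n m f).cotangentComplex (π A n m f v)) = (J A n m hmn f).mulVec v := by
  ext i
  simp only [π, Fintype.linearCombination_apply, map_sum, map_smul, Finset.sum_apply,
    Pi.smul_apply, pr_d_c, Matrix.mulVec, dotProduct, smul_eq_mul]
  exact Finset.sum_congr rfl (fun j _ => mul_comm _ _)

/-- the homotopy on the explicit presentation -/
noncomputable def hE : (E A n m f).CotangentSpace →ₗ[B A n m f] (E A n m f).Cotangent :=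
  π A n m f ∘ₗ (J A n m hmn f).adjugate.mulVecLin ∘ₗ pr A n m hmn f

lemma hE_d (y : (E A n m f).Cotangent) :
    hE A n m hmn f ((E A n m f).cotangentComplex y) = (J A n m hmn f).det • y := by
  obtain ⟨v, rfl⟩ := π_surjective A n m f y
  simp only [hE, LinearMap.coe_comp, Function.comp_apply, pr_d_π, Matrix.mulVecLin_apply,
    Matrix.mulVec_mulVec, Matrix.adjugate_mul, Matrix.smul_mulVec, Matrix.one_mulVec, map_smul]

lemma pr_injective (h : n = m) : Function.Injective (pr A n m hmn f) := by
  subst h
  intro v w hvw
  apply (P A n n f).cotangentSpaceBasis.repr.injective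
  ext i
  have := congrFun hvw i
  simpa [pr] using this

lemma d_hE (h : n = m) (w : (E A n m f).CotangentSpace) :
    (E A n m f).cotangentComplex (hE A n m hmn f w) = (J A n m hmn f).det • w := by
  apply pr_injective A n m hmn f h
  simp only [hE, LinearMap.coe_comp, Function.comp_apply, pr_d_π, Matrix.mulVecLin_apply,
    Matrix.mulVec_mulVec, Matrix.mul_adjugate, Matrix.smul_mulVec, Matrix.one_mulVec, map_smul]

/-- the presentation by all elements -/
noncomputable abbrev S : Extension A (B A n m f) := (Generators.self A (B A n m f)).toExtension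

noncomputable def φ₁ : (S A n m f).Hom (E A n m f) :=
  ((Generators.self A (B A n m f)).defaultHom (P A n m f)).toExtensionHom

noncomputable def φ₂ : (E A n m f).Hom (S A n m f) :=
  ((P A n m f).defaultHom (Generators.self A (B A n m f))).toExtensionHom

noncomputable def k : (S A n m f).CotangentSpace →ₗ[B A n m f] (S A n m f).Cotangent :=
  ((φ₂ A n m f).comp (φ₁ A n m f)).sub (Extension.Hom.id (S A n m f))

lemma k_d (y : (S A n m f).Cotangent) :
    k A n m f ((S A n m f).cotangentComplex y) =
      Extension.Cotangent.map (φ₂ A n m f) (Extension.Cotangent.map (φ₁ A n m f) y) - y := by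
  have h := LinearMap.congr_fun (Extension.Cotangent.map_sub_map
    ((φ₂ A n m f).comp (φ₁ A n m f)) (Extension.Hom.id (S A n m f))) y
  rw [Extension.Cotangent.map_comp, Extension.Cotangent.map_id] at h
  exact h.symm

lemma d_k (w : (S A n m f).CotangentSpace) :
    (S A n m f).cotangentComplex (k A n m f w) =
      Extension.CotangentSpace.map (φ₂ A n m f) (Extension.CotangentSpace.map (φ₁ A n m f) w) - w := by
  have h := LinearMap.congr_fun (Extension.CotangentSpace.map_sub_map
    ((φ₂ A n m f).comp (φ₁ A n m f)) (Extension.Hom.id (S A n m f))) w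
  rw [Extension.CotangentSpace.map_comp, Extension.CotangentSpace.map_id] at h
  exact h.symm

/-- the homotopy on the presentation by all elements -/
noncomputable def hS : (S A n m f).CotangentSpace →ₗ[B A n m f] (S A n m f).Cotangent :=
  Extension.Cotangent.map (φ₂ A n m f) ∘ₗ hE A n m hmn f ∘ₗ
    Extension.CotangentSpace.map (φ₁ A n m f) - (J A n m hmn f).det • k A n m f

/-- the defect -/
noncomputable def US : (S A n m f).CotangentSpace →ₗ[B A n m f] (S A n m f).CotangentSpace :=
  Extension.CotangentSpace.map (φ₂ A n m f) ∘ₗ
    ((J A n m hmn f).det • LinearMap.id - (E A n m f).cotangentComplex ∘ₗ hE A n m hmn f) ∘ₗ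
    Extension.CotangentSpace.map (φ₁ A n m f)

lemma hS_d (y : (S A n m f).Cotangent) :
    hS A n m hmn f ((S A n m f).cotangentComplex y) = (J A n m hmn f).det • y := by
  simp only [hS, LinearMap.sub_apply, LinearMap.coe_comp, Function.comp_apply,
    LinearMap.smul_apply, k_d, Extension.CotangentSpace.map_cotangentComplex, hE_d, map_smul,
    smul_sub]
  abel

lemma d_hS_add_US (w : (S A n m f).CotangentSpace) :
    (S A n m f).cotangentComplex (hS A n m hmn f w) + US A n m hmn f w =
      (J A n m hmn f).det • w := by
  simp only [hS, US, LinearMap.sub_apply, LinearMap.coe_comp, Function.comp_apply,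
    LinearMap.smul_apply, map_sub, map_smul, d_k, smul_sub, LinearMap.id_apply,
    ← Extension.CotangentSpace.map_cotangentComplex]
  abel

lemma US_d (y : (S A n m f).Cotangent) :
    US A n m hmn f ((S A n m f).cotangentComplex y) = 0 := by
  simp only [US, LinearMap.sub_apply, LinearMap.coe_comp, Function.comp_apply,
    LinearMap.smul_apply, LinearMap.id_apply, Extension.CotangentSpace.map_cotangentComplex,
    hE_d, map_smul, sub_self, map_zero]

lemma US_eq_zero (h : n = m) : US A n m hmn f = 0 := by
  refine LinearMap.ext (fun w => ?_)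
  simp only [US, LinearMap.sub_apply, LinearMap.coe_comp, Function.comp_apply,
    LinearMap.smul_apply, LinearMap.id_apply, d_hE A n m hmn f h, sub_self, map_zero,
    LinearMap.zero_apply]

lemma det_J : (J A n m hmn f).det = Ideal.Quotient.mk (Ideal.span (Set.range f))
    (Matrix.det (Matrix.of (fun i j : Fin m => MvPolynomial.pderiv (Fin.castLE hmn i) (f j)))) := by
  rw [RingHom.map_det]
  rfl

end Groth.Agent.Lib.helper13.JacNL
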