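import Mathlib
import Groth.Prelude.Def_KZero

/-!
# `K₀` of a triangulated subcategory: basic relations and a dévissage-friendly predicate (helper13)

For an object property `P` of a pretriangulated category, closed under isomorphisms and containing the zero objects:
`clTr_triangle`, `clTr_zero`, `clTr_iso`, `clTr_shift_one`, `clTr_shift_nat`.  `closure_clTr_eq_top`: a subgroup
containing all classes `clTr P X` (`P X`) is everything.
-/

set_option autoImplicit false
universe v u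
open CategoryTheory CategoryTheory.Limits Pretriangulated KZero ZeroObject

namespace Groth.Agent.Lib.helper13.K0Dev

variable {D : Type u} [Category.{v} D] [Preadditive D] [HasZeroObject D] [HasShift D ℤ]
  [∀ n : ℤ, (shiftFunctor D n).Additive] [Pretriangulated D] (P : ObjectProperty D)

lemma clTr_of (X : D) (h : P X) :
    clTr P X = QuotientAddGroup.mk (FreeAbelianGroup.of ⟨X, h⟩) := dif_pos h

lemma clTr_triangle (T : Triangle D) (hT : T ∈ distTriang D) (h₁ : P T.obj₁) (h₂ : P T.obj₂)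
    (h₃ : P T.obj₃) : clTr P T.obj₂ = clTr P T.obj₁ + clTr P T.obj₃ := by
  rw [clTr_of P _ h₁, clTr_of P _ h₂, clTr_of P _ h₃, ← QuotientAddGroup.mk_add]
  rw [QuotientAddGroup.eq]
  have hx : FreeAbelianGroup.of (⟨T.obj₂, h₂⟩ : Subtype P) - FreeAbelianGroup.of ⟨T.obj₁, h₁⟩ -
      FreeAbelianGroup.of ⟨T.obj₃, h₃⟩ ∈ relTr P :=
    AddSubgroup.subset_closure ⟨T, h₁, h₂, h₃, hT, rfl⟩
  have := (relTr P).neg_mem hx
  convert this using 1
  abel

lemma closure_eq_top_of_forall (G : AddSubgroup (K0tr P)) (h : ∀ X : D, P X → clTr P X ∈ G) :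
    G = ⊤ := by
  rw [eq_top_iff]
  suffices key : ∀ x : K0tr P, x ∈ G from fun x _ => key x
  intro x
  induction x using QuotientAddGroup.induction_on with
  | H z =>
    induction z using FreeAbelianGroup.induction_on with
    | zero => exact G.zero_mem
    | of a =>
      have := h a.1 a.2
      rwa [clTr_of P a.1 a.2] at this
    | neg a ha => exact G.neg_mem ha
    | add a b ha hb => exact G.add_mem ha hb

variable (hiso : ∀ X Y : D, (X ≅ Y) → P X → P Y) (hzero : ∀ X : D, IsZero X → P X)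

include hzero in
lemma clTr_zeroObj : clTr P (0 : D) = 0 := by
  have h0 : P (0 : D) := hzero _ (isZero_zero D)
  have h := clTr_triangle P _ (contractible_distinguished (0 : D)) h0 h0 h0
  simpa using h

include hiso hzero in
lemma clTr_iso {X Y : D} (e : X ≅ Y) (hX : P X) : clTr P Y = clTr P X := by
  have h0 : P (0 : D) := hzero _ (isZero_zero D)
  have hT : Triangle.mk e.hom (0 : Y ⟶ 0) 0 ∈ distTriang D := by
    refine isomorphic_distinguished _ (contractible_distinguished X) _ ?_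
    exact Triangle.isoMk _ _ (Iso.refl _) e.symm (Iso.refl _)
      (by show e.hom ≫ e.inv = 𝟙 X ≫ 𝟙 X
          rw [Iso.hom_inv_id, Category.id_comp])
      (by show (0 : Y ⟶ 0) ≫ 𝟙 _ = e.inv ≫ (0 : X ⟶ 0)
          rw [zero_comp, comp_zero])
      (by show (0 : (0 : D) ⟶ X⟦(1 : ℤ)⟧) ≫ (shiftFunctor D (1 : ℤ)).map (𝟙 X) = 𝟙 0 ≫ 0
          rw [zero_comp, comp_zero])
  have h := clTr_triangle P _ hT hX (hiso _ _ e hX) h0
  simp only [Triangle.mk_obj₁, Triangle.mk_obj₂, Triangle.mk_obj₃] at h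
  rw [h, clTr_zeroObj P hzero, add_zero]

include hiso hzero in
lemma clTr_isZero {X : D} (hX : IsZero X) : clTr P X = 0 := by
  rw [clTr_iso P hiso hzero (hX.iso (isZero_zero D)).symm (hzero _ (isZero_zero D)),
    clTr_zeroObj P hzero]

include hzero in
lemma clTr_shift_one (X : D) (hX : P X) (hX1 : P (X⟦(1 : ℤ)⟧)) :
    clTr P (X⟦(1 : ℤ)⟧) = - clTr P X := by
  have h0 : P (0 : D) := hzero _ (isZero_zero D)
  have h := clTr_triangle P _ (contractible_distinguished₂ X) hX h0 hX1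
  simp only [Triangle.mk_obj₁, Triangle.mk_obj₂, Triangle.mk_obj₃] at h
  rw [clTr_zeroObj P hzero] at h
  exact (neg_eq_of_add_eq_zero_right h.symm).symm

section Pr

variable (G : AddSubgroup (K0tr P))
  (hshift : ∀ (X : D) (n : ℤ), P X → P (X⟦n⟧))
  (hext : ∀ T : Triangle D, T ∈ distTriang D → P T.obj₁ → P T.obj₃ → P T.obj₂)

/-- `X` satisfies `P` and its class lies in `G` -/
def Pr (X : D) : Prop := P X ∧ clTr P X ∈ G

include hiso hzero in
lemma pr_iso {X Y : D} (e : X ≅ Y) (h : Pr P G X) : Pr P G Y :=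
  ⟨hiso _ _ e h.1, by rw [clTr_iso P hiso hzero e h.1]; exact h.2⟩

include hiso hzero in
lemma pr_zero {X : D} (h : IsZero X) : Pr P G X :=
  ⟨hzero _ h, by rw [clTr_isZero P hiso hzero h]; exact G.zero_mem⟩

include hext in
lemma pr_ext (T : Triangle D) (hT : T ∈ distTriang D) (h₁ : Pr P G T.obj₁) (h₃ : Pr P G T.obj₃) :
    Pr P G T.obj₂ :=
  ⟨hext T hT h₁.1 h₃.1, by
    rw [clTr_triangle P T hT h₁.1 (hext T hT h₁.1 h₃.1) h₃.1]
    exact G.add_mem h₁.2 h₃.2⟩

include hzero hshift in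
lemma mem_shift_one (X : D) (hX : P X) : clTr P (X⟦(1 : ℤ)⟧) ∈ G ↔ clTr P X ∈ G := by
  rw [clTr_shift_one P hzero X hX (hshift X 1 hX), neg_mem_iff]

include hiso hzero hshift in
lemma mem_shift_nat (X : D) (hX : P X) (k : ℕ) :
    clTr P (X⟦(k : ℤ)⟧) ∈ G ↔ clTr P X ∈ G := by
  induction k with
  | zero =>
    have e : X⟦((0 : ℕ) : ℤ)⟧ ≅ X := (shiftFunctorZero D ℤ).app X
    rw [clTr_iso P hiso hzero e.symm hX]
  | succ k ih =>
    have e : (X⟦(k : ℤ)⟧)⟦(1 : ℤ)⟧ ≅ X⟦((k + 1 : ℕ) : ℤ)⟧ :=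
      ((shiftFunctorAdd' D (k : ℤ) 1 ((k + 1 : ℕ) : ℤ) (by push_cast; rfl)).app X).symm
    rw [clTr_iso P hiso hzero e (hshift _ 1 (hshift X k hX)),
      mem_shift_one P hzero G hshift _ (hshift X k hX), ih]

include hiso hzero hshift in
lemma pr_shift (X : D) (n : ℤ) (h : Pr P G X) : Pr P G (X⟦n⟧) := by
  refine ⟨hshift X n h.1, ?_⟩
  obtain ⟨k, rfl | rfl⟩ := Int.eq_nat_or_neg n
  · exact (mem_shift_nat P hiso hzero G hshift X h.1 k).2 h.2
  · have e : X ≅ (X⟦(-(k : ℤ))⟧)⟦(k : ℤ)⟧ :=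
      ((shiftFunctorZero D ℤ).app X).symm ≪≫
        (shiftFunctorAdd' D (-(k : ℤ)) (k : ℤ) 0 (by omega)).app X
    have h1 : clTr P ((X⟦(-(k : ℤ))⟧)⟦(k : ℤ)⟧) ∈ G := by
      rw [clTr_iso P hiso hzero e h.1]
      exact h.2
    exact (mem_shift_nat P hiso hzero G hshift _ (hshift X _ h.1) k).1 h1

end Pr

end Groth.Agent.Lib.helper13.K0Dev
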