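import Mathlib
import Groth.Prelude.Def_KZero
import Groth.Prelude.Def_DRing2
import Groth.Prelude.Def_Koszul
import Groth.Agent.Lib.Helper13.K0Dev1
import Groth.Agent.Lib.Helper23.PerfDev
import Groth.Agent.Lib.Helper23.Devissage
import Groth.Agent.Lib.Helper8.StalkLenAlg
import Groth.Agent.S15821

/-!
# `K₀` of perfect complexes supported at the closed point of a regular local ring (helper13)

* `SuppIn R Z K` (all cohomology modules of `K ∈ D(R)` supported in `Z`): `suppIn_of_iso`, `suppIn_of_isZero`,
  `suppIn_shift`, `suppIn_ext` (middle vertex of a distinguished triangle), `suppIn_single`.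
* `finite_homology`, `finite_HD_of_isPerfect`, `exists_bounds_of_isPerfect` (Noetherian ring).
* `isPerfect_koszul fs`; `nonempty_toD_iso_single` (a complex with cohomology only in degree `0` is `H⁰[0]` in `D(R)`).
* `PP R` (perfect with cohomology supported at the closed point), `pr_single_of_isFiniteLength`,
  `closure_koszul_eq_top` (= S14001).
-/

set_option autoImplicit false
universe u
open CategoryTheory CategoryTheory.Limits Pretriangulated KZero

attribute [local instance] HasDerivedCategory.standard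

namespace Groth.Agent.Lib.helper13.K0Dev

open Groth.Agent.Lib.helper23.PerfDev

section Supp

variable (R : Type u) [CommRing R] (Z : Set (PrimeSpectrum R))

/-- cohomology supported in `Z` -/
def SuppIn (K : Dual.D R) : Prop := ∀ i : ℤ, Module.support R (Dual.HD R K i) ⊆ Z

variable {R Z}

lemma suppIn_of_iso {X Y : Dual.D R} (e : X ≅ Y) (h : SuppIn R Z X) : SuppIn R Z Y := by
  intro i
  have e' : Dual.HD R Y i ≃ₗ[R] Dual.HD R X i :=
    ((DerivedCategory.homologyFunctor (ModuleCat.{u} R) i).mapIso e.symm).toLinearEquiv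
  rw [e'.support_eq]
  exact h i

lemma suppIn_of_isZero {X : Dual.D R} (h : IsZero X) : SuppIn R Z X := by
  intro i
  have hz : IsZero ((DerivedCategory.homologyFunctor (ModuleCat.{u} R) i).obj X) :=
    Functor.map_isZero _ h
  haveI : Subsingleton (Dual.HD R X i) := ModuleCat.subsingleton_of_isZero hz
  rw [Module.support_eq_empty]
  exact Set.empty_subset _

lemma suppIn_shift (X : Dual.D R) (n : ℤ) (h : SuppIn R Z X) : SuppIn R Z (X⟦n⟧) := by
  intro i
  have e : (DerivedCategory.homologyFunctor (ModuleCat.{u} R) i).obj (X⟦n⟧) ≅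
      (DerivedCategory.homologyFunctor (ModuleCat.{u} R) (n + i)).obj X :=
    ((DerivedCategory.homologyFunctor (ModuleCat.{u} R) 0).shiftIso n i (n + i) rfl).app X
  rw [e.toLinearEquiv.support_eq]
  exact h (n + i)

lemma suppIn_ext (T : Triangle (Dual.D R)) (hT : T ∈ distTriang _) (h₁ : SuppIn R Z T.obj₁)
    (h₃ : SuppIn R Z T.obj₃) : SuppIn R Z T.obj₂ := by
  intro i p hp
  by_contra hpZ
  have hp1 : p ∉ Module.support R (Dual.HD R T.obj₁ i) := fun h => hpZ (h₁ i h)
  have hp3 : p ∉ Module.support R (Dual.HD R T.obj₃ i) := fun h => hpZ (h₃ i h)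
  rw [Module.notMem_support_iff'] at hp1 hp3
  have hex := (DerivedCategory.homologyFunctor (ModuleCat.{u} R) i).map_distinguished_exact T hT
  rw [ShortComplex.moduleCat_exact_iff] at hex
  have hex' : ∀ x₂ : Dual.HD R T.obj₂ i,
      ((DerivedCategory.homologyFunctor (ModuleCat.{u} R) i).map T.mor₂).hom x₂ = 0 →
      ∃ x₁ : Dual.HD R T.obj₁ i,
        ((DerivedCategory.homologyFunctor (ModuleCat.{u} R) i).map T.mor₁).hom x₁ = x₂ := hex
  refine absurd hp ?_
  rw [Module.notMem_support_iff']
  intro n
  obtain ⟨s, hs, hsn⟩ := hp3 (((DerivedCategory.homologyFunctor (ModuleCat.{u} R) i).map T.mor₂).hom n)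
  have h1 : ((DerivedCategory.homologyFunctor (ModuleCat.{u} R) i).map T.mor₂).hom (s • n) = 0 := by
    rw [map_smul]; exact hsn
  obtain ⟨m', hm'⟩ := hex' (s • n) h1
  obtain ⟨t, ht, htm⟩ := hp1 m'
  refine ⟨t * s, fun hts => (p.2.mem_or_mem hts).elim ht hs, ?_⟩
  have h2 : ((DerivedCategory.homologyFunctor (ModuleCat.{u} R) i).map T.mor₁).hom (t • m') = 0 := by
    rw [htm, map_zero]
  rw [map_smul] at h2
  have hm'' : ((DerivedCategory.homologyFunctor (ModuleCat.{u} R) i).map T.mor₁).hom m' = s • n := hm'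
  rw [hm'', smul_smul] at h2
  exact h2

end Supp

section Perf

variable {R : Type u} [CommRing R]

lemma finite_homology [IsNoetherianRing R] (E : DRing.Cx R) (i : ℤ) (hE : Module.Finite R (E.X i)) :
    Module.Finite R (E.homology i) := by
  haveI : Module.Finite R (E.cycles i) := by
    have hm : Function.Injective (E.iCycles i).hom :=
      (ModuleCat.mono_iff_injective _).1 inferInstance
    exact Module.Finite.of_injective (E.iCycles i).hom hm
  have he : Function.Surjective (E.homologyπ i).hom :=
    (ModuleCat.epi_iff_surjective _).1 inferInstance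
  exact Module.Finite.of_surjective (E.homologyπ i).hom he

lemma finite_HD_of_isPerfect [IsNoetherianRing R] (K : Dual.D R) (h : DRing.IsPerfect R K) (i : ℤ) :
    Module.Finite R (Dual.HD R K i) := by
  obtain ⟨E, a, b, hV, hP, ⟨e⟩⟩ := h
  haveI := finite_homology E i (hP i).1
  let e' : (DerivedCategory.homologyFunctor (ModuleCat.{u} R) i).obj K ≅ E.homology i :=
    (DerivedCategory.homologyFunctor (ModuleCat.{u} R) i).mapIso e.symm ≪≫
      (DerivedCategory.homologyFunctorFactors (ModuleCat.{u} R) i).app E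
  exact Module.Finite.equiv e'.toLinearEquiv.symm

lemma exists_bounds_of_isPerfect (K : Dual.D R) (h : DRing.IsPerfect R K) :
    ∃ a b : ℤ, ∀ i : ℤ, (i < a ∨ b < i) →
      IsZero ((DerivedCategory.homologyFunctor (ModuleCat.{u} R) i).obj K) := by
  obtain ⟨E, a, b, hV, hP, ⟨e⟩⟩ := h
  refine ⟨a, b, fun i hi => ?_⟩
  let e' : (DerivedCategory.homologyFunctor (ModuleCat.{u} R) i).obj K ≅ E.homology i :=
    (DerivedCategory.homologyFunctor (ModuleCat.{u} R) i).mapIso e.symm ≪≫
      (DerivedCategory.homologyFunctorFactors (ModuleCat.{u} R) i).app E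
  refine IsZero.of_iso ?_ e'
  exact ShortComplex.isZero_homology_of_isZero_X₂ _ (hV i hi)

end Perf

section Kos

variable (R : Type u) [CommRing R]

lemma isPerfect_koszul_nil : DRing.IsPerfect R (DRing.toD (Koszul.koszul R ([] : List R))) := by
  refine ⟨Koszul.koszul R ([] : List R), 0, 0, ?_, ?_, ⟨Iso.refl _⟩⟩
  · intro i hi
    have hi0 : i ≠ 0 := by omega
    exact HomologicalComplex.isZero_single_obj_X _ _ _ _ hi0
  · intro i
    by_cases hi : i = 0
    · subst hi
      let e : ((Koszul.koszul R ([] : List R)).X 0) ≃ₗ[R] R :=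
        (HomologicalComplex.singleObjXSelf (ComplexShape.up ℤ) 0 (ModuleCat.of R R)).toLinearEquiv
      exact ⟨Module.Finite.equiv e.symm, Module.Projective.of_equiv e.symm⟩
    · have hz : IsZero ((Koszul.koszul R ([] : List R)).X i) :=
        HomologicalComplex.isZero_single_obj_X _ _ _ _ hi
      haveI : Subsingleton ((Koszul.koszul R ([] : List R)).X i) :=
        ModuleCat.subsingleton_of_isZero hz
      exact ⟨inferInstance, inferInstance⟩

theorem isPerfect_koszul : ∀ fs : List R, DRing.IsPerfect R (DRing.toD (Koszul.koszul R fs))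
  | [] => isPerfect_koszul_nil R
  | f :: l => by
    have h := isPerfect_koszul l
    have hT := DerivedCategory.mappingCone_triangle_distinguished (f • 𝟙 (Koszul.koszul R l))
    exact (isPerfect_two_of_three R _ hT).1 h h

variable {R}

/-- a complex with cohomology only in degree `0` is isomorphic in `D(R)` to its `H⁰` placed in degree `0` -/
lemma nonempty_toD_iso_single (E : DRing.Cx R) (h : ∀ i : ℤ, i ≠ 0 → IsZero (E.homology i)) :
    Nonempty (DRing.toD E ≅ (DerivedCategory.singleFunctor (ModuleCat.{u} R) 0).obj (E.homology 0)) := by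
  have hz : ∀ i : ℤ, i ≠ 0 →
      IsZero ((DerivedCategory.homologyFunctor (ModuleCat.{u} R) i).obj (DRing.toD E)) := fun i hi =>
    IsZero.of_iso (h i hi) ((DerivedCategory.homologyFunctorFactors (ModuleCat.{u} R) i).app E)
  haveI : (DRing.toD E).IsGE 0 := (DerivedCategory.isGE_iff _ 0).2 (fun i hi => hz i (by omega))
  haveI : (DRing.toD E).IsLE 0 := (DerivedCategory.isLE_iff _ 0).2 (fun i hi => hz i (by omega))
  obtain ⟨Y, ⟨e⟩⟩ := DerivedCategory.exists_iso_singleFunctor_obj_of_isGE_of_isLE (DRing.toD E) 0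
  let eY : E.homology 0 ≅ Y :=
    ((DerivedCategory.homologyFunctorFactors (ModuleCat.{u} R) 0).app E).symm ≪≫
      (DerivedCategory.homologyFunctor (ModuleCat.{u} R) 0).mapIso e ≪≫
      (DerivedCategory.singleFunctorCompHomologyFunctorIso (ModuleCat.{u} R) 0).app Y
  exact ⟨e ≪≫ (DerivedCategory.singleFunctor (ModuleCat.{u} R) 0).mapIso eY.symm⟩

end Kos

section Main

variable (R : Type u) [CommRing R]

lemma suppIn_single (Z : Set (PrimeSpectrum R)) (L : ModuleCat.{u} R) (hL : Module.support R L ⊆ Z) :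
    SuppIn R Z ((DerivedCategory.singleFunctor (ModuleCat.{u} R) 0).obj L) := by
  intro i
  by_cases hi : i = 0
  · subst hi
    let e : (DerivedCategory.homologyFunctor (ModuleCat.{u} R) 0).obj
        ((DerivedCategory.singleFunctor (ModuleCat.{u} R) 0).obj L) ≅ L :=
      (DerivedCategory.singleFunctorCompHomologyFunctorIso (ModuleCat.{u} R) 0).app L
    rw [e.toLinearEquiv.support_eq]
    exact hL
  · have hz : IsZero ((DerivedCategory.homologyFunctor (ModuleCat.{u} R) i).obj
        ((DerivedCategory.singleFunctor (ModuleCat.{u} R) 0).obj L)) := by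
      rcases lt_or_gt_of_ne hi with h | h
      · exact DerivedCategory.isZero_of_isGE _ 0 i h
      · exact DerivedCategory.isZero_of_isLE _ 0 i h
    haveI : Subsingleton (Dual.HD R ((DerivedCategory.singleFunctor (ModuleCat.{u} R) 0).obj L) i) :=
      ModuleCat.subsingleton_of_isZero hz
    rw [Module.support_eq_empty]
    exact Set.empty_subset _

variable [IsLocalRing R]

/-- perfect complexes with cohomology supported at the closed point -/
abbrev PP : ObjectProperty (Dual.D R) := fun K => DRing.IsPerfect R K ∧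
  ∀ i : ℤ, Module.support R (Dual.HD R K i) ⊆ {IsLocalRing.closedPoint R}

lemma pp_iso (X Y : Dual.D R) (e : X ≅ Y) (h : PP R X) : PP R Y :=
  ⟨isPerfect_of_iso R e h.1, suppIn_of_iso e h.2⟩

lemma pp_zero (X : Dual.D R) (h : IsZero X) : PP R X :=
  ⟨isPerfect_of_isZero R h, suppIn_of_isZero h⟩

lemma pp_shift (X : Dual.D R) (n : ℤ) (h : PP R X) : PP R (X⟦n⟧) :=
  ⟨isPerfect_shift R X n h.1, suppIn_shift X n h.2⟩

lemma pp_ext (T : Triangle (Dual.D R)) (hT : T ∈ distTriang _) (h₁ : PP R T.obj₁) (h₃ : PP R T.obj₃) :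
    PP R T.obj₂ :=
  ⟨(isPerfect_two_of_three R T hT).2.1 h₁.1 h₃.1, suppIn_ext T hT h₁.2 h₃.2⟩

variable (G : AddSubgroup (K0tr (PP R)))

/-- finite length modules: dévissage to the residue field -/
theorem pr_single_of_isFiniteLength
    (hκ : Pr (PP R) G (Dual.inD R (R ⧸ IsLocalRing.maximalIdeal R)))
    (L : Type u) [AddCommGroup L] [Module R L] (h : IsFiniteLength R L) :
    Pr (PP R) G (Dual.inD R L) := by
  induction h with
  | @of_subsingleton M _ _ _ =>
    apply pr_zero (PP R) (pp_iso R) (pp_zero R) G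
    exact Functor.map_isZero _ (ModuleCat.isZero_of_subsingleton _)
  | @of_simple_quotient M _ _ N hS _ ih =>
    obtain ⟨I, hI, ⟨e⟩⟩ := isSimpleModule_iff_quot_maximal.mp hS
    have hIm : I = IsLocalRing.maximalIdeal R := IsLocalRing.eq_maximalIdeal hI
    subst hIm
    have h3 : Pr (PP R) G (Dual.inD R (M ⧸ N)) :=
      pr_iso (PP R) (pp_iso R) (pp_zero R) G
        ((DerivedCategory.singleFunctor (ModuleCat.{u} R) 0).mapIso e.toModuleIso.symm) hκ
    let S : ShortComplex (ModuleCat.{u} R) :=
      ShortComplex.mk (ModuleCat.ofHom N.subtype) (ModuleCat.ofHom N.mkQ) (by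
        ext x
        exact (Submodule.Quotient.mk_eq_zero N).2 x.2)
    have hS' : S.ShortExact := by
      refine ShortComplex.ShortExact.mk' ?_ ?_ ?_
      · rw [ShortComplex.moduleCat_exact_iff]
        intro x hx
        have hx' : N.mkQ x = 0 := hx
        exact ⟨⟨x, (Submodule.Quotient.mk_eq_zero N).1 hx'⟩, rfl⟩
      · exact (ModuleCat.mono_iff_injective _).2 N.injective_subtype
      · exact (ModuleCat.epi_iff_surjective _).2 N.mkQ_surjective
    exact pr_ext (PP R) G (pp_ext R) _ hS'.singleTriangle_distinguished ih h3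

variable [IsNoetherianRing R]

/-- **`K₀` of perfect complexes supported at the closed point is generated by the Koszul complex.** -/
theorem closure_koszul_eq_top (fs : List R) (hreg : RingTheory.Sequence.IsRegular R fs)
    (hgen : Ideal.ofList fs = IsLocalRing.maximalIdeal R) :
    AddSubgroup.closure {clTr (PP R) (DRing.toD (Koszul.koszul R fs))} = ⊤ := by
  set G : AddSubgroup (K0tr (PP R)) :=
    AddSubgroup.closure {clTr (PP R) (DRing.toD (Koszul.koszul R fs))} with hG
  -- the residue field
  have hsuppκ : Module.support R (R ⧸ IsLocalRing.maximalIdeal R) ⊆ {IsLocalRing.closedPoint R} := by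
    rw [Module.support_eq_zeroLocus, Ideal.annihilator_quotient]
    intro p hp
    have hle : IsLocalRing.maximalIdeal R ≤ p.asIdeal := hp
    have heq : IsLocalRing.maximalIdeal R = p.asIdeal :=
      (IsLocalRing.maximalIdeal.isMaximal R).eq_of_le p.2.ne_top hle
    exact PrimeSpectrum.ext heq.symm
  obtain ⟨hK, ⟨e0⟩⟩ := Groth.Agent.S15821.result R fs hreg.toIsWeaklyRegular
  obtain ⟨e1⟩ := nonempty_toD_iso_single (Koszul.koszul R fs) hK
  let e2 : (Koszul.koszul R fs).homology 0 ≅ ModuleCat.of R (R ⧸ IsLocalRing.maximalIdeal R) :=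
    e0 ≪≫ (Submodule.quotEquivOfEq _ _ hgen).toModuleIso
  let e : DRing.toD (Koszul.koszul R fs) ≅ Dual.inD R (R ⧸ IsLocalRing.maximalIdeal R) :=
    e1 ≪≫ (DerivedCategory.singleFunctor (ModuleCat.{u} R) 0).mapIso e2
  have hPκ : PP R (Dual.inD R (R ⧸ IsLocalRing.maximalIdeal R)) :=
    ⟨isPerfect_of_iso R e (isPerfect_koszul R fs),
      suppIn_single R _ (ModuleCat.of R (R ⧸ IsLocalRing.maximalIdeal R)) hsuppκ⟩
  have hPK : PP R (DRing.toD (Koszul.koszul R fs)) := pp_iso R _ _ e.symm hPκ
  have hκ : Pr (PP R) G (Dual.inD R (R ⧸ IsLocalRing.maximalIdeal R)) :=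
    pr_iso (PP R) (pp_iso R) (pp_zero R) G e
      ⟨hPK, AddSubgroup.subset_closure (Set.mem_singleton _)⟩
  -- dévissage
  apply closure_eq_top_of_forall (PP R) G
  intro X hX
  obtain ⟨a, b, hab⟩ := exists_bounds_of_isPerfect X hX.1
  have key : Pr (PP R) G X := by
    refine Groth.Agent.Lib.helper23.Devissage.devissage_homology (Pr (PP R) G)
      (fun X Y e h => pr_iso (PP R) (pp_iso R) (pp_zero R) G e h)
      (fun X h => pr_zero (PP R) (pp_iso R) (pp_zero R) G h)
      (fun X n h => pr_shift (PP R) (pp_iso R) (pp_zero R) G (pp_shift R) X n h)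
      (fun T hT h₁ h₃ => pr_ext (PP R) G (pp_ext R) T hT h₁ h₃)
      (b - a + 1).toNat b X (fun i hi => hab i (Or.inr hi)) (fun i hi => hab i (Or.inl ?_))
      (fun i => ?_)
    · have := Int.self_le_toNat (b - a + 1)
      omega
    · haveI := finite_HD_of_isPerfect X hX.1 i
      have hfl : IsFiniteLength R (Dual.HD R X i) := by
        apply Groth.Agent.Lib.helper8.StalkLen.isFiniteLength_of_support_isMaximal
        intro Q hQ
        have hQ' : Q = IsLocalRing.closedPoint R := hX.2 i hQ
        rw [hQ']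
        exact IsLocalRing.maximalIdeal.isMaximal R
      exact pr_single_of_isFiniteLength R G hκ (Dual.HD R X i) hfl
  exact key.2

end Main

end Groth.Agent.Lib.helper13.K0Dev
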