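import Mathlib
import Groth.Prelude.Def_KZero
import Groth.Agent.Lib.Helper13.K0Dev1
import Groth.Agent.Lib.Helper23.Devissage

/-!
# `K₀` of a weak Serre subcategory vs `K₀` of bounded complexes with cohomology in it (helper13)

* `clSub_of`, `clSub_ses`, `clSub_isZero`, `clSub_iso`, `clSub_exact` (`[X₁] = [ker f] + [ker g]` for an exact
  `X₁ ⟶ X₂ ⟶ X₃`): relations in `KZero.K0sub P`.
* `finsum_telescope`, `hasFiniteSupport_of_bdd`.
* `Bdd K`, `chi PA K = ∑ᶠ i, (-1)^i [H^i K]`, `chi_triangle` (additivity on distinguished triangles, via the long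
  exact sequence), `chi_single`.
* `exists_K0sub_equiv_K0tr`: if `PA` (on an abelian category `C`) contains zero objects, is closed under isomorphisms
  and kernels, `PD` (on `D(C)`) is closed under iso/zero/shift/extensions, `PA G → PD G[0]`, and `PD K` implies
  `K` bounded with all `H^i K` in `PA`, then `K0sub PA ≃+ K0tr PD` by `[G] ↦ [G[0]]`.
-/
set_option autoImplicit false
universe w v u
open CategoryTheory CategoryTheory.Limits Pretriangulated KZero ZeroObject

namespace Groth.Agent.Lib.helper13.K0Dev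

section Sub

variable {A : Type u} [Category.{v} A] [Abelian A] (P : ObjectProperty A)

lemma clSub_of (X : A) (h : P X) :
    clSub P X = QuotientAddGroup.mk (FreeAbelianGroup.of ⟨X, h⟩) := dif_pos h

lemma clSub_ses (S : ShortComplex A) (hS : S.ShortExact) (h₁ : P S.X₁) (h₂ : P S.X₂)
    (h₃ : P S.X₃) : clSub P S.X₂ = clSub P S.X₁ + clSub P S.X₃ := by
  rw [clSub_of P _ h₁, clSub_of P _ h₂, clSub_of P _ h₃, ← QuotientAddGroup.mk_add]
  rw [QuotientAddGroup.eq]
  have hx : FreeAbelianGroup.of (⟨S.X₂, h₂⟩ : Subtype P) - FreeAbelianGroup.of ⟨S.X₁, h₁⟩ -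
      FreeAbelianGroup.of ⟨S.X₃, h₃⟩ ∈ relSub P :=
    AddSubgroup.subset_closure ⟨S, h₁, h₂, h₃, hS, rfl⟩
  have := (relSub P).neg_mem hx
  convert this using 1
  abel

variable (hzero : ∀ X : A, IsZero X → P X)

include hzero in
lemma clSub_isZero {X : A} (hX : IsZero X) : clSub P X = 0 := by
  have h0 := hzero X hX
  let S : ShortComplex A := ShortComplex.mk (0 : X ⟶ X) (0 : X ⟶ X) zero_comp
  have hS : S.ShortExact :=
    { exact := S.exact_of_isZero_X₂ hX
      mono_f := ⟨fun _ _ _ => hX.eq_of_tgt _ _⟩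
      epi_g := ⟨fun _ _ _ => hX.eq_of_src _ _⟩ }
  have h : clSub P X = clSub P X + clSub P X := clSub_ses P S hS h0 h0 h0
  exact left_eq_add.mp h

include hzero in
lemma clSub_iso {X Y : A} (e : X ≅ Y) (hX : P X) (hY : P Y) : clSub P Y = clSub P X := by
  have h0 : P (0 : A) := hzero _ (isZero_zero A)
  let S : ShortComplex A := ShortComplex.mk e.hom (0 : Y ⟶ 0) comp_zero
  have hS : S.ShortExact :=
    { exact := (S.exact_iff_epi rfl).2 (by dsimp [S]; infer_instance)
      mono_f := by dsimp [S]; infer_instance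
      epi_g := ⟨fun _ _ _ => (isZero_zero A).eq_of_src _ _⟩ }
  have h := clSub_ses P S hS hX hY h0
  rw [clSub_isZero P hzero (isZero_zero A), add_zero] at h
  exact h

/-- for an exact `X₁ ⟶ X₂ ⟶ X₃`: `[X₁] = [ker f] + [ker g]`. -/
lemma clSub_exact (S : ShortComplex A) (hS : S.Exact) (h₁ : P S.X₁) (hf : P (kernel S.f))
    (hg : P (kernel S.g)) : clSub P S.X₁ = clSub P (kernel S.f) + clSub P (kernel S.g) := by
  let T : ShortComplex A := ShortComplex.mk (kernel.ι S.f) (kernel.lift S.g S.f S.zero)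
    (by ext; simp)
  let T' : ShortComplex A := ShortComplex.mk (kernel.ι S.f) S.f (kernel.condition S.f)
  let φ : T ⟶ T' :=
    { τ₁ := 𝟙 _
      τ₂ := 𝟙 _
      τ₃ := kernel.ι S.g
      comm₁₂ := by simp [T, T']
      comm₂₃ := by simp [T, T'] }
  haveI : Epi φ.τ₁ := by dsimp [φ]; infer_instance
  haveI : IsIso φ.τ₂ := by dsimp [φ]; infer_instance
  haveI : Mono φ.τ₃ := by dsimp [φ]; infer_instance
  have hT' : T'.Exact := T'.exact_of_f_is_kernel (kernelIsKernel S.f)
  have hT : T.ShortExact :=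
    { exact := (ShortComplex.exact_iff_of_epi_of_isIso_of_mono φ).2 hT'
      mono_f := by dsimp [T]; infer_instance
      epi_g := S.exact_iff_epi_kernel_lift.1 hS }
  exact clSub_ses P T hT hf h₁ hg

end Sub

lemma hasFiniteSupport_of_bdd {M : Type*} [Zero M] (f : ℤ → M) (a b : ℤ)
    (h : ∀ i : ℤ, (i < a ∨ b < i) → f i = 0) : (Function.support f).Finite := by
  refine (Set.finite_Icc a b).subset (fun i hi => ?_)
  rw [Function.mem_support] at hi
  rw [Set.mem_Icc]
  by_contra hc
  exact hi (h i (by omega))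

lemma finsum_telescope {M : Type*} [AddCommGroup M] (g : ℤ → M) (hg : (Function.support g).Finite) :
    ∑ᶠ i : ℤ, (g (i + 1) - g i) = 0 := by
  have h1 : (Function.support (fun i : ℤ => g (i + 1))).Finite := by
    have : Function.support (fun i : ℤ => g (i + 1)) = (Equiv.addRight (1 : ℤ)) ⁻¹' Function.support g := by
      ext i; simp
    rw [this]
    exact hg.preimage (Equiv.injective _).injOn
  rw [finsum_sub_distrib h1 hg]
  have := finsum_comp_equiv (Equiv.addRight (1 : ℤ)) (f := g)
  simp only [Equiv.coe_addRight] at this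
  rw [this, sub_self]

section Der

variable {C : Type u} [Category.{v} C] [Abelian C] [HasDerivedCategory.{w} C]
  (PA : ObjectProperty C)

/-- bounded cohomology -/
def Bdd (K : DerivedCategory C) : Prop :=
  ∃ a b : ℤ, ∀ i : ℤ, (i < a ∨ b < i) → IsZero ((DerivedCategory.homologyFunctor C i).obj K)

/-- the `i`-th term of the Euler characteristic -/
noncomputable def chiTerm (K : DerivedCategory C) (i : ℤ) : K0sub PA :=
  (i.negOnePow : ℤ) • clSub PA ((DerivedCategory.homologyFunctor C i).obj K)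

/-- the Euler characteristic `∑ (-1)^i [H^i K]` -/
noncomputable def chi (K : DerivedCategory C) : K0sub PA := ∑ᶠ i : ℤ, chiTerm PA K i

variable (hAzero : ∀ X : C, IsZero X → PA X)
  (hAker : ∀ {X Y : C} (f : X ⟶ Y), PA X → PA Y → PA (kernel f))

include hAzero in
lemma chiTerm_support_finite (K : DerivedCategory C) (hK : Bdd K) :
    (Function.support (chiTerm PA K)).Finite := by
  obtain ⟨a, b, hab⟩ := hK
  refine hasFiniteSupport_of_bdd _ a b (fun i hi => ?_)
  rw [chiTerm, clSub_isZero PA hAzero (hab i hi), smul_zero]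

include hAzero hAker in
lemma chi_triangle (T : Triangle (DerivedCategory C)) (hT : T ∈ distTriang _)
    (h₁ : ∀ i, PA ((DerivedCategory.homologyFunctor C i).obj T.obj₁))
    (h₂ : ∀ i, PA ((DerivedCategory.homologyFunctor C i).obj T.obj₂))
    (h₃ : ∀ i, PA ((DerivedCategory.homologyFunctor C i).obj T.obj₃))
    (b₁ : Bdd T.obj₁) (b₂ : Bdd T.obj₂) (b₃ : Bdd T.obj₃) :
    chi PA T.obj₂ = chi PA T.obj₁ + chi PA T.obj₃ := by
  let g : ℤ → K0sub PA := fun i => (i.negOnePow : ℤ) •
    clSub PA (kernel ((DerivedCategory.homologyFunctor C i).map T.mor₁))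
  have hg : (Function.support g).Finite := by
    obtain ⟨a, b, hab⟩ := b₁
    refine hasFiniteSupport_of_bdd _ a b (fun i hi => ?_)
    have hz : IsZero (kernel ((DerivedCategory.homologyFunctor C i).map T.mor₁)) :=
      IsZero.of_mono (kernel.ι _) (hab i hi)
    simp only [g]
    rw [clSub_isZero PA hAzero hz, smul_zero]
  have key : ∀ i : ℤ, chiTerm PA T.obj₂ i - chiTerm PA T.obj₁ i - chiTerm PA T.obj₃ i =
      g (i + 1) - g i := by
    intro i
    have e2 := clSub_exact PA _ (DerivedCategory.HomologySequence.exact₂ T hT i) (h₁ i)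
      (hAker _ (h₁ i) (h₂ i)) (hAker _ (h₂ i) (h₃ i))
    have e3 := clSub_exact PA _ (DerivedCategory.HomologySequence.exact₃ T hT i (i + 1) rfl) (h₂ i)
      (hAker _ (h₂ i) (h₃ i)) (hAker _ (h₃ i) (h₁ (i + 1)))
    have e1 := clSub_exact PA _ (DerivedCategory.HomologySequence.exact₁ T hT i (i + 1) rfl) (h₃ i)
      (hAker _ (h₃ i) (h₁ (i + 1))) (hAker _ (h₁ (i + 1)) (h₂ (i + 1)))
    dsimp only at e1 e2 e3
    simp only [chiTerm, g]
    rw [e1, e2, e3, Int.negOnePow_succ, Units.val_neg, neg_smul, smul_add, smul_add, smul_add]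
    abel
  have hs1 := chiTerm_support_finite PA hAzero _ b₁
  have hs2 := chiTerm_support_finite PA hAzero _ b₂
  have hs3 := chiTerm_support_finite PA hAzero _ b₃
  have h := finsum_telescope g hg
  simp only [← key] at h
  rw [finsum_sub_distrib (Function.HasFiniteSupport.fun_sub (f := chiTerm PA T.obj₂)
    (g := chiTerm PA T.obj₁) hs2 hs1) hs3, finsum_sub_distrib hs2 hs1] at h
  simp only [chi]
  rw [sub_sub, sub_eq_zero] at h
  exact h

lemma bdd_single (G : C) : Bdd ((DerivedCategory.singleFunctor C 0).obj G) := by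
  refine ⟨0, 0, fun i hi => ?_⟩
  rcases hi with hi | hi
  · exact DerivedCategory.isZero_of_isGE _ 0 i hi
  · exact DerivedCategory.isZero_of_isLE _ 0 i hi

variable (hAiso : ∀ X Y : C, (X ≅ Y) → PA X → PA Y)

include hAzero hAiso in
lemma chi_single (G : C) (hG : PA G) : chi PA ((DerivedCategory.singleFunctor C 0).obj G) = clSub PA G := by
  rw [chi, finsum_eq_single _ 0 (fun i hi => ?_)]
  · let e : (DerivedCategory.homologyFunctor C 0).obj ((DerivedCategory.singleFunctor C 0).obj G) ≅ G :=
      (DerivedCategory.singleFunctorCompHomologyFunctorIso C 0).app G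
    rw [chiTerm, clSub_iso PA hAzero e.symm hG (hAiso _ _ e.symm hG)]
    simp
  · have hz : IsZero ((DerivedCategory.homologyFunctor C i).obj
        ((DerivedCategory.singleFunctor C 0).obj G)) := by
      rcases lt_or_gt_of_ne hi with h | h
      · exact DerivedCategory.isZero_of_isGE _ 0 i h
      · exact DerivedCategory.isZero_of_isLE _ 0 i h
    rw [chiTerm, clSub_isZero PA hAzero hz, smul_zero]

variable (PD : ObjectProperty (DerivedCategory C))
  (h2 : ∀ K : DerivedCategory C, PD K → ∀ i : ℤ, PA ((DerivedCategory.homologyFunctor C i).obj K))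
  (h3 : ∀ K : DerivedCategory C, PD K → Bdd K)

include hAzero hAker h2 h3 in
lemma exists_psi : ∃ ψ : K0tr PD →+ K0sub PA, ∀ K : DerivedCategory C, PD K →
    ψ (clTr PD K) = chi PA K := by
  let ψ₀ : FreeAbelianGroup (Subtype PD) →+ K0sub PA := FreeAbelianGroup.lift (fun K => chi PA K.1)
  have hle : relTr PD ≤ ψ₀.ker := by
    refine (AddSubgroup.closure_le _).2 ?_
    rintro x ⟨T, p₁, p₂, p₃, hT, rfl⟩
    rw [SetLike.mem_coe, AddMonoidHom.mem_ker, map_sub, map_sub]
    simp only [ψ₀, FreeAbelianGroup.lift_apply_of]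
    rw [chi_triangle PA hAzero hAker T hT (h2 _ p₁) (h2 _ p₂) (h2 _ p₃) (h3 _ p₁) (h3 _ p₂)
      (h3 _ p₃)]
    abel
  refine ⟨QuotientAddGroup.lift (relTr PD) ψ₀ hle, fun K hK => ?_⟩
  rw [clTr_of PD K hK, QuotientAddGroup.lift_mk]
  simp only [ψ₀, FreeAbelianGroup.lift_apply_of]

variable (hiso : ∀ X Y : DerivedCategory C, (X ≅ Y) → PD X → PD Y)
  (hzero : ∀ X : DerivedCategory C, IsZero X → PD X)
  (hshift : ∀ (X : DerivedCategory C) (n : ℤ), PD X → PD (X⟦n⟧))
  (hext : ∀ T : Triangle (DerivedCategory C), T ∈ distTriang _ → PD T.obj₁ → PD T.obj₃ → PD T.obj₂)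
  (h1 : ∀ G : C, PA G → PD ((DerivedCategory.singleFunctor C 0).obj G))

include h1 in
lemma exists_phi : ∃ φ : K0sub PA →+ K0tr PD, ∀ G : C, PA G →
    φ (clSub PA G) = clTr PD ((DerivedCategory.singleFunctor C 0).obj G) := by
  let φ₀ : FreeAbelianGroup (Subtype PA) →+ K0tr PD :=
    FreeAbelianGroup.lift (fun G => clTr PD ((DerivedCategory.singleFunctor C 0).obj G.1))
  have hle : relSub PA ≤ φ₀.ker := by
    refine (AddSubgroup.closure_le _).2 ?_
    rintro x ⟨S, p₁, p₂, p₃, hS, rfl⟩
    rw [SetLike.mem_coe, AddMonoidHom.mem_ker, map_sub, map_sub]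
    simp only [φ₀, FreeAbelianGroup.lift_apply_of]
    have := clTr_triangle PD _ hS.singleTriangle_distinguished (h1 _ p₁) (h1 _ p₂) (h1 _ p₃)
    simp only [ShortComplex.ShortExact.singleTriangle_obj₁, ShortComplex.ShortExact.singleTriangle_obj₂,
      ShortComplex.ShortExact.singleTriangle_obj₃] at this
    rw [this]
    abel
  refine ⟨QuotientAddGroup.lift (relSub PA) φ₀ hle, fun G hG => ?_⟩
  rw [clSub_of PA G hG, QuotientAddGroup.lift_mk]
  simp only [φ₀, FreeAbelianGroup.lift_apply_of]

include hAzero hAker hAiso h2 h3 hiso hzero hshift hext h1 in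
/-- **Abstract dévissage comparison**: `K₀` of a weak Serre subcategory vs `K₀` of the bounded complexes with
cohomology in it. -/
theorem exists_K0sub_equiv_K0tr : ∃ φ : K0sub PA ≃+ K0tr PD, ∀ G : C, PA G →
    φ (clSub PA G) = clTr PD ((DerivedCategory.singleFunctor C 0).obj G) := by
  obtain ⟨φ, hφ⟩ := exists_phi PA PD h1
  obtain ⟨ψ, hψ⟩ := exists_psi PA hAzero hAker PD h2 h3
  have hψφ : ∀ x : K0sub PA, ψ (φ x) = x := by
    intro x
    induction x using QuotientAddGroup.induction_on with
    | H z =>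
      induction z using FreeAbelianGroup.induction_on with
      | zero => simp
      | of a =>
        have h := hφ a.1 a.2
        rw [clSub_of PA a.1 a.2] at h
        rw [h, hψ _ (h1 _ a.2), chi_single PA hAzero hAiso a.1 a.2, clSub_of PA a.1 a.2]
      | neg a ha =>
        rw [QuotientAddGroup.mk_neg, map_neg, map_neg, ha]
      | add a b ha hb =>
        rw [QuotientAddGroup.mk_add, map_add, map_add, ha, hb]
  have hinj : Function.Injective φ := Function.LeftInverse.injective hψφ
  have hsurj : Function.Surjective φ := by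
    have htop : φ.range = ⊤ := by
      apply closure_eq_top_of_forall PD φ.range
      intro X hX
      obtain ⟨a, b, hab⟩ := h3 X hX
      have key : Pr PD φ.range X := by
        refine Groth.Agent.Lib.helper23.Devissage.devissage_homology (Pr PD φ.range)
          (fun X Y e h => pr_iso PD hiso hzero φ.range e h)
          (fun X h => pr_zero PD hiso hzero φ.range h)
          (fun X n h => pr_shift PD hiso hzero φ.range hshift X n h)
          (fun T hT h₁ h₃ => pr_ext PD φ.range hext T hT h₁ h₃)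
          (b - a + 1).toNat b X (fun i hi => hab i (Or.inr hi)) (fun i hi => hab i (Or.inl ?_))
          (fun i => ?_)
        · have := Int.self_le_toNat (b - a + 1)
          omega
        · exact ⟨h1 _ (h2 X hX i), ⟨_, hφ _ (h2 X hX i)⟩⟩
      exact key.2
    intro y
    have : y ∈ φ.range := by rw [htop]; trivial
    exact this
  refine ⟨AddEquiv.ofBijective φ ⟨hinj, hsurj⟩, fun G hG => ?_⟩
  rw [AddEquiv.ofBijective_apply]
  exact hφ G hG

end Der

end Groth.Agent.Lib.helper13.K0Dev
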