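import Mathlib
import Groth.Agent.Lib.Helper13.K0Dev3
import Groth.Agent.Lib.Helper25.DCohHomology
import Groth.Agent.Lib.Helper25.StalkExact

/-!
# `K₀` of coherent modules supported in `Y'` vs `K₀` of perfect complexes supported in `Y'` (helper13; S14007)

The lemmas `exists_local_models`, `isCohD_of_isPerfect`, `exists_bounds_of_isPerfect` are copied from helper25's
`K0Regular` (to keep the import closure small).
-/

set_option autoImplicit false
universe u
open CategoryTheory CategoryTheory.Limits Pretriangulated KZero AlgebraicGeometry ZeroObject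

attribute [local instance] HasDerivedCategory.standard

namespace Groth.Agent.Lib.helper13.K0Dev

section Supp

variable {X : Scheme.{u}}

lemma not_mem_support_iff (M : X.Modules) (x : X) :
    x ∉ CohB1.support M ↔ IsZero ((DerSch.stalkFunctor X x).obj M) := by
  constructor
  · intro h
    haveI h' : Subsingleton ((DerSch.stalkFunctor X x).obj M) :=
      (not_not.mp h : Subsingleton (M.presheaf.stalk x))
    exact ModuleCat.isZero_of_subsingleton _
  · intro h hx
    exact hx (ModuleCat.subsingleton_of_isZero h : Subsingleton ((DerSch.stalkFunctor X x).obj M))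

lemma support_eq_empty_of_isZero (M : X.Modules) (hM : IsZero M) : CohB1.support M = ∅ := by
  ext p
  simp only [Set.mem_empty_iff_false, iff_false]
  rw [not_mem_support_iff]
  exact (DerSch.stalkFunctor X p).map_isZero hM

lemma support_subset_of_exact (S : ShortComplex X.Modules) (hS : S.Exact) :
    CohB1.support S.X₂ ⊆ CohB1.support S.X₁ ∪ CohB1.support S.X₃ := by
  intro x hx
  by_contra hc
  rw [Set.mem_union, not_or, not_mem_support_iff, not_mem_support_iff] at hc
  have h := (hS.map (DerSch.stalkFunctor X x)).isZero_of_both_zeros (hc.1.eq_of_src _ _)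
    (hc.2.eq_of_tgt _ _)
  exact (not_mem_support_iff _ _).2 h hx

lemma support_subset_of_mono {F G : X.Modules} (f : F ⟶ G) [Mono f] :
    CohB1.support F ⊆ CohB1.support G := by
  intro x hx
  by_contra hc
  rw [not_mem_support_iff] at hc
  have : IsZero ((DerSch.stalkFunctor X x).obj F) :=
    IsZero.of_mono ((DerSch.stalkFunctor X x).map f) hc
  exact (not_mem_support_iff _ _).2 this hx


lemma support_eq_of_iso {F G : X.Modules} (e : F ≅ G) : CohB1.support F = CohB1.support G := by
  ext x
  rw [← not_iff_not, not_mem_support_iff, not_mem_support_iff]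
  exact Iso.isZero_iff ((DerSch.stalkFunctor X x).mapIso e)

end Supp


section PerfCoh

open Groth.Agent.Lib.helper25.DCohRestrict Groth.Agent.Lib.helper25.DCohHomology Scheme.Modules

variable {X : Scheme.{u}}

/-- local strictly perfect models of the cohomology of a perfect object (helper25) -/
lemma exists_local_models (F : CochainComplex X.Modules ℤ) (hF : DCoh.IsPerfect (DCoh.toD X F)) (x : X) :
    ∃ (V : X.Opens) (E : CochainComplex (V : Scheme.{u}).Modules ℤ), x ∈ V ∧ DCoh.IsStrictlyPerfect E ∧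
      ∀ i : ℤ, Nonempty ((restrictFunctor V.ι).obj (F.homology i) ≅ E.homology i) := by
  obtain ⟨V, hxV, hV⟩ := hF x
  obtain ⟨E, hE, ⟨e⟩⟩ := hV F ⟨Iso.refl _⟩
  refine ⟨V, E, hxV, hE, fun i => ⟨?_⟩⟩
  exact (homologyResIso V.ι F i).symm ≪≫
    ((DerivedCategory.homologyFunctorFactors _ i).app _).symm ≪≫
    (DerivedCategory.homologyFunctor _ i).mapIso e ≪≫
    (DerivedCategory.homologyFunctorFactors _ i).app _

/-- a perfect object on a locally Noetherian scheme has coherent cohomology sheaves (helper25) -/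
theorem isCohD_of_isPerfect [IsLocallyNoetherian X] (K : DCoh.D X) (hK : DCoh.IsPerfect K) :
    DCoh.IsCohD K := by
  intro i
  let F : CochainComplex X.Modules ℤ := DerivedCategory.Q.objPreimage K
  have e₀ : DCoh.toD X F ≅ K := DerivedCategory.Q.objObjPreimageIso K
  have hF : DCoh.IsPerfect (DCoh.toD X F) := by
    intro x
    obtain ⟨V, hxV, hV⟩ := hK x
    exact ⟨V, hxV, fun G ⟨g⟩ => hV G ⟨g ≪≫ e₀⟩⟩
  choose V E hxV hE eE using exists_local_models F hF
  have hcov : ⨆ x : X, V x = ⊤ := by
    rw [eq_top_iff]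
    intro x _
    exact TopologicalSpace.Opens.mem_iSup.mpr ⟨x, hxV x⟩
  refine Groth.Agent.Lib.helper7.CohKer.isCoh_of_iso
    ((DerivedCategory.homologyFunctor _ i).mapIso e₀.symm ≪≫
      (DerivedCategory.homologyFunctorFactors _ i).app F).symm ?_
  refine isCoh_of_cover _ V hcov (fun x => ?_)
  haveI : IsLocallyNoetherian (V x : Scheme.{u}) := isLocallyNoetherian_of_isOpenImmersion (V x).ι
  exact Groth.Agent.Lib.helper7.CohKer.isCoh_of_iso (eE x i).some.symm
    (isCoh_homology_of_isStrictlyPerfect (hE x) i)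

/-- a perfect object on a quasi-compact scheme is bounded (helper25) -/
theorem exists_bounds_of_isPerfect [CompactSpace X] (K : DCoh.D X) (hK : DCoh.IsPerfect K) :
    ∃ a b : ℤ, K.IsGE a ∧ K.IsLE b := by
  let F : CochainComplex X.Modules ℤ := DerivedCategory.Q.objPreimage K
  have e₀ : DCoh.toD X F ≅ K := DerivedCategory.Q.objObjPreimageIso K
  have hF : DCoh.IsPerfect (DCoh.toD X F) := by
    intro x
    obtain ⟨V, hxV, hV⟩ := hK x
    exact ⟨V, hxV, fun G ⟨g⟩ => hV G ⟨g ≪≫ e₀⟩⟩
  choose V E hxV hE eE using exists_local_models F hF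
  have hab : ∀ x, ∃ a b : ℤ, DCoh.VanishesOutside (E x) a b := fun x => (hE x).1
  choose a b hab using hab
  obtain ⟨t, ht⟩ := isCompact_univ.elim_finite_subcover (fun x : X => ((V x : X.Opens) : Set X))
    (fun x => (V x).isOpen) (fun x _ => Set.mem_iUnion.mpr ⟨x, hxV x⟩)
  have hcov : ⨆ x : t, V x.1 = ⊤ := by
    rw [eq_top_iff]
    intro x _
    obtain ⟨y, hy⟩ := Set.mem_iUnion.mp (ht (Set.mem_univ x))
    obtain ⟨hyt, hxy⟩ := Set.mem_iUnion.mp hy
    exact TopologicalSpace.Opens.mem_iSup.mpr ⟨⟨y, hyt⟩, hxy⟩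
  obtain ⟨a₁, ha₁⟩ := (t.image (fun x => -a x)).exists_le
  obtain ⟨b₁, hb₁⟩ := (t.image (fun x => b x)).exists_le
  have hz : ∀ i : ℤ, i < -a₁ ∨ b₁ < i → IsZero ((DerivedCategory.homologyFunctor _ i).obj K) := by
    intro i hi
    refine IsZero.of_iso ?_ ((DerivedCategory.homologyFunctor _ i).mapIso e₀.symm ≪≫
      (DerivedCategory.homologyFunctorFactors _ i).app F)
    refine isZero_of_cover _ (fun x : t => V x.1) hcov (fun x => ?_)
    refine IsZero.of_iso ?_ (eE x.1 i).some
    refine HomologicalComplex.ExactAt.isZero_homology (ShortComplex.exact_of_isZero_X₂ _ ?_)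
    refine hab x.1 i ?_
    have h1 := ha₁ (-a x.1) (Finset.mem_image_of_mem (fun x => -a x) x.2)
    have h2 := hb₁ (b x.1) (Finset.mem_image_of_mem (fun x => b x) x.2)
    omega
  refine ⟨-a₁, b₁, ?_, ?_⟩
  · rw [DerivedCategory.isGE_iff]
    exact fun i hi => hz i (Or.inl hi)
  · rw [DerivedCategory.isLE_iff]
    exact fun i hi => hz i (Or.inr hi)

end PerfCoh

section Main

open Groth.Agent.Lib.helper7.CohKer Groth.Agent.Lib.helper25.DCohPerfect

variable (X : Scheme.{u}) (Y' : Set X)

/-- coherent modules supported in `Y'` -/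
def CohIn : ObjectProperty X.Modules := fun G => Coh.IsCoh G ∧ CohB1.support G ⊆ Y'

/-- perfect complexes with cohomology supported in `Y'` -/
def PerfIn : ObjectProperty (DCoh.D X) :=
  fun K => DCoh.IsPerfect K ∧ ∀ i : ℤ, CohB1.support (DCoh.HD K i) ⊆ Y'

variable {X Y'}

lemma cohIn_zero (G : X.Modules) (h : IsZero G) : CohIn X Y' G :=
  ⟨isCoh_of_isZero h, by rw [support_eq_empty_of_isZero G h]; exact Set.empty_subset _⟩

lemma cohIn_iso [IsLocallyNoetherian X] (F G : X.Modules) (e : F ≅ G) (h : CohIn X Y' F) :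
    CohIn X Y' G :=
  ⟨isCoh_of_iso e h.1, by
    rw [← support_eq_of_iso e]; exact h.2⟩

lemma cohIn_kernel [IsLocallyNoetherian X] {F G : X.Modules} (f : F ⟶ G) (hF : CohIn X Y' F)
    (hG : CohIn X Y' G) : CohIn X Y' (kernel f) :=
  ⟨isCoh_kernel hF.1 hG.1 f, (support_subset_of_mono (kernel.ι f)).trans hF.2⟩

lemma perfIn_iso (K L : DCoh.D X) (e : K ≅ L) (h : PerfIn X Y' K) : PerfIn X Y' L :=
  ⟨isPerfect_of_iso e h.1, fun i => by
    rw [← support_eq_of_iso
      ((DerivedCategory.homologyFunctor X.Modules i).mapIso e)]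
    exact h.2 i⟩

lemma perfIn_zero (hperf : ∀ G : X.Modules, Coh.IsCoh G → CohB1.support G ⊆ Y' →
      DCoh.IsPerfect (DCoh.inD X G)) (K : DCoh.D X) (h : IsZero K) : PerfIn X Y' K :=
  ⟨by
    have h0 : IsZero (0 : X.Modules) := isZero_zero _
    have hp := hperf 0 (isCoh_of_isZero h0)
      (by rw [support_eq_empty_of_isZero _ h0]; exact Set.empty_subset _)
    exact isPerfect_of_iso
      (((DerivedCategory.singleFunctor X.Modules 0).map_isZero h0).iso h) hp, fun i => by
    rw [support_eq_empty_of_isZero _ ((DerivedCategory.homologyFunctor X.Modules i).map_isZero h)]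
    exact Set.empty_subset _⟩

lemma perfIn_shift (K : DCoh.D X) (n : ℤ) (h : PerfIn X Y' K) : PerfIn X Y' (K⟦n⟧) :=
  ⟨isPerfect_shift h.1 n, fun i => by
    have e : (DerivedCategory.homologyFunctor X.Modules i).obj (K⟦n⟧) ≅
        (DerivedCategory.homologyFunctor X.Modules (n + i)).obj K :=
      ((DerivedCategory.homologyFunctor X.Modules 0).shiftIso n i (n + i) rfl).app K
    rw [support_eq_of_iso e]
    exact h.2 (n + i)⟩

lemma perfIn_ext (T : Triangle (DCoh.D X)) (hT : T ∈ distTriang _) (h₁ : PerfIn X Y' T.obj₁)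
    (h₃ : PerfIn X Y' T.obj₃) : PerfIn X Y' T.obj₂ :=
  ⟨(isPerfect_two_out_of_three T hT).2.1 h₁.1 h₃.1, fun i => by
    refine (support_subset_of_exact _ (DerivedCategory.HomologySequence.exact₂ T hT i)).trans ?_
    exact Set.union_subset (h₁.2 i) (h₃.2 i)⟩

lemma perfIn_single (hperf : ∀ G : X.Modules, Coh.IsCoh G → CohB1.support G ⊆ Y' →
      DCoh.IsPerfect (DCoh.inD X G)) (G : X.Modules) (hG : CohIn X Y' G) :
    PerfIn X Y' ((DerivedCategory.singleFunctor X.Modules 0).obj G) := by
  refine ⟨hperf G hG.1 hG.2, fun i => ?_⟩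
  by_cases hi : i = 0
  · subst hi
    have e : (DerivedCategory.homologyFunctor X.Modules 0).obj
        ((DerivedCategory.singleFunctor X.Modules 0).obj G) ≅ G :=
      (DerivedCategory.singleFunctorCompHomologyFunctorIso X.Modules 0).app G
    rw [support_eq_of_iso e]
    exact hG.2
  · have hz : IsZero ((DerivedCategory.homologyFunctor X.Modules i).obj
        ((DerivedCategory.singleFunctor X.Modules 0).obj G)) := by
      rcases lt_or_gt_of_ne hi with h | h
      · exact DerivedCategory.isZero_of_isGE _ 0 i h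
      · exact DerivedCategory.isZero_of_isLE _ 0 i h
    rw [support_eq_empty_of_isZero _ hz]
    exact Set.empty_subset _

/-- **`K₀(Coh_{Y'}(X)) ≅ K₀(Perf_{Y'}(X))`** when coherent modules supported in `Y'` are perfect (= S14007). -/
theorem exists_K0sub_cohIn_equiv_K0tr_perfIn [IsNoetherian X]
    (hperf : ∀ G : X.Modules, Coh.IsCoh G → CohB1.support G ⊆ Y' → DCoh.IsPerfect (DCoh.inD X G)) :
    ∃ φ : K0sub (CohIn X Y') ≃+ K0tr (PerfIn X Y'), ∀ G : X.Modules, CohIn X Y' G →
      φ (clSub (CohIn X Y') G) = clTr (PerfIn X Y') (DCoh.inD X G) := by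
  refine exists_K0sub_equiv_K0tr (CohIn X Y') cohIn_zero (fun f hF hG => cohIn_kernel f hF hG)
    cohIn_iso (PerfIn X Y') (fun K hK i => ?_) (fun K hK => ?_) perfIn_iso (perfIn_zero hperf) perfIn_shift
    perfIn_ext (perfIn_single hperf)
  · exact ⟨isCohD_of_isPerfect K hK.1 i, hK.2 i⟩
  · obtain ⟨a, b, ha, hb⟩ := exists_bounds_of_isPerfect K hK.1
    refine ⟨a, b, fun i hi => ?_⟩
    rcases hi with hi | hi
    · exact DerivedCategory.isZero_of_isGE K a i hi
    · exact DerivedCategory.isZero_of_isLE K b i hi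

end Main

end Groth.Agent.Lib.helper13.K0Dev
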