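import Mathlib
import Groth.Agent.Lib.Helper13.K0Dev3

/-!
# Euler characteristic of bounded complexes with terms in an object property (helper13)

For an object property `PA` of an abelian category `C` (containing zero objects, closed under isomorphisms,
binary biproducts and kernels of epimorphisms between its members, e.g. finite projective modules):
* `VanOut E a b`, `chiCx PA E = ∑ᶠ i, (-1)^i [E^i] ∈ K0sub PA`, `chiCx_eq_sum`;
* `pa_kernel_of_acyclic`, `chiCx_acyclic`: a bounded acyclic complex with terms in `PA` has `chiCx = 0`;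
* `coneSC`, `coneSplitting` (the degreewise split sequence `E₂^i ⟶ cone(f)^i ⟶ E₁^{i+1}`), `pa_cone_X`, `vanOut_cone`,
  `chiCx_cone : chiCx (cone f) = chiCx E₂ - chiCx E₁`.
-/
set_option autoImplicit false
universe w v u
open CategoryTheory CategoryTheory.Limits Pretriangulated KZero ZeroObject

namespace Groth.Agent.Lib.helper13.K0Dev

section Cx

variable {C : Type u} [Category.{v} C] [Abelian C] (PA : ObjectProperty C)

/-- a complex vanishing outside `[a, b]` -/
def VanOut (E : CochainComplex C ℤ) (a b : ℤ) : Prop := ∀ i : ℤ, (i < a ∨ b < i) → IsZero (E.X i)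

/-- the `i`-th term of the Euler characteristic of a complex -/
noncomputable def chiCxTerm (E : CochainComplex C ℤ) (i : ℤ) : K0sub PA :=
  (i.negOnePow : ℤ) • clSub PA (E.X i)

/-- the Euler characteristic `∑ (-1)^i [E^i]` of a complex -/
noncomputable def chiCx (E : CochainComplex C ℤ) : K0sub PA := ∑ᶠ i : ℤ, chiCxTerm PA E i

variable (hAzero : ∀ X : C, IsZero X → PA X) (hAiso : ∀ X Y : C, (X ≅ Y) → PA X → PA Y)
  (hAkerEpi : ∀ {X Y : C} (f : X ⟶ Y) [Epi f], PA X → PA Y → PA (kernel f))
  (hAbiprod : ∀ X Y : C, PA X → PA Y → PA (X ⊞ Y))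

include hAzero in
lemma chiCxTerm_support_finite (E : CochainComplex C ℤ) (a b : ℤ) (hE : VanOut E a b) :
    (Function.support (chiCxTerm PA E)).Finite := by
  refine hasFiniteSupport_of_bdd _ a b (fun i hi => ?_)
  rw [chiCxTerm, clSub_isZero PA hAzero (hE i hi), smul_zero]

include hAzero in
lemma chiCx_eq_sum (E : CochainComplex C ℤ) (a b : ℤ) (hE : VanOut E a b) :
    chiCx PA E = (Finset.Icc a b).sum (fun i => (i.negOnePow : ℤ) • clSub PA (E.X i)) := by
  rw [chiCx]
  refine finsum_eq_sum_of_support_subset _ (fun i hi => ?_)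
  rw [Function.mem_support] at hi
  rw [Finset.coe_Icc, Set.mem_Icc]
  by_contra hc
  refine hi ?_
  rw [chiCxTerm, clSub_isZero PA hAzero (hE i (by omega)), smul_zero]

include hAzero hAiso hAkerEpi in
/-- kernels of the differentials of a bounded-above acyclic complex with terms in `PA` are in `PA` -/
lemma pa_kernel_of_acyclic (E : CochainComplex C ℤ) (b : ℤ) (hb : ∀ i : ℤ, b < i → IsZero (E.X i))
    (hP : ∀ i, PA (E.X i)) (hac : ∀ i, E.ExactAt i) :
    ∀ i : ℤ, PA (kernel (E.d i (i + 1))) := by
  have key : ∀ (n : ℕ) (i : ℤ), b + 1 - n ≤ i → PA (kernel (E.d i (i + 1))) := by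
    intro n
    induction n with
    | zero =>
      intro i hi
      exact hAzero _ (IsZero.of_mono (kernel.ι _) (hb i (by simp at hi; omega)))
    | succ n ih =>
      intro i hi
      by_cases h : b + 1 - n ≤ i
      · exact ih i h
      · have hK : PA (kernel (E.d (i + 1) (i + 1 + 1))) := ih (i + 1) (by push_cast at hi; omega)
        have hex : (E.sc' i (i + 1) (i + 1 + 1)).Exact :=
          (E.exactAt_iff' i (i + 1) (i + 1 + 1) (by simp) (by simp)).1 (hac (i + 1))
        let S := E.sc' i (i + 1) (i + 1 + 1)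
        haveI : Epi (kernel.lift S.g S.f S.zero) := S.exact_iff_epi_kernel_lift.1 hex
        have h1 : PA (kernel (kernel.lift S.g S.f S.zero)) := hAkerEpi _ (hP i) hK
        have e : kernel (kernel.lift S.g S.f S.zero) ≅ kernel (E.d i (i + 1)) :=
          (kernelCompMono (kernel.lift S.g S.f S.zero) (kernel.ι S.g)).symm ≪≫
            kernelIsoOfEq (kernel.lift_ι _ _ _)
        exact hAiso _ _ e h1
  intro i
  exact key (b + 1 - i).toNat i (by have := Int.self_le_toNat (b + 1 - i); omega)

include hAzero hAiso hAkerEpi in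
/-- **the Euler characteristic of a bounded acyclic complex with terms in `PA` vanishes** -/
lemma chiCx_acyclic (E : CochainComplex C ℤ) (a b : ℤ) (hE : VanOut E a b)
    (hP : ∀ i, PA (E.X i)) (hac : ∀ i, E.ExactAt i) : chiCx PA E = 0 := by
  have hK := pa_kernel_of_acyclic PA hAzero hAiso hAkerEpi E b (fun i hi => hE i (Or.inr hi)) hP hac
  let g : ℤ → K0sub PA := fun i => (i.negOnePow : ℤ) • clSub PA (kernel (E.d i (i + 1)))
  have hg : (Function.support g).Finite := by
    refine hasFiniteSupport_of_bdd _ a b (fun i hi => ?_)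
    have hz : IsZero (kernel (E.d i (i + 1))) := IsZero.of_mono (kernel.ι _) (hE i hi)
    simp only [g]
    rw [clSub_isZero PA hAzero hz, smul_zero]
  have key : ∀ i : ℤ, chiCxTerm PA E i = - (g (i + 1) - g i) := by
    intro i
    have hex : (E.sc' i (i + 1) (i + 1 + 1)).Exact :=
      (E.exactAt_iff' i (i + 1) (i + 1 + 1) (by simp) (by simp)).1 (hac (i + 1))
    have e1 : clSub PA (E.X i) = clSub PA (kernel (E.d i (i + 1))) +
        clSub PA (kernel (E.d (i + 1) (i + 1 + 1))) :=
      clSub_exact PA _ hex (hP i) (hK i) (hK (i + 1))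
    simp only [chiCxTerm, g]
    rw [e1, Int.negOnePow_succ, Units.val_neg, neg_smul, smul_add]
    abel
  rw [chiCx]
  simp only [key]
  rw [finsum_neg_distrib, finsum_telescope g hg, neg_zero]

section Cone

open CochainComplex.mappingCone

variable {E₁ E₂ : CochainComplex C ℤ} (f : E₁ ⟶ E₂)

/-- the degreewise split short complex `E₂^i ⟶ cone(f)^i ⟶ E₁^{i+1}` -/
noncomputable def coneSC (i : ℤ) : ShortComplex C :=
  ShortComplex.mk ((inr f).f i) ((fst f).1.v i (i + 1) rfl) (by simp)

/-- its splitting -/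
noncomputable def coneSplitting (i : ℤ) : (coneSC f i).Splitting where
  r := (snd f).v i i (add_zero i)
  s := (inl f).v (i + 1) i (by omega)
  f_r := by simp [coneSC]
  s_g := by simp [coneSC]
  id := by
    have h := id_X f i (i + 1) rfl
    change (snd f).v i i (add_zero i) ≫ (inr f).f i +
      (fst f).1.v i (i + 1) rfl ≫ (inl f).v (i + 1) i (by omega) = 𝟙 _
    rw [← h]
    exact add_comm _ _

include hAiso hAbiprod in
lemma pa_cone_X (h₁ : ∀ i, PA (E₁.X i)) (h₂ : ∀ i, PA (E₂.X i)) (i : ℤ) :
    PA ((CochainComplex.mappingCone f).X i) :=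
  hAiso _ _ (coneSplitting f i).isoBinaryBiproduct.symm (hAbiprod _ _ (h₂ i) (h₁ (i + 1)))

lemma vanOut_cone (a b : ℤ) (h₁ : VanOut E₁ a b) (h₂ : VanOut E₂ a b) :
    VanOut (CochainComplex.mappingCone f) (a - 1) b := by
  intro i hi
  have hz : IsZero ((coneSC f i).X₁ ⊞ (coneSC f i).X₃) := by
    have z1 : IsZero (E₂.X i) := h₂ i (by omega)
    have z3 : IsZero (E₁.X (i + 1)) := h₁ (i + 1) (by omega)
    rw [IsZero.iff_id_eq_zero]
    apply biprod.hom_ext
    · exact z1.eq_of_tgt _ _
    · exact z3.eq_of_tgt _ _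
  exact hz.of_iso (coneSplitting f i).isoBinaryBiproduct

include hAzero hAiso hAbiprod in
lemma chiCx_cone (a b : ℤ) (v₁ : VanOut E₁ a b) (v₂ : VanOut E₂ a b)
    (h₁ : ∀ i, PA (E₁.X i)) (h₂ : ∀ i, PA (E₂.X i)) :
    chiCx PA (CochainComplex.mappingCone f) = chiCx PA E₂ - chiCx PA E₁ := by
  have key : ∀ i : ℤ, chiCxTerm PA (CochainComplex.mappingCone f) i =
      chiCxTerm PA E₂ i - chiCxTerm PA E₁ (i + 1) := by
    intro i
    have e1 : clSub PA ((CochainComplex.mappingCone f).X i) =
        clSub PA (E₂.X i) + clSub PA (E₁.X (i + 1)) :=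
      clSub_ses PA (coneSC f i) (coneSplitting f i).shortExact (h₂ i)
        (pa_cone_X PA hAiso hAbiprod f h₁ h₂ i) (h₁ (i + 1))
    simp only [chiCxTerm]
    rw [e1, Int.negOnePow_succ, Units.val_neg, neg_smul, smul_add]
    abel
  have s1 := chiCxTerm_support_finite PA hAzero E₁ a b v₁
  have s2 := chiCxTerm_support_finite PA hAzero E₂ a b v₂
  have s1' : (Function.support (fun i : ℤ => chiCxTerm PA E₁ (i + 1))).Finite := by
    have : Function.support (fun i : ℤ => chiCxTerm PA E₁ (i + 1)) =
        (Equiv.addRight (1 : ℤ)) ⁻¹' Function.support (chiCxTerm PA E₁) := by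
      ext i; simp
    rw [this]
    exact s1.preimage (Equiv.injective _).injOn
  rw [chiCx]
  simp only [key]
  rw [finsum_sub_distrib s2 s1']
  have := finsum_comp_equiv (Equiv.addRight (1 : ℤ)) (f := chiCxTerm PA E₁)
  simp only [Equiv.coe_addRight] at this
  rw [this]
  rfl

end Cone

end Cx

end Groth.Agent.Lib.helper13.K0Dev
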