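import Mathlib
import Groth.Agent.Lib.Helper13.K0Dev5
import Groth.Agent.Lib.Helper13.RGam4
import Groth.Agent.Lib.Helper14.KProjLift
import Groth.Agent.Lib.Helper23.PerfDev

/-!
# `K₀(R) ≅ K₀(D_perf(R))` (helper13; S7142)

* `FinProj R` (finite projective modules) with `finProj_zero/iso/biprod/kernel_epi`;
* `StrP E a b` (complex of finite projectives vanishing outside `[a,b]`), `StrP.isKProjective`, `chiR E`, `chiR_cone`,
  `chiR_eq_of_iso` (independence of the strictly perfect representative), `chiR_triangle` (additivity on distinguished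
  triangles), `isPerfect_single`, `chiR_single`;
* `exists_psiR` (the Euler characteristic `K₀(D_perf R) → K₀(R)`), `exists_K0_equiv_K0_perfect` (= S7142).
-/
set_option autoImplicit false
universe u
open CategoryTheory CategoryTheory.Limits Pretriangulated KZero ZeroObject DerivedCategory

attribute [local instance] HasDerivedCategory.standard

namespace Groth.Agent.Lib.helper13.K0Dev

section Ring

variable (R : Type u) [CommRing R]

/-- finite projective modules -/
def FinProj : ObjectProperty (ModuleCat.{u} R) := fun M => Module.Finite R M ∧ Module.Projective R M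

variable {R}

lemma finProj_zero (M : ModuleCat.{u} R) (h : IsZero M) : FinProj R M := by
  haveI : Subsingleton M := ModuleCat.subsingleton_of_isZero h
  exact ⟨inferInstance, inferInstance⟩

lemma finProj_iso (M N : ModuleCat.{u} R) (e : M ≅ N) (h : FinProj R M) : FinProj R N := by
  obtain ⟨h1, h2⟩ := h
  exact ⟨Module.Finite.equiv e.toLinearEquiv, Module.Projective.of_equiv e.toLinearEquiv⟩

lemma finProj_biprod (M N : ModuleCat.{u} R) (hM : FinProj R M) (hN : FinProj R N) :
    FinProj R (M ⊞ N) := by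
  obtain ⟨h1, h2⟩ := hM
  obtain ⟨h3, h4⟩ := hN
  have e : (M ⊞ N : ModuleCat.{u} R) ≅ ModuleCat.of R (M × N) := ModuleCat.biprodIsoProd M N
  exact finProj_iso _ _ e.symm ⟨inferInstanceAs (Module.Finite R (M × N)),
    inferInstanceAs (Module.Projective R (M × N))⟩

lemma finProj_kernel_epi {M N : ModuleCat.{u} R} (f : M ⟶ N) [Epi f] (hM : FinProj R M)
    (hN : FinProj R N) : FinProj R (kernel f) := by
  obtain ⟨h1, h2⟩ := hM
  obtain ⟨h3, h4⟩ := hN
  have hsurj : Function.Surjective f.hom := (ModuleCat.epi_iff_surjective f).1 inferInstance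
  obtain ⟨s, hs⟩ := Module.projective_lifting_property f.hom LinearMap.id hsurj
  -- `ker f` is a direct summand of `M`
  have e : kernel f ≅ ModuleCat.of R (LinearMap.ker f.hom) := ModuleCat.kernelIsoKer f
  refine finProj_iso _ _ e.symm ⟨?_, ?_⟩
  · -- projection `M → ker f`, `m ↦ m - s (f m)`
    let p : M →ₗ[R] LinearMap.ker f.hom :=
      LinearMap.codRestrict _ (LinearMap.id - s.comp f.hom) (fun m => by
        rw [LinearMap.mem_ker, LinearMap.sub_apply, map_sub, LinearMap.id_apply,
          LinearMap.comp_apply]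
        have := LinearMap.congr_fun hs (f.hom m)
        simp only [LinearMap.comp_apply, LinearMap.id_apply] at this
        rw [this, sub_self])
    refine Module.Finite.of_surjective p (fun x => ⟨x.1, ?_⟩)
    apply Subtype.ext
    simp only [p, LinearMap.codRestrict_apply, LinearMap.sub_apply, LinearMap.id_apply,
      LinearMap.comp_apply]
    rw [(LinearMap.mem_ker.1 x.2), map_zero, sub_zero]
  · let p : M →ₗ[R] LinearMap.ker f.hom :=
      LinearMap.codRestrict _ (LinearMap.id - s.comp f.hom) (fun m => by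
        rw [LinearMap.mem_ker, LinearMap.sub_apply, map_sub, LinearMap.id_apply,
          LinearMap.comp_apply]
        have := LinearMap.congr_fun hs (f.hom m)
        simp only [LinearMap.comp_apply, LinearMap.id_apply] at this
        rw [this, sub_self])
    refine Module.Projective.of_split (LinearMap.ker f.hom).subtype p ?_
    ext x
    simp only [p, LinearMap.comp_apply, LinearMap.codRestrict_apply, LinearMap.sub_apply,
      LinearMap.id_apply, Submodule.subtype_apply]
    rw [(LinearMap.mem_ker.1 x.2), map_zero, sub_zero]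

section L3

open Groth.Agent.Lib.helper13.RGam

/-- a complex vanishing outside `[a,b]` with finite projective terms -/
def StrP (E : DRing.Cx R) (a b : ℤ) : Prop := VanOut E a b ∧ ∀ i, FinProj R (E.X i)

lemma StrP.mono {E : DRing.Cx R} {a b a' b' : ℤ} (h : StrP E a b) (ha : a' ≤ a) (hb : b ≤ b') :
    StrP E a' b' :=
  ⟨fun i hi => h.1 i (by omega), h.2⟩

lemma StrP.isKProjective {E : DRing.Cx R} {a b : ℤ} (h : StrP E a b) : E.IsKProjective := by
  haveI : E.IsStrictlyLE b := (CochainComplex.isStrictlyLE_iff E b).2 (fun i hi => h.1 i (Or.inr hi))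
  haveI : ∀ n, Projective (E.X n) := fun n => by
    haveI := (h.2 n).2
    exact (IsProjective.iff_projective (E.X n)).1 inferInstance
  exact CochainComplex.isKProjective_of_projective E b

/-- the Euler characteristic of a complex of finite projectives -/
noncomputable abbrev chiR (E : DRing.Cx R) : K0sub (FinProj R) := chiCx (FinProj R) E

lemma chiR_cone {E₁ E₂ : DRing.Cx R} (f : E₁ ⟶ E₂) {a b : ℤ} (h₁ : StrP E₁ a b) (h₂ : StrP E₂ a b) :
    chiR (CochainComplex.mappingCone f) = chiR E₂ - chiR E₁ :=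
  chiCx_cone (FinProj R) finProj_zero finProj_iso finProj_biprod f a b h₁.1 h₂.1 h₁.2 h₂.2

lemma strP_cone {E₁ E₂ : DRing.Cx R} (f : E₁ ⟶ E₂) {a b : ℤ} (h₁ : StrP E₁ a b) (h₂ : StrP E₂ a b) :
    StrP (CochainComplex.mappingCone f) (a - 1) b :=
  ⟨vanOut_cone f a b h₁.1 h₂.1, pa_cone_X (FinProj R) finProj_iso finProj_biprod f h₁.2 h₂.2⟩

/-- quasi-isomorphic strictly perfect complexes have the same Euler characteristic -/
lemma chiR_eq_of_iso {E E' : DRing.Cx R} {a b : ℤ} (h : StrP E a b) (h' : StrP E' a b)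
    (e : Q.obj E ≅ Q.obj E') : chiR E = chiR E' := by
  haveI := h.isKProjective
  obtain ⟨f, hf⟩ := Groth.Agent.Lib.Helper14.KProjLift.Q_map_surjective_of_isKProjective E E' e.hom
  haveI : IsIso (Q.map f) := by rw [hf]; infer_instance
  have hqi : QuasiIso f := (DerivedCategory.isIso_Q_map_iff_quasiIso (φ := f)).1 inferInstance
  have hac := (quasiIso_iff_acyclic_mappingCone f).1 hqi
  have hc := strP_cone f h h'
  have h0 : chiR (CochainComplex.mappingCone f) = 0 :=
    chiCx_acyclic (FinProj R) finProj_zero finProj_iso (fun g _ hM hN => finProj_kernel_epi g hM hN)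
      _ (a - 1) b hc.1 hc.2 hac
  rw [chiR_cone f h h', sub_eq_zero] at h0
  exact h0.symm

/-- additivity of the Euler characteristic on distinguished triangles -/
lemma chiR_triangle (T : Triangle (Dual.D R)) (hT : T ∈ distTriang _) {E₁ E₂ E₃ : DRing.Cx R} {a b : ℤ}
    (h₁ : StrP E₁ a b) (h₂ : StrP E₂ a b) (h₃ : StrP E₃ a b) (e₁ : Q.obj E₁ ≅ T.obj₁)
    (e₂ : Q.obj E₂ ≅ T.obj₂) (e₃ : Q.obj E₃ ≅ T.obj₃) : chiR E₂ = chiR E₁ + chiR E₃ := by
  haveI := h₁.isKProjective
  obtain ⟨f, hf⟩ := Groth.Agent.Lib.Helper14.KProjLift.Q_map_surjective_of_isKProjective E₁ E₂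
    (e₁.hom ≫ T.mor₁ ≫ e₂.inv)
  have hT' := DerivedCategory.mappingCone_triangle_distinguished f
  let eT := isoTriangleOfIso₁₂ _ _ hT' hT e₁ e₂ (by
    show Q.map f ≫ e₂.hom = e₁.hom ≫ T.mor₁
    rw [hf]; simp)
  have e : Q.obj (CochainComplex.mappingCone f) ≅ Q.obj E₃ :=
    Triangle.π₃.mapIso eT ≪≫ e₃.symm
  have hc := strP_cone f h₁ h₂
  have := chiR_eq_of_iso hc (h₃.mono (by omega) le_rfl) e
  rw [chiR_cone f h₁ h₂] at this
  rw [← this]
  abel

end L3

section Main

open Groth.Agent.Lib.helper23.PerfDev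

lemma exists_strP_of_isPerfect (K : Dual.D R) (hK : DRing.IsPerfect R K) :
    ∃ (E : DRing.Cx R) (a b : ℤ), StrP E a b ∧ Nonempty (Q.obj E ≅ K) := by
  obtain ⟨E, a, b, h1, h2, h3⟩ := hK
  exact ⟨E, a, b, ⟨h1, h2⟩, h3⟩

lemma isPerfect_of_strP {E : DRing.Cx R} {a b : ℤ} (h : StrP E a b) : DRing.IsPerfect R (Q.obj E) :=
  ⟨E, a, b, h.1, h.2, ⟨Iso.refl _⟩⟩

lemma strP_single (M : ModuleCat.{u} R) (hM : FinProj R M) :
    StrP ((HomologicalComplex.single (ModuleCat.{u} R) (ComplexShape.up ℤ) 0).obj M) 0 0 := by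
  refine ⟨fun i hi => HomologicalComplex.isZero_single_obj_X _ _ _ _ (by omega), fun i => ?_⟩
  by_cases hi : i = 0
  · subst hi
    exact finProj_iso _ _ (HomologicalComplex.singleObjXSelf (ComplexShape.up ℤ) 0 M).symm hM
  · exact finProj_zero _ (HomologicalComplex.isZero_single_obj_X _ _ _ _ hi)

lemma isPerfect_single (M : ModuleCat.{u} R) (hM : FinProj R M) :
    DRing.IsPerfect R ((DerivedCategory.singleFunctor (ModuleCat.{u} R) 0).obj M) :=
  isPerfect_of_iso R ((DerivedCategory.singleFunctorIsoCompQ (ModuleCat.{u} R) 0).app M).symm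
    (isPerfect_of_strP (strP_single M hM))

lemma chiR_single (M : ModuleCat.{u} R) (hM : FinProj R M) :
    chiR ((HomologicalComplex.single (ModuleCat.{u} R) (ComplexShape.up ℤ) 0).obj M) =
      clSub (FinProj R) M := by
  rw [chiR, chiCx_eq_sum (FinProj R) finProj_zero _ 0 0 (strP_single M hM).1]
  simp only [Finset.Icc_self, Finset.sum_singleton, Int.negOnePow_zero, Units.val_one, one_smul]
  exact clSub_iso (FinProj R) finProj_zero
    (HomologicalComplex.singleObjXSelf (ComplexShape.up ℤ) 0 M).symm hM ((strP_single M hM).2 0)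

/-- the Euler characteristic homomorphism `K₀(D_perf(R)) → K₀(R)` -/
lemma exists_psiR : ∃ ψ : K0tr (fun K : Dual.D R => DRing.IsPerfect R K) →+ K0sub (FinProj R),
    ∀ (E : DRing.Cx R) (a b : ℤ), StrP E a b →
      ψ (clTr (fun K : Dual.D R => DRing.IsPerfect R K) (Q.obj E)) = chiR E := by
  classical
  choose! E a b hE eE using exists_strP_of_isPerfect (R := R)
  -- independence of the representative
  have hwd : ∀ (K : Dual.D R) (hK : DRing.IsPerfect R K) (E' : DRing.Cx R) (a' b' : ℤ),
      StrP E' a' b' → (Q.obj E' ≅ K) → chiR E' = chiR (E K) := by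
    intro K hK E' a' b' hE' e'
    exact chiR_eq_of_iso (a := min a' (a K)) (b := max b' (b K))
      (hE'.mono (min_le_left _ _) (le_max_left _ _))
      ((hE K hK).mono (min_le_right _ _) (le_max_right _ _)) (e' ≪≫ (eE K hK).some.symm)
  let ψ₀ : FreeAbelianGroup (Subtype (fun K : Dual.D R => DRing.IsPerfect R K)) →+ K0sub (FinProj R) :=
    FreeAbelianGroup.lift (fun K => chiR (E K.1))
  have hle : relTr (fun K : Dual.D R => DRing.IsPerfect R K) ≤ ψ₀.ker := by
    refine (AddSubgroup.closure_le _).2 ?_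
    rintro x ⟨T, p₁, p₂, p₃, hT, rfl⟩
    rw [SetLike.mem_coe, AddMonoidHom.mem_ker, map_sub, map_sub]
    simp only [ψ₀, FreeAbelianGroup.lift_apply_of]
    have := chiR_triangle T hT
      (a := min (a T.obj₁) (min (a T.obj₂) (a T.obj₃)))
      (b := max (b T.obj₁) (max (b T.obj₂) (b T.obj₃)))
      ((hE _ p₁).mono (min_le_left _ _) (le_max_left _ _))
      ((hE _ p₂).mono ((min_le_right _ _).trans (min_le_left _ _))
        ((le_max_left _ _).trans (le_max_right _ _)))
      ((hE _ p₃).mono ((min_le_right _ _).trans (min_le_right _ _))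
        ((le_max_right _ _).trans (le_max_right _ _)))
      (eE _ p₁).some (eE _ p₂).some (eE _ p₃).some
    rw [this]
    abel
  refine ⟨QuotientAddGroup.lift _ ψ₀ hle, fun E' a' b' hE' => ?_⟩
  rw [clTr_of _ _ (isPerfect_of_strP hE'), QuotientAddGroup.lift_mk]
  simp only [ψ₀, FreeAbelianGroup.lift_apply_of]
  exact (hwd _ (isPerfect_of_strP hE') E' a' b' hE' (Iso.refl _)).symm

/-- **`K₀(R) ≅ K₀(D_perf(R))`** (= S7142) -/
theorem exists_K0_equiv_K0_perfect :
    ∃ φ : K0sub (FinProj R) ≃+ K0tr (fun K : Dual.D R => DRing.IsPerfect R K),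
      (∀ M : ModuleCat.{u} R, FinProj R M → φ (clSub (FinProj R) M) =
        clTr (fun K : Dual.D R => DRing.IsPerfect R K)
          ((DerivedCategory.singleFunctor (ModuleCat.{u} R) 0).obj M)) ∧
      ∀ (E : DRing.Cx R) (a b : ℤ), StrP E a b →
        φ.symm (clTr (fun K : Dual.D R => DRing.IsPerfect R K) (Q.obj E)) =
          (Finset.Icc a b).sum (fun i => (i.negOnePow : ℤ) • clSub (FinProj R) (E.X i)) := by
  set PD : ObjectProperty (Dual.D R) := fun K : Dual.D R => DRing.IsPerfect R K with hPD
  obtain ⟨φ, hφ⟩ := exists_phi (FinProj R) PD isPerfect_single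
  obtain ⟨ψ, hψ⟩ := exists_psiR (R := R)
  have hiso : ∀ X Y : Dual.D R, (X ≅ Y) → PD X → PD Y := fun X Y e h => isPerfect_of_iso R e h
  have hzero : ∀ X : Dual.D R, IsZero X → PD X := fun X h => isPerfect_of_isZero R h
  have hshift : ∀ (X : Dual.D R) (n : ℤ), PD X → PD (X⟦n⟧) := fun X n h => isPerfect_shift R X n h
  have hext : ∀ T : Triangle (Dual.D R), T ∈ distTriang _ → PD T.obj₁ → PD T.obj₃ → PD T.obj₂ :=
    fun T hT h₁ h₃ => (isPerfect_two_of_three R T hT).2.1 h₁ h₃
  have hψφ : ∀ x : K0sub (FinProj R), ψ (φ x) = x := by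
    intro x
    induction x using QuotientAddGroup.induction_on with
    | H z =>
      induction z using FreeAbelianGroup.induction_on with
      | zero => simp
      | of m =>
        have h := hφ m.1 m.2
        rw [clSub_of (FinProj R) m.1 m.2] at h
        rw [h]
        have e : (DerivedCategory.singleFunctor (ModuleCat.{u} R) 0).obj m.1 ≅
            Q.obj ((HomologicalComplex.single (ModuleCat.{u} R) (ComplexShape.up ℤ) 0).obj m.1) :=
          (DerivedCategory.singleFunctorIsoCompQ (ModuleCat.{u} R) 0).app m.1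
        rw [clTr_iso PD hiso hzero e.symm (isPerfect_of_strP (strP_single m.1 m.2)),
          hψ _ 0 0 (strP_single m.1 m.2), chiR_single m.1 m.2, clSub_of (FinProj R) m.1 m.2]
      | neg a ha =>
        rw [QuotientAddGroup.mk_neg, map_neg, map_neg, ha]
      | add a b ha hb =>
        rw [QuotientAddGroup.mk_add, map_add, map_add, ha, hb]
  have hinj : Function.Injective φ := Function.LeftInverse.injective hψφ
  have hsurj : Function.Surjective φ := by
    have htop : φ.range = ⊤ := by
      apply closure_eq_top_of_forall PD φ.range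
      intro X hX
      obtain ⟨E, a, b, hE, ⟨e⟩⟩ := exists_strP_of_isPerfect X hX
      have key : Pr PD φ.range (Q.obj E) := by
        refine Groth.Agent.Lib.helper23.Devissage.devissage_terms (Pr PD φ.range)
          (fun X Y e h => pr_iso PD hiso hzero φ.range e h)
          (fun X h => pr_zero PD hiso hzero φ.range h)
          (fun X n h => pr_shift PD hiso hzero φ.range hshift X n h)
          (fun T hT h₁ h₃ => pr_ext PD φ.range hext T hT h₁ h₃)
          (b - a + 1).toNat b E (fun i hi => hE.1 i (Or.inr hi)) (fun i hi => hE.1 i (Or.inl ?_))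
          (fun i => ?_)
        · have := Int.self_le_toNat (b - a + 1)
          omega
        · exact ⟨isPerfect_single _ (hE.2 i), ⟨_, hφ _ (hE.2 i)⟩⟩
      exact (pr_iso PD hiso hzero φ.range e key).2
    intro y
    have : y ∈ φ.range := by rw [htop]; trivial
    exact this
  refine ⟨AddEquiv.ofBijective φ ⟨hinj, hsurj⟩, fun M hM => ?_, fun E a b hE => ?_⟩
  · rw [AddEquiv.ofBijective_apply]
    exact hφ M hM
  · have h1 : ∀ y, (AddEquiv.ofBijective φ ⟨hinj, hsurj⟩).symm y = ψ y := by
      intro y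
      obtain ⟨x, rfl⟩ := hsurj y
      rw [hψφ]
      exact (AddEquiv.ofBijective φ ⟨hinj, hsurj⟩).symm_apply_apply x
    rw [h1, hψ E a b hE, chiR, chiCx_eq_sum (FinProj R) finProj_zero E a b hE.1]

end Main

end Ring

end Groth.Agent.Lib.helper13.K0Dev
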