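import Mathlib

/-!
Helper library (helper13) for the resolution theorem for `K₀` (S3200):
diagram lemmas on pullbacks in abelian categories, resolution-dimension classes `D n`.
-/

set_option autoImplicit false
universe v u
open CategoryTheory CategoryTheory.Limits

namespace Groth.Agent.Lib.helper13.K0Res

variable {C : Type u} [Category.{v} C] [Abelian C]

/-- Pullback of a short exact sequence `0 → K → X → Z → 0` along `g : Y ⟶ Z`:
`0 → K → X ×_Z Y → Y → 0`. -/
theorem shortExact_pullback_snd {K X Z Y : C} {i : K ⟶ X} {f : X ⟶ Z} (w : i ≫ f = 0)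
    (hS : (ShortComplex.mk i f w).ShortExact) (g : Y ⟶ Z) :
    ∃ (j : K ⟶ pullback f g) (w' : j ≫ pullback.snd f g = 0), j ≫ pullback.fst f g = i ∧
      (ShortComplex.mk j (pullback.snd f g) w').ShortExact := by
  have hmono : Mono i := hS.mono_f
  have hepi : Epi f := hS.epi_g
  have hker : IsLimit (KernelFork.ofι i w) := hS.fIsKernel
  have hc : i ≫ f = (0 : K ⟶ Y) ≫ g := by rw [w, zero_comp]
  have hj : pullback.lift i 0 hc ≫ pullback.fst f g = i := pullback.lift_fst _ _ _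
  have hj' : pullback.lift i 0 hc ≫ pullback.snd f g = 0 := pullback.lift_snd _ _ _
  refine ⟨pullback.lift i 0 hc, hj', hj, ?_⟩
  have : Mono (pullback.lift i 0 hc : K ⟶ pullback f g) :=
    mono_of_mono_fac hj
  refine ShortComplex.ShortExact.mk' (ShortComplex.exact_of_f_is_kernel _ ?_) this inferInstance
  refine KernelFork.IsLimit.ofι' _ _ ?_
  intro W t ht
  dsimp at t ht
  have h1 : (t ≫ pullback.fst f g) ≫ f = 0 := by
    rw [Category.assoc, pullback.condition, ← Category.assoc, ht, zero_comp]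
  refine ⟨hker.lift (KernelFork.ofι _ h1), ?_⟩
  apply pullback.hom_ext
  · rw [Category.assoc]
    simp only [pullback.lift_fst]
    exact hker.fac (KernelFork.ofι _ h1) WalkingParallelPair.zero
  · rw [Category.assoc]
    simp only [pullback.lift_snd, comp_zero]
    exact ht.symm

/-- Pullback of a short exact sequence `0 → K → Y → Z → 0` along `f : X ⟶ Z`:
`0 → K → X ×_Z Y → X → 0`. -/
theorem shortExact_pullback_fst {K X Z Y : C} {i : K ⟶ Y} {g : Y ⟶ Z} (w : i ≫ g = 0)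
    (hS : (ShortComplex.mk i g w).ShortExact) (f : X ⟶ Z) :
    ∃ (j : K ⟶ pullback f g) (w' : j ≫ pullback.fst f g = 0), j ≫ pullback.snd f g = i ∧
      (ShortComplex.mk j (pullback.fst f g) w').ShortExact := by
  have hmono : Mono i := hS.mono_f
  have hepi : Epi g := hS.epi_g
  have hker : IsLimit (KernelFork.ofι i w) := hS.fIsKernel
  have hc : (0 : K ⟶ X) ≫ f = i ≫ g := by rw [w, zero_comp]
  have hj : pullback.lift 0 i hc ≫ pullback.snd f g = i := pullback.lift_snd _ _ _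
  have hj' : pullback.lift 0 i hc ≫ pullback.fst f g = 0 := pullback.lift_fst _ _ _
  refine ⟨pullback.lift 0 i hc, hj', hj, ?_⟩
  have : Mono (pullback.lift 0 i hc : K ⟶ pullback f g) :=
    mono_of_mono_fac hj
  refine ShortComplex.ShortExact.mk' (ShortComplex.exact_of_f_is_kernel _ ?_) this inferInstance
  refine KernelFork.IsLimit.ofι' _ _ ?_
  intro W t ht
  dsimp at t ht
  have h1 : (t ≫ pullback.snd f g) ≫ g = 0 := by
    rw [Category.assoc, ← pullback.condition, ← Category.assoc, ht, zero_comp]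
  refine ⟨hker.lift (KernelFork.ofι _ h1), ?_⟩
  apply pullback.hom_ext
  · rw [Category.assoc]
    simp only [pullback.lift_fst, comp_zero]
    exact ht.symm
  · rw [Category.assoc]
    simp only [pullback.lift_snd]
    exact hker.fac (KernelFork.ofι _ h1) WalkingParallelPair.zero

/-- For a short exact sequence `0 → A' → A → A'' → 0` and an epimorphism `a : L ⟶ A`:
`0 → A' ×_A L → L → A'' → 0` is short exact. -/
theorem shortExact_pullback_comp {A' A A'' L : C} {ι : A' ⟶ A} {π : A ⟶ A''} (w : ι ≫ π = 0)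
    (hS : (ShortComplex.mk ι π w).ShortExact) (a : L ⟶ A) [Epi a] :
    ∃ (w' : pullback.snd ι a ≫ a ≫ π = 0),
      (ShortComplex.mk (pullback.snd ι a) (a ≫ π) w').ShortExact := by
  have hmono : Mono ι := hS.mono_f
  have hepi : Epi π := hS.epi_g
  have hker : IsLimit (KernelFork.ofι ι w) := hS.fIsKernel
  have w' : pullback.snd ι a ≫ a ≫ π = 0 := by
    rw [← pullback.condition_assoc, w, comp_zero]
  refine ⟨w', ?_⟩
  refine ShortComplex.ShortExact.mk' (ShortComplex.exact_of_f_is_kernel _ ?_) inferInstance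
    (epi_comp a π)
  refine KernelFork.IsLimit.ofι' _ _ ?_
  intro W t ht
  dsimp at t ht
  have h1 : (t ≫ a) ≫ π = 0 := by rw [Category.assoc]; exact ht
  have hu : hker.lift (KernelFork.ofι _ h1) ≫ ι = t ≫ a :=
    hker.fac (KernelFork.ofι _ h1) WalkingParallelPair.zero
  exact ⟨pullback.lift (hker.lift (KernelFork.ofι _ h1)) t hu, pullback.lift_snd _ _ _⟩

/-- The standing hypotheses on the pair of classes `P₀ ≤ P₁`. -/
structure Hyp (P₀ P₁ : ObjectProperty C) : Prop where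
  le : ∀ X, P₀ X → P₁ X
  ext₀ : ∀ S : ShortComplex C, S.ShortExact → P₀ S.X₁ → P₀ S.X₃ → P₀ S.X₂
  ext₁ : ∀ S : ShortComplex C, S.ShortExact → P₁ S.X₁ → P₁ S.X₃ → P₁ S.X₂
  ker₀ : ∀ S : ShortComplex C, S.ShortExact → P₀ S.X₂ → P₀ S.X₃ → P₀ S.X₁
  ker₁ : ∀ S : ShortComplex C, S.ShortExact → P₁ S.X₂ → P₁ S.X₃ → P₁ S.X₁
  cover : ∀ A : C, P₁ A → ∃ (L : C) (p : L ⟶ A), P₀ L ∧ Epi p

/-- `D n A`: `A` lies in `P₁` and every `n`-th syzygy of `A` with respect to `P₀` lies in `P₀`. -/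
def D (P₀ P₁ : ObjectProperty C) : ℕ → C → Prop
  | 0, A => P₀ A
  | n + 1, A => P₁ A ∧ ∀ (K L : C) (i : K ⟶ L) (p : L ⟶ A) (w : i ≫ p = 0),
      (ShortComplex.mk i p w).ShortExact → P₀ L → D P₀ P₁ n K

variable {P₀ P₁ : ObjectProperty C}

theorem D_zero (A : C) : D P₀ P₁ 0 A ↔ P₀ A := Iff.rfl

theorem D_succ (n : ℕ) (A : C) : D P₀ P₁ (n + 1) A ↔ (P₁ A ∧ ∀ (K L : C) (i : K ⟶ L)
    (p : L ⟶ A) (w : i ≫ p = 0), (ShortComplex.mk i p w).ShortExact → P₀ L → D P₀ P₁ n K) :=
  Iff.rfl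

theorem D_P₁ (h : Hyp P₀ P₁) {n : ℕ} {A : C} (hA : D P₀ P₁ n A) : P₁ A := by
  cases n with
  | zero => exact h.le _ hA
  | succ n => exact hA.1

theorem D_succ_of_D (h : Hyp P₀ P₁) : ∀ {n : ℕ} {A : C}, D P₀ P₁ n A → D P₀ P₁ (n + 1) A := by
  intro n
  induction n with
  | zero =>
    intro A hA
    refine ⟨h.le _ hA, fun K L i p w hS hL => ?_⟩
    exact h.ker₀ _ hS hL hA
  | succ n ih =>
    intro A hA
    refine ⟨hA.1, fun K L i p w hS hL => ?_⟩
    exact ih (hA.2 K L i p w hS hL)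

theorem D_mono (h : Hyp P₀ P₁) {m n : ℕ} (hmn : m ≤ n) {A : C} (hA : D P₀ P₁ m A) :
    D P₀ P₁ n A := by
  induction hmn with
  | refl => exact hA
  | step _ ih => exact D_succ_of_D h ih

theorem D_of_P₀ (h : Hyp P₀ P₁) (n : ℕ) {A : C} (hA : P₀ A) : D P₀ P₁ n A :=
  D_mono h (Nat.zero_le n) hA

/-- Closure of `D n` under extensions, and the dimension shift for kernels. -/
theorem D_ext_and_ker (h : Hyp P₀ P₁) : ∀ n : ℕ,
    (∀ S : ShortComplex C, S.ShortExact → D P₀ P₁ n S.X₁ → D P₀ P₁ n S.X₃ → D P₀ P₁ n S.X₂) ∧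
    (∀ S : ShortComplex C, S.ShortExact → D P₀ P₁ n S.X₂ → D P₀ P₁ (n + 1) S.X₃ →
      D P₀ P₁ n S.X₁) := by
  intro n
  induction n with
  | zero =>
    refine ⟨fun S hS h1 h3 => h.ext₀ S hS h1 h3, fun S hS h2 h3 => ?_⟩
    exact h3.2 S.X₁ S.X₂ S.f S.g S.zero hS h2
  | succ n ih =>
    obtain ⟨iha, ihb⟩ := ih
    constructor
    · intro S hS h1 h3
      refine ⟨h.ext₁ S hS (D_P₁ h h1) (D_P₁ h h3), fun K L i p w hp hL => ?_⟩
      have : Epi p := hp.epi_g
      obtain ⟨w2, hS2⟩ := shortExact_pullback_comp S.zero hS p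
      have hF : D P₀ P₁ n (pullback S.f p) := h3.2 _ _ _ _ w2 hS2 hL
      obtain ⟨j, w1, -, hS1⟩ := shortExact_pullback_fst w hp S.f
      exact ihb _ hS1 hF h1
    · intro S hS h2 h3
      refine ⟨h.ker₁ S hS (D_P₁ h h2) (D_P₁ h h3), fun K' L' i' a' w' hp' hL' => ?_⟩
      obtain ⟨L, a, hL, ha⟩ := h.cover _ (D_P₁ h h2)
      have hKa : (ShortComplex.mk (kernel.ι a) a (kernel.condition a)).ShortExact :=
        ShortComplex.ShortExact.mk' (ShortComplex.exact_of_f_is_kernel _ (kernelIsKernel a))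
          inferInstance ha
      have hK : D P₀ P₁ n (kernel a) := h2.2 _ _ _ _ _ hKa hL
      obtain ⟨w2, hS2⟩ := shortExact_pullback_comp S.zero hS a
      have hF : D P₀ P₁ (n + 1) (pullback S.f a) := h3.2 _ _ _ _ w2 hS2 hL
      obtain ⟨j, w1, -, hS1⟩ := shortExact_pullback_fst (kernel.condition a) hKa S.f
      -- E := pullback a' (fst : F → A')
      obtain ⟨j3, w3, -, hS3⟩ := shortExact_pullback_snd w' hp' (pullback.fst S.f a)
      obtain ⟨j4, w4, -, hS4⟩ := shortExact_pullback_fst w1 hS1 a'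
      have hE : D P₀ P₁ n (pullback a' (pullback.fst S.f a)) :=
        iha _ hS4 hK (D_of_P₀ h n hL')
      exact ihb _ hS3 hE hF

end Groth.Agent.Lib.helper13.K0Res
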