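import Mathlib
import Groth.Prelude.Def_SGA6
import Groth.Agent.Lib.Helper13.K0Res1

/-!
Helper library (helper13) for the resolution theorem for `K₀` (S3200):
basic API for `KZero.K0sub`, the one-step comparison lemma, the union argument.
-/

set_option autoImplicit false
universe v u
open CategoryTheory CategoryTheory.Limits

namespace Groth.Agent.Lib.helper13.K0Res

variable {C : Type u} [Category.{v} C] [Abelian C]

/-- The class of an object satisfying `P` in `K0sub P`. -/
noncomputable def cls (P : ObjectProperty C) (X : C) (hX : P X) : KZero.K0sub P :=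
  QuotientAddGroup.mk (FreeAbelianGroup.of ⟨X, hX⟩)

theorem cls_rel (P : ObjectProperty C) (S : ShortComplex C) (hS : S.ShortExact)
    (h1 : P S.X₁) (h2 : P S.X₂) (h3 : P S.X₃) :
    cls P S.X₂ h2 = cls P S.X₁ h1 + cls P S.X₃ h3 := by
  have hmem : FreeAbelianGroup.of (⟨S.X₂, h2⟩ : Subtype P) - FreeAbelianGroup.of ⟨S.X₁, h1⟩ -
      FreeAbelianGroup.of ⟨S.X₃, h3⟩ ∈ KZero.relSub P :=
    AddSubgroup.subset_closure ⟨S, h1, h2, h3, hS, rfl⟩
  have := (QuotientAddGroup.eq_zero_iff _).2 hmem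
  rw [QuotientAddGroup.mk_sub, QuotientAddGroup.mk_sub, sub_sub, sub_eq_zero] at this
  exact this

theorem mapSub_cls (P Q : ObjectProperty C) (hle : ∀ X, P X → Q X) (X : C) (hX : P X) :
    SGA6.mapSub (𝟭 C) P Q hle (cls P X hX) = cls Q X (hle X hX) := by
  unfold SGA6.mapSub cls
  rw [QuotientAddGroup.map_mk, FreeAbelianGroup.map_of_apply]
  rfl

theorem closure_cls (P : ObjectProperty C) :
    AddSubgroup.closure {x : KZero.K0sub P | ∃ (X : C) (hX : P X), x = cls P X hX} = ⊤ := by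
  rw [eq_top_iff]
  rintro x -
  induction x using QuotientAddGroup.induction_on with
  | H a =>
    induction a using FreeAbelianGroup.induction_on with
    | zero => exact zero_mem _
    | of X => exact AddSubgroup.subset_closure ⟨X.1, X.2, rfl⟩
    | neg X hX =>
      rw [QuotientAddGroup.mk_neg]
      exact neg_mem hX
    | add a b ha hb =>
      rw [QuotientAddGroup.mk_add]
      exact add_mem ha hb

theorem K0sub_hom_ext (P : ObjectProperty C) {G : Type*} [AddCommGroup G]
    (f g : KZero.K0sub P →+ G) (h : ∀ (X : C) (hX : P X), f (cls P X hX) = g (cls P X hX)) :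
    f = g := by
  have : AddSubgroup.closure {x : KZero.K0sub P | ∃ (X : C) (hX : P X), x = cls P X hX} ≤
      f.eqLocus g := by
    rw [AddSubgroup.closure_le]
    rintro x ⟨X, hX, rfl⟩
    exact h X hX
  rw [closure_cls] at this
  exact AddMonoidHom.ext fun x => this (AddSubgroup.mem_top x)

/-- Construct a homomorphism out of `K0sub P` from an additive function on objects. -/
noncomputable def K0lift (P : ObjectProperty C) {G : Type*} [AddCommGroup G]
    (φ : (X : C) → P X → G)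
    (hφ : ∀ (S : ShortComplex C), S.ShortExact → ∀ (h1 : P S.X₁) (h2 : P S.X₂) (h3 : P S.X₃),
      φ S.X₂ h2 = φ S.X₁ h1 + φ S.X₃ h3) : KZero.K0sub P →+ G :=
  QuotientAddGroup.lift (KZero.relSub P) (FreeAbelianGroup.lift (fun X : Subtype P => φ X.1 X.2))
    (by
      intro x hx
      revert x
      change KZero.relSub P ≤ _
      unfold KZero.relSub
      rw [AddSubgroup.closure_le]
      rintro x ⟨S, h1, h2, h3, hS, rfl⟩
      change FreeAbelianGroup.lift (fun X : Subtype P => φ X.1 X.2) _ = 0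
      rw [map_sub, map_sub, FreeAbelianGroup.lift_apply_of, FreeAbelianGroup.lift_apply_of,
        FreeAbelianGroup.lift_apply_of, hφ S hS h1 h2 h3]
      abel)

theorem K0lift_cls (P : ObjectProperty C) {G : Type*} [AddCommGroup G]
    (φ : (X : C) → P X → G) (hφ) (X : C) (hX : P X) :
    K0lift P φ hφ (cls P X hX) = φ X hX := by
  unfold K0lift cls
  rw [QuotientAddGroup.lift_mk, FreeAbelianGroup.lift_apply_of]

theorem mapSub_comp (P Q R : ObjectProperty C) (h1 : ∀ X, P X → Q X) (h2 : ∀ X, Q X → R X) :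
    (SGA6.mapSub (𝟭 C) Q R h2).comp (SGA6.mapSub (𝟭 C) P Q h1) =
      SGA6.mapSub (𝟭 C) P R (fun X hX => h2 X (h1 X hX)) := by
  apply K0sub_hom_ext
  intro X hX
  rw [AddMonoidHom.comp_apply, mapSub_cls, mapSub_cls, mapSub_cls]

section OneStep

variable (P Q : ObjectProperty C) (hle : ∀ X, P X → Q X)
  (hext : ∀ S : ShortComplex C, S.ShortExact → P S.X₁ → P S.X₃ → P S.X₂)
  (o1 : ∀ A : C, Q A → ∃ (K L : C) (i : K ⟶ L) (p : L ⟶ A) (w : i ≫ p = 0),
    (ShortComplex.mk i p w).ShortExact ∧ P L ∧ P K)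
  (o2 : ∀ S : ShortComplex C, S.ShortExact → P S.X₂ → Q S.X₃ → P S.X₁)

include hext in
/-- Two presentations of the same object by objects of `P` give the same Euler characteristic. -/
theorem oneStep_wd {A : C} {K L K' L' : C} (i : K ⟶ L) (p : L ⟶ A) (w : i ≫ p = 0)
    (hS : (ShortComplex.mk i p w).ShortExact) (hL : P L) (hK : P K)
    (i' : K' ⟶ L') (p' : L' ⟶ A) (w' : i' ≫ p' = 0)
    (hS' : (ShortComplex.mk i' p' w').ShortExact) (hL' : P L') (hK' : P K') :
    cls P L hL - cls P K hK = cls P L' hL' - cls P K' hK' := by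
  obtain ⟨j, wj, -, hSj⟩ := shortExact_pullback_snd w hS p'
  obtain ⟨j', wj', -, hSj'⟩ := shortExact_pullback_fst w' hS' p
  have hE : P (pullback p p') := hext _ hSj hK hL'
  have e1 := cls_rel P _ hSj hK hE hL'
  have e2 := cls_rel P _ hSj' hK' hE hL
  dsimp only at e1 e2
  have : cls P K hK + cls P L' hL' = cls P K' hK' + cls P L hL := by rw [← e1, ← e2]
  rw [sub_eq_sub_iff_add_eq_add, add_comm, ← this, add_comm]

/-- The candidate inverse on objects. -/
noncomputable def oneStepχ (A : C) (hA : Q A) : KZero.K0sub P :=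
  cls P (o1 A hA).choose_spec.choose (o1 A hA).choose_spec.choose_spec.choose_spec.choose_spec.choose_spec.2.1 -
    cls P (o1 A hA).choose (o1 A hA).choose_spec.choose_spec.choose_spec.choose_spec.choose_spec.2.2

include hext in
theorem oneStepχ_eq {A : C} (hA : Q A) {K L : C} (i : K ⟶ L) (p : L ⟶ A) (w : i ≫ p = 0)
    (hS : (ShortComplex.mk i p w).ShortExact) (hL : P L) (hK : P K) :
    oneStepχ P Q o1 A hA = cls P L hL - cls P K hK := by
  unfold oneStepχ
  exact oneStep_wd P hext _ _ _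
    (o1 A hA).choose_spec.choose_spec.choose_spec.choose_spec.choose_spec.1 _ _ i p w hS hL hK

include hext o2 in
theorem oneStepχ_add (S : ShortComplex C) (hS : S.ShortExact) (h1 : Q S.X₁) (h2 : Q S.X₂)
    (h3 : Q S.X₃) :
    oneStepχ P Q o1 S.X₂ h2 = oneStepχ P Q o1 S.X₁ h1 + oneStepχ P Q o1 S.X₃ h3 := by
  obtain ⟨K, L, i, a, w, ha, hL, hK⟩ := o1 S.X₂ h2
  have : Epi a := ha.epi_g
  obtain ⟨w2, hS2⟩ := shortExact_pullback_comp S.zero hS a
  have hF : P (pullback S.f a) := o2 _ hS2 hL h3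
  obtain ⟨j, w1, -, hS1⟩ := shortExact_pullback_fst w ha S.f
  rw [oneStepχ_eq P Q hext o1 h2 i a w ha hL hK, oneStepχ_eq P Q hext o1 h1 j _ w1 hS1 hF hK,
    oneStepχ_eq P Q hext o1 h3 _ _ w2 hS2 hL hF]
  abel

include hle hext o1 o2 in
theorem oneStep_bijective : Function.Bijective (SGA6.mapSub (𝟭 C) P Q hle) := by
  let χ : KZero.K0sub Q →+ KZero.K0sub P :=
    K0lift Q (oneStepχ P Q o1) (oneStepχ_add P Q hext o1 o2)
  have h1 : χ.comp (SGA6.mapSub (𝟭 C) P Q hle) = AddMonoidHom.id _ := by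
    apply K0sub_hom_ext
    intro X hX
    rw [AddMonoidHom.comp_apply, mapSub_cls, AddMonoidHom.id_apply]
    change K0lift Q (oneStepχ P Q o1) (oneStepχ_add P Q hext o1 o2) _ = _
    rw [K0lift_cls]
    obtain ⟨K, L, i, a, w, ha, hL, hK⟩ := o1 X (hle X hX)
    rw [oneStepχ_eq P Q hext o1 (hle X hX) i a w ha hL hK]
    have := cls_rel P _ ha hK hL hX
    dsimp only at this
    rw [this]
    abel
  have h2 : (SGA6.mapSub (𝟭 C) P Q hle).comp χ = AddMonoidHom.id _ := by
    apply K0sub_hom_ext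
    intro A hA
    rw [AddMonoidHom.comp_apply, AddMonoidHom.id_apply]
    change SGA6.mapSub (𝟭 C) P Q hle (K0lift Q (oneStepχ P Q o1) (oneStepχ_add P Q hext o1 o2) _) = _
    rw [K0lift_cls]
    obtain ⟨K, L, i, a, w, ha, hL, hK⟩ := o1 A hA
    rw [oneStepχ_eq P Q hext o1 hA i a w ha hL hK, map_sub, mapSub_cls, mapSub_cls]
    have := cls_rel Q _ ha (hle _ hK) (hle _ hL) hA
    dsimp only at this
    rw [this]
    abel
  constructor
  · intro x y hxy
    have := congrArg χ hxy
    rwa [← AddMonoidHom.comp_apply, ← AddMonoidHom.comp_apply, h1] at this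
  · intro y
    exact ⟨χ y, by rw [← AddMonoidHom.comp_apply, h2, AddMonoidHom.id_apply]⟩

end OneStep

theorem freeAbelianGroup_map_injective {α β : Type*} (g : α → β) (hg : Function.Injective g) :
    Function.Injective (FreeAbelianGroup.map g) := by
  rcases isEmpty_or_nonempty α with hα | hα
  · intro x y _
    have : ∀ z : FreeAbelianGroup α, z = 0 := by
      intro z
      induction z using FreeAbelianGroup.induction_on with
      | zero => rfl
      | of a => exact (hα.false a).elim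
      | neg a _ => exact (hα.false a).elim
      | add a b ha hb => rw [ha, hb, add_zero]
    rw [this x, this y]
  · have hinv : Function.LeftInverse (Function.invFun g) g := Function.leftInverse_invFun hg
    intro x y hxy
    have := congrArg (FreeAbelianGroup.map (Function.invFun g)) hxy
    rw [← FreeAbelianGroup.map_comp_apply, ← FreeAbelianGroup.map_comp_apply,
      show Function.invFun g ∘ g = id from funext hinv, FreeAbelianGroup.map_id_apply,
      FreeAbelianGroup.map_id_apply] at this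
    exact this

section Chain

variable {P₀ P₁ : ObjectProperty C} (h : Hyp P₀ P₁)

include h in
theorem chain_bijective (n : ℕ) :
    Function.Bijective (SGA6.mapSub (𝟭 C) P₀ (D P₀ P₁ n) (fun _ hX => D_of_P₀ h n hX)) := by
  induction n with
  | zero =>
    refine oneStep_bijective P₀ (D P₀ P₁ 0) _ h.ext₀ ?_ ?_
    · intro A hA
      have hS : (ShortComplex.mk (kernel.ι (𝟙 A)) (𝟙 A) (kernel.condition _)).ShortExact :=
        ShortComplex.ShortExact.mk' (ShortComplex.exact_of_f_is_kernel _ (kernelIsKernel _))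
          inferInstance inferInstance
      exact ⟨kernel (𝟙 A), A, kernel.ι (𝟙 A), 𝟙 A, kernel.condition _, hS, hA,
        h.ker₀ _ hS hA hA⟩
    · intro S hS h2 h3
      exact h.ker₀ S hS h2 h3
  | succ n ih =>
    have hb : Function.Bijective (SGA6.mapSub (𝟭 C) (D P₀ P₁ n) (D P₀ P₁ (n + 1))
        (fun _ hX => D_succ_of_D h hX)) := by
      refine oneStep_bijective _ _ _ (D_ext_and_ker h n).1 ?_ (D_ext_and_ker h n).2
      intro A hA
      obtain ⟨L, p, hL, hp⟩ := h.cover A hA.1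
      have hS : (ShortComplex.mk (kernel.ι p) p (kernel.condition _)).ShortExact :=
        ShortComplex.ShortExact.mk' (ShortComplex.exact_of_f_is_kernel _ (kernelIsKernel _))
          inferInstance hp
      exact ⟨kernel p, L, kernel.ι p, p, kernel.condition _, hS, D_of_P₀ h n hL,
        hA.2 _ _ _ _ _ hS hL⟩
    have hcomp := mapSub_comp P₀ (D P₀ P₁ n) (D P₀ P₁ (n + 1)) (fun _ hX => D_of_P₀ h n hX)
      (fun _ hX => D_succ_of_D h hX)
    have : (SGA6.mapSub (𝟭 C) P₀ (D P₀ P₁ (n + 1)) (fun _ hX => D_of_P₀ h (n + 1) hX) :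
        KZero.K0sub P₀ → KZero.K0sub (D P₀ P₁ (n + 1))) =
        (SGA6.mapSub (𝟭 C) (D P₀ P₁ n) (D P₀ P₁ (n + 1)) (fun _ hX => D_succ_of_D h hX)) ∘
          (SGA6.mapSub (𝟭 C) P₀ (D P₀ P₁ n) (fun _ hX => D_of_P₀ h n hX)) := by
      funext x
      exact (DFunLike.congr_fun hcomp x).symm
    rw [this]
    exact hb.comp ih

include h in
/-- Every relation of `K0sub P₁` already holds at some finite level `D n`. -/
theorem relSub_exhaust (hfin : ∀ A : C, P₁ A → ∃ n, D P₀ P₁ n A)
    (y : FreeAbelianGroup (Subtype P₁)) (hy : y ∈ KZero.relSub P₁) :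
    ∃ (n : ℕ) (b : FreeAbelianGroup (Subtype (D P₀ P₁ n))), b ∈ KZero.relSub (D P₀ P₁ n) ∧
      FreeAbelianGroup.map (SGA6.objMap (𝟭 C) (D P₀ P₁ n) P₁ (fun _ hX => D_P₁ h hX)) b = y := by
  unfold KZero.relSub at hy
  induction hy using AddSubgroup.closure_induction with
  | mem y hy =>
    obtain ⟨S, h1, h2, h3, hS, rfl⟩ := hy
    obtain ⟨n1, hn1⟩ := hfin _ h1
    obtain ⟨n2, hn2⟩ := hfin _ h2
    obtain ⟨n3, hn3⟩ := hfin _ h3
    have d1 : D P₀ P₁ (max n1 (max n2 n3)) S.X₁ := D_mono h (le_max_left _ _) hn1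
    have d2 : D P₀ P₁ (max n1 (max n2 n3)) S.X₂ :=
      D_mono h ((le_max_left _ _).trans (le_max_right _ _)) hn2
    have d3 : D P₀ P₁ (max n1 (max n2 n3)) S.X₃ :=
      D_mono h ((le_max_right _ _).trans (le_max_right _ _)) hn3
    refine ⟨max n1 (max n2 n3), FreeAbelianGroup.of ⟨S.X₂, d2⟩ - FreeAbelianGroup.of ⟨S.X₁, d1⟩ -
      FreeAbelianGroup.of ⟨S.X₃, d3⟩, AddSubgroup.subset_closure ⟨S, d1, d2, d3, hS, rfl⟩, ?_⟩
    rw [map_sub, map_sub, FreeAbelianGroup.map_of_apply, FreeAbelianGroup.map_of_apply,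
      FreeAbelianGroup.map_of_apply]
    rfl
  | zero => exact ⟨0, 0, zero_mem _, map_zero _⟩
  | add y1 y2 _ _ ih1 ih2 =>
    obtain ⟨n1, b1, hb1, rfl⟩ := ih1
    obtain ⟨n2, b2, hb2, rfl⟩ := ih2
    have t1 := SGA6.relSub_le_comap (𝟭 C) (D P₀ P₁ n1) (D P₀ P₁ (max n1 n2))
      (fun _ hX => D_mono h (le_max_left _ _) hX) hb1
    have t2 := SGA6.relSub_le_comap (𝟭 C) (D P₀ P₁ n2) (D P₀ P₁ (max n1 n2))
      (fun _ hX => D_mono h (le_max_right _ _) hX) hb2
    refine ⟨max n1 n2, _, add_mem t1 t2, ?_⟩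
    rw [map_add, ← FreeAbelianGroup.map_comp_apply, ← FreeAbelianGroup.map_comp_apply]
    rfl
  | neg y _ ih =>
    obtain ⟨n, b, hb, rfl⟩ := ih
    exact ⟨n, -b, neg_mem hb, map_neg _ _⟩

include h in
theorem union_bijective (hfin : ∀ A : C, P₁ A → ∃ n, D P₀ P₁ n A) :
    Function.Bijective (SGA6.mapSub (𝟭 C) P₀ P₁ h.le) := by
  constructor
  · rw [injective_iff_map_eq_zero]
    intro x hx
    obtain ⟨a, rfl⟩ := QuotientAddGroup.mk_surjective x
    have hx' : FreeAbelianGroup.map (SGA6.objMap (𝟭 C) P₀ P₁ h.le) a ∈ KZero.relSub P₁ := by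
      rw [← QuotientAddGroup.eq_zero_iff]
      exact hx
    obtain ⟨n, b, hb, hbe⟩ := relSub_exhaust h hfin _ hx'
    have hcomp : SGA6.objMap (𝟭 C) P₀ P₁ h.le =
        SGA6.objMap (𝟭 C) (D P₀ P₁ n) P₁ (fun _ hX => D_P₁ h hX) ∘
          SGA6.objMap (𝟭 C) P₀ (D P₀ P₁ n) (fun _ hX => D_of_P₀ h n hX) := rfl
    rw [hcomp, FreeAbelianGroup.map_comp_apply] at hbe
    have hinj : Function.Injective
        (SGA6.objMap (𝟭 C) (D P₀ P₁ n) P₁ (fun _ hX => D_P₁ h hX)) := by
      intro X Y hXY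
      apply Subtype.ext
      have h3 := congrArg Subtype.val hXY
      exact h3
    have hb' := freeAbelianGroup_map_injective _ hinj hbe
    have hz : SGA6.mapSub (𝟭 C) P₀ (D P₀ P₁ n) (fun _ hX => D_of_P₀ h n hX)
        (QuotientAddGroup.mk a) = 0 := by
      unfold SGA6.mapSub
      rw [QuotientAddGroup.map_mk, QuotientAddGroup.eq_zero_iff, ← hb']
      exact hb
    exact (injective_iff_map_eq_zero _).1 (chain_bijective h n).1 _ hz
  · have hrange : (⊤ : AddSubgroup (KZero.K0sub P₁)) ≤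
        (SGA6.mapSub (𝟭 C) P₀ P₁ h.le).range := by
      rw [← closure_cls, AddSubgroup.closure_le]
      rintro x ⟨A, hA, rfl⟩
      obtain ⟨n, hn⟩ := hfin A hA
      obtain ⟨y, hy⟩ := (chain_bijective h n).2 (cls (D P₀ P₁ n) A hn)
      refine ⟨y, ?_⟩
      have := mapSub_comp P₀ (D P₀ P₁ n) P₁ (fun _ hX => D_of_P₀ h n hX)
        (fun _ hX => D_P₁ h hX)
      have h2 := DFunLike.congr_fun this y
      rw [AddMonoidHom.comp_apply, hy, mapSub_cls] at h2
      exact h2.symm
    intro y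
    exact hrange (AddSubgroup.mem_top y)

end Chain

end Groth.Agent.Lib.helper13.K0Res
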