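import Mathlib
import Groth.Agent.Lib.Helper13.K0Res1

/-!
Helper library (helper13) for the resolution theorem for `K₀` (S3200):
infinite resolutions as sequences of short exact sequences, the associated chain complex,
and the bridge from the chain-complex form of bounded resolution dimension to the classes `D n`.
-/

set_option autoImplicit false
universe v u
open CategoryTheory CategoryTheory.Limits

namespace Groth.Agent.Lib.helper13.K0Res

variable {C : Type u} [Category.{v} C] [Abelian C]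

/-- An infinite resolution of `A` by objects of `P₀`, presented as a sequence of short exact
sequences `0 → K (i+1) → L i → K i → 0` with `K 0 ≅ A`. -/
structure Res (P₀ : ObjectProperty C) (A : C) where
  K : ℕ → C
  L : ℕ → C
  ι : ∀ i, K (i + 1) ⟶ L i
  p : ∀ i, L i ⟶ K i
  zero : ∀ i, ι i ≫ p i = 0
  exact : ∀ i, (ShortComplex.mk (ι i) (p i) (zero i)).ShortExact
  hL : ∀ i, P₀ (L i)
  e : K 0 ≅ A

/-- prepend an object to a sequence -/
def consObj (A : C) (K : ℕ → C) : ℕ → C
  | 0 => A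
  | n + 1 => K n

variable {P₀ P₁ : ObjectProperty C}

/-- Prepend a presentation `0 → K' → L' → A → 0` to a resolution of `K'`. -/
noncomputable def Res.cons {A K' L' : C} (i : K' ⟶ L') (p : L' ⟶ A) (w : i ≫ p = 0)
    (hS : (ShortComplex.mk i p w).ShortExact) (hL' : P₀ L') (R : Res P₀ K') : Res P₀ A where
  K := consObj A R.K
  L := consObj L' R.L
  ι := fun n => match n with
    | 0 => (R.e.hom ≫ i : R.K 0 ⟶ L')
    | m + 1 => (R.ι m : R.K (m + 1) ⟶ R.L m)
  p := fun n => match n with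
    | 0 => (p : L' ⟶ A)
    | m + 1 => (R.p m : R.L m ⟶ R.K m)
  zero := fun n => match n with
    | 0 => by
      change (R.e.hom ≫ i) ≫ p = 0
      rw [Category.assoc, w, comp_zero]
    | m + 1 => R.zero m
  exact := fun n => match n with
    | 0 => by
      have hz : (R.e.hom ≫ i) ≫ p = 0 := by rw [Category.assoc, w, comp_zero]
      change (ShortComplex.mk (R.e.hom ≫ i) p hz).ShortExact
      have : Mono (R.e.hom ≫ i) := by
        have := hS.mono_f
        exact mono_comp _ i
      have : Epi p := hS.epi_g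
      refine ShortComplex.ShortExact.mk' (ShortComplex.exact_of_f_is_kernel _ ?_) inferInstance
        inferInstance
      have hker : IsLimit (KernelFork.ofι i w) := hS.fIsKernel
      refine KernelFork.IsLimit.ofι' _ _ ?_
      intro W t ht
      dsimp at t ht
      refine ⟨hker.lift (KernelFork.ofι t ht) ≫ R.e.inv, ?_⟩
      rw [Category.assoc, Iso.inv_hom_id_assoc]
      exact hker.fac (KernelFork.ofι t ht) WalkingParallelPair.zero
    | m + 1 => R.exact m
  hL := fun n => match n with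
    | 0 => hL'
    | m + 1 => R.hL m
  e := Iso.refl A

theorem Res.cons_K_succ {A K' L' : C} (i : K' ⟶ L') (p : L' ⟶ A) (w : i ≫ p = 0)
    (hS : (ShortComplex.mk i p w).ShortExact) (hL' : P₀ L') (R : Res P₀ K') (n : ℕ) :
    (Res.cons i p w hS hL' R).K (n + 1) = R.K n := rfl

section Exists

variable (h : Hyp P₀ P₁)

/-- chosen cover of an object of `P₁` -/
noncomputable def covL (X : {X : C // P₁ X}) : C := (h.cover X.1 X.2).choose

noncomputable def covP (X : {X : C // P₁ X}) : covL h X ⟶ X.1 :=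
  (h.cover X.1 X.2).choose_spec.choose

theorem covL_mem (X : {X : C // P₁ X}) : P₀ (covL h X) :=
  (h.cover X.1 X.2).choose_spec.choose_spec.1

instance covP_epi (X : {X : C // P₁ X}) : Epi (covP h X) :=
  (h.cover X.1 X.2).choose_spec.choose_spec.2

theorem covP_shortExact (X : {X : C // P₁ X}) :
    (ShortComplex.mk (kernel.ι (covP h X)) (covP h X) (kernel.condition _)).ShortExact :=
  ShortComplex.ShortExact.mk' (ShortComplex.exact_of_f_is_kernel _ (kernelIsKernel _))
    inferInstance inferInstance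

noncomputable def syz (X : {X : C // P₁ X}) : {X : C // P₁ X} :=
  ⟨kernel (covP h X), h.ker₁ _ (covP_shortExact h X) (h.le _ (covL_mem h X)) X.2⟩

noncomputable def syzSeq (X : {X : C // P₁ X}) : ℕ → {X : C // P₁ X}
  | 0 => X
  | n + 1 => syz h (syzSeq X n)

/-- Every object of `P₁` has an infinite resolution by objects of `P₀`. -/
noncomputable def Res.ofCover (A : C) (hA : P₁ A) : Res P₀ A where
  K := fun n => (syzSeq h ⟨A, hA⟩ n).1
  L := fun n => covL h (syzSeq h ⟨A, hA⟩ n)
  ι := fun n => (kernel.ι (covP h (syzSeq h ⟨A, hA⟩ n)) :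
    kernel (covP h (syzSeq h ⟨A, hA⟩ n)) ⟶ covL h (syzSeq h ⟨A, hA⟩ n))
  p := fun n => covP h (syzSeq h ⟨A, hA⟩ n)
  zero := fun _ => kernel.condition _
  exact := fun n => covP_shortExact h (syzSeq h ⟨A, hA⟩ n)
  hL := fun _ => covL_mem h _
  e := Iso.refl A

end Exists

/-- The bridge: if the `n`-th syzygy of every infinite resolution of `A` lies in `P₀`,
then `D n A`. -/
theorem D_of_forall_res [P₀.IsClosedUnderIsomorphisms] (h : Hyp P₀ P₁) :
    ∀ (n : ℕ) (A : C), P₁ A → (∀ R : Res P₀ A, P₀ (R.K n)) → D P₀ P₁ n A := by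
  intro n
  induction n with
  | zero =>
    intro A hA hR
    have := hR (Res.ofCover h A hA)
    exact P₀.prop_of_iso (Res.ofCover h A hA).e this
  | succ n ih =>
    intro A hA hR
    refine ⟨hA, fun K' L' i p w hS hL' => ?_⟩
    refine ih K' (h.ker₁ _ hS (h.le _ hL') hA) (fun R' => ?_)
    exact hR (Res.cons i p w hS hL' R')

section Complex

variable {A : C} (R : Res P₀ A)

theorem Res.d_comp_d (n : ℕ) : (R.p (n + 1 + 1) ≫ R.ι (n + 1)) ≫ (R.p (n + 1) ≫ R.ι n) = 0 := by
  rw [Category.assoc, ← Category.assoc (R.ι (n + 1)), R.zero, zero_comp, comp_zero]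

/-- The chain complex `⋯ → L 2 → L 1 → L 0` of a resolution. -/
noncomputable def Res.toComplex : ChainComplex C ℕ :=
  ChainComplex.of R.L (fun n => R.p (n + 1) ≫ R.ι n) R.d_comp_d

theorem Res.toComplex_X (n : ℕ) : R.toComplex.X n = R.L n := rfl

theorem Res.toComplex_d (n : ℕ) : R.toComplex.d (n + 1) n = R.p (n + 1) ≫ R.ι n := by
  change ChainComplex.of.d R.L (fun n => R.p (n + 1) ≫ R.ι n) (n + 1) n = _
  rw [ChainComplex.of_d]

instance (i : ℕ) : Mono (R.ι i) := (R.exact i).mono_f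

instance (i : ℕ) : Epi (R.p i) := (R.exact i).epi_g

theorem Res.toComplex_exactAt (n : ℕ) : R.toComplex.ExactAt (n + 1) := by
  rw [HomologicalComplex.exactAt_iff' R.toComplex (n + 1 + 1) (n + 1) n (by simp) (by simp)]
  -- compare with the short exact sequence `(ι (n+1), p (n+1))`
  let S₁ := R.toComplex.sc' (n + 1 + 1) (n + 1) n
  let S₂ : ShortComplex C := ShortComplex.mk (R.ι (n + 1)) (R.p (n + 1) ≫ R.ι n)
    (by rw [← Category.assoc, R.zero, zero_comp])
  let S₃ : ShortComplex C := ShortComplex.mk (R.ι (n + 1)) (R.p (n + 1)) (R.zero (n + 1))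
  let φ : S₁ ⟶ S₂ :=
    { τ₁ := R.p (n + 1 + 1)
      τ₂ := 𝟙 _
      τ₃ := 𝟙 _
      comm₁₂ := by
        change R.p (n + 1 + 1) ≫ R.ι (n + 1) = R.toComplex.d (n + 1 + 1) (n + 1) ≫ 𝟙 _
        rw [Category.comp_id, R.toComplex_d]
      comm₂₃ := by
        change 𝟙 _ ≫ (R.p (n + 1) ≫ R.ι n) = R.toComplex.d (n + 1) n ≫ 𝟙 _
        rw [Category.comp_id, Category.id_comp, R.toComplex_d] }
  let ψ : S₃ ⟶ S₂ :=
    { τ₁ := 𝟙 _
      τ₂ := 𝟙 _
      τ₃ := R.ι n
      comm₁₂ := by simp [S₂, S₃]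
      comm₂₃ := by simp [S₂, S₃] }
  have : Epi φ.τ₁ := by change Epi (R.p (n + 1 + 1)); infer_instance
  have : IsIso φ.τ₂ := by change IsIso (𝟙 _); infer_instance
  have : Mono φ.τ₃ := by change Mono (𝟙 _); infer_instance
  have : Epi ψ.τ₁ := by change Epi (𝟙 _); infer_instance
  have : IsIso ψ.τ₂ := by change IsIso (𝟙 _); infer_instance
  have : Mono ψ.τ₃ := by change Mono (R.ι n); infer_instance
  rw [ShortComplex.exact_iff_of_epi_of_isIso_of_mono φ,
    ← ShortComplex.exact_iff_of_epi_of_isIso_of_mono ψ]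
  exact (R.exact (n + 1)).exact

end Complex

section Complex2

variable {A : C} (R : Res P₀ A)

theorem Res.nonempty_cyclesIso (n : ℕ) :
    Nonempty (R.toComplex.cycles (n + 1) ≅ R.K (n + 1 + 1)) := by
  have h1 : IsLimit (KernelFork.ofι (R.toComplex.iCycles (n + 1))
      (R.toComplex.iCycles_d (n + 1) n)) := R.toComplex.cyclesIsKernel (n + 1) n (by simp)
  have h2 : IsLimit (KernelFork.ofι (R.ι (n + 1)) (R.zero (n + 1))) := (R.exact (n + 1)).fIsKernel
  have h3 := isKernelCompMono h2 (R.ι n) (R.toComplex_d n)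
  exact ⟨IsLimit.conePointUniqueUpToIso h1 h3⟩

theorem Res.nonempty_homologyIso : Nonempty (R.toComplex.homology 0 ≅ A) := by
  have h1 : IsColimit (CokernelCofork.ofπ (R.toComplex.pOpcycles 0)
      (R.toComplex.d_pOpcycles 1 0)) := R.toComplex.opcyclesIsCokernel 1 0 (by simp)
  have h2 : IsColimit (CokernelCofork.ofπ (R.p 0) (R.zero 0)) := (R.exact 0).gIsCokernel
  have h3 := isCokernelEpiComp h2 (R.p (0 + 1)) (R.toComplex_d 0)
  exact ⟨R.toComplex.isoHomologyι₀ ≪≫ IsColimit.coconePointUniqueUpToIso h1 h3 ≪≫ R.e⟩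

end Complex2

/-- The chain-complex form of bounded resolution dimension implies that every object of `P₁`
lies in some `D n`. -/
theorem exists_D_of_chainComplex [P₀.IsClosedUnderIsomorphisms] (h : Hyp P₀ P₁)
    (h3 : ∀ A : C, P₁ A → ∃ d : ℕ, ∀ L : ChainComplex C ℕ, (∀ i, P₀ (L.X i)) →
      (∀ i, 1 ≤ i → L.ExactAt i) → Nonempty (L.homology 0 ≅ A) → P₀ (L.cycles (d + 1)))
    (A : C) (hA : P₁ A) : ∃ n, D P₀ P₁ n A := by
  obtain ⟨d, hd⟩ := h3 A hA
  refine ⟨d + 1 + 1, D_of_forall_res h _ A hA (fun R => ?_)⟩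
  have hc := hd R.toComplex (fun i => R.hL i) (fun i hi => by
    obtain ⟨j, rfl⟩ : ∃ j, i = j + 1 := ⟨i - 1, by omega⟩
    exact R.toComplex_exactAt j) R.nonempty_homologyIso
  obtain ⟨e⟩ := R.nonempty_cyclesIso d
  exact P₀.prop_of_iso e hc

end Groth.Agent.Lib.helper13.K0Res
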