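import Mathlib
import Groth.Agent.Lib.Helper6.FPLim

/-!
# K-flat complexes, part 17 (helper13): exactness of `- ⊗ M` on a pair of maps can be tested on
finitely presented modules `M`
-/

set_option autoImplicit false
universe u
open TensorProduct Module

namespace Groth.Agent.Lib.helper13.KFlat

section comm

variable {R : Type u} [CommRing R] {A B N N' : Type u} [AddCommGroup A] [Module R A]
  [AddCommGroup B] [Module R B] [AddCommGroup N] [Module R N] [AddCommGroup N'] [Module R N']

lemma rTensor_lTensor_apply (a : A →ₗ[R] B) (g : N →ₗ[R] N') (z : A ⊗[R] N) :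
    a.rTensor N' (g.lTensor A z) = g.lTensor B (a.rTensor N z) := by
  rw [← LinearMap.comp_apply, ← LinearMap.comp_apply, LinearMap.rTensor_comp_lTensor,
    LinearMap.lTensor_comp_rTensor]

end comm

section directLimit

variable {R : Type u} [CommRing R] {ι : Type u} [DecidableEq ι] [Preorder ι]
  {G : ι → Type u} [∀ i, AddCommGroup (G i)] [∀ i, Module R (G i)]
  (f : ∀ i j, i ≤ j → G i →ₗ[R] G j)

lemma directLimitRight_lTensor_of (N : Type u) [AddCommGroup N] [Module R N] {i : ι}
    (x : N ⊗[R] G i) :
    TensorProduct.directLimitRight f N (LinearMap.lTensor N (DirectLimit.of R ι G f i) x) =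
      DirectLimit.of R ι (fun i => N ⊗[R] G i) (fun i j h => LinearMap.lTensor N (f i j h)) i x :=
  x.induction_on (by simp) (by simp +contextual) (by simp +contextual)

variable [DirectedSystem G (f · · ·)] [IsDirectedOrder ι] [Nonempty ι]

lemma exists_lTensor_of_eq (N : Type u) [AddCommGroup N] [Module R N]
    (x : N ⊗[R] Module.DirectLimit G f) :
    ∃ (i : ι) (z : N ⊗[R] G i), LinearMap.lTensor N (DirectLimit.of R ι G f i) z = x := by
  obtain ⟨i, z, hz⟩ := DirectLimit.exists_of (TensorProduct.directLimitRight f N x)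
  refine ⟨i, z, ?_⟩
  apply (TensorProduct.directLimitRight f N).injective
  rw [directLimitRight_lTensor_of]
  exact hz

lemma exists_lTensor_map_eq_zero (N : Type u) [AddCommGroup N] [Module R N] {i : ι}
    (z : N ⊗[R] G i) (hz : LinearMap.lTensor N (DirectLimit.of R ι G f i) z = 0) :
    ∃ (j : ι) (hij : i ≤ j), LinearMap.lTensor N (f i j hij) z = 0 := by
  have h1 := congrArg (TensorProduct.directLimitRight f N) hz
  rw [directLimitRight_lTensor_of, map_zero] at h1
  exact DirectLimit.of.zero_exact h1

/-- exactness of `a ⊗ M`, `b ⊗ M` for `M` a direct limit follows from that for the terms -/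
theorem exact_rTensor_directLimit {A B C : Type u} [AddCommGroup A] [Module R A]
    [AddCommGroup B] [Module R B] [AddCommGroup C] [Module R C] (a : A →ₗ[R] B) (b : B →ₗ[R] C)
    (h : ∀ i, Function.Exact (a.rTensor (G i)) (b.rTensor (G i))) :
    Function.Exact (a.rTensor (Module.DirectLimit G f)) (b.rTensor (Module.DirectLimit G f)) := by
  intro y
  constructor
  · intro hy
    obtain ⟨i, z, rfl⟩ := exists_lTensor_of_eq f B y
    have h1 : LinearMap.lTensor C (DirectLimit.of R ι G f i) (b.rTensor (G i) z) = 0 := by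
      rw [← rTensor_lTensor_apply]
      exact hy
    obtain ⟨j, hij, hj⟩ := exists_lTensor_map_eq_zero f C _ h1
    have h2 : b.rTensor (G j) (LinearMap.lTensor B (f i j hij) z) = 0 := by
      rw [rTensor_lTensor_apply]
      exact hj
    obtain ⟨w, hw⟩ := (h j _).1 h2
    refine ⟨LinearMap.lTensor A (DirectLimit.of R ι G f j) w, ?_⟩
    rw [rTensor_lTensor_apply, hw, ← LinearMap.comp_apply, ← LinearMap.lTensor_comp]
    congr 2
    ext x
    exact DirectLimit.of_f
  · rintro ⟨x, rfl⟩
    obtain ⟨i, z, rfl⟩ := exists_lTensor_of_eq f A x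
    have h0 : b.rTensor (G i) (a.rTensor (G i) z) = 0 := (h i _).2 ⟨z, rfl⟩
    rw [rTensor_lTensor_apply, rTensor_lTensor_apply, h0, map_zero]

end directLimit

section fp

variable {R : Type u} [CommRing R]

/-- exactness of `a ⊗ M`, `b ⊗ M` for all finitely presented `M` implies it for all `M` -/
theorem exact_rTensor_of_forall_fp {A B C : Type u} [AddCommGroup A] [Module R A]
    [AddCommGroup B] [Module R B] [AddCommGroup C] [Module R C] (a : A →ₗ[R] B) (b : B →ₗ[R] C)
    (h : ∀ (M : Type u) [AddCommGroup M] [Module R M], Module.FinitePresentation R M →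
      Function.Exact (a.rTensor M) (b.rTensor M))
    (M : Type u) [AddCommGroup M] [Module R M] :
    Function.Exact (a.rTensor M) (b.rTensor M) := by
  classical
  let e₀ : R ≃ₗ[R] R := LinearEquiv.refl R R
  let e := Groth.Agent.Lib.helper6.FPLim.equiv M e₀
  have h1 := exact_rTensor_directLimit (Groth.Agent.Lib.helper6.FPLim.tr M e₀) a b
    (fun i => h _ (Groth.Agent.Lib.helper6.FPLim.fp M e₀ i))
  refine Function.Exact.of_ladder_linearEquiv_of_exact
    (e₁ := LinearEquiv.lTensor A e) (e₂ := LinearEquiv.lTensor B e)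
    (e₃ := LinearEquiv.lTensor C e) ?_ ?_ h1
  · apply LinearMap.ext
    intro x
    exact rTensor_lTensor_apply a e.toLinearMap x
  · apply LinearMap.ext
    intro x
    exact rTensor_lTensor_apply b e.toLinearMap x

end fp

end Groth.Agent.Lib.helper13.KFlat
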