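import Mathlib
import Groth.Agent.Lib.Helper13.KFlat8
import Groth.Agent.Lib.Helper13.KRes2

/-!
# K-flat complexes, part 18 (helper13): dévissage of arbitrary complexes by brutal and
canonical truncations (no flatness hypotheses)
-/

open CategoryTheory Limits HomologicalComplex

namespace Groth.Agent.Lib.helper13.KFlat

open Groth.Agent.Lib.helper25.SigmaGE

variable {A : Type*} [Category A] [Abelian A] (P : CochainComplex A ℤ → Prop)

include P in
/-- bounded case -/
theorem of_bounded''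
    (h_single : ∀ (K : CochainComplex A ℤ) (q₀ : ℤ), (∀ q, q ≠ q₀ → IsZero (K.X q)) → P K)
    (h_ext : ∀ S : ShortComplex (CochainComplex A ℤ), S.ShortExact →
      (∀ q, IsZero (S.X₁.X q) ∨ IsZero (S.X₃.X q)) → P S.X₁ → P S.X₃ → P S.X₂)
    (n : ℕ) : ∀ (K : CochainComplex A ℤ) (a : ℤ), (∀ q, q < a → IsZero (K.X q)) →
      (∀ q, a + n ≤ q → IsZero (K.X q)) → P K := by
  induction n with
  | zero =>
    intro K a h1 h2
    refine h_single K 0 (fun q _ => ?_)
    by_cases hq : q < a
    · exact h1 q hq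
    · exact h2 q (by simp; omega)
  | succ n ih =>
    intro K a h1 h2
    have hS := sigmaSC_shortExact K (a + 1)
    refine h_ext _ hS (fun q => ?_) ?_ ?_
    · by_cases hq : a + 1 ≤ q
      · exact Or.inr (isZero_sigmaSC_X₃_of_le K (a + 1) q hq)
      · exact Or.inl (isZero_sigmaGE_X K (a + 1) q (by omega))
    · refine ih (sigmaGE K (a + 1)) (a + 1) (fun q hq => isZero_sigmaGE_X K (a + 1) q hq)
        (fun q hq => ?_)
      haveI := isIso_sigmaGEι_f K (a + 1) q (by omega)
      exact (h2 q (by push_cast; omega)).of_iso (asIso ((sigmaGEι K (a + 1)).f q))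
    · refine h_single _ a (fun q hq => ?_)
      by_cases hq' : a + 1 ≤ q
      · exact isZero_sigmaSC_X₃_of_le K (a + 1) q hq'
      · haveI := isIso_sigmaSC_g_of_lt K (a + 1) q (by omega)
        exact (h1 q (by omega)).of_iso (asIso ((sigmaSC K (a + 1)).g.f q)).symm

include P in
/-- bounded above case -/
theorem of_bounded_above''
    (h_single : ∀ (K : CochainComplex A ℤ) (q₀ : ℤ), (∀ q, q ≠ q₀ → IsZero (K.X q)) → P K)
    (h_ext : ∀ S : ShortComplex (CochainComplex A ℤ), S.ShortExact →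
      (∀ q, IsZero (S.X₁.X q) ∨ IsZero (S.X₃.X q)) → P S.X₁ → P S.X₃ → P S.X₂)
    (h_colim : ∀ (G : ℕ ⥤ CochainComplex A ℤ) (c : Cocone G),
      (∀ q, Nonempty (IsColimit ((HomologicalComplex.eval _ _ q).mapCocone c))) →
      (∀ n, P (G.obj n)) → P c.pt)
    (K : CochainComplex A ℤ) (b : ℤ) (hb : ∀ q, b < q → IsZero (K.X q)) : P K := by
  refine h_colim (sigmaSeq K b) (sigmaCocone K b) (fun q => ⟨isColimitSigmaCocone K b q⟩)
    (fun n => ?_)
  change P (sigmaGE K (b - n))
  refine of_bounded'' P h_single h_ext (n + 1) (sigmaGE K (b - n)) (b - n)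
    (fun q hq => isZero_sigmaGE_X K (b - n) q hq) (fun q hq => ?_)
  haveI := isIso_sigmaGEι_f K (b - n) q (by push_cast at hq; omega)
  exact (hb q (by push_cast at hq; omega)).of_iso (asIso ((sigmaGEι K (b - n)).f q))

end Groth.Agent.Lib.helper13.KFlat

namespace Groth.Agent.Lib.helper13.KFlat

universe v u

variable {A : Type u} [Category.{v} A] [Abelian A] (P : CochainComplex A ℤ → Prop)

include P in
/-- all complexes -/
theorem of_all
    (h_single : ∀ (K : CochainComplex A ℤ) (q₀ : ℤ), (∀ q, q ≠ q₀ → IsZero (K.X q)) → P K)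
    (h_ext : ∀ S : ShortComplex (CochainComplex A ℤ), S.ShortExact →
      (∀ q, IsZero (S.X₁.X q) ∨ IsZero (S.X₃.X q)) → P S.X₁ → P S.X₃ → P S.X₂)
    (h_colim : ∀ (G : ℕ ⥤ CochainComplex A ℤ) (c : Cocone G),
      (∀ q, Nonempty (IsColimit ((HomologicalComplex.eval _ _ q).mapCocone c))) →
      (∀ n, P (G.obj n)) → P c.pt)
    (K : CochainComplex A ℤ) : P K := by
  refine h_colim (Groth.Agent.Lib.helper13.KRes.trSeq K) (Groth.Agent.Lib.helper13.KRes.trCocone K)
    (fun q => ⟨Groth.Agent.Lib.helper13.KRes.isColimitTrCoconeEval K q⟩) (fun n => ?_)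
  exact of_bounded_above'' P h_single h_ext h_colim _ (n : ℤ)
    (fun q hq => Groth.Agent.Lib.helper13.KRes.isZero_tr_X K n q hq)

end Groth.Agent.Lib.helper13.KFlat
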