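import Mathlib
import Groth.Prelude.Def_KFlatSite
import Groth.Agent.Lib.Helper13.KFlat9
import Groth.Agent.Lib.Helper13.KFlat13
import Groth.Agent.Lib.Helper13.KFlat17
import Groth.Agent.Lib.Helper13.KFlat18

/-!
# K-flat complexes, part 19 (helper13): a complex of modules `K` with `K ⊗ M` acyclic for all
finitely presented `M` is K-flat (indeed `Tot(L ⊗ K)` is acyclic for every complex `L`)
-/

set_option autoImplicit false
universe u
open CategoryTheory Limits HomologicalComplex MonoidalCategory

namespace Groth.Agent.Lib.helper13.KFlat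

open Groth.Agent.Lib.helper2.BifunctorExact

variable {R : Type u} [CommRing R]

/-- a split short exact sequence one of whose outer terms vanishes stays short exact under any
additive functor -/
lemma shortExact_map_of_isZero {A B : Type*} [Category A] [Category B] [Abelian A] [Abelian B]
    (F : A ⥤ B) [F.Additive] (S : ShortComplex A) (hS : S.ShortExact)
    (h : IsZero S.X₁ ∨ IsZero S.X₃) : (S.map F).ShortExact := by
  rcases h with h | h
  · haveI : IsIso S.g := hS.isIso_g_iff.2 h
    exact ((ShortComplex.Splitting.ofIsZeroOfIsIso S h inferInstance).map F).shortExact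
  · haveI : IsIso S.f := hS.isIso_f_iff.2 h
    exact ((ShortComplex.Splitting.ofIsIsoOfIsZero S inferInstance h).map F).shortExact

/-- universally acyclic complexes of modules: `Tot(K ⊗ L)` is acyclic for every complex `L` -/
theorem acyclic_tensor_of_forall_module (K : DRing.Cx R)
    (hK : ∀ (M : ModuleCat.{u} R) (p : ℤ), (colSC (curriedTensor (ModuleCat.{u} R)) K M p).Exact)
    (L : DRing.Cx R) : ((Φ (curriedTensor (ModuleCat.{u} R)) K).obj L).Acyclic := by
  refine of_all (fun L : DRing.Cx R => ((Φ (curriedTensor (ModuleCat.{u} R)) K).obj L).Acyclic)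
    ?_ ?_ ?_ L
  · intro L q₀ hL
    exact acyclic_of_single (curriedTensor (ModuleCat.{u} R)) K L q₀ hL (fun p => hK _ p)
  · intro S hS hz h1 h3
    have key : (S.map (Φ (curriedTensor (ModuleCat.{u} R)) K)).ShortExact := by
      refine shortExact_map_Φ S (fun p q => ?_) (fun n => monoCoprod_moduleCat R _)
      exact shortExact_map_of_isZero _ _ (hS.map_of_exact (eval _ _ q)) (hz q)
    exact (acyclic_two_of_three _ key).2.1 h1 h3
  · intro G c hc hG
    haveI := hasExactColimitsOfShape_nat_moduleCat (R := R)
    exact acyclic_Φ_of_isColimit (curriedTensor (ModuleCat.{u} R)) K G c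
      (fun q => (hc q).some) hG

/-- `K ⊗ M` acyclic for all finitely presented `M` implies `K` is K-flat -/
theorem isKFlatR_of_forall_fp (K : DRing.Cx R)
    (hK : ∀ (M : Type u) [AddCommGroup M] [Module R M], Module.FinitePresentation R M →
      (∀ i : ℤ, IsZero ((DRing.tensorCx K (ModuleCat.of R M)).homology i))) :
    ∀ L : DRing.Cx R, (mapBifunctor L K (curriedTensor (ModuleCat.{u} R))
      (ComplexShape.up ℤ)).Acyclic := by
  have h1 : ∀ (p : ℤ) (M : Type u) [AddCommGroup M] [Module R M],
      Module.FinitePresentation R M →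
      Function.Exact ((K.d (p - 1) p).hom.rTensor M) ((K.d p (p + 1)).hom.rTensor M) := by
    intro p M _ _ hM
    have h := (exactAt_iff_isZero_homology _ _).2 (hK M hM p)
    rw [exactAt_iff' _ (p - 1) p (p + 1) (by simp) (by simp)] at h
    exact (ShortComplex.ShortExact.moduleCat_exact_iff_function_exact _).1 h
  have h2 : ∀ (M : ModuleCat.{u} R) (p : ℤ),
      (colSC (curriedTensor (ModuleCat.{u} R)) K M p).Exact := by
    intro M p
    rw [ShortComplex.ShortExact.moduleCat_exact_iff_function_exact]
    exact exact_rTensor_of_forall_fp _ _ (fun M' _ _ hM' => h1 p M' hM') M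
  intro L
  exact acyclic_of_iso ((mapBifunctorNatIso K L (ComplexShape.up ℤ)
      (BraidedCategory.curriedBraidingNatIso (ModuleCat.{u} R))) ≪≫
    mapBifunctorFlipIso L K (curriedTensor (ModuleCat.{u} R)) (ComplexShape.up ℤ))
    (acyclic_tensor_of_forall_module K h2 L)

end Groth.Agent.Lib.helper13.KFlat
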