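import Mathlib
import Groth.Agent.Lib.Helper13.KRes2

/-!
# K-flat resolutions, part 10 (helper13): the subcomplex `tr G n` is Mathlib's `G.truncLE n`
-/

set_option autoImplicit false
universe v u
open CategoryTheory Limits HomologicalComplex CochainComplex

namespace Groth.Agent.Lib.helper13.KRes

open Groth.Agent.Lib.Helper25.KInjKL

variable {A : Type u} [Category.{v} A] [Abelian A]

section lift

variable (Q : CochainComplex A ℤ) (S : ∀ m : ℤ, Subobject (Q.X m))
  (hS : ∀ m : ℤ, (S (m + 1)).Factors ((S m).arrow ≫ Q.d m (m + 1)))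

/-- lifting a morphism of complexes to a subcomplex -/
noncomputable def subCxLift {K : CochainComplex A ℤ} (φ : K ⟶ Q)
    (h : ∀ m, (S m).Factors (φ.f m)) : K ⟶ subCx Q S hS where
  f m := (S m).factorThru (φ.f m) (h m)
  comm' i j hij := by
    rw [← cancel_mono ((subCxι Q S hS).f j), Category.assoc, Category.assoc,
      ← (subCxι Q S hS).comm i j, subCxι_f, subCxι_f, Subobject.factorThru_arrow_assoc,
      Subobject.factorThru_arrow, φ.comm]

@[reassoc (attr := simp)]
lemma subCxLift_ι {K : CochainComplex A ℤ} (φ : K ⟶ Q) (h : ∀ m, (S m).Factors (φ.f m)) :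
    subCxLift Q S hS φ h ≫ subCxι Q S hS = φ := by
  ext m
  simp [subCxLift, subCxι_f]

end lift

variable (G : CochainComplex A ℤ)

/-- a morphism from a complex which vanishes in degrees `> n` factors through `tr G n` -/
lemma trFam_factors_of_isStrictlyLE {K : CochainComplex A ℤ} (n : ℤ) [K.IsStrictlyLE n]
    (φ : K ⟶ G) (m : ℤ) : (trFam G n m).Factors (φ.f m) := by
  by_cases h1 : m < n
  · rw [trFam_of_lt G n m h1]
    exact Subobject.top_factors _
  · by_cases h2 : m = n
    · subst h2
      rw [trFam_self, kernelSubobject_factors_iff, φ.comm]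
      rw [(K.isZero_of_isStrictlyLE m (m + 1) (by omega)).eq_of_tgt (K.d m (m + 1)) 0, zero_comp]
    · rw [(K.isZero_of_isStrictlyLE n m (by omega)).eq_of_src (φ.f m) 0]
      exact Subobject.factors_zero

/-- `tr G n` is Mathlib's canonical truncation `G.truncLE n` -/
theorem exists_trIso (n : ℤ) :
    ∃ e : tr G n ≅ G.truncLE n, e.hom ≫ G.ιTruncLE n = trι G n := by
  let a : tr G n ⟶ G.truncLE n := inv ((tr G n).ιTruncLE n) ≫ truncLEMap (trι G n) n
  have ha : a ≫ G.ιTruncLE n = trι G n := by
    dsimp only [a]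
    rw [Category.assoc, CochainComplex.ιTruncLE_naturality, IsIso.inv_hom_id_assoc]
  let b : G.truncLE n ⟶ tr G n :=
    subCxLift G (trFam G n) (trFam_factors G n) (G.ιTruncLE n)
      (trFam_factors_of_isStrictlyLE G n (G.ιTruncLE n))
  have hb : b ≫ trι G n = G.ιTruncLE n := subCxLift_ι _ _ _ _ _
  haveI : Mono (G.ιTruncLE n) := by
    dsimp only [CochainComplex.ιTruncLE]
    infer_instance
  refine ⟨⟨a, b, ?_, ?_⟩, ha⟩
  · rw [← cancel_mono (trι G n), Category.assoc, hb, ha, Category.id_comp]
  · rw [← cancel_mono (G.ιTruncLE n), Category.assoc, ha, hb, Category.id_comp]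

/-- version with a propositional equality of the truncation indices -/
theorem exists_trIso' (n n' : ℤ) (h : n = n') :
    ∃ e : tr G n ≅ G.truncLE n', e.hom ≫ G.ιTruncLE n' = trι G n := by
  subst h
  exact exists_trIso G n

end Groth.Agent.Lib.helper13.KRes
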