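import Mathlib
import Groth.Agent.Lib.Helper13.KRes3

/-!
# K-flat resolutions, part 9 (helper13): the resolution system with its structure exposed

A refinement of `KRes1.exists_factorization` / `KRes3.exists_resolution` which records that the
transition maps of the system of bounded above resolutions are termwise split monomorphisms with
cokernels in the class `flat` (Stacks 06YF in its precise form).
-/

set_option autoImplicit false
universe v u
open CategoryTheory Limits HomologicalComplex CochainComplex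

namespace Groth.Agent.Lib.helper13.KRes

variable {A : Type u} [Category.{v} A] [Abelian A]

section cokernel

/-- the cokernel of the first map of a split short complex is the third object -/
noncomputable def cokernelIsoOfSplitting {S : ShortComplex A} (σ : S.Splitting) :
    cokernel S.f ≅ S.X₃ :=
  (colimit.isColimit _).coconePointUniqueUpToIso σ.shortExact.gIsCokernel

end cokernel

section factorization

attribute [local instance] HasDerivedCategory.standard

variable {flat : A → Prop} (hfl : FlatClass flat)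

include hfl in
/-- refined factorization: the map `j` is a termwise split monomorphism with flat cokernels -/
theorem exists_factorization' (K G : CochainComplex A ℤ) (a : ℤ) [K.IsStrictlyLE a]
    [G.IsStrictlyLE a] (hK : ∀ n, flat (K.X n)) (u : K ⟶ G) :
    ∃ (K' : CochainComplex A ℤ) (j : K ⟶ K') (q : K' ⟶ G), K'.IsStrictlyLE a ∧
      (∀ n, flat (K'.X n)) ∧ j ≫ q = u ∧ QuasiIso q ∧ (∀ n, Epi (q.f n)) ∧
      ∀ n, ∃ r : K'.X n ⟶ K.X n, j.f n ≫ r = 𝟙 _ ∧ flat (cokernel (j.f n)) := by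
  obtain ⟨Q, qQ, hQle, hQflat, hQepi, hQqis⟩ := exists_flat_resolution hfl G a
  let u₁ : K ⊞ Q ⟶ G := biprod.desc u qQ
  have hK1z : ∀ n, a < n → IsZero ((K ⊞ Q).X n) := by
    intro n hn
    refine IsZero.of_iso ?_ (biprodXIso K Q n)
    rw [biprod_isZero_iff]
    exact ⟨K.isZero_of_isStrictlyLE a n hn, Q.isZero_of_isStrictlyLE a n hn⟩
  have hK1flat : ∀ n, flat ((K ⊞ Q).X n) := fun n =>
    hfl.iso _ _ (biprodXIso K Q n).symm (hfl.biprod _ _ (hK n) (hQflat n))
  have hu₁epi : ∀ n, Epi (u₁.f n) := by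
    intro n
    have h1 : (biprod.inr : Q ⟶ K ⊞ Q).f n ≫ u₁.f n = qQ.f n := by
      rw [← comp_f, biprod.inr_desc]
    haveI := hQepi n
    exact epi_of_epi_fac h1
  haveI : Epi u₁ := epi_of_epi_f _ hu₁epi
  let S₂ : ShortComplex (CochainComplex A ℤ) :=
    ShortComplex.mk (kernel.ι u₁) u₁ (kernel.condition u₁)
  have hS₂ : S₂.ShortExact :=
    { exact := ShortComplex.exact_of_f_is_kernel _ (kernelIsKernel u₁) }
  haveI : (kernel u₁).IsStrictlyLE a := by
    rw [isStrictlyLE_iff]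
    intro n hn
    exact IsZero.of_mono ((kernel.ι u₁).f n) (hK1z n hn)
  obtain ⟨R, r, hRle, hRflat, hRepi, hRqis⟩ := exists_flat_resolution hfl (kernel u₁) a
  let S₁ : ShortComplex (CochainComplex A ℤ) :=
    ShortComplex.mk (r ≫ kernel.ι u₁) u₁ (by rw [Category.assoc, kernel.condition, comp_zero])
  let f : S₁ ⟶ S₂ :=
    { τ₁ := r
      τ₂ := 𝟙 _
      τ₃ := 𝟙 _
      comm₁₂ := by dsimp [S₁, S₂]; rw [Category.comp_id]
      comm₂₃ := by dsimp [S₁, S₂]; rw [Category.comp_id, Category.id_comp] }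
  have hq : mappingCone.descShortComplex S₁ =
      mappingCone.map S₁.f S₂.f r (𝟙 _) f.comm₁₂.symm ≫ mappingCone.descShortComplex S₂ := by
    have := mappingCone.map_descShortComplex S₁ S₂ f
    rw [this]
    exact (Category.comp_id _).symm
  haveI : QuasiIso (mappingCone.map S₁.f S₂.f r (𝟙 _) f.comm₁₂.symm) :=
    quasiIso_mappingCone_map _ _ _ _ _
  haveI : QuasiIso (mappingCone.descShortComplex S₂) := mappingCone.quasiIso_descShortComplex hS₂
  refine ⟨mappingCone S₁.f, biprod.inl ≫ mappingCone.inr S₁.f, mappingCone.descShortComplex S₁,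
    ?_, ?_, ?_, ?_, ?_, ?_⟩
  · rw [isStrictlyLE_iff]
    intro n hn
    rw [mappingCone.isZero_X_iff]
    exact ⟨R.isZero_of_isStrictlyLE a (n + 1) (by omega), hK1z n hn⟩
  · intro n
    exact hfl.iso _ _ (homotopyCofiber.XIsoBiprod S₁.f n (n + 1) rfl).symm
      (hfl.biprod _ _ (hRflat (n + 1)) (hK1flat n))
  · rw [Category.assoc, mappingCone.inr_descShortComplex]
    exact biprod.inl_desc u qQ
  · rw [hq]
    infer_instance
  · intro n
    haveI := hu₁epi n
    exact epi_of_epi_fac (mappingCone.inr_f_descShortComplex_f S₁ n)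
  · intro n
    -- the splitting of `K^n ⟶ N^n ⟶ R^{n+1} ⊞ Q^n`
    let jn : K.X n ⟶ (mappingCone S₁.f).X n :=
      (biprod.inl : K ⟶ K ⊞ Q).f n ≫ (mappingCone.inr S₁.f).f n
    let gn : (mappingCone S₁.f).X n ⟶ R.X (n + 1) ⊞ Q.X n :=
      biprod.lift ((mappingCone.fst S₁.f).1.v n (n + 1) rfl)
        ((mappingCone.snd S₁.f).v n n (add_zero n) ≫ (biprod.snd : K ⊞ Q ⟶ Q).f n)
    let rn : (mappingCone S₁.f).X n ⟶ K.X n :=
      (mappingCone.snd S₁.f).v n n (add_zero n) ≫ (biprod.fst : K ⊞ Q ⟶ K).f n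
    let sn : R.X (n + 1) ⊞ Q.X n ⟶ (mappingCone S₁.f).X n :=
      biprod.desc ((mappingCone.inl S₁.f).v (n + 1) n (by omega))
        ((biprod.inr : Q ⟶ K ⊞ Q).f n ≫ (mappingCone.inr S₁.f).f n)
    have e1 : (biprod.inl : K ⟶ K ⊞ Q).f n ≫ (biprod.fst : K ⊞ Q ⟶ K).f n = 𝟙 _ := by
      rw [← comp_f, biprod.inl_fst, id_f]
    have e2 : (biprod.inl : K ⟶ K ⊞ Q).f n ≫ (biprod.snd : K ⊞ Q ⟶ Q).f n = 0 := by
      rw [← comp_f, biprod.inl_snd, zero_f]
    have e3 : (biprod.inr : Q ⟶ K ⊞ Q).f n ≫ (biprod.snd : K ⊞ Q ⟶ Q).f n = 𝟙 _ := by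
      rw [← comp_f, biprod.inr_snd, id_f]
    have e4 : (biprod.inr : Q ⟶ K ⊞ Q).f n ≫ (biprod.fst : K ⊞ Q ⟶ K).f n = 0 := by
      rw [← comp_f, biprod.inr_fst, zero_f]
    have e5 : (biprod.fst : K ⊞ Q ⟶ K).f n ≫ (biprod.inl : K ⟶ K ⊞ Q).f n +
        (biprod.snd : K ⊞ Q ⟶ Q).f n ≫ (biprod.inr : Q ⟶ K ⊞ Q).f n = 𝟙 _ := by
      rw [← comp_f, ← comp_f, ← add_f_apply, biprod.total, id_f]
    have hjr : jn ≫ rn = 𝟙 _ := by
      dsimp only [jn, rn]
      rw [Category.assoc, mappingCone.inr_f_snd_v_assoc, e1]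
    have hjg : jn ≫ gn = 0 := by
      dsimp only [jn, gn]
      ext
      · simp
      · simp [e2]
    let S : ShortComplex A := ShortComplex.mk jn gn hjg
    have σ : S.Splitting :=
      { r := rn
        s := sn
        f_r := hjr
        s_g := by
          dsimp only [S, sn, gn]
          ext
          · simp
            rfl
          · simp
          · simp
          · simp [e3]
        id := by
          dsimp only [S, rn, jn, gn, sn]
          rw [mappingCone.ext_to_iff _ _ (n + 1) rfl]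
          constructor
          · simp
            exact Category.comp_id _
          · simp
            have h5 : (biprod.fst : K ⊞ Q ⟶ K).f n ≫ (biprod.inl : K ⟶ K ⊞ Q).f n ≫
                𝟙 (S₁.X₂.X n) + (biprod.snd : K ⊞ Q ⟶ Q).f n ≫
                (biprod.inr : Q ⟶ K ⊞ Q).f n ≫ 𝟙 (S₁.X₂.X n) = 𝟙 _ := by
              rw [Category.comp_id, Category.comp_id]
              exact e5
            rw [← Preadditive.comp_add, h5]
            exact Category.comp_id _ }
    refine ⟨rn, hjr, ?_⟩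
    exact hfl.iso _ _ (cokernelIsoOfSplitting σ).symm (hfl.biprod _ _ (hRflat (n + 1)) (hQflat n))

end factorization

section stages

variable {flat : A → Prop} (hfl : FlatClass flat) (G : CochainComplex A ℤ)

include hfl in
lemma exists_stage_succ' (n : ℕ) (s : Stage flat G n) :
    ∃ (s' : Stage flat G (n + 1)) (j : s.K ⟶ s'.K),
      j ≫ s'.q = s.q ≫ trMap G (n : ℤ) ((n + 1 : ℕ) : ℤ) (by push_cast; omega) ∧
      ∀ m, ∃ r : s'.K.X m ⟶ s.K.X m, j.f m ≫ r = 𝟙 _ ∧ flat (cokernel (j.f m)) := by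
  haveI := s.le
  haveI : s.K.IsStrictlyLE ((n + 1 : ℕ) : ℤ) :=
    s.K.isStrictlyLE_of_le (n : ℤ) _ (by push_cast; omega)
  obtain ⟨K', j, q, h1, h2, h3, h4, h5, h6⟩ := exists_factorization' hfl s.K
    (tr G ((n + 1 : ℕ) : ℤ)) ((n + 1 : ℕ) : ℤ) s.hflat
    (s.q ≫ trMap G (n : ℤ) ((n + 1 : ℕ) : ℤ) (by push_cast; omega))
  exact ⟨⟨K', q, h1, h2, h4, h5⟩, j, h3, h6⟩

/-- the chosen sequence of stages (with split transition maps) -/
noncomputable def stage' : ∀ n : ℕ, Stage flat G n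
  | 0 => (exists_stage_zero hfl G).some
  | n + 1 => (exists_stage_succ' hfl G n (stage' n)).choose

/-- the transition maps between the stages -/
noncomputable def stageMap' (n : ℕ) : (stage' hfl G n).K ⟶ (stage' hfl G (n + 1)).K :=
  (exists_stage_succ' hfl G n (stage' hfl G n)).choose_spec.choose

lemma stageMap'_q (n : ℕ) : stageMap' hfl G n ≫ (stage' hfl G (n + 1)).q =
    (stage' hfl G n).q ≫ trMap G (n : ℤ) ((n + 1 : ℕ) : ℤ) (by push_cast; omega) :=
  (exists_stage_succ' hfl G n (stage' hfl G n)).choose_spec.choose_spec.1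

lemma stageMap'_split (n : ℕ) (m : ℤ) :
    ∃ r : (stage' hfl G (n + 1)).K.X m ⟶ (stage' hfl G n).K.X m,
      (stageMap' hfl G n).f m ≫ r = 𝟙 _ ∧ flat (cokernel ((stageMap' hfl G n).f m)) :=
  (exists_stage_succ' hfl G n (stage' hfl G n)).choose_spec.choose_spec.2 m

/-- the sequence of resolutions -/
noncomputable def resSeq' : ℕ ⥤ CochainComplex A ℤ :=
  Functor.ofSequence (X := fun n : ℕ => (stage' hfl G n).K) (stageMap' hfl G)

lemma resSeq'_map_succ (n : ℕ) : (resSeq' hfl G).map (homOfLE (n.le_add_right 1)) =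
    stageMap' hfl G n :=
  Functor.ofSequence_map_homOfLE_succ _ n

/-- the natural transformation to the sequence of truncations -/
noncomputable def resNat' : resSeq' hfl G ⟶ trSeq G :=
  NatTrans.ofSequence (fun n => (stage' hfl G n).q) (by
    intro n
    rw [resSeq'_map_succ, trSeq_map_succ]
    exact stageMap'_q hfl G n)

lemma resNat'_app (n : ℕ) : (resNat' hfl G).app n = (stage' hfl G n).q := rfl

/-- the successor functor on `ℕ` -/
def succFunctor : ℕ ⥤ ℕ := (show Monotone Nat.succ from fun _ _ h => Nat.succ_le_succ h).functor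

instance : succFunctor.Final := by
  unfold succFunctor
  rw [Monotone.final_functor_iff]
  intro j
  exact ⟨j, Nat.le_succ j⟩

lemma succFunctor_obj (n : ℕ) : succFunctor.obj n = n + 1 := rfl

section main

variable [HasColimitsOfShape ℕ A] [HasExactColimitsOfShape ℕ A]

include hfl in
/-- the resolution system, abstract form (Stacks 06YF) -/
theorem exists_resolution_system :
    ∃ (Kc : ℕ ⥤ CochainComplex A ℤ) (π : ∀ n : ℕ, Kc.obj n ⟶ tr G ((n + 1 : ℕ) : ℤ)),
      (∀ n : ℕ, Kc.map (homOfLE (Nat.le_succ n)) ≫ π (n + 1) ≫ trι G ((n + 1 + 1 : ℕ) : ℤ) =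
        π n ≫ trι G ((n + 1 : ℕ) : ℤ)) ∧
      (∀ n : ℕ, QuasiIso (π n) ∧ ∀ i : ℤ, Epi ((π n).f i)) ∧
      (∀ n : ℕ, (Kc.obj n).IsStrictlyLE ((n + 1 : ℕ) : ℤ)) ∧
      (∀ (n : ℕ) (i : ℤ), flat ((Kc.obj n).X i)) ∧
      (∀ (n : ℕ) (i : ℤ), ∃ r : (Kc.obj (n + 1)).X i ⟶ (Kc.obj n).X i,
        (Kc.map (homOfLE (Nat.le_succ n))).f i ≫ r = 𝟙 _ ∧
        flat (cokernel ((Kc.map (homOfLE (Nat.le_succ n))).f i))) ∧
      ∃ c : colimit Kc ⟶ G, (∀ n : ℕ, colimit.ι Kc n ≫ c = π n ≫ trι G ((n + 1 : ℕ) : ℤ)) ∧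
        QuasiIso c := by
  let Kc : ℕ ⥤ CochainComplex A ℤ := succFunctor ⋙ resSeq' hfl G
  have hmap : ∀ n : ℕ, Kc.map (homOfLE (Nat.le_succ n)) = stageMap' hfl G (n + 1) := by
    intro n
    have : succFunctor.map (homOfLE (Nat.le_succ n)) = homOfLE ((n + 1).le_add_right 1) :=
      Subsingleton.elim _ _
    exact (congrArg (resSeq' hfl G).map this).trans (resSeq'_map_succ hfl G (n + 1))
  let τ : Kc ⟶ succFunctor ⋙ trSeq G := Functor.whiskerLeft succFunctor (resNat' hfl G)
  let c₂ : Cocone (succFunctor ⋙ trSeq G) := (trCocone G).whisker succFunctor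
  have h₂ : IsColimit c₂ :=
    (Functor.Final.isColimitWhiskerEquiv succFunctor (trCocone G)).symm (isColimitTrCocone G)
  let sc : Cocone Kc :=
    { pt := G
      ι := τ ≫ c₂.ι }
  refine ⟨Kc, fun n => (stage' hfl G (n + 1)).q, ?_, ?_, ?_, ?_, ?_, colimit.desc Kc sc, ?_, ?_⟩
  · intro n
    have h1 := stageMap'_q hfl G (n + 1)
    have h2 := trMap_ι G ((n + 1 : ℕ) : ℤ) ((n + 1 + 1 : ℕ) : ℤ) (by push_cast; omega)
    have h3 := hmap n
    change Kc.map (homOfLE (Nat.le_succ n)) ≫ (stage' hfl G (n + 1 + 1)).q ≫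
      trι G ((n + 1 + 1 : ℕ) : ℤ) = (stage' hfl G (n + 1)).q ≫ trι G ((n + 1 : ℕ) : ℤ)
    have h4 : Kc.map (homOfLE (Nat.le_succ n)) ≫ (stage' hfl G (n + 1 + 1)).q =
        (stage' hfl G (n + 1)).q ≫ trMap G ((n + 1 : ℕ) : ℤ) ((n + 1 + 1 : ℕ) : ℤ)
          (by push_cast; omega) := by
      rw [h3]
      exact h1
    exact (Category.assoc _ _ _).symm.trans ((congrArg (· ≫ trι G ((n + 1 + 1 : ℕ) : ℤ)) h4).trans
      ((Category.assoc _ _ _).trans (congrArg ((stage' hfl G (n + 1)).q ≫ ·) h2)))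
  · intro n
    exact ⟨(stage' hfl G (n + 1)).qis, (stage' hfl G (n + 1)).epi⟩
  · intro n
    exact (stage' hfl G (n + 1)).le
  · intro n i
    exact (stage' hfl G (n + 1)).hflat i
  · intro n i
    rw [hmap]
    exact stageMap'_split hfl G (n + 1) i
  · intro n
    rw [colimit.ι_desc]
    rfl
  · refine Groth.Agent.Lib.Helper25.KInjW.quasiIso_of_isColimit (colimit.cocone Kc) c₂
      (colimit.isColimit Kc) h₂ τ (fun n => (stage' hfl G (n + 1)).qis) (colimit.desc Kc sc)
      (fun n => ?_)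
    exact colimit.ι_desc sc n

end main

end stages

end Groth.Agent.Lib.helper13.KRes
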