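import Mathlib
import Groth.Prelude.Def_KFlatSite
import Groth.Agent.Lib.Helper13.KRes9
import Groth.Agent.Lib.Helper13.KRes10
import Groth.Agent.Lib.Helper13.KFlat6
import Groth.Agent.Lib.Helper1.FreeOnLoc

/-!
# K-flat resolutions, part 11 (helper13): the resolution system by sums of `j_{U!} O_U`
on a ringed site (Stacks 06YF)
-/

set_option autoImplicit false
universe u
open CategoryTheory Limits HomologicalComplex

namespace Groth.Agent.Lib.helper13.KRes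

variable {C : Type u} [SmallCategory C] {J : GrothendieckTopology C} {O : Sheaf J CommRingCat.{u}}

/-- modules isomorphic to a direct sum of modules `j_{U!} O_U` -/
def IsFreeSum (M : ModSite.Mod O) : Prop :=
  ∃ (ι : Type u) (U : ι → C), Nonempty (M ≅ ∐ fun j => ModSite.freeOn O (U j))

theorem isFreeSum_biprod (M N : ModSite.Mod O) (hM : IsFreeSum M) (hN : IsFreeSum N) :
    IsFreeSum (M ⊞ N) := by
  obtain ⟨ι₁, U₁, ⟨e₁⟩⟩ := hM
  obtain ⟨ι₂, U₂, ⟨e₂⟩⟩ := hN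
  refine ⟨ι₁ ⊕ ι₂, Sum.elim U₁ U₂, ⟨biprod.mapIso e₁ e₂ ≪≫ ?_⟩⟩
  let F₁ : ι₁ → ModSite.Mod O := fun j => ModSite.freeOn O (U₁ j)
  let F₂ : ι₂ → ModSite.Mod O := fun j => ModSite.freeOn O (U₂ j)
  have h := Cofan.combPairIsColimit (coproductIsCoproduct F₁) (coproductIsCoproduct F₂)
    (BinaryBiproduct.isColimit (∐ F₁) (∐ F₂))
  refine h.coconePointUniqueUpToIso (coproductIsCoproduct (Sum.elim F₁ F₂)) ≪≫ ?_
  exact Sigma.mapIso (fun j => match j with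
    | .inl _ => Iso.refl _
    | .inr _ => Iso.refl _)

theorem isFreeSum_cover (X : ModSite.Mod O) :
    ∃ (Y : ModSite.Mod O) (π : Y ⟶ X), IsFreeSum Y ∧ Epi π := by
  let ι : Type u := Σ U : C, (ModSite.freeOn O U ⟶ X)
  refine ⟨∐ fun p : ι => ModSite.freeOn O p.1, Sigma.desc (fun p => p.2),
    ⟨ι, fun p => p.1, ⟨Iso.refl _⟩⟩, ?_⟩
  refine Groth.Agent.H1.FreeOnLoc.epi_of_local_sections O _ (fun U s => ⟨⊤, J.top_mem U, ?_⟩)
  intro Y g _
  refine ⟨Sigma.ι (fun p : ι => ModSite.freeOn O p.1) ⟨Y, Groth.Agent.H1.FreeOnLoc.fmap O g ≫ s⟩,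
    ?_⟩
  exact Sigma.ι_desc _ _

theorem flatClass_isFreeSum : FlatClass (fun M : ModSite.Mod O => IsFreeSum M) where
  iso M N e := fun ⟨ι, U, ⟨f⟩⟩ => ⟨ι, U, ⟨e.symm ≪≫ f⟩⟩
  zero M hM := by
    refine ⟨PEmpty, PEmpty.elim, ⟨hM.iso ?_⟩⟩
    rw [IsZero.iff_id_eq_zero]
    apply Sigma.hom_ext
    intro j
    exact j.elim
  biprod := isFreeSum_biprod
  cover := isFreeSum_cover

end Groth.Agent.Lib.helper13.KRes
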