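import Mathlib
import Groth.Agent.Lib.Helper13.KRes1

/-!
# K-flat resolutions, part 7 (helper13): factoring a map out of a K-flat complex through a
K-flat quasi-isomorphism (abstract form)
-/

set_option autoImplicit false
universe v u
open CategoryTheory Limits HomologicalComplex CochainComplex ZeroObject

namespace Groth.Agent.Lib.helper13.KRes

variable {A : Type u} [Category.{v} A] [Abelian A]

attribute [local instance] HasDerivedCategory.standard

variable {flat : A → Prop} (hfl : FlatClass flat) (KF : CochainComplex A ℤ → Prop)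

include hfl in
/-- abstract factorization: a map `a : K ⟶ L` with `K` "K-flat" factors strictly as `b ≫ c`
with `c` a quasi-isomorphism from a "K-flat" complex -/
theorem exists_kflat_factorization
    (hres : ∀ G : CochainComplex A ℤ, ∃ (P : CochainComplex A ℤ) (q : P ⟶ G), KF P ∧
      (∀ n, flat (P.X n)) ∧ QuasiIso q ∧ ∀ n, Epi (q.f n))
    (hses : ∀ S : ShortComplex (CochainComplex A ℤ), S.ShortExact → (∀ n, flat (S.X₃.X n)) →
      KF S.X₁ → KF S.X₃ → KF S.X₂)
    (hcone : ∀ {R M : CochainComplex A ℤ} (f : R ⟶ M), KF R → KF M → KF (mappingCone f))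
    {K L : CochainComplex A ℤ} (a : K ⟶ L) (hK : KF K) :
    ∃ (N : CochainComplex A ℤ) (b : K ⟶ N) (c : N ⟶ L), KF N ∧ QuasiIso c ∧ b ≫ c = a ∧
      ((∀ n, flat (K.X n)) → ∀ n, flat (N.X n)) := by
  obtain ⟨Q, qQ, hQK, hQflat, hQqis, hQepi⟩ := hres L
  let u₁ : K ⊞ Q ⟶ L := biprod.desc a qQ
  have hKQ : KF (K ⊞ Q) := by
    let S : ShortComplex (CochainComplex A ℤ) :=
      ShortComplex.mk (biprod.inl : K ⟶ K ⊞ Q) (biprod.snd : K ⊞ Q ⟶ Q) (by simp)
    have hS : S.ShortExact := (ShortComplex.Splitting.ofHasBinaryBiproduct K Q).shortExact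
    exact hses S hS hQflat hK hQK
  have hu₁epi : ∀ n, Epi (u₁.f n) := by
    intro n
    have h1 : (biprod.inr : Q ⟶ K ⊞ Q).f n ≫ u₁.f n = qQ.f n := by
      rw [← comp_f, biprod.inr_desc]
    haveI := hQepi n
    exact epi_of_epi_fac h1
  haveI : Epi u₁ := epi_of_epi_f _ hu₁epi
  let S₂ : ShortComplex (CochainComplex A ℤ) :=
    ShortComplex.mk (kernel.ι u₁) u₁ (kernel.condition u₁)
  have hS₂ : S₂.ShortExact :=
    { exact := ShortComplex.exact_of_f_is_kernel _ (kernelIsKernel u₁) }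
  obtain ⟨R, r, hRK, hRflat, hRqis, -⟩ := hres (kernel u₁)
  let S₁ : ShortComplex (CochainComplex A ℤ) :=
    ShortComplex.mk (r ≫ kernel.ι u₁) u₁ (by rw [Category.assoc, kernel.condition, comp_zero])
  let f : S₁ ⟶ S₂ :=
    { τ₁ := r
      τ₂ := 𝟙 _
      τ₃ := 𝟙 _
      comm₁₂ := by dsimp [S₁, S₂]; rw [Category.comp_id]
      comm₂₃ := by dsimp [S₁, S₂]; rw [Category.comp_id, Category.id_comp] }
  have hq : mappingCone.descShortComplex S₁ =
      mappingCone.map S₁.f S₂.f r (𝟙 _) f.comm₁₂.symm ≫ mappingCone.descShortComplex S₂ := by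
    have := mappingCone.map_descShortComplex S₁ S₂ f
    rw [this]
    exact (Category.comp_id _).symm
  haveI : QuasiIso (mappingCone.map S₁.f S₂.f r (𝟙 _) f.comm₁₂.symm) :=
    quasiIso_mappingCone_map _ _ _ _ _
  haveI : QuasiIso (mappingCone.descShortComplex S₂) := mappingCone.quasiIso_descShortComplex hS₂
  refine ⟨mappingCone S₁.f, biprod.inl ≫ mappingCone.inr S₁.f, mappingCone.descShortComplex S₁,
    hcone _ hRK hKQ, ?_, ?_, ?_⟩
  · rw [hq]
    infer_instance
  · rw [Category.assoc, mappingCone.inr_descShortComplex]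
    exact biprod.inl_desc a qQ
  · intro hKflat n
    have hK1flat : flat ((K ⊞ Q).X n) :=
      hfl.iso _ _ (biprodXIso K Q n).symm (hfl.biprod _ _ (hKflat n) (hQflat n))
    exact hfl.iso _ _ (homotopyCofiber.XIsoBiprod S₁.f n (n + 1) rfl).symm
      (hfl.biprod _ _ (hRflat (n + 1)) hK1flat)

end Groth.Agent.Lib.helper13.KRes
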