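import Mathlib
import Groth.Prelude.Def_KFlatSite
import Groth.Prelude.Def_DCoh4
import Groth.Prelude.Def_FlatMod2
import Groth.Agent.Lib.Helper13.KRes5
import Groth.Agent.Lib.Helper13.KRes6
import Groth.Agent.Lib.Helper13.KRes7
import Groth.Agent.Lib.Helper13.KFlat12
import Groth.Agent.Lib.Helper2.KFlatSite

/-!
# K-flat resolutions, part 8 (helper13): factoring a map out of a K-flat complex through a
K-flat quasi-isomorphism (ringed sites, schemes, rings)
-/

set_option autoImplicit false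
universe u
open CategoryTheory Limits HomologicalComplex CochainComplex

namespace Groth.Agent.Lib.helper13.KRes

open Groth.Agent.Lib.helper13.KFlat

section Site

variable {C : Type u} [SmallCategory C] {J : GrothendieckTopology C} {O : Sheaf J CommRingCat.{u}}

/-- Stacks 06YG-type factorization on a ringed site -/
theorem exists_isKFlat_factorization {K L : CochainComplex (ModSite.Mod O) ℤ} (a : K ⟶ L)
    (hK : ModSite.IsKFlat K) :
    ∃ (N : CochainComplex (ModSite.Mod O) ℤ) (b : K ⟶ N) (c : N ⟶ L), ModSite.IsKFlat N ∧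
      QuasiIso c ∧ b ≫ c = a ∧
      ((∀ n : ℤ, ModSite.IsFlat (K.X n)) → ∀ n : ℤ, ModSite.IsFlat (N.X n)) :=
  exists_kflat_factorization (flatClass_isFlat (O := O)) (fun K => ModSite.IsKFlat K)
    (fun G => exists_isKFlat_resolution G)
    (fun S hS h3 h1 h3' => (isKFlat_two_of_three S hS h3).2.1 h1 h3')
    (fun f hR hM => (Groth.Agent.Lib.helper2.KFlatSite.two_of_three f).1 hR hM) a hK

end Site

section Scheme

open AlgebraicGeometry

theorem dcoh_exists_kFlat_factorization {X : Scheme.{u}} {K L : CochainComplex X.Modules ℤ}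
    (a : K ⟶ L) (hK : DCoh.IsKFlat K) :
    ∃ (N : CochainComplex X.Modules ℤ) (b : K ⟶ N) (c : N ⟶ L), DCoh.IsKFlat N ∧ QuasiIso c ∧
      b ≫ c = a ∧ ((∀ n : ℤ, FlatMod.IsFlat (K.X n)) → ∀ n : ℤ, FlatMod.IsFlat (N.X n)) := by
  obtain ⟨N, b, c, h1, h2, h3, h4⟩ := exists_isKFlat_factorization (O := X.sheaf) a hK
  exact ⟨N, b, c, h1, h2, h3, fun hKf n => flatMod_of_isFlat _
    (h4 (fun m => isFlat_of_flatMod _ (hKf m)) n)⟩

end Scheme

section Ring

variable {R : Type u} [CommRing R]

theorem exists_isKFlatR_factorization {K L : DRing.Cx R} (a : K ⟶ L) (hK : IsKFlatR K) :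
    ∃ (N : DRing.Cx R) (b : K ⟶ N) (c : N ⟶ L), IsKFlatR N ∧ QuasiIso c ∧ b ≫ c = a ∧
      (DRing.TermwiseFlat K → DRing.TermwiseFlat N) :=
  exists_kflat_factorization (flatClass_flat (R := R)) (fun K => IsKFlatR K)
    (fun G => by
      obtain ⟨P, q, h1, h2, h3, h4⟩ := exists_isKFlatR_resolution G
      exact ⟨P, q, h1, h2, h3, fun n => (ModuleCat.epi_iff_surjective _).2 (h4 n)⟩)
    (fun S hS h3 h1 h3' => (isKFlatR_two_of_three S hS h3).2.1 h1 h3')
    (fun f hR hM => (isKFlatR_cone_two_of_three f).1 hR hM) a hK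

end Ring

end Groth.Agent.Lib.helper13.KRes
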