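import Mathlib

/-!
# Applying a bifunctor to a cochain in the first variable (helper13)

For a bifunctor `F : C₁ ⥤ C₂ ⥤ D` (additive in the first variable), cochain complexes `X Y` in `C₁`
and `N` in `C₂`, and a cochain `γ : Cochain X Y m`, we define
`tensorCochain F N γ : Cochain (mapBifunctor X N F) (mapBifunctor Y N F) m` ("`γ ⊗ N`"), and prove
that it is compatible with zero, addition, composition, `Cochain.ofHom` and the differential `δ`.
-/

set_option autoImplicit false

open CategoryTheory Category Limits HomologicalComplex CochainComplex HomComplex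

namespace Groth.Agent.Lib.helper13.KosT

variable {C₁ C₂ D : Type*} [Category C₁] [Category C₂] [Category D]
  [Preadditive C₁] [Preadditive C₂] [Preadditive D]
  (F : C₁ ⥤ C₂ ⥤ D) [F.Additive] [∀ X₁, (F.obj X₁).Additive]

variable {X Y Z : CochainComplex C₁ ℤ} (N : CochainComplex C₂ ℤ)
  [HasMapBifunctor X N F (ComplexShape.up ℤ)] [HasMapBifunctor Y N F (ComplexShape.up ℤ)]
  [HasMapBifunctor Z N F (ComplexShape.up ℤ)]

/-- the cochain `γ ⊗ N` -/
noncomputable def tensorCochain {m : ℤ} (γ : Cochain X Y m) :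
    Cochain (mapBifunctor X N F (ComplexShape.up ℤ)) (mapBifunctor Y N F (ComplexShape.up ℤ)) m :=
  Cochain.mk (fun n n' hnn' => mapBifunctorDesc (fun p q (hpq : p + q = n) =>
    (F.map (γ.v p (p + m) rfl)).app (N.X q) ≫
      ιMapBifunctor Y N F (ComplexShape.up ℤ) (p + m) q n'
        (show p + m + q = n' by omega)))

@[reassoc]
lemma ι_tensorCochain_v {m : ℤ} (γ : Cochain X Y m) (p q n : ℤ) (h : p + q = n) (p' n' : ℤ)
    (hp' : p + m = p') (hn' : n + m = n') :
    ιMapBifunctor X N F (ComplexShape.up ℤ) p q n h ≫ (tensorCochain F N γ).v n n' hn' =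
      (F.map (γ.v p p' hp')).app (N.X q) ≫
        ιMapBifunctor Y N F (ComplexShape.up ℤ) p' q n' (show p' + q = n' by omega) := by
  subst hp'
  simp [tensorCochain]

@[simp]
lemma tensorCochain_zero (m : ℤ) :
    tensorCochain F N (0 : Cochain X Y m) = 0 := by
  ext n n' hnn' p q h
  replace h : p + q = n := h
  rw [ι_tensorCochain_v F N _ p q n h (p + m) n' rfl hnn']
  simp

lemma tensorCochain_add {m : ℤ} (γ γ' : Cochain X Y m) :
    tensorCochain F N (γ + γ') = tensorCochain F N γ + tensorCochain F N γ' := by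
  ext n n' hnn' p q h
  replace h : p + q = n := h
  rw [Cochain.add_v, Preadditive.comp_add,
    ι_tensorCochain_v F N _ p q n h (p + m) n' rfl hnn',
    ι_tensorCochain_v F N _ p q n h (p + m) n' rfl hnn',
    ι_tensorCochain_v F N _ p q n h (p + m) n' rfl hnn', Cochain.add_v, Functor.map_add,
    NatTrans.app_add, Preadditive.add_comp]

lemma tensorCochain_neg {m : ℤ} (γ : Cochain X Y m) :
    tensorCochain F N (-γ) = -tensorCochain F N γ := by
  ext n n' hnn' p q h
  replace h : p + q = n := h
  rw [Cochain.neg_v, Preadditive.comp_neg,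
    ι_tensorCochain_v F N _ p q n h (p + m) n' rfl hnn',
    ι_tensorCochain_v F N _ p q n h (p + m) n' rfl hnn', Cochain.neg_v, Functor.map_neg,
    NatTrans.app_neg, Preadditive.neg_comp]

lemma tensorCochain_comp {m m' m'' : ℤ} (γ : Cochain X Y m) (γ' : Cochain Y Z m')
    (hm : m + m' = m'') :
    tensorCochain F N (γ.comp γ' hm) =
      (tensorCochain F N γ).comp (tensorCochain F N γ') hm := by
  ext n n'' hnn'' p q h
  replace h : p + q = n := h
  rw [ι_tensorCochain_v F N _ p q n h (p + m'') n'' rfl hnn'',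
    Cochain.comp_v _ _ hm n (n + m) n'' rfl (by omega),
    ι_tensorCochain_v_assoc F N _ p q n h (p + m) (n + m) rfl rfl,
    ι_tensorCochain_v F N _ (p + m) q (n + m) (by omega) (p + m'') n'' (by omega) (by omega),
    Cochain.comp_v _ _ hm p (p + m) (p + m'') rfl (by omega), Functor.map_comp,
    NatTrans.comp_app, assoc]

lemma tensorCochain_ofHom (f : X ⟶ Y) :
    tensorCochain F N (Cochain.ofHom f) =
      Cochain.ofHom (mapBifunctorMap f (𝟙 N) F (ComplexShape.up ℤ)) := by
  ext n p q h
  replace h : p + q = n := h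
  rw [ι_tensorCochain_v F N _ p q n h p n (add_zero p) (add_zero n), Cochain.ofHom_v,
    Cochain.ofHom_v, ι_mapBifunctorMap]
  simp

lemma δ_tensorCochain {m m' : ℤ} (γ : Cochain X Y m) (hm : m + 1 = m') :
    δ m m' (tensorCochain F N γ) = tensorCochain F N (δ m m' γ) := by
  ext n n'' hnn'' p q h
  replace h : p + q = n := h
  rw [δ_v m m' hm _ n n'' hnn'' (n + m) (n + 1) (by omega) rfl,
    Preadditive.comp_add, Linear.comp_units_smul,
    ι_tensorCochain_v_assoc F N γ p q n h (p + m) (n + m) rfl rfl,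
    mapBifunctor.d_eq, mapBifunctor.d_eq, Preadditive.comp_add, mapBifunctor.ι_D₁,
    mapBifunctor.ι_D₂]
  simp only [Preadditive.add_comp, Preadditive.comp_add, mapBifunctor.ι_D₁_assoc,
    mapBifunctor.ι_D₂_assoc]
  rw [mapBifunctor.d₁_eq Y N F _ (show (ComplexShape.up ℤ).Rel (p + m) (p + m') by
      simp only [ComplexShape.up_Rel]; omega) q n'' (show p + m' + q = n'' by omega),
    mapBifunctor.d₂_eq Y N F _ (p + m) (show (ComplexShape.up ℤ).Rel q (q + 1) by simp) n''
      (show p + m + (q + 1) = n'' by omega),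
    mapBifunctor.d₁_eq X N F _ (show (ComplexShape.up ℤ).Rel p (p + 1) by simp) q (n + 1)
      (show p + 1 + q = n + 1 by omega),
    mapBifunctor.d₂_eq X N F _ p (show (ComplexShape.up ℤ).Rel q (q + 1) by simp) (n + 1)
      (show p + (q + 1) = n + 1 by omega)]
  simp only [ComplexShape.ε₁_def, ComplexShape.ε₂_def,
    ComplexShape.ε_up_ℤ, one_smul, Linear.units_smul_comp, Linear.comp_units_smul, assoc]
  rw [ι_tensorCochain_v F N γ (p + 1) q (n + 1) (by omega) (p + m') n'' (by omega) (by omega),
    ι_tensorCochain_v F N γ p (q + 1) (n + 1) (by omega) (p + m) n'' rfl (by omega),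
    ι_tensorCochain_v F N (δ m m' γ) p q n h (p + m') n'' rfl hnn'',
    δ_v m m' hm γ p (p + m') rfl (p + m) (p + 1) (by omega) rfl]
  have hnat : (F.map (γ.v p (p + m) rfl)).app (N.X q) ≫
      (F.obj (Y.X (p + m))).map (N.d q (q + 1)) =
      (F.obj (X.X p)).map (N.d q (q + 1)) ≫ (F.map (γ.v p (p + m) rfl)).app (N.X (q + 1)) :=
    ((F.map (γ.v p (p + m) rfl)).naturality (N.d q (q + 1))).symm
  rw [reassoc_of% hnat]
  subst hm
  simp only [Functor.map_add, Functor.map_comp, Functor.map_units_smul, NatTrans.app_add,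
    NatTrans.comp_app, NatTrans.app_units_zsmul, Preadditive.add_comp, assoc,
    Linear.units_smul_comp, smul_add, smul_smul, Int.negOnePow_add, Int.negOnePow_succ,
    Int.negOnePow_one]
  have hs : m.negOnePow * -1 * p.negOnePow = -(p.negOnePow * m.negOnePow) := by
    rw [mul_neg, mul_one, neg_mul, mul_comm]
  rw [hs, Units.neg_smul]
  abel

end Groth.Agent.Lib.helper13.KosT
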