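import Groth.Agent.Lib.Helper13.KosT1

/-!
# Bifunctors commute with mapping cones in the first variable (helper13)

`coneMapBifunctorIso F φ N : mapBifunctor (mappingCone φ) N F ≅ mappingCone (mapBifunctorMap φ (𝟙 N) F)`:
"`cone(φ) ⊗ N ≅ cone(φ ⊗ N)`" as an isomorphism of cochain complexes.
-/

set_option autoImplicit false

open CategoryTheory Category Limits HomologicalComplex CochainComplex HomComplex

namespace Groth.Agent.Lib.helper13.KosT

variable {C₁ C₂ D : Type*} [Category C₁] [Category C₂] [Category D]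
  [Preadditive C₁] [Preadditive C₂] [Preadditive D] [HasBinaryBiproducts C₁] [HasBinaryBiproducts D]
  (F : C₁ ⥤ C₂ ⥤ D) [F.Additive] [∀ X₁, (F.obj X₁).Additive]

variable {X Y : CochainComplex C₁ ℤ} (φ : X ⟶ Y) (N : CochainComplex C₂ ℤ)
  [HasMapBifunctor X N F (ComplexShape.up ℤ)] [HasMapBifunctor Y N F (ComplexShape.up ℤ)]
  [HasMapBifunctor (mappingCone φ) N F (ComplexShape.up ℤ)]

/-- the morphism `cone(φ) ⊗ N ⟶ cone(φ ⊗ N)` -/
noncomputable def coneTo :
    mapBifunctor (mappingCone φ) N F (ComplexShape.up ℤ) ⟶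
      mappingCone (mapBifunctorMap φ (𝟙 N) F (ComplexShape.up ℤ)) :=
  mappingCone.lift _
    (Cocycle.mk (tensorCochain F N (mappingCone.fst φ).1) 2 (by omega) (by
      rw [δ_tensorCochain F N _ (by omega), Cocycle.δ_eq_zero, tensorCochain_zero]))
    (tensorCochain F N (mappingCone.snd φ)) (by
      rw [δ_tensorCochain F N _ (zero_add 1), mappingCone.δ_snd, tensorCochain_neg,
        ← tensorCochain_ofHom, Cocycle.mk_coe, ← tensorCochain_comp, neg_add_cancel])

/-- the morphism `cone(φ ⊗ N) ⟶ cone(φ) ⊗ N` -/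
noncomputable def coneFrom :
    mappingCone (mapBifunctorMap φ (𝟙 N) F (ComplexShape.up ℤ)) ⟶
      mapBifunctor (mappingCone φ) N F (ComplexShape.up ℤ) :=
  mappingCone.desc _ (tensorCochain F N (mappingCone.inl φ))
    (mapBifunctorMap (mappingCone.inr φ) (𝟙 N) F (ComplexShape.up ℤ)) (by
      rw [δ_tensorCochain F N _ (neg_add_cancel 1), mappingCone.δ_inl, Cochain.ofHom_comp,
        tensorCochain_comp, tensorCochain_ofHom, tensorCochain_ofHom, ← Cochain.ofHom_comp])

section relations

lemma mapBifunctorMap_id_id {X : CochainComplex C₁ ℤ} (N : CochainComplex C₂ ℤ)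
    [HasMapBifunctor X N F (ComplexShape.up ℤ)] :
    mapBifunctorMap (𝟙 X) (𝟙 N) F (ComplexShape.up ℤ) = 𝟙 _ := by
  ext n p q h
  simp

lemma tensorCochain_ofHom_id {X : CochainComplex C₁ ℤ} (N : CochainComplex C₂ ℤ)
    [HasMapBifunctor X N F (ComplexShape.up ℤ)] :
    tensorCochain F N (Cochain.ofHom (𝟙 X)) = Cochain.ofHom (𝟙 _) := by
  rw [tensorCochain_ofHom, mapBifunctorMap_id_id]

lemma coneTo_fst :
    (Cochain.ofHom (coneTo F φ N)).comp (mappingCone.fst _).1 (zero_add 1) =
      tensorCochain F N (mappingCone.fst φ).1 := by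
  rw [coneTo, mappingCone.lift_fst, Cocycle.mk_coe]

lemma coneTo_snd :
    (Cochain.ofHom (coneTo F φ N)).comp (mappingCone.snd _) (zero_add 0) =
      tensorCochain F N (mappingCone.snd φ) := by
  rw [coneTo, mappingCone.lift_snd]

lemma inl_coneFrom :
    (mappingCone.inl _).comp (Cochain.ofHom (coneFrom F φ N)) (add_zero (-1)) =
      tensorCochain F N (mappingCone.inl φ) := by
  rw [coneFrom, mappingCone.inl_desc]

lemma inr_coneFrom :
    (Cochain.ofHom (mappingCone.inr _)).comp (Cochain.ofHom (coneFrom F φ N)) (zero_add 0) =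
      tensorCochain F N (Cochain.ofHom (mappingCone.inr φ)) := by
  rw [← Cochain.ofHom_comp, coneFrom, mappingCone.inr_desc, tensorCochain_ofHom]

lemma T_inl_fst :
    (tensorCochain F N (mappingCone.inl φ)).comp (tensorCochain F N (mappingCone.fst φ).1)
      (neg_add_cancel 1) = Cochain.ofHom (𝟙 _) := by
  rw [← tensorCochain_comp, mappingCone.inl_fst, tensorCochain_ofHom_id]

lemma T_inl_snd :
    (tensorCochain F N (mappingCone.inl φ)).comp (tensorCochain F N (mappingCone.snd φ))
      (add_zero (-1)) = 0 := by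
  rw [← tensorCochain_comp, mappingCone.inl_snd, tensorCochain_zero]

lemma T_inr_fst :
    (tensorCochain F N (Cochain.ofHom (mappingCone.inr φ))).comp
      (tensorCochain F N (mappingCone.fst φ).1) (zero_add 1) = 0 := by
  rw [← tensorCochain_comp, mappingCone.inr_fst, tensorCochain_zero]

lemma T_inr_snd :
    (tensorCochain F N (Cochain.ofHom (mappingCone.inr φ))).comp
      (tensorCochain F N (mappingCone.snd φ)) (zero_add 0) = Cochain.ofHom (𝟙 _) := by
  rw [← tensorCochain_comp, mappingCone.inr_snd, tensorCochain_ofHom_id]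

lemma T_id :
    (tensorCochain F N (mappingCone.fst φ).1).comp (tensorCochain F N (mappingCone.inl φ))
      (add_neg_cancel 1) +
    (tensorCochain F N (mappingCone.snd φ)).comp
      (tensorCochain F N (Cochain.ofHom (mappingCone.inr φ))) (add_zero 0) =
      Cochain.ofHom (𝟙 _) := by
  rw [← tensorCochain_comp, ← tensorCochain_comp, ← tensorCochain_add, mappingCone.id,
    tensorCochain_ofHom_id]

end relations

lemma coneFrom_coneTo : coneFrom F φ N ≫ coneTo F φ N = 𝟙 _ := by
  apply Cochain.ofHom_injective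
  rw [Cochain.ofHom_comp, mappingCone.ext_cochain_from_iff _ (-1) 0 (neg_add_cancel 1)]
  constructor
  · rw [← Cochain.comp_assoc_of_second_is_zero_cochain, inl_coneFrom, Cochain.comp_id,
      mappingCone.ext_cochain_to_iff _ (-1) 0 (neg_add_cancel 1)]
    constructor
    · rw [Cochain.comp_assoc _ _ _ (add_zero (-1)) (zero_add 1) (by omega), coneTo_fst,
        T_inl_fst, mappingCone.inl_fst]
    · rw [Cochain.comp_assoc_of_third_is_zero_cochain, coneTo_snd, T_inl_snd,
        mappingCone.inl_snd]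
  · rw [← Cochain.comp_assoc_of_second_is_zero_cochain, inr_coneFrom, Cochain.comp_id,
      mappingCone.ext_cochain_to_iff _ 0 1 (zero_add 1)]
    constructor
    · rw [Cochain.comp_assoc_of_first_is_zero_cochain, coneTo_fst, T_inr_fst,
        mappingCone.inr_fst]
    · rw [Cochain.comp_assoc_of_first_is_zero_cochain, coneTo_snd, T_inr_snd,
        mappingCone.inr_snd]

lemma coneTo_coneFrom : coneTo F φ N ≫ coneFrom F φ N = 𝟙 _ := by
  apply Cochain.ofHom_injective
  rw [Cochain.ofHom_comp]
  have h1 : Cochain.ofHom (coneTo F φ N) =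
      (Cochain.ofHom (coneTo F φ N)).comp (Cochain.ofHom (𝟙 _)) (add_zero 0) :=
    (Cochain.comp_id _).symm
  rw [h1, ← mappingCone.id, Cochain.comp_add, Cochain.add_comp,
    ← Cochain.comp_assoc_of_first_is_zero_cochain, ← Cochain.comp_assoc_of_first_is_zero_cochain,
    Cochain.comp_assoc_of_third_is_zero_cochain, Cochain.comp_assoc_of_third_is_zero_cochain,
    coneTo_fst, coneTo_snd, inl_coneFrom, inr_coneFrom, T_id]

/-- **`cone(φ) ⊗ N ≅ cone(φ ⊗ N)`** -/
@[simps]
noncomputable def coneMapBifunctorIso :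
    mapBifunctor (mappingCone φ) N F (ComplexShape.up ℤ) ≅
      mappingCone (mapBifunctorMap φ (𝟙 N) F (ComplexShape.up ℤ)) where
  hom := coneTo F φ N
  inv := coneFrom F φ N
  hom_inv_id := coneTo_coneFrom F φ N
  inv_hom_id := coneFrom_coneTo F φ N

end Groth.Agent.Lib.helper13.KosT
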