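import Mathlib
import Groth.Prelude.Def_KSix
import Groth.Agent.Lib.Helper25.PerfectTor
import Groth.Agent.Lib.Helper25.FLFCycles

set_option autoImplicit false
universe u
open CategoryTheory CategoryTheory.Limits AlgebraicGeometry TopologicalSpace Opposite
open Scheme.Modules

attribute [local instance] HasDerivedCategory.standard

/-!
# Perfect amplitude from flat amplitude and pseudo-coherence (helper13)

* `truncLE_props`: canonical truncation above of a strictly perfect complex acyclic above `n`.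
* `exists_strictlyPerfect_local'`: helper25's `exists_strictlyPerfect_local` with the vanishing range `[a, b]`.
* `hasPerfectAmplitudeIn_of_flat_of_pc`.
-/

namespace Groth.Agent.Lib.helper13.PerfAmp

open Groth.Agent.Lib.helper25.FlatClass Groth.Agent.Lib.helper25.IsoAbove
  Groth.Agent.Lib.helper25.FlatTrunc Groth.Agent.Lib.helper25.DCohRestrict
  Groth.Agent.Lib.helper25.DCohPerfect Groth.Agent.Lib.helper25.DCohPC
  Groth.Agent.Lib.helper25.DCohPC2 Groth.Agent.Lib.helper25.DCohPC3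
  Groth.Agent.Lib.helper25.FlatAmpPerfect

variable {X Y : Scheme.{u}}

/-- canonical truncation above of a strictly perfect complex acyclic above `n` -/
theorem truncLE_props {P : CochainComplex Y.Modules ℤ} (hP : DCoh.IsStrictlyPerfect P) (n : ℤ)
    (hn : ∀ i : ℤ, n < i → IsZero (P.homology i)) :
    (∀ i : ℤ, FlatMod.IsFinLocFree ((P.truncLE n).X i)) ∧ (∀ i : ℤ, n < i → IsZero ((P.truncLE n).X i)) ∧
      (∀ a : ℤ, (∀ i : ℤ, i < a → IsZero (P.X i)) → ∀ i : ℤ, i < a → IsZero ((P.truncLE n).X i)) ∧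
      QuasiIso (P.ιTruncLE n) := by
  refine ⟨fun i => ?_, fun i hi => (P.truncLE n).isZero_of_isStrictlyLE n i hi, fun a ha i hi => ?_, ?_⟩
  · rcases lt_trichotomy i n with hi | hi | hi
    · exact Groth.Agent.Lib.helper16.FLF.isFinLocFree_of_iso (P.truncLEXIso n i hi).symm (hP.2 i)
    · subst hi
      exact Groth.Agent.Lib.helper16.FLF.isFinLocFree_of_iso (P.truncLEXIsoCycles i).symm
        (Groth.Agent.Lib.helper25.FLFCycles.isFinLocFree_cycles hP i hn i le_rfl)
    · exact Groth.Agent.Lib.helper25.FLFKernel.isFinLocFree_of_isZero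
        ((P.truncLE n).isZero_of_isStrictlyLE n i hi)
  · rcases lt_trichotomy i n with hi' | hi' | hi'
    · exact (ha i hi).of_iso (P.truncLEXIso n i hi')
    · subst hi'
      exact (IsZero.of_mono (P.iCycles i) (ha i hi)).of_iso (P.truncLEXIsoCycles i)
    · exact (P.truncLE n).isZero_of_isStrictlyLE n i hi'
  · haveI : P.IsLE n := (P.isLE_iff n).2 (fun i hi => (P.exactAt_iff_isZero_homology i).2 (hn i hi))
    infer_instance

open DerivedCategory in
/-- helper25's core local statement, with the range of the strictly perfect complex -/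
theorem exists_strictlyPerfect_local' {P F : CochainComplex Y.Modules ℤ}
    (hP : DCoh.IsStrictlyPerfect P) (a b : ℤ) (hF : DCoh.VanishesOutside F a b)
    (hFf : ∀ i : ℤ, FlatMod.IsFlat (F.X i))
    (α : Q.obj P ⟶ Q.obj F) (hα : IsoAbove (a - 1) α) (y : Y) :
    ∃ (W : Y.Opens), y ∈ W ∧ ∃ E : CochainComplex (W : Scheme.{u}).Modules ℤ,
      DCoh.VanishesOutside E a b ∧ (∀ i : ℤ, FlatMod.IsFinLocFree (E.X i)) ∧
      Nonempty (Q.obj E ≅ Q.obj ((resCx W.ι).obj F)) := by
  obtain ⟨W, c, hyW, hc⟩ := exists_local_chain_map hP α y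
  have hc' : IsoAbove (a - 1) (Q.map c) := by
    have h1 := isoAbove_restrict W.ι hα
    have : Q.map c = (resDQIso W.ι P).inv ≫ ((DCoh.restrictD W.ι).map α ≫ (resDQIso W.ι F).hom) := by
      rw [hc]; simp
    rw [this]
    exact (h1.comp_iso _).iso_comp _
  have hP' := isStrictlyPerfect_res W.ι hP
  obtain ⟨⟨a₀, b₀, hab₀⟩, hf₀⟩ := id hP'
  have hflat : FlatMod.IsFlat (((resCx W.ι).obj P).opcycles a) :=
    isFlat_opcycles_of_isoAbove c a (max b b₀)
      (fun i => Groth.Agent.Lib.helper16.FLF.isFlat_of_isFinLocFree _ (hf₀ i))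
      (fun i => isFlat_restrict (F.X i) W (hFf i))
      (fun i hi => hab₀ i (Or.inr (by omega)))
      (fun i hi => (restrictFunctor W.ι).map_isZero (hF i (Or.inr (by omega))))
      (fun i hi => (restrictFunctor W.ι).map_isZero (hF i (Or.inl hi)))
      hc'
  have hflf := isFinLocFree_opcycles_of_isFlat hf₀ a hflat
  obtain ⟨h1, ⟨h2⟩⟩ := truncGE_isStrictlyPerfect_and_iso hP' c a
    (fun i hi => (restrictFunctor W.ι).map_isZero (hF i (Or.inl hi))) hc' hflf
  set E₁ := ((resCx W.ι).obj P).truncGE a with hE₁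
  -- truncation above
  have hhom : ∀ i : ℤ, b < i → IsZero (E₁.homology i) := by
    intro i hi
    have e : E₁.homology i ≅ ((resCx W.ι).obj F).homology i :=
      ((homologyFunctorFactors _ i).app E₁).symm ≪≫ (homologyFunctor _ i).mapIso h2 ≪≫
        (homologyFunctorFactors _ i).app _
    refine IsZero.of_iso ?_ e
    exact (HomologicalComplex.exactAt_iff_isZero_homology _ i).1
      (ShortComplex.exact_of_isZero_X₂ _ ((restrictFunctor W.ι).map_isZero (hF i (Or.inr hi))))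
  obtain ⟨t1, t2, t3, t4⟩ := truncLE_props h1 b hhom
  have hlow : ∀ i : ℤ, i < a → IsZero (E₁.X i) := fun i hi => E₁.isZero_of_isStrictlyGE a i hi
  refine ⟨W, hyW, E₁.truncLE b, ?_, t1, ⟨?_⟩⟩
  · rintro i (hi | hi)
    · exact t3 a hlow i hi
    · exact t2 i hi
  · haveI := t4
    exact asIso (Q.map (E₁.ιTruncLE b)) ≪≫ h2

open DerivedCategory in
/-- **flat amplitude `[m, n]` and `(m-1)`-pseudo-coherence give perfect amplitude `[m, n]`** -/
theorem hasPerfectAmplitudeIn_of_flat_of_pc (E : DCoh.D X) (m n : ℤ)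
    (h1 : DCoh.HasFlatAmplitudeIn m n E) (h2 : DCoh.IsPseudoCoherentD (m - 1) E) :
    KSix.HasPerfectAmplitudeIn m n E := by
  obtain ⟨F, hF, hFf, ⟨e⟩⟩ := h1
  intro x
  obtain ⟨V, hxV, hpc⟩ := exists_pcData h2 x
  obtain ⟨P, α, hP, hα1, hα2⟩ := hpc
  have hα : IsoAbove (m - 1) α := ⟨hα1, hα2⟩
  let e' : Q.obj ((resCx V.ι).obj F) ≅ (DCoh.restrictD V.ι).obj E :=
    (resDQIso V.ι F).symm ≪≫ (DCoh.restrictD V.ι).mapIso e
  obtain ⟨W, hyW, E₂, hE₂v, hE₂f, ⟨i1⟩⟩ := exists_strictlyPerfect_local' hP m n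
    (F := (resCx V.ι).obj F)
    (fun i hi => (restrictFunctor V.ι).map_isZero (hF i hi))
    (fun i => isFlat_restrict (F.X i) V (hFf i))
    (α ≫ e'.inv) (IsoAbove.comp_iso hα e'.inv) (⟨x, hxV⟩ : (V : Scheme.{u}))
  refine ⟨(W.ι ≫ V.ι).opensRange, ⟨⟨⟨x, hxV⟩, hyW⟩, rfl⟩, fun F' hF' =>
    ⟨((resCx (W.ι ≫ V.ι).isoOpensRange.inv).obj E₂), ?_, ?_, ?_⟩⟩
  · exact fun i hi => (restrictFunctor _).map_isZero (hE₂v i hi)
  · exact fun i => Groth.Agent.Lib.helper16.FLF.isFinLocFree_restrict _ (hE₂f i)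
  · exact nonempty_Q_restrict_opensRange_iso E (W.ι ≫ V.ι) F ⟨e⟩ E₂
      ⟨Q.mapIso (resCxCompIso W.ι V.ι F) ≪≫ i1.symm⟩ F' hF'

end Groth.Agent.Lib.helper13.PerfAmp
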