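import Mathlib
import Groth.Prelude.Def_PerfD
import Groth.Agent.Lib.Helper13.BettiPC
import Groth.Agent.Lib.Helper13.BettiFormula
import Groth.Agent.Lib.Helper13.FibreVanish
import Groth.Agent.Lib.Helper13.PerfAmp
import Groth.Agent.Lib.Helper16.FLF7
import Groth.Agent.Lib.Helper7.CohKer

set_option autoImplicit false
universe u
open CategoryTheory CategoryTheory.Limits AlgebraicGeometry Opposite TopologicalSpace
open Scheme.Modules

attribute [local instance] HasDerivedCategory.standard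

/-!
# Local structure of a perfect object at a field point, part 1: models, fibre dimensions, truncation from above (helper13)
-/

namespace Groth.Agent.Lib.helper13.LST
open Groth.Agent.Lib.Helper25.LpullAdapted Groth.Agent.Lib.Helper25.LpullPerfect
  Groth.Agent.Lib.helper13.EulerLocConst Groth.Agent.Lib.helper13.PointGamma
  Groth.Agent.Lib.helper13.PointRank Groth.Agent.Lib.helper13.FibreNu
  Groth.Agent.Lib.helper13.BettiPC Groth.Agent.Lib.helper13.BettiFormula
  Groth.Agent.Lib.helper22.EulerChar Groth.Agent.Lib.helper13.FibreVanish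
  Groth.Agent.Lib.helper25.DCohRestrict Groth.Agent.Lib.helper25.DCohHomology
  Groth.Agent.Lib.helper13.PerfAmp

variable {X : Scheme.{u}}

section lift

variable {Z₀ : Scheme.{u}} [Subsingleton Z₀] (k : Z₀ ⟶ X) (z₀ : Z₀) (V : X.Opens) (h : k z₀ ∈ V)

include h in
lemma range_subset : Set.range k ⊆ Set.range V.ι := by
  rintro _ ⟨z, rfl⟩
  rw [Subsingleton.elim z z₀]
  exact ⟨⟨k z₀, h⟩, rfl⟩

/-- the lift of a one-point morphism to an open containing its image -/
noncomputable def lift : Z₀ ⟶ (V : Scheme.{u}) :=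
  IsOpenImmersion.lift V.ι k (range_subset k z₀ V h)

lemma lift_fac : lift k z₀ V h ≫ V.ι = k := IsOpenImmersion.lift_fac _ _ _

lemma lift_apply (z : Z₀) : lift k z₀ V h z = ⟨k z₀, h⟩ := by
  apply V.ι.isOpenEmbedding.injective
  have := congrArg (fun φ : Z₀ ⟶ X => φ z) (lift_fac k z₀ V h)
  rw [Subsingleton.elim z z₀] at this ⊢
  exact this

end lift

/-- a local model of `P` near `x` by finite locally free modules placed in `[a, b]` -/
def ModelAt (P : CochainComplex X.Modules ℤ) (x : X) (a b : ℤ) : Prop :=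
  ∃ (V : X.Opens), x ∈ V ∧ ∃ S : CochainComplex (V : Scheme.{u}).Modules ℤ,
    DCoh.VanishesOutside S a b ∧ (∀ i : ℤ, FlatMod.IsFinLocFree (S.X i)) ∧
    Nonempty (DerivedCategory.Q.obj ((DCoh.restrictCx V).obj P) ≅ DerivedCategory.Q.obj S)

open DerivedCategory in
/-- transport of a model on an open of an open -/
lemma modelAt_of_local (E : DCoh.D X) (P : CochainComplex X.Modules ℤ) (eP : DCoh.toD X P ≅ E)
    (V : X.Opens) (S : CochainComplex (V : Scheme.{u}).Modules ℤ)
    (eS : Q.obj ((DCoh.restrictCx V).obj P) ≅ Q.obj S)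
    (W : (V : Scheme.{u}).Opens) (y : (V : Scheme.{u})) (hy : y ∈ W) (a b : ℤ)
    (S' : CochainComplex (W : Scheme.{u}).Modules ℤ) (hv : DCoh.VanishesOutside S' a b)
    (hf : ∀ i : ℤ, FlatMod.IsFinLocFree (S'.X i))
    (e : Q.obj ((resCx W.ι).obj S) ≅ Q.obj S') : ModelAt P (V.ι y) a b := by
  obtain ⟨i1⟩ := nonempty_Q_res_iso W.ι ⟨eS⟩
  refine ⟨(W.ι ≫ V.ι).opensRange, ⟨⟨y, hy⟩, rfl⟩,
    ((resCx (W.ι ≫ V.ι).isoOpensRange.inv).obj S'), ?_, ?_, ?_⟩
  · exact fun i hi => (restrictFunctor _).map_isZero (hv i hi)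
  · exact fun i => Groth.Agent.Lib.helper16.FLF.isFinLocFree_restrict _ (hf i)
  · exact nonempty_Q_restrict_opensRange_iso E (W.ι ≫ V.ι) P ⟨eP⟩ S'
      ⟨Q.mapIso (resCxCompIso W.ι V.ι P) ≪≫ i1 ≪≫ e⟩ P ⟨eP⟩

section fibre

variable {Z₀ : Scheme.{u}} [Subsingleton Z₀] [Nonempty Z₀] (hK₀ : IsField (Coh.Γtop Z₀))
  (k : Z₀ ⟶ X) [DCoh.HasLpull k] (z₀ : Z₀)

/-- the dimensions of the cohomology of the derived fibre at a field point -/
noncomputable def bk (E : DCoh.D X) (j : ℤ) : ℤ := φ Z₀ (DCoh.HD ((DCoh.Lpull k).obj E) j)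

include hK₀ in
/-- fibre dimensions through a model -/
lemma bk_eq (E : DCoh.D X) (P : CochainComplex X.Modules ℤ) (hP : P₀ X P) (eP : DCoh.toD X P ≅ E)
    (V : X.Opens) (h : k z₀ ∈ V) (S : CochainComplex (V : Scheme.{u}).Modules ℤ)
    (hS : DCoh.IsStrictlyPerfect S)
    (eS : DerivedCategory.Q.obj ((DCoh.restrictCx V).obj P) ≅ DerivedCategory.Q.obj S) (j : ℤ) :
    bk k E j = φ Z₀ (((EulerLocConst.pullCx (lift k z₀ V h)).obj S).homology j) := by
  have hadd := isAdditiveOn Z₀ hK₀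
  obtain ⟨e⟩ := nonempty_Lpull_iso_of_model k V (lift k z₀ V h) (lift_fac k z₀ V h) E P hP eP S hS eS
  exact hadd.iso ((DerivedCategory.homologyFunctor _ j).mapIso e ≪≫
    (DerivedCategory.homologyFunctorFactors _ j).app _)

end fibre

section steps

variable {Z₀ : Scheme.{u}} [IsAffine Z₀] [Subsingleton Z₀] [Nonempty Z₀] (hK₀ : IsField (Coh.Γtop Z₀))
  (k : Z₀ ⟶ X) [DCoh.HasLpull k] (z₀ : Z₀)

include hK₀ in
/-- finiteness of the fibre of a finite locally free module at a field point -/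
lemma P_pullback_of_isFinLocFree {V : Scheme.{u}} (g : Z₀ ⟶ V) (M : V.Modules) (hM : FlatMod.IsFinLocFree M) :
    P Z₀ ((Scheme.Modules.pullback g).obj M) := by
  obtain ⟨z₀⟩ := (inferInstance : Nonempty Z₀)
  obtain ⟨U, r, hU, ⟨iso⟩⟩ := hM (g z₀)
  obtain ⟨iso'⟩ := nonempty_pullback_restrict_iso g M U r iso
  exact (finrank_of_restrict_iso hK₀ z₀ _ _ (show z₀ ∈ g ⁻¹ᵁ U from hU) r iso').1

include hK₀ in
/-- the fibre of a zero module -/
lemma φ_pullback_of_isZero {V : Scheme.{u}} (g : Z₀ ⟶ V) (M : V.Modules) (hM : IsZero M) :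
    φ Z₀ ((Scheme.Modules.pullback g).obj M) = 0 :=
  (isAdditiveOn Z₀ hK₀).zero _ ((Scheme.Modules.pullback g).map_isZero hM)

include hK₀ in
/-- **truncation from above**: if the top fibre cohomology vanishes, the model can be shortened from above -/
theorem modelAt_top_step (E : DCoh.D X) (P : CochainComplex X.Modules ℤ) (hP : P₀ X P)
    (eP : DCoh.toD X P ≅ E) (a b : ℤ) (hm : ModelAt P (k z₀) a b) (hb : bk k E b = 0) :
    ModelAt P (k z₀) a (b - 1) := by
  obtain ⟨V, hxV, S, hSv, hSf, ⟨eS⟩⟩ := hm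
  have hS : DCoh.IsStrictlyPerfect S := ⟨⟨a, b, hSv⟩, hSf⟩
  set g := lift k z₀ V hxV with hg
  -- the cokernel of the last differential
  set N := cokernel (S.d (b - 1) b) with hN
  haveI hq : ∀ i, (S.X i).IsQuasicoherent := fun i =>
    Groth.Agent.Lib.helper16.FLF.isQuasicoherent_of_isFinLocFree _ (hSf i)
  haveI : N.IsQuasicoherent := Groth.Agent.Lib.helper7.CohKer.isQuasicoherent_cokernel _
  have hft : SheafOfModules.IsFiniteType (R := (V : Scheme.{u}).ringCatSheaf) N :=
    Groth.Agent.Lib.helper7.CohKer.isFiniteType_of_epi (cokernel.π _)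
      (Groth.Agent.Lib.helper16.FLF.isFiniteType_of_isFinLocFree _ (hSf b))
  have hform := phi_homology_pullCx hK₀ g S b (P_pullback_of_isFinLocFree hK₀ g _ (hSf b))
    (P_pullback_of_isFinLocFree hK₀ g _ (hSf (b + 1)))
  have hz1 : IsZero (S.X (b + 1)) := hSv _ (Or.inr (by omega))
  have hz2 : IsZero (cokernel (S.d b (b + 1))) := IsZero.of_epi (cokernel.π (S.d b (b + 1))) hz1
  rw [φ_pullback_of_isZero hK₀ g _ hz1, add_zero] at hform
  have hν2 : (nu (cokernel (S.d b (b + 1))) g : ℤ) = 0 := φ_pullback_of_isZero hK₀ g _ hz2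
  rw [hν2, add_zero, ← bk_eq hK₀ k z₀ E P hP eP V hxV S hS eS b, hb] at hform
  have hν : nu N g = 0 := by exact_mod_cast hform.symm
  obtain ⟨W, hyW, hW⟩ := exists_nhd_isZero_of_nu_eq_zero N hft hK₀ g z₀ hν
  rw [hg, lift_apply] at hyW
  -- the restricted complex is acyclic above `b - 1`
  have hS_W := isStrictlyPerfect_res W.ι hS
  have hn : ∀ j : ℤ, b - 1 < j → IsZero (((resCx W.ι).obj S).homology j) := by
    intro j hj
    rcases eq_or_lt_of_le (show b ≤ j by omega) with rfl | hj'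
    · refine IsZero.of_iso ?_ (homologyResIso W.ι S b)
      have e3 : S.opcycles b ≅ cokernel (S.d (b - 1) b) :=
        (S.opcyclesIsCokernel (b - 1) b (by simp)).coconePointUniqueUpToIso (colimit.isColimit _)
      have h0 : IsZero ((restrictFunctor W.ι).obj (S.opcycles b)) :=
        IsZero.of_iso hW ((restrictFunctor W.ι).mapIso e3)
      exact IsZero.of_mono ((restrictFunctor W.ι).map (S.homologyι b)) h0
    · exact (HomologicalComplex.exactAt_iff_isZero_homology _ j).1
        (ShortComplex.exact_of_isZero_X₂ _ ((restrictFunctor W.ι).map_isZero (hSv j (Or.inr hj'))))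
  obtain ⟨t1, t2, t3, t4⟩ := truncLE_props hS_W (b - 1) hn
  have hlow : ∀ i : ℤ, i < a → IsZero (((resCx W.ι).obj S).X i) := fun i hi =>
    (restrictFunctor W.ι).map_isZero (hSv i (Or.inl hi))
  haveI := t4
  exact modelAt_of_local E P eP V S eS W ⟨k z₀, hxV⟩ hyW a (b - 1) _
    (by
      rintro i (hi | hi)
      · exact t3 a hlow i hi
      · exact t2 i hi) t1
    (asIso (DerivedCategory.Q.map (((resCx W.ι).obj S).ιTruncLE (b - 1)))).symm

end steps

end Groth.Agent.Lib.helper13.LST
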