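import Mathlib

set_option autoImplicit false
universe u
open TensorProduct

namespace Groth.Agent.Lib.helper13.LocalSplit

variable {A : Type u} [CommRing A] [IsLocalRing A] {M N : Type u} [AddCommGroup M] [AddCommGroup N]
  [Module A M] [Module A N]

/-- over a local ring, a map of finite modules with finite free target which is injective after base change to a field
through a local homomorphism is injective with free cokernel -/
theorem injective_and_free_of_lTensor_injective [Module.Finite A M] [Module.Finite A N] [Module.Free A N]
    (l : M →ₗ[A] N) (L : Type u) [Field L] [Algebra A L] [IsLocalHom (algebraMap A L)]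
    (h : Function.Injective (l.lTensor L)) :
    Function.Injective l ∧ Module.Free A (N ⧸ LinearMap.range l) := by
  let k := IsLocalRing.ResidueField A
  let ψ : k →+* L := IsLocalRing.ResidueField.lift (algebraMap A L)
  letI : Algebra k L := ψ.toAlgebra
  haveI : IsScalarTower A k L := IsScalarTower.of_algebraMap_eq (fun a => by
    show algebraMap A L a = ψ (algebraMap A k a)
    exact (IsLocalRing.ResidueField.lift_residue_apply (algebraMap A L) a).symm)
  have hk : Function.Injective (l.lTensor k) := by
    intro x y hxy
    -- use faithful flatness of `L` over `k`
    have hinj : Function.Injective (TensorProduct.mk k L (k ⊗[A] M) 1) :=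
      Module.FaithfullyFlat.tensorProduct_mk_injective (A := k) (B := L) (k ⊗[A] M)
    apply hinj
    let eM := TensorProduct.AlgebraTensorModule.cancelBaseChange A k L L M
    let eN := TensorProduct.AlgebraTensorModule.cancelBaseChange A k L L N
    have key : ∀ t : L ⊗[k] (k ⊗[A] M),
        eN ((LinearMap.lTensor L (l.baseChange k)) t) = (l.lTensor L) (eM t) := by
      intro t
      induction t using TensorProduct.induction_on with
      | zero => simp
      | tmul c t =>
        induction t using TensorProduct.induction_on with
        | zero => simp
        | tmul d m =>
          simp only [LinearMap.lTensor_tmul, LinearMap.baseChange_tmul, eM, eN,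
            TensorProduct.AlgebraTensorModule.cancelBaseChange_tmul]
        | add t1 t2 h1 h2 =>
          rw [TensorProduct.tmul_add, map_add, map_add, h1, h2, map_add, map_add]
      | add t1 t2 h1 h2 => rw [map_add, map_add, h1, h2, map_add, map_add]
    apply eM.injective
    apply h
    rw [← key, ← key]
    congr 1
    show (1 : L) ⊗ₜ[k] ((l.baseChange k) x) = (1 : L) ⊗ₜ[k] ((l.baseChange k) y)
    have hxy' : (l.baseChange k) x = (l.baseChange k) y := hxy
    rw [hxy']
  have hfree := Module.free_of_lTensor_residueField_injective l (LinearMap.range l).mkQ
    (Submodule.mkQ_surjective _) l.exact_map_mkQ_range hk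
  obtain ⟨l', hl'⟩ := (IsLocalRing.split_injective_iff_lTensor_residueField_injective l).2 hk
  exact ⟨Function.HasLeftInverse.injective ⟨l', LinearMap.congr_fun hl'⟩, hfree⟩

end Groth.Agent.Lib.helper13.LocalSplit
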