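import Mathlib
import Groth.Prelude.Def_Coh
import Groth.Agent.Lib.Helper13.PointGamma
import Groth.Agent.Lib.Helper7.RestrictSupport

set_option autoImplicit false
universe u
open CategoryTheory CategoryTheory.Limits AlgebraicGeometry Opposite TopologicalSpace
open Scheme.Modules

/-!
# Modules on one-point schemes (helper13)

* `isZero_of_subsingleton_sections`, `isZero_of_φ_eq_zero`: a module on a one-point scheme with no global sections is zero.
* `isField_stalk`: the local ring of a one-point affine scheme with a field of functions is a field.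
-/

namespace Groth.Agent.Lib.helper13.OnePoint
open Groth.Agent.Lib.helper13.PointGamma

variable {Z : Scheme.{u}} [Subsingleton Z]

/-- sections over the empty open -/
lemma subsingleton_sections_bot (M : Z.Modules) : Subsingleton Γ(M, ⊥) := by
  have hT : IsTerminal ((⟨M.presheaf, M.isSheaf⟩ : TopCat.Sheaf Ab Z).obj.obj (op ⊥)) :=
    TopCat.Sheaf.isTerminalOfEmpty _
  have hz : IsZero (M.presheaf.obj (op ⊥)) := by
    have : IsZero ((⟨M.presheaf, M.isSheaf⟩ : TopCat.Sheaf Ab Z).obj.obj (op ⊥)) :=
      (isZero_zero Ab).of_iso (hT.uniqueUpToIso (isZero_zero Ab).isTerminal)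
    exact this
  exact AddCommGrpCat.subsingleton_of_isZero hz

/-- on a one-point scheme a module without global sections is zero -/
lemma isZero_of_subsingleton_sections (z : Z) (M : Z.Modules) (h : Subsingleton Γ(M, ⊤)) : IsZero M := by
  rw [Groth.Agent.Lib.helper7.RestrictSupport.isZero_iff_subsingleton_sections]
  intro V
  by_cases hz : z ∈ V
  · have hV : V = ⊤ := by
      ext y
      simp only [Opens.coe_top, Set.mem_univ, iff_true]
      rw [Subsingleton.elim y z]
      exact hz
    rw [hV]; exact h
  · have hV : V = ⊥ := by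
      ext y
      simp only [Opens.coe_bot, Set.mem_empty_iff_false, iff_false]
      rw [Subsingleton.elim y z]
      exact hz
    rw [hV]; exact subsingleton_sections_bot M

/-- on a one-point scheme with a field of functions, a module with zero-dimensional space of sections is zero -/
lemma isZero_of_φ_eq_zero [Nonempty Z] (hK : IsField (Coh.Γtop Z)) (M : Z.Modules) (hP : P Z M)
    (h : φ Z M = 0) : IsZero M := by
  obtain ⟨z⟩ := (inferInstance : Nonempty Z)
  letI := hK.toField
  haveI : Module.Finite (Coh.Γtop Z) ((ΓZ Z).obj M) := hP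
  have h0 : Module.finrank (Coh.Γtop Z) ((ΓZ Z).obj M) = 0 := by
    simp only [φ] at h
    exact_mod_cast h
  have hs : Subsingleton ((ΓZ Z).obj M) := Module.finrank_zero_iff.1 h0
  exact isZero_of_subsingleton_sections z M hs


/-- the local ring of a one-point affine scheme with a field of functions is a field -/
lemma isField_stalk {Z : Scheme.{u}} [IsAffine Z] (hK : IsField (Coh.Γtop Z)) (z : Z) :
    IsField (Z.presheaf.stalk z) := by
  have hU := isAffineOpen_top Z
  letI := TopCat.Presheaf.algebra_section_stalk Z.presheaf (⟨z, trivial⟩ : (⊤ : Z.Opens))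
  haveI hloc : IsLocalization.AtPrime (Z.presheaf.stalk z) (hU.primeIdealOf ⟨z, trivial⟩).asIdeal :=
    hU.isLocalization_stalk ⟨z, trivial⟩
  have hle : (hU.primeIdealOf ⟨z, trivial⟩).asIdeal.primeCompl ≤ IsUnit.submonoid Γ(Z, ⊤) := by
    intro a ha
    have ha0 : a ≠ 0 := by
      rintro rfl
      exact ha (Ideal.zero_mem _)
    obtain ⟨b, hb⟩ := hK.mul_inv_cancel ha0
    exact (isUnit_iff_exists_inv (a := a)).2 ⟨b, hb⟩
  have e := IsLocalization.atUnits Γ(Z, ⊤) (hU.primeIdealOf ⟨z, trivial⟩).asIdeal.primeCompl
    (S := Z.presheaf.stalk z) hle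
  exact MulEquiv.isField hK e.symm.toMulEquiv

end Groth.Agent.Lib.helper13.OnePoint
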