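import Mathlib
import Groth.Prelude.Def_PerfD
import Groth.Agent.Lib.Helper13.LocalSplit
import Groth.Agent.Lib.Helper13.OnePoint
import Groth.Agent.Lib.Helper25.FLFLocus
import Groth.Agent.Lib.Helper25.StalkPull
import Groth.Agent.Lib.Helper25.StalkExact

set_option autoImplicit false
universe u
open CategoryTheory CategoryTheory.Limits AlgebraicGeometry Opposite TopologicalSpace
open Scheme.Modules

namespace Groth.Agent.Lib.helper13.LST
open Groth.Agent.Lib.helper13.OnePoint Groth.Agent.Lib.helper13.LocalSplit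
  Groth.Agent.Lib.helper25.FLFLocus Groth.Agent.Lib.Helper25.StalkSky Groth.Agent.Lib.Helper25.StalkExact

variable {V Z₀ : Scheme.{u}} [IsAffine Z₀]

/-- the stalk at `g z₀` of a morphism of modules, free of finite rank near `g z₀`, whose fibre at the field point `g` is a
monomorphism: it is injective with free cokernel -/
theorem stalk_split_of_mono_pullback (hK₀ : IsField (Coh.Γtop Z₀)) (g : Z₀ ⟶ V) (z₀ : Z₀)
    {M N : V.Modules} [M.IsQuasicoherent] [N.IsQuasicoherent] (d : M ⟶ N)
    (hM : FreeNear M (g z₀)) (hN : FreeNear N (g z₀))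
    (hmono : Mono ((Scheme.Modules.pullback g).map d)) :
    Function.Injective ((DerSch.stalkFunctor V (g z₀)).map d).hom ∧
      Module.Free (V.presheaf.stalk (g z₀)) ((cokernel d).presheaf.stalk (g z₀)) := by
  obtain ⟨hMfree, hMfin⟩ := free_finite_stalk_of_freeNear M hM
  obtain ⟨hNfree, hNfin⟩ := free_finite_stalk_of_freeNear N hN
  letI fld : Field (Z₀.presheaf.stalk z₀) := (isField_stalk hK₀ z₀).toField
  letI alg : Algebra (V.presheaf.stalk (g z₀)) (Z₀.presheaf.stalk z₀) := (g.stalkMap z₀).hom.toAlgebra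
  haveI : IsLocalHom (algebraMap (V.presheaf.stalk (g z₀)) (Z₀.presheaf.stalk z₀)) :=
    inferInstanceAs (IsLocalHom (g.stalkMap z₀).hom)
  set l := ((DerSch.stalkFunctor V (g z₀)).map d).hom with hl
  have hnat := (stalkPullbackIso g z₀).hom.naturality d
  have hm1 : Mono ((Scheme.Modules.pullback g ⋙ DerSch.stalkFunctor Z₀ z₀).map d) := by
    haveI := hmono
    exact Functor.map_mono (DerSch.stalkFunctor Z₀ z₀) ((Scheme.Modules.pullback g).map d)
  have hm2 : Mono ((DerSch.stalkFunctor V (g z₀) ⋙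
      ModuleCat.extendScalars.{u, u, u} (g.stalkMap z₀).hom).map d) := by
    have h3 : Mono ((Scheme.Modules.pullback g ⋙ DerSch.stalkFunctor Z₀ z₀).map d ≫
        (stalkPullbackIso g z₀).hom.app N) :=
      @mono_comp _ _ _ _ _ _ hm1 _ (IsIso.mono_of_iso ((stalkPullbackIso g z₀).hom.app N))
    rw [hnat] at h3
    have h4 : (DerSch.stalkFunctor V (g z₀) ⋙
        ModuleCat.extendScalars.{u, u, u} (g.stalkMap z₀).hom).map d =
        (stalkPullbackIso g z₀).inv.app M ≫ ((stalkPullbackIso g z₀).hom.app M ≫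
          (DerSch.stalkFunctor V (g z₀) ⋙
            ModuleCat.extendScalars.{u, u, u} (g.stalkMap z₀).hom).map d) := by
      rw [Iso.inv_hom_id_app_assoc]
    rw [h4]
    exact @mono_comp _ _ _ _ _ _ (IsIso.mono_of_iso ((stalkPullbackIso g z₀).inv.app M)) _ h3
  have hinj : Function.Injective ((ModuleCat.extendScalars.{u, u, u} (g.stalkMap z₀).hom).map
      ((DerSch.stalkFunctor V (g z₀)).map d)).hom :=
    (ModuleCat.mono_iff_injective _).1 hm2
  have hinj' : Function.Injective (l.lTensor (Z₀.presheaf.stalk z₀)) := hinj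
  haveI i1 : Module.Finite (V.presheaf.stalk (g z₀)) ((DerSch.stalkFunctor V (g z₀)).obj M) := hMfin
  haveI i2 : Module.Finite (V.presheaf.stalk (g z₀)) ((DerSch.stalkFunctor V (g z₀)).obj N) := hNfin
  haveI i3 : Module.Free (V.presheaf.stalk (g z₀)) ((DerSch.stalkFunctor V (g z₀)).obj N) := hNfree
  obtain ⟨h1, h2⟩ := injective_and_free_of_lTensor_injective l (Z₀.presheaf.stalk z₀) hinj'
  refine ⟨h1, ?_⟩
  have e : (DerSch.stalkFunctor V (g z₀)).obj (cokernel d) ≅
      ModuleCat.of _ (N.presheaf.stalk (g z₀) ⧸ LinearMap.range l) :=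
    PreservesCokernel.iso (DerSch.stalkFunctor V (g z₀)) d ≪≫
      ModuleCat.cokernelIsoRangeQuotient ((DerSch.stalkFunctor V (g z₀)).map d)
  exact Module.Free.of_equiv e.toLinearEquiv.symm

end Groth.Agent.Lib.helper13.LST
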