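import Mathlib
import Groth.Prelude.Def_PerfD
import Groth.Agent.Lib.Helper13.LST1
import Groth.Agent.Lib.Helper13.LST2

set_option autoImplicit false
universe u
open CategoryTheory CategoryTheory.Limits AlgebraicGeometry Opposite TopologicalSpace
open Scheme.Modules

attribute [local instance] HasDerivedCategory.standard

/-!
# Local structure of a perfect object at a field point, part 3: truncation from below (helper13)
-/

namespace Groth.Agent.Lib.helper13.LST
open Groth.Agent.Lib.Helper25.LpullAdapted Groth.Agent.Lib.Helper25.LpullPerfect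
  Groth.Agent.Lib.helper13.EulerLocConst Groth.Agent.Lib.helper13.PointGamma
  Groth.Agent.Lib.helper13.PointRank Groth.Agent.Lib.helper13.FibreNu
  Groth.Agent.Lib.helper13.BettiPC Groth.Agent.Lib.helper13.BettiFormula
  Groth.Agent.Lib.helper22.EulerChar Groth.Agent.Lib.helper13.FibreVanish
  Groth.Agent.Lib.helper25.DCohRestrict Groth.Agent.Lib.helper25.DCohHomology
  Groth.Agent.Lib.helper13.PerfAmp Groth.Agent.Lib.helper13.OnePoint
  Groth.Agent.Lib.helper25.FLFLocus Groth.Agent.Lib.Helper25.StalkSky Groth.Agent.Lib.Helper25.StalkExact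

variable {X Y : Scheme.{u}}

/-- canonical truncation below of a complex of finite locally free modules, acyclic below `n`, with finite locally
free `n`-th cokernel -/
theorem truncGE_props {P : CochainComplex Y.Modules ℤ} (hP : ∀ i : ℤ, FlatMod.IsFinLocFree (P.X i)) (n : ℤ)
    (hn : ∀ i : ℤ, i < n → IsZero (P.homology i)) (hop : FlatMod.IsFinLocFree (P.opcycles n)) :
    (∀ i : ℤ, FlatMod.IsFinLocFree ((P.truncGE n).X i)) ∧ (∀ i : ℤ, i < n → IsZero ((P.truncGE n).X i)) ∧
      (∀ b : ℤ, (∀ i : ℤ, b < i → IsZero (P.X i)) → ∀ i : ℤ, b < i → IsZero ((P.truncGE n).X i)) ∧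
      QuasiIso (P.πTruncGE n) := by
  refine ⟨fun i => ?_, fun i hi => (P.truncGE n).isZero_of_isStrictlyGE n i hi, fun b hb i hi => ?_, ?_⟩
  · rcases lt_trichotomy i n with hi | hi | hi
    · exact Groth.Agent.Lib.helper25.FLFKernel.isFinLocFree_of_isZero
        ((P.truncGE n).isZero_of_isStrictlyGE n i hi)
    · subst hi
      exact Groth.Agent.Lib.helper16.FLF.isFinLocFree_of_iso (P.truncGEXIsoOpcycles i).symm hop
    · exact Groth.Agent.Lib.helper16.FLF.isFinLocFree_of_iso (P.truncGEXIso n i hi).symm (hP i)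
  · rcases lt_trichotomy i n with hi' | hi' | hi'
    · exact (P.truncGE n).isZero_of_isStrictlyGE n i hi'
    · subst hi'
      exact (IsZero.of_epi (P.pOpcycles i) (hb i hi)).of_iso (P.truncGEXIsoOpcycles i)
    · exact (hb i hi).of_iso (P.truncGEXIso n i hi')
  · haveI : P.IsGE n := (P.isGE_iff n).2 (fun i hi => (P.exactAt_iff_isZero_homology i).2 (hn i hi))
    infer_instance

section steps

variable {Z₀ : Scheme.{u}} [IsAffine Z₀] [Subsingleton Z₀] [Nonempty Z₀] (hK₀ : IsField (Coh.Γtop Z₀))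
  (k : Z₀ ⟶ X) [DCoh.HasLpull k] (z₀ : Z₀)

include hK₀ in
/-- **truncation from below**: if the bottom fibre cohomology vanishes, the model can be shortened from below -/
theorem modelAt_bottom_step (E : DCoh.D X) (P : CochainComplex X.Modules ℤ) (hP : P₀ X P)
    (eP : DCoh.toD X P ≅ E) (a b : ℤ) (hm : ModelAt P (k z₀) a b) (ha : bk k E a = 0) :
    ModelAt P (k z₀) (a + 1) b := by
  obtain ⟨V, hxV, S, hSv, hSf, ⟨eS⟩⟩ := hm
  have hS : DCoh.IsStrictlyPerfect S := ⟨⟨a, b, hSv⟩, hSf⟩
  set g := lift k z₀ V hxV with hg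
  have hadd := isAdditiveOn Z₀ hK₀
  set K := (EulerLocConst.pullCx g).obj S with hKdef
  -- (i) the fibre of the bottom differential is a monomorphism
  have hbk := bk_eq hK₀ k z₀ E P hP eP V hxV S hS eS a
  have hPa : PointGamma.P Z₀ (K.X a) := P_pullback_of_isFinLocFree hK₀ g _ (hSf a)
  have hop : PointGamma.P Z₀ (K.opcycles a) := by
    have hs := surjective_of_epi (K.pOpcycles a)
    haveI : Module.Finite (Coh.Γtop Z₀) ((ΓZ Z₀).obj (K.X a)) := hPa
    exact Module.Finite.of_surjective ((ΓZ Z₀).map (K.pOpcycles a)).hom hs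
  have hPh : PointGamma.P Z₀ (K.homology a) := hadd.mono (K.homologyι a) hop
  have hz : IsZero (K.homology a) := isZero_of_φ_eq_zero hK₀ _ hPh (by rw [← hbk]; exact ha)
  have hex : K.ExactAt a := (K.exactAt_iff_isZero_homology a).2 hz
  have hmono : Mono (K.d a (a + 1)) := by
    rw [K.exactAt_iff' (a - 1) a (a + 1) (by simp) (by simp)] at hex
    have hf : (K.sc' (a - 1) a (a + 1)).f = 0 :=
      IsZero.eq_of_src ((Scheme.Modules.pullback g).map_isZero (hSv (a - 1) (Or.inl (by omega)))) _ _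
    exact (ShortComplex.exact_iff_mono _ hf).1 hex
  -- (ii) the stalk of the bottom differential is split injective
  set d := S.d a (a + 1) with hd
  haveI hq : ∀ i, (S.X i).IsQuasicoherent := fun i =>
    Groth.Agent.Lib.helper16.FLF.isQuasicoherent_of_isFinLocFree _ (hSf i)
  obtain ⟨hinj, hfree⟩ := stalk_split_of_mono_pullback hK₀ g z₀ d (hSf a (g z₀)) (hSf (a + 1) (g z₀)) hmono
  -- (iii) the cokernel is free near the point
  set C := cokernel d with hC
  haveI : C.IsQuasicoherent := Groth.Agent.Lib.helper7.CohKer.isQuasicoherent_cokernel _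
  have hfp : CohB1.IsFP ((C.restrict (⊤ : (V : Scheme.{u}).Opens).ι).restrict
      (⊤ : ((⊤ : (V : Scheme.{u}).Opens) : Scheme.{u}).Opens).ι) := by
    have h1 := isFP_restrict_cokernel ((restrictFunctor (⊤ : (V : Scheme.{u}).Opens).ι).map d)
      (W := ⊤)
      (flfOn_of_isFinLocFree (Groth.Agent.Lib.helper16.FLF.isFinLocFree_restrict _ (hSf a)) ⊤)
      (flfOn_of_isFinLocFree (Groth.Agent.Lib.helper16.FLF.isFinLocFree_restrict _ (hSf (a + 1))) ⊤)
    exact isFP_of_iso ((restrictFunctor _).mapIso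
      (PreservesCokernel.iso (restrictFunctor (⊤ : (V : Scheme.{u}).Opens).ι) d).symm) h1
  have hCnear : FreeNear C (g z₀) := freeNear_of_free_stalk C (g z₀) hfree ⊤ ⊤ trivial trivial hfp
  obtain ⟨W₁, hxW₁, hCW₁⟩ := flfOn_of_freeNear hCnear
  -- (iv) the kernel vanishes near the point
  have hI : FLFOn (kernel (cokernel.π d)) W₁ :=
    flfOn_kernel (cokernel.π d) (flfOn_of_isFinLocFree (hSf (a + 1)) W₁) hCW₁
  have hKer : FLFOn (kernel (Abelian.factorThruImage d)) W₁ :=
    flfOn_kernel (Abelian.factorThruImage d) (flfOn_of_isFinLocFree (hSf a) W₁) hI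
  have eK : kernel (Abelian.factorThruImage d) ≅ kernel d :=
    (kernelCompMono (Abelian.factorThruImage d) (Abelian.image.ι d)).symm ≪≫
      kernelIsoOfEq (Abelian.image.fac d)
  obtain ⟨U, n, hxU, ⟨isoK⟩⟩ := (hKer.of_iso eK) (g z₀) hxW₁
  have hKx : IsZero ((DerSch.stalkFunctor V (g z₀)).obj (kernel d)) := by
    haveI : Mono ((DerSch.stalkFunctor V (g z₀)).map d) := (ModuleCat.mono_iff_injective _).2 hinj
    exact (isZero_kernel_of_mono _).of_iso (PreservesKernel.iso (DerSch.stalkFunctor V (g z₀)) d)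
  have hgK : IsZero ((Scheme.Modules.pullback g).obj (kernel d)) := by
    apply isZero_of_forall_stalk
    intro z
    rw [Subsingleton.elim z z₀]
    exact ((ModuleCat.extendScalars.{u, u, u} (g.stalkMap z₀).hom).map_isZero hKx).of_iso
      ((stalkPullbackIso g z₀).app (kernel d))
  obtain ⟨iso'⟩ := nonempty_pullback_restrict_iso g (kernel d) U n isoK
  have hfin := (finrank_of_restrict_iso hK₀ z₀ _ _ (show z₀ ∈ g ⁻¹ᵁ U from hxU) n iso').2
  have hn0 : n = 0 := by
    have h0 : φ Z₀ ((Scheme.Modules.pullback g).obj (kernel d)) = 0 := hadd.zero _ hgK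
    have h1 : ((Module.finrank (Coh.Γtop Z₀)
        (((Scheme.Modules.pullback g).obj (kernel d)).val.obj (op ⊤)) : ℕ) : ℤ) = 0 := h0
    rw [hfin] at h1
    exact_mod_cast h1
  subst hn0
  -- (v) the model on `U ⊓ W₁`
  set W : (V : Scheme.{u}).Opens := U ⊓ W₁ with hW
  have hyW : g z₀ ∈ W := ⟨hxU, hxW₁⟩
  obtain ⟨isoKW⟩ := Groth.Agent.Lib.helper16.FLF.restrict_iso_freeMod_of_le (kernel d)
    (inf_le_left : W ≤ U) 0 isoK
  have hKW : IsZero ((restrictFunctor W.ι).obj (kernel d)) :=
    (isZero_freeMod_zero _).of_iso isoKW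
  have hS_W := isStrictlyPerfect_res W.ι hS
  have hnW : ∀ j : ℤ, j < a + 1 → IsZero (((resCx W.ι).obj S).homology j) := by
    intro j hj
    rcases eq_or_lt_of_le (show j ≤ a by omega) with rfl | hj'
    · refine IsZero.of_iso ?_ (homologyResIso W.ι S j)
      have e3 : S.cycles j ≅ kernel (S.d j (j + 1)) :=
        (S.cyclesIsKernel j (j + 1) (by simp)).conePointUniqueUpToIso (limit.isLimit _)
      have h0 : IsZero ((restrictFunctor W.ι).obj (S.cycles j)) :=
        IsZero.of_iso hKW ((restrictFunctor W.ι).mapIso e3)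
      exact IsZero.of_epi ((restrictFunctor W.ι).map (S.homologyπ j)) h0
    · exact (HomologicalComplex.exactAt_iff_isZero_homology _ j).1
        (ShortComplex.exact_of_isZero_X₂ _ ((restrictFunctor W.ι).map_isZero (hSv j (Or.inl hj'))))
  have hopW : FlatMod.IsFinLocFree (((resCx W.ι).obj S).opcycles (a + 1)) := by
    have e3 : ((resCx W.ι).obj S).opcycles (a + 1) ≅
        cokernel (((resCx W.ι).obj S).d a (a + 1)) :=
      (((resCx W.ι).obj S).opcyclesIsCokernel a (a + 1) (by simp)).coconePointUniqueUpToIso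
        (colimit.isColimit _)
    have e4 : cokernel (((resCx W.ι).obj S).d a (a + 1)) ≅ (restrictFunctor W.ι).obj C :=
      (PreservesCokernel.iso (restrictFunctor W.ι) d).symm
    exact Groth.Agent.Lib.helper16.FLF.isFinLocFree_of_iso (e3 ≪≫ e4).symm
      (hCW₁.mono inf_le_right).isFinLocFree_restrict
  obtain ⟨t1, t2, t3, t4⟩ := truncGE_props hS_W.2 (a + 1) hnW hopW
  have hhigh : ∀ i : ℤ, b < i → IsZero (((resCx W.ι).obj S).X i) := fun i hi =>
    (restrictFunctor W.ι).map_isZero (hSv i (Or.inr hi))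
  haveI := t4
  have hgz : g z₀ = ⟨k z₀, hxV⟩ := lift_apply k z₀ V hxV z₀
  rw [hgz] at hyW
  exact modelAt_of_local E P eP V S eS W ⟨k z₀, hxV⟩ hyW (a + 1) b _
    (by
      rintro i (hi | hi)
      · exact t2 i hi
      · exact t3 b hhigh i hi) t1
    (asIso (DerivedCategory.Q.map (((resCx W.ι).obj S).πTruncGE (a + 1))))

end steps

end Groth.Agent.Lib.helper13.LST
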