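import Mathlib
import Groth.Prelude.Def_PerfD
import Groth.Agent.Lib.Helper13.LST3

set_option autoImplicit false
universe u
open CategoryTheory CategoryTheory.Limits AlgebraicGeometry Opposite TopologicalSpace
open Scheme.Modules

attribute [local instance] HasDerivedCategory.standard

/-!
# Local structure of a perfect object at a field point, part 4: the local structure theorem (helper13)

If the derived fibre of a perfect object `E` at a field point `k` has cohomology only in degree `i`, of dimension `r`,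
then near the image of `k` the object `E` is a finite locally free module of rank `r` placed in degree `i`.
-/

namespace Groth.Agent.Lib.helper13.LST
open Groth.Agent.Lib.Helper25.LpullAdapted Groth.Agent.Lib.Helper25.LpullPerfect
  Groth.Agent.Lib.helper13.EulerLocConst Groth.Agent.Lib.helper13.PointGamma
  Groth.Agent.Lib.helper13.PointRank Groth.Agent.Lib.helper13.FibreNu
  Groth.Agent.Lib.helper13.BettiPC Groth.Agent.Lib.helper13.BettiFormula
  Groth.Agent.Lib.helper22.EulerChar Groth.Agent.Lib.helper13.FibreVanish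
  Groth.Agent.Lib.helper25.DCohRestrict Groth.Agent.Lib.helper25.DCohHomology
  Groth.Agent.Lib.helper13.PerfAmp Groth.Agent.Lib.helper13.OnePoint
  Groth.Agent.Lib.helper25.FLFLocus

variable {X Y : Scheme.{u}}

lemma ModelAt.mono {P : CochainComplex X.Modules ℤ} {x : X} {a b a' b' : ℤ} (h : ModelAt P x a b)
    (ha : a' ≤ a) (hb : b ≤ b') : ModelAt P x a' b' := by
  obtain ⟨V, hxV, S, hSv, hSf, eS⟩ := h
  exact ⟨V, hxV, S, fun i hi => hSv i (by omega), hSf, eS⟩

lemma exists_modelAt_of_isPerfect (E : DCoh.D X) (hE : DCoh.IsPerfect E) (P : CochainComplex X.Modules ℤ)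
    (eP : DCoh.toD X P ≅ E) (x : X) : ∃ a b : ℤ, ModelAt P x a b := by
  obtain ⟨V, hxV, hV⟩ := hE x
  obtain ⟨S, ⟨⟨a, b, hab⟩, hf⟩, eS⟩ := hV P ⟨eP⟩
  exact ⟨a, b, V, hxV, S, hab, hf, eS⟩

/-- `P` is, near `x`, a finite locally free module of rank `r` placed in degree `i` -/
def GoodAt (P : CochainComplex X.Modules ℤ) (i : ℤ) (r : ℕ) (x : X) : Prop :=
  ∃ (V : X.Opens), x ∈ V ∧ ∃ S : CochainComplex (V : Scheme.{u}).Modules ℤ,
    DCoh.VanishesOutside S i i ∧ FlatMod.IsFinLocFreeOfRank r (S.X i) ∧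
    Nonempty (DerivedCategory.Q.obj ((DCoh.restrictCx V).obj P) ≅ DerivedCategory.Q.obj S)

lemma GoodAt.of_mem {P : CochainComplex X.Modules ℤ} {i : ℤ} {r : ℕ} {x : X}
    (h : GoodAt P i r x) : ∃ V : X.Opens, x ∈ V ∧ ∀ y ∈ V, GoodAt P i r y := by
  obtain ⟨V, hxV, S, hSv, hSf, eS⟩ := h
  exact ⟨V, hxV, fun y hy => ⟨V, hy, S, hSv, hSf, eS⟩⟩

open DerivedCategory in
/-- transport of a rank `r` model on an open of an open -/
lemma goodAt_of_local (E : DCoh.D X) (P : CochainComplex X.Modules ℤ) (eP : DCoh.toD X P ≅ E)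
    (V : X.Opens) (S : CochainComplex (V : Scheme.{u}).Modules ℤ)
    (eS : Q.obj ((DCoh.restrictCx V).obj P) ≅ Q.obj S)
    (W : (V : Scheme.{u}).Opens) (y : (V : Scheme.{u})) (hy : y ∈ W) (i : ℤ) (r : ℕ)
    (hv : DCoh.VanishesOutside S i i)
    (hf : FlatMod.IsFinLocFreeOfRank r ((S.X i).restrict W.ι)) : GoodAt P i r (V.ι y) := by
  obtain ⟨i1⟩ := nonempty_Q_res_iso W.ι ⟨eS⟩
  refine ⟨(W.ι ≫ V.ι).opensRange, ⟨⟨y, hy⟩, rfl⟩,
    ((resCx (W.ι ≫ V.ι).isoOpensRange.inv).obj ((resCx W.ι).obj S)), ?_, ?_, ?_⟩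
  · exact fun j hj => (restrictFunctor _).map_isZero ((restrictFunctor _).map_isZero (hv j hj))
  · exact Groth.Agent.Lib.helper16.FLF.isFinLocFreeOfRank_restrict _ hf
  · exact nonempty_Q_restrict_opensRange_iso E (W.ι ≫ V.ι) P ⟨eP⟩ ((resCx W.ι).obj S)
      ⟨Q.mapIso (resCxCompIso W.ι V.ι P) ≪≫ i1⟩ P ⟨eP⟩

section fibre

variable {Z₀ : Scheme.{u}} [IsAffine Z₀] [Subsingleton Z₀] [Nonempty Z₀] (hK₀ : IsField (Coh.Γtop Z₀))
  (k : Z₀ ⟶ X) [DCoh.HasLpull k] (z₀ : Z₀)

include hK₀ in
/-- if the derived fibre has cohomology only in degree `i`, there is a model in `[i, i]` -/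
theorem modelAt_single (E : DCoh.D X) (hE : DCoh.IsPerfect E) (P : CochainComplex X.Modules ℤ)
    (hP : P₀ X P) (eP : DCoh.toD X P ≅ E) (i : ℤ) (h0 : ∀ j : ℤ, j ≠ i → bk k E j = 0) :
    ModelAt P (k z₀) i i := by
  obtain ⟨a, b, hab⟩ := exists_modelAt_of_isPerfect E hE P eP (k z₀)
  have h1 : ModelAt P (k z₀) (min a i) (max b i) := hab.mono (min_le_left _ _) (le_max_left _ _)
  set a' := min a i with ha'
  set b' := max b i with hb'
  have hai : a' ≤ i := min_le_right _ _
  have hbi : i ≤ b' := le_max_right _ _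
  -- truncate from above
  have top : ∀ n : ℕ, i ≤ b' - n → ModelAt P (k z₀) a' (b' - n) := by
    intro n
    induction n with
    | zero => intro _; simpa using h1
    | succ n ih =>
      intro hn
      have h2 := ih (by push_cast at hn; omega)
      have h3 := modelAt_top_step hK₀ k z₀ E P hP eP a' (b' - n) h2
        (h0 _ (by push_cast at hn; omega))
      have : b' - (n + 1 : ℕ) = b' - n - 1 := by push_cast; ring
      rw [this]; exact h3
  have h2 : ModelAt P (k z₀) a' i := by
    have := top (b' - i).toNat (by have := Int.toNat_of_nonneg (show 0 ≤ b' - i by omega); omega)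
    have e : b' - ((b' - i).toNat : ℤ) = i := by
      have := Int.toNat_of_nonneg (show 0 ≤ b' - i by omega); omega
    rwa [e] at this
  -- truncate from below
  have bot : ∀ n : ℕ, a' + n ≤ i → ModelAt P (k z₀) (a' + n) i := by
    intro n
    induction n with
    | zero => intro _; simpa using h2
    | succ n ih =>
      intro hn
      have h3 := ih (by push_cast at hn; omega)
      have h4 := modelAt_bottom_step hK₀ k z₀ E P hP eP (a' + n) i h3
        (h0 _ (by push_cast at hn; omega))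
      have : a' + ((n + 1 : ℕ) : ℤ) = a' + n + 1 := by push_cast; ring
      rw [this]; exact h4
  have := bot (i - a').toNat (by have := Int.toNat_of_nonneg (show 0 ≤ i - a' by omega); omega)
  have e : a' + ((i - a').toNat : ℤ) = i := by
    have := Int.toNat_of_nonneg (show 0 ≤ i - a' by omega); omega
  rwa [e] at this

include hK₀ in
/-- **local structure theorem**: if the derived fibre at a field point has cohomology only in degree `i`, of
dimension `r`, then `E` is near the point a finite locally free module of rank `r` placed in degree `i` -/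
theorem goodAt_of_bk (E : DCoh.D X) (hE : DCoh.IsPerfect E) (P : CochainComplex X.Modules ℤ)
    (hP : P₀ X P) (eP : DCoh.toD X P ≅ E) (i : ℤ) (r : ℕ) (h0 : ∀ j : ℤ, j ≠ i → bk k E j = 0)
    (hr : bk k E i = r) : GoodAt P i r (k z₀) := by
  obtain ⟨V, hxV, S, hSv, hSf, ⟨eS⟩⟩ := modelAt_single hK₀ k z₀ E hE P hP eP i h0
  have hS : DCoh.IsStrictlyPerfect S := ⟨⟨i, i, hSv⟩, hSf⟩
  set g := lift k z₀ V hxV with hg
  have hadd := isAdditiveOn Z₀ hK₀
  set K := (EulerLocConst.pullCx g).obj S with hKdef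
  have hbk := bk_eq hK₀ k z₀ E P hP eP V hxV S hS eS i
  obtain ⟨U, n, hxU, ⟨iso⟩⟩ := hSf i (g z₀)
  obtain ⟨iso'⟩ := nonempty_pullback_restrict_iso g (S.X i) U n iso
  have hfin := (finrank_of_restrict_iso hK₀ z₀ _ _ (show z₀ ∈ g ⁻¹ᵁ U from hxU) n iso').2
  have hd1 : K.d i (i + 1) = 0 :=
    IsZero.eq_of_tgt ((Scheme.Modules.pullback g).map_isZero (hSv (i + 1) (Or.inr (by omega)))) _ _
  have hd2 : K.d (i - 1) i = 0 :=
    IsZero.eq_of_src ((Scheme.Modules.pullback g).map_isZero (hSv (i - 1) (Or.inl (by omega)))) _ _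
  have e1 : K.homology i ≅ K.X i :=
    K.isoHomologyι i (i + 1) (by simp) hd1 ≪≫ (K.pOpcyclesIso (i - 1) i (by simp) hd2).symm
  have hn : n = r := by
    have h1 : φ Z₀ (K.homology i) = φ Z₀ ((Scheme.Modules.pullback g).obj (S.X i)) := hadd.iso e1
    have h2 : φ Z₀ ((Scheme.Modules.pullback g).obj (S.X i)) = (n : ℤ) := by
      have : ((Module.finrank (Coh.Γtop Z₀)
        (((Scheme.Modules.pullback g).obj (S.X i)).val.obj (op ⊤)) : ℕ) : ℤ) = n := by
        rw [hfin]
      exact this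
    rw [hbk, h1, h2] at hr
    exact_mod_cast hr
  subst hn
  have hgz : g z₀ = ⟨k z₀, hxV⟩ := lift_apply k z₀ V hxV z₀
  rw [hgz] at hxU
  refine goodAt_of_local E P eP V S eS U ⟨k z₀, hxV⟩ hxU i n hSv ?_
  exact Groth.Agent.Lib.helper16.FLF.isFinLocFreeOfRank_of_iso iso.symm
    (Groth.Agent.Lib.helper16.FLF.isFinLocFreeOfRank_freeMod _ n)

end fibre

end Groth.Agent.Lib.helper13.LST
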