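import Mathlib
import Groth.Prelude.Def_PerfD
import Groth.Agent.Lib.Helper13.LST4

set_option autoImplicit false
universe u
open CategoryTheory CategoryTheory.Limits AlgebraicGeometry Opposite TopologicalSpace
open Scheme.Modules

attribute [local instance] HasDerivedCategory.standard

/-!
# Local structure of a perfect object, part 5: objects locally of the form "finite locally free module in degree `i`" (helper13)
-/

namespace Groth.Agent.Lib.helper13.LST
open Groth.Agent.Lib.Helper25.LpullAdapted Groth.Agent.Lib.Helper25.LpullPerfect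
  Groth.Agent.Lib.Helper25.LpullComp Groth.Agent.Lib.Helper25.StalkPullFlat
  Groth.Agent.Lib.helper13.EulerLocConst Groth.Agent.Lib.helper13.PointGamma
  Groth.Agent.Lib.helper13.PointRank
  Groth.Agent.Lib.helper22.EulerChar
  Groth.Agent.Lib.helper25.DCohRestrict Groth.Agent.Lib.helper25.DCohHomology
  Groth.Agent.Lib.helper13.OnePoint

variable {X Y : Scheme.{u}}

section single

variable {S : CochainComplex Y.Modules ℤ} {i : ℤ}

lemma isStrictlyPerfect_of_vanishesOutside_single (hv : DCoh.VanishesOutside S i i)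
    (hf : FlatMod.IsFinLocFree (S.X i)) : DCoh.IsStrictlyPerfect S := by
  refine ⟨⟨i, i, hv⟩, fun j => ?_⟩
  by_cases hj : j = i
  · subst hj; exact hf
  · exact Groth.Agent.Lib.helper25.FLFKernel.isFinLocFree_of_isZero (hv j (by omega))

lemma isZero_homology_of_vanishesOutside_single (hv : DCoh.VanishesOutside S i i) (j : ℤ) (hj : j ≠ i) :
    IsZero (S.homology j) :=
  (HomologicalComplex.exactAt_iff_isZero_homology _ j).1
    (ShortComplex.exact_of_isZero_X₂ _ (hv j (by omega)))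

/-- the cohomology in degree `i` of a complex concentrated in degree `i` -/
noncomputable def homologyIsoOfVanishesOutside (hv : DCoh.VanishesOutside S i i) : S.homology i ≅ S.X i :=
  S.isoHomologyι i (i + 1) (by simp) (IsZero.eq_of_tgt (hv (i + 1) (Or.inr (by omega))) _ _) ≪≫
    (S.pOpcyclesIso (i - 1) i (by simp) (IsZero.eq_of_src (hv (i - 1) (Or.inl (by omega))) _ _)).symm

end single

open DerivedCategory in
/-- **an object which is locally a finite locally free module of rank `r` placed in degree `i` is globally so** -/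
theorem exists_iso_inD_shift_of_local (G : DCoh.D Y) (i : ℤ) (r : ℕ)
    (h : ∀ y : Y, ∃ W : Y.Opens, y ∈ W ∧ ∃ S : CochainComplex (W : Scheme.{u}).Modules ℤ,
      DCoh.VanishesOutside S i i ∧ FlatMod.IsFinLocFreeOfRank r (S.X i) ∧
      Nonempty ((DCoh.restrictD W.ι).obj G ≅ Q.obj S)) :
    ∃ V : Y.Modules, FlatMod.IsFinLocFreeOfRank r V ∧ Nonempty (G ≅ (DCoh.inD Y V)⟦-i⟧) := by
  choose W hyW S hSv hSf hSe using h
  have hcov : ⨆ y, W y = ⊤ := eq_top_iff.2 (fun y _ => Opens.mem_iSup.2 ⟨y, hyW y⟩)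
  have hz : ∀ j : ℤ, j ≠ i → IsZero (DCoh.HD G j) := by
    intro j hj
    refine isZero_of_cover _ W hcov (fun y => ?_)
    obtain ⟨a⟩ := nonempty_HD_restrict_iso_homology (W y).ι G (S y) (hSe y) j
    exact (isZero_homology_of_vanishesOutside_single (hSv y) j hj).of_iso a
  haveI : G.IsLE i := (DerivedCategory.isLE_iff G i).2 (fun j hj => hz j (by omega))
  haveI : G.IsGE i := (DerivedCategory.isGE_iff G i).2 (fun j hj => hz j (by omega))
  obtain ⟨A, ⟨eA⟩⟩ := DerivedCategory.exists_iso_singleFunctor_obj_of_isGE_of_isLE G i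
  have eH : DCoh.HD G i ≅ A := (homologyFunctor _ i).mapIso eA ≪≫
    (singleFunctorCompHomologyFunctorIso _ i).app A
  refine ⟨A, ?_, ⟨eA ≪≫ ?_⟩⟩
  · refine Groth.Agent.Lib.helper16.FLF.isFinLocFreeOfRank_of_iso eH ?_
    refine Groth.Agent.Lib.helper16.FLF.isFinLocFreeOfRank_of_forall_restrict _ (fun y => ?_)
    refine ⟨W y, hyW y, ?_⟩
    obtain ⟨a⟩ := nonempty_HD_restrict_iso_homology (W y).ι G (S y) (hSe y) i
    exact Groth.Agent.Lib.helper16.FLF.isFinLocFreeOfRank_of_iso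
      (a ≪≫ homologyIsoOfVanishesOutside (hSv y)).symm (hSf y)
  · exact (((DerivedCategory.singleFunctors Y.Modules).shiftIso (-i) i 0 (by omega)).app A).symm

open DerivedCategory in
/-- the restriction of a derived pullback to the preimage of an open, through a local model -/
theorem nonempty_restrictD_Lpull_iso (f : Y ⟶ X) [DCoh.HasLpull f] (E : DCoh.D X)
    (P : CochainComplex X.Modules ℤ) (hP : P₀ X P) (eP : DCoh.toD X P ≅ E) (V : X.Opens)
    (S : CochainComplex (V : Scheme.{u}).Modules ℤ) (hS : DCoh.IsStrictlyPerfect S)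
    (eS : Q.obj ((DCoh.restrictCx V).obj P) ≅ Q.obj S) :
    Nonempty ((DCoh.restrictD (f ⁻¹ᵁ V).ι).obj ((DCoh.Lpull f).obj E) ≅
      Q.obj ((EulerLocConst.pullCx (f ∣_ V)).obj S)) := by
  obtain ⟨e1⟩ := nonempty_Lpull_iso f P hP
  have : DCoh.HasLpull (f ∣_ V) := hasLpull _
  obtain ⟨e2⟩ := nonempty_Lpull_iso (f ∣_ V) _ (P₀_restrict V P hP)
  obtain ⟨e3⟩ := nonempty_Lpull_iso (f ∣_ V) S (P₀_of_isStrictlyPerfect S hS)
  exact ⟨(DCoh.restrictD (f ⁻¹ᵁ V).ι).mapIso ((DCoh.Lpull f).mapIso eP.symm ≪≫ e1) ≪≫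
    resDQIso (f ⁻¹ᵁ V).ι _ ≪≫ Q.mapIso (pullRestrictCxIso f V P) ≪≫ e2.symm ≪≫
      (DCoh.Lpull (f ∣_ V)).mapIso eS ≪≫ e3⟩

section fibre

open DerivedCategory in
/-- the derived fibres of an object of the form "finite locally free of rank `r` in degree `i`" -/
theorem bk_of_iso_inD_shift (f : Y ⟶ X) [DCoh.HasLpull f] (E : DCoh.D X) (V : Y.Modules) (i : ℤ) (r : ℕ)
    (hV : FlatMod.IsFinLocFreeOfRank r V) (e : (DCoh.Lpull f).obj E ≅ (DCoh.inD Y V)⟦-i⟧) (y : Y)
    [DCoh.HasLpull (Y.fromSpecResidueField y ≫ f)] :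
    (∀ j : ℤ, j ≠ i → bk (Y.fromSpecResidueField y ≫ f) E j = 0) ∧
      bk (Y.fromSpecResidueField y ≫ f) E i = r := by
  have hK₀ := isField_Γtop y
  have hadd := isAdditiveOn (Zy y) hK₀
  set iy := Y.fromSpecResidueField y with hiy
  haveI : DCoh.HasLpull iy := hasLpull _
  obtain ⟨c⟩ := nonempty_Lpull_comp iy f
  set T : CochainComplex Y.Modules ℤ := (HomologicalComplex.single Y.Modules (ComplexShape.up ℤ) i).obj V with hT
  have hTv : DCoh.VanishesOutside T i i := fun j hj =>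
    HomologicalComplex.isZero_single_obj_X (ComplexShape.up ℤ) i V j (by omega)
  have eTX : T.X i ≅ V := HomologicalComplex.singleObjXSelf (ComplexShape.up ℤ) i V
  have hVf : FlatMod.IsFinLocFree V := Groth.Agent.Lib.helper16.FLF.isFinLocFree_of_isFinLocFreeOfRank hV
  have hTf : FlatMod.IsFinLocFree (T.X i) := Groth.Agent.Lib.helper16.FLF.isFinLocFree_of_iso eTX.symm hVf
  have hTS : DCoh.IsStrictlyPerfect T := isStrictlyPerfect_of_vanishesOutside_single hTv hTf
  obtain ⟨e3⟩ := nonempty_Lpull_iso iy T (P₀_of_isStrictlyPerfect T hTS)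
  have eT : (DCoh.inD Y V)⟦-i⟧ ≅ DCoh.toD Y T :=
    ((DerivedCategory.singleFunctors Y.Modules).shiftIso (-i) i 0 (by omega)).app V
  set K := (EulerLocConst.pullCx iy).obj T with hK
  have eL : (DCoh.Lpull (iy ≫ f)).obj E ≅ Q.obj K :=
    (c.app E).symm ≪≫ (DCoh.Lpull iy).mapIso (e ≪≫ eT) ≪≫ e3
  have hKv : DCoh.VanishesOutside K i i := fun j hj =>
    (Scheme.Modules.pullback iy).map_isZero (hTv j hj)
  have eH : ∀ j : ℤ, DCoh.HD ((DCoh.Lpull (iy ≫ f)).obj E) j ≅ K.homology j := fun j =>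
    (homologyFunctor _ j).mapIso eL ≪≫ (homologyFunctorFactors _ j).app K
  refine ⟨fun j hj => ?_, ?_⟩
  · exact hadd.zero _ ((isZero_homology_of_vanishesOutside_single hKv j hj).of_iso (eH j))
  · have e4 : DCoh.HD ((DCoh.Lpull (iy ≫ f)).obj E) i ≅ (Scheme.Modules.pullback iy).obj V :=
      eH i ≪≫ homologyIsoOfVanishesOutside hKv ≪≫ (Scheme.Modules.pullback iy).mapIso eTX
    obtain ⟨z₀⟩ := (inferInstance : Nonempty (Zy y))
    obtain ⟨U, hxU, ⟨iso⟩⟩ := hV (iy z₀)
    obtain ⟨iso'⟩ := nonempty_pullback_restrict_iso iy V U r iso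
    have hfin := (finrank_of_restrict_iso hK₀ z₀ _ _ (show z₀ ∈ iy ⁻¹ᵁ U from hxU) r iso').2
    have h2 : φ (Zy y) ((Scheme.Modules.pullback iy).obj V) = (r : ℤ) := by
      have : ((Module.finrank (Coh.Γtop (Zy y))
        (((Scheme.Modules.pullback iy).obj V).val.obj (op ⊤)) : ℕ) : ℤ) = r := by
        rw [hfin]
      exact this
    exact (hadd.iso e4).trans h2

end fibre

end Groth.Agent.Lib.helper13.LST
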