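import Mathlib

/-!
# Lie3A (helper13): normal-form independence lemma for the second component of the moduli
of based three-dimensional Lie algebras.

`R0 = A[f,h,i,s,u,v]` (variables `X 0 .. X 5`), `p1 = h u + i v`, `p2 = s v - f v - h s`,
`p3 = f u + i s`.  The lemma `n2poly` says that a "good" family `z a b c` with
`∑ z a b c p1^a s^(N-a) p2^b u^(N-b) p3^c v^(N-c) = 0` vanishes.
-/

set_option autoImplicit false
universe u

namespace Groth.Agent.Lib.helper13.Lie3A

open MvPolynomial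

/-- one-variable "principal part" lemma in cleared-denominator form -/
theorem gl1 {R : Type*} [CommRing R] (t P : R) (ε : R →+* R) (ht : ε t = 0)
    (htreg : ∀ z, t * z = 0 → z = 0) (hP : ∀ z, ε P * z = 0 → z = 0)
    (m : ℕ) (y : ℕ → R) (hy : ∀ k, 1 ≤ k → k ≤ m → ε (y k) = 0 → y k = 0)
    (h : ∑ k ∈ Finset.range (m + 1), y k * P ^ k * t ^ (m - k) = 0) : ∀ k ≤ m, y k = 0 := by
  have hPn : ∀ (n : ℕ) (z : R), ε P ^ n * z = 0 → z = 0 := by
    intro n
    induction n with
    | zero => intro z hz; simpa using hz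
    | succ n ih =>
      intro z hz
      apply ih
      apply hP
      rw [← mul_assoc, ← pow_succ']
      exact hz
  induction m with
  | zero =>
    intro k hk
    obtain rfl : k = 0 := by omega
    simpa using h
  | succ m ih =>
    have h1 : ε (y (m + 1)) * ε P ^ (m + 1) = 0 := by
      have := congrArg ε h
      rw [map_sum, Finset.sum_range_succ, map_zero] at this
      rw [Finset.sum_eq_zero] at this
      · simpa using this
      · intro k hk
        rw [Finset.mem_range] at hk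
        rw [map_mul, map_mul, map_pow, map_pow, ht, zero_pow (by omega), mul_zero]
    have h2 : y (m + 1) = 0 := by
      apply hy (m + 1) (by omega) le_rfl
      apply hPn (m + 1)
      rw [mul_comm]; exact h1
    have h3 : ∑ k ∈ Finset.range (m + 1), y k * P ^ k * t ^ (m - k) = 0 := by
      apply htreg
      rw [Finset.sum_range_succ, h2] at h
      simp only [zero_mul, add_zero] at h
      rw [Finset.mul_sum, ← h]
      apply Finset.sum_congr rfl
      intro k hk
      rw [Finset.mem_range] at hk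
      have : m + 1 - k = (m - k) + 1 := by omega
      rw [this, pow_succ]; ring
    intro k hk
    rcases Nat.lt_or_ge k (m + 1) with hlt | hge
    · exact ih (fun k h1 h2 => hy k h1 (by omega)) h3 k (by omega)
    · obtain rfl : k = m + 1 := by omega
      exact h2

variable (A : Type u) [CommRing A]

/-- `A[f,h,i,s,u,v]`, variables `X 0, …, X 5` in this order. -/
abbrev R0 : Type u := MvPolynomial (Fin 6) A

/-- `p1 = h u + i v` -/
noncomputable def p1 : R0 A := X 1 * X 4 + X 2 * X 5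
/-- `p2 = s v - f v - h s` -/
noncomputable def p2 : R0 A := X 3 * X 5 - X 0 * X 5 - X 1 * X 3
/-- `p3 = f u + i s` -/
noncomputable def p3 : R0 A := X 0 * X 4 + X 2 * X 3

/-- evaluate the variable `t` at `0`. -/
noncomputable def ev (t : Fin 6) : R0 A →ₐ[A] R0 A :=
  aeval (fun k => if k = t then 0 else X k)

variable {A}

@[simp] theorem ev_X_self (t : Fin 6) : ev A t (X t) = 0 := by simp [ev]

theorem ev_X_ne {t k : Fin 6} (h : k ≠ t) : ev A t (X k) = X k := by simp [ev, h]

theorem ev_X (t k : Fin 6) : ev A t (X k) = if k = t then 0 else X k := by simp [ev]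

theorem ev_ev_self (t : Fin 6) (ρ : R0 A) : ev A t (ev A t ρ) = ev A t ρ := by
  have : (ev A t).comp (ev A t) = ev A t := by
    apply MvPolynomial.algHom_ext
    intro k
    simp only [AlgHom.comp_apply, ev_X]
    split_ifs with h
    · simp
    · rw [ev_X, if_neg h]
  exact congrArg (fun f => f ρ) this

theorem ev_comm (t t' : Fin 6) (ρ : R0 A) : ev A t (ev A t' ρ) = ev A t' (ev A t ρ) := by
  have : (ev A t).comp (ev A t') = (ev A t').comp (ev A t) := by
    apply MvPolynomial.algHom_ext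
    intro k
    simp only [AlgHom.comp_apply]
    by_cases h1 : k = t <;> by_cases h2 : k = t'
    · subst h1; subst h2; rfl
    · subst h1; rw [ev_X_ne h2, ev_X_self, map_zero]
    · subst h2; rw [ev_X_ne h1, ev_X_self, map_zero]
    · rw [ev_X_ne h2, ev_X_ne h1, ev_X_ne h2]
  exact congrArg (fun f => f ρ) this

theorem exists_eq_ev_add (t : Fin 6) (ρ : R0 A) : ∃ q, ρ = ev A t ρ + X t * q := by
  induction ρ using MvPolynomial.induction_on with
  | C a => exact ⟨0, by simp [ev]⟩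
  | add p q hp hq =>
    obtain ⟨a, ha⟩ := hp
    obtain ⟨b, hb⟩ := hq
    refine ⟨a + b, ?_⟩
    rw [map_add]
    linear_combination ha + hb
  | mul_X p k hp =>
    obtain ⟨a, ha⟩ := hp
    by_cases h : k = t
    · subst h
      refine ⟨p, ?_⟩
      rw [map_mul, ev_X_self, mul_zero, zero_add, mul_comm]
    · refine ⟨a * X k, ?_⟩
      rw [map_mul, ev_X_ne h]
      linear_combination (X k) * ha

@[simp] theorem ev3_p1 : ev A 3 (p1 A) = p1 A := by
  simp [p1, ev_X]
@[simp] theorem ev3_p2 : ev A 3 (p2 A) = -(X 0 * X 5) := by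
  simp [p2, ev_X]
@[simp] theorem ev3_p3 : ev A 3 (p3 A) = X 0 * X 4 := by
  simp [p3, ev_X]
@[simp] theorem ev4_p2 : ev A 4 (p2 A) = p2 A := by
  simp [p2, ev_X]
@[simp] theorem ev4_p3 : ev A 4 (p3 A) = X 2 * X 3 := by
  simp [p3, ev_X]
@[simp] theorem ev5_p3 : ev A 5 (p3 A) = p3 A := by
  simp [p3, ev_X]

section n2
variable [IsDomain A]

theorem p1_ne_zero : p1 A ≠ 0 := by
  intro h
  have := congrArg (MvPolynomial.eval (fun k : Fin 6 => if k = 1 ∨ k = 4 then (1 : A) else 0)) h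
  simp [p1] at this

theorem p2_ne_zero : p2 A ≠ 0 := by
  intro h
  have := congrArg (MvPolynomial.eval (fun k : Fin 6 => if k = 3 ∨ k = 5 then (1 : A) else 0)) h
  simp [p2] at this

theorem p3_ne_zero : p3 A ≠ 0 := by
  intro h
  have := congrArg (MvPolynomial.eval (fun k : Fin 6 => if k = 0 ∨ k = 4 then (1 : A) else 0)) h
  simp [p3] at this

omit [IsDomain A] in
theorem ev_X5_3 : ev A 3 (X 5) = X 5 := ev_X_ne (by decide)
omit [IsDomain A] in
theorem ev_X4_3 : ev A 3 (X 4) = X 4 := ev_X_ne (by decide)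
omit [IsDomain A] in
theorem ev_X5_4 : ev A 4 (X 5) = X 5 := ev_X_ne (by decide)

/-- goodness of a family of coefficients -/
def Good (z : ℕ → ℕ → ℕ → R0 A) : Prop := ∀ a b c,
  (0 < a → 0 < b → 0 < c → z a b c = 0) ∧ (0 < a → ev A 3 (z a b c) = z a b c) ∧
  (0 < b → ev A 4 (z a b c) = z a b c) ∧ (0 < c → ev A 5 (z a b c) = z a b c)

noncomputable def Wsum (N : ℕ) (z : ℕ → ℕ → ℕ → R0 A) (a b : ℕ) : R0 A :=
  ∑ c ∈ Finset.range (N + 1), z a b c * p3 A ^ c * X 5 ^ (N - c)
noncomputable def Ysum (N : ℕ) (z : ℕ → ℕ → ℕ → R0 A) (a : ℕ) : R0 A :=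
  ∑ b ∈ Finset.range (N + 1), Wsum N z a b * p2 A ^ b * X 4 ^ (N - b)
noncomputable def Tot (N : ℕ) (z : ℕ → ℕ → ℕ → R0 A) : R0 A :=
  ∑ a ∈ Finset.range (N + 1), Ysum N z a * p1 A ^ a * X 3 ^ (N - a)

theorem reg_of_ne {x : R0 A} (hx : x ≠ 0) : ∀ z, x * z = 0 → z = 0 :=
  fun z hz => (mul_eq_zero.mp hz).resolve_left hx

/-- one-variable step in `v` -/
theorem stepV (N : ℕ) (P : R0 A) (hP : ev A 5 P ≠ 0) (y : ℕ → R0 A)
    (hy : ∀ c, 0 < c → ev A 5 (y c) = y c)
    (h : ∑ c ∈ Finset.range (N + 1), y c * P ^ c * X 5 ^ (N - c) = 0) : ∀ c ≤ N, y c = 0 := by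
  refine gl1 (X 5) P (ev A 5).toRingHom (ev_X_self 5) (reg_of_ne (X_ne_zero 5)) (reg_of_ne hP) N y
    ?_ h
  intro k hk _ h0
  have := hy k hk
  rw [← this]; exact h0

theorem stepA (N : ℕ) (z : ℕ → ℕ → ℕ → R0 A) (hz : Good z) (a : ℕ) (ha : 0 < a)
    (h : ev A 3 (Ysum N z a) = 0) : ∀ b ≤ N, ∀ c ≤ N, z a b c = 0 := by
  set y : ℕ → R0 A := fun b => ∑ c ∈ Finset.range (N + 1), z a b c * (X 0 * X 4) ^ c * X 5 ^ (N - c)
    with hy
  have h1 : ∑ b ∈ Finset.range (N + 1), y b * (-(X 0 * X 5)) ^ b * X 4 ^ (N - b) = 0 := by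
    rw [← h, Ysum, map_sum]
    apply Finset.sum_congr rfl
    intro b _
    rw [map_mul, map_mul, map_pow, map_pow, ev3_p2, ev_X4_3, Wsum, map_sum]
    congr 2
    apply Finset.sum_congr rfl
    intro c _
    rw [map_mul, map_mul, map_pow, map_pow, ev3_p3, ev_X5_3, (hz a b c).2.1 ha]
  have hyb : ∀ b, 0 < b → y b = z a b 0 * X 5 ^ N := by
    intro b hb
    rw [hy]
    simp only
    rw [Finset.sum_eq_single 0]
    · simp
    · intro c _ hc
      rw [(hz a b c).1 ha hb (Nat.pos_of_ne_zero hc)]; simp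
    · intro h0; simp at h0
  have h2 : ∀ b ≤ N, y b = 0 := by
    refine gl1 (X 4) (-(X 0 * X 5)) (ev A 4).toRingHom (ev_X_self 4) (reg_of_ne (X_ne_zero 4))
      (reg_of_ne ?_) N y ?_ h1
    · show ev A 4 (-(X 0 * X 5)) ≠ 0
      rw [map_neg, map_mul, ev_X_ne (by decide), ev_X_ne (by decide)]
      exact neg_ne_zero.mpr (mul_ne_zero (X_ne_zero 0) (X_ne_zero 5))
    · intro k hk _ h0
      have hk' : 0 < k := hk
      have e : (ev A 4).toRingHom (y k) = y k := by
        rw [hyb k hk']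
        show ev A 4 (z a k 0 * X 5 ^ N) = _
        rw [map_mul, map_pow, ev_X5_4, (hz a k 0).2.2.1 hk']
      rw [← e]; exact h0
  intro b hb c hc
  rcases Nat.eq_zero_or_pos b with rfl | hbpos
  · have := h2 0 (Nat.zero_le _)
    exact stepV N (X 0 * X 4)
      (by rw [map_mul, ev_X_ne (by decide), ev_X_ne (by decide)]
          exact mul_ne_zero (X_ne_zero 0) (X_ne_zero 4))
      (fun c => z a 0 c) (fun c hc => (hz a 0 c).2.2.2 hc) this c hc
  · rcases Nat.eq_zero_or_pos c with rfl | hcpos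
    · have := h2 b hb
      rw [hyb b hbpos] at this
      exact (mul_eq_zero.mp this).resolve_right (pow_ne_zero _ (X_ne_zero 5))
    · exact (hz a b c).1 ha hbpos hcpos

theorem stepB1 (N : ℕ) (z : ℕ → ℕ → ℕ → R0 A) (hz : Good z) (b : ℕ) (hb : 0 < b)
    (h : ev A 4 (Wsum N z 0 b) = 0) : ∀ c ≤ N, z 0 b c = 0 := by
  have h1 : ∑ c ∈ Finset.range (N + 1), z 0 b c * (X 2 * X 3) ^ c * X 5 ^ (N - c) = 0 := by
    rw [← h, Wsum, map_sum]
    apply Finset.sum_congr rfl
    intro c _
    rw [map_mul, map_mul, map_pow, map_pow, ev4_p3, ev_X5_4, (hz 0 b c).2.2.1 hb]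
  exact stepV N (X 2 * X 3)
    (by rw [map_mul, ev_X_ne (by decide), ev_X_ne (by decide)]
        exact mul_ne_zero (X_ne_zero 2) (X_ne_zero 3))
    (fun c => z 0 b c) (fun c hc => (hz 0 b c).2.2.2 hc) h1

theorem stepB (N : ℕ) (z : ℕ → ℕ → ℕ → R0 A) (hz : Good z)
    (h : Ysum N z 0 = 0) : ∀ b ≤ N, ∀ c ≤ N, z 0 b c = 0 := by
  have h2 : ∀ b ≤ N, Wsum N z 0 b = 0 := by
    refine gl1 (X 4) (p2 A) (ev A 4).toRingHom (ev_X_self 4) (reg_of_ne (X_ne_zero 4))
      (reg_of_ne ?_) N (fun b => Wsum N z 0 b) ?_ h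
    · show ev A 4 (p2 A) ≠ 0
      rw [ev4_p2]; exact p2_ne_zero
    · intro k hk _ h0
      have := stepB1 N z hz k hk h0
      show Wsum N z 0 k = 0
      rw [Wsum]
      apply Finset.sum_eq_zero
      intro c hc
      rw [this c (by rw [Finset.mem_range] at hc; omega)]; simp
  intro b hb c hc
  rcases Nat.eq_zero_or_pos b with rfl | hbpos
  · have := h2 0 (Nat.zero_le _)
    exact stepV N (p3 A) (by rw [ev5_p3]; exact p3_ne_zero) (fun c => z 0 0 c)
      (fun c hc => (hz 0 0 c).2.2.2 hc) this c hc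
  · have := h2 b hb
    exact stepB1 N z hz b hbpos (by rw [this, map_zero]) c hc

/-- the independence lemma -/
theorem n2poly (N : ℕ) (z : ℕ → ℕ → ℕ → R0 A) (hz : Good z) (h : Tot N z = 0) :
    ∀ a ≤ N, ∀ b ≤ N, ∀ c ≤ N, z a b c = 0 := by
  have h2 : ∀ a ≤ N, Ysum N z a = 0 := by
    refine gl1 (X 3) (p1 A) (ev A 3).toRingHom (ev_X_self 3) (reg_of_ne (X_ne_zero 3))
      (reg_of_ne ?_) N (fun a => Ysum N z a) ?_ h
    · show ev A 3 (p1 A) ≠ 0
      rw [ev3_p1]; exact p1_ne_zero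
    · intro k hk _ h0
      have := stepA N z hz k hk h0
      show Ysum N z k = 0
      rw [Ysum]
      apply Finset.sum_eq_zero
      intro b hb
      rw [Finset.mem_range] at hb
      have hW : Wsum N z k b = 0 := by
        rw [Wsum]
        apply Finset.sum_eq_zero
        intro c hc
        rw [Finset.mem_range] at hc
        rw [this b (by omega) c (by omega)]; simp
      rw [hW]; simp
  intro a ha b hb c hc
  rcases Nat.eq_zero_or_pos a with rfl | hapos
  · exact stepB N z hz (h2 0 (Nat.zero_le _)) b hb c hc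
  · exact stepA N z hz a hapos (by rw [h2 a ha, map_zero]) b hb c hc

end n2

end Groth.Agent.Lib.helper13.Lie3A
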