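import Mathlib
import Groth.Prelude.Def_W4c1bouilletffgsL3
import Groth.Agent.Lib.Helper13.Lie3A

/-!
# Lie3B (helper13): the ideal `J = (Q1,Q2,Q3,detM)` of `A[a..i]` is the kernel of an explicit
ring map to the fraction field of `A[f,h,i,s,u,v]` (for a domain `A`); hence `J` is prime.
-/

set_option autoImplicit false
universe u

namespace Groth.Agent.Lib.helper13.Lie3B

open MvPolynomial Lie3Mod Groth.Agent.Lib.helper13.Lie3A

variable (A : Type u) [CommRing A]

/-- `f,h,i,s,u,v ↦ f, h, i, b+f, a-i, d+h`. -/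
noncomputable def iota0 : R0 A →ₐ[A] D A :=
  aeval ![(X 5 : D A), X 7, X 8, X 1 + X 5, X 0 - X 8, X 3 + X 7]

/-- the term `ρ g^a e^b c^c`. -/
noncomputable def T (a b c : ℕ) (ρ : R0 A) : D A := iota0 A ρ * X 6 ^ a * X 4 ^ b * X 2 ^ c

variable {A}

@[simp] theorem iota0_X0 : iota0 A (X 0) = X 5 := by simp [iota0]
@[simp] theorem iota0_X1 : iota0 A (X 1) = X 7 := by simp [iota0]
@[simp] theorem iota0_X2 : iota0 A (X 2) = X 8 := by simp [iota0]
@[simp] theorem iota0_X3 : iota0 A (X 3) = X 1 + X 5 := by simp [iota0]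
@[simp] theorem iota0_X4 : iota0 A (X 4) = X 0 - X 8 := by simp [iota0]
@[simp] theorem iota0_X5 : iota0 A (X 5) = X 3 + X 7 := by simp [iota0]

theorem T_add (a b c : ℕ) (ρ ρ' : R0 A) : T A a b c (ρ + ρ') = T A a b c ρ + T A a b c ρ' := by
  simp only [T, map_add]; ring

theorem T_zero (a b c : ℕ) : T A a b c 0 = 0 := by simp [T]

theorem T_neg (a b c : ℕ) (ρ : R0 A) : T A a b c (-ρ) = -T A a b c ρ := by
  simp only [T, map_neg]; ring

theorem T_sub (a b c : ℕ) (ρ ρ' : R0 A) : T A a b c (ρ - ρ') = T A a b c ρ - T A a b c ρ' := by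
  simp only [T, map_sub]; ring

theorem Q1_mem : Q1 A ∈ idJ A := Ideal.subset_span (by simp)
theorem Q2_mem : Q2 A ∈ idJ A := Ideal.subset_span (by simp)
theorem Q3_mem : Q3 A ∈ idJ A := Ideal.subset_span (by simp)
theorem detM_mem : detM A ∈ idJ A := Ideal.subset_span (by simp)

theorem Ls (a b c : ℕ) (q : R0 A) :
    T A (a + 1) b c (X 3 * q) - T A a b c (q * p1 A) ∈ idJ A := by
  have : T A (a + 1) b c (X 3 * q) - T A a b c (q * p1 A) =
      -(iota0 A q * X 6 ^ a * X 4 ^ b * X 2 ^ c) * Q1 A := by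
    simp only [T, map_mul, p1, map_add, iota0_X3, iota0_X1, iota0_X4, iota0_X2, iota0_X5, Q1]
    ring
  rw [this]
  exact Ideal.mul_mem_left _ _ Q1_mem

theorem Lu (a b c : ℕ) (q : R0 A) :
    T A a (b + 1) c (X 4 * q) - T A a b c (q * p2 A) ∈ idJ A := by
  have : T A a (b + 1) c (X 4 * q) - T A a b c (q * p2 A) =
      -(iota0 A q * X 6 ^ a * X 4 ^ b * X 2 ^ c) * Q2 A := by
    simp only [T, map_mul, p2, map_sub, iota0_X3, iota0_X1, iota0_X4, iota0_X0, iota0_X5, Q2]
    ring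
  rw [this]
  exact Ideal.mul_mem_left _ _ Q2_mem

theorem Lv (a b c : ℕ) (q : R0 A) :
    T A a b (c + 1) (X 5 * q) - T A a b c (q * p3 A) ∈ idJ A := by
  have : T A a b (c + 1) (X 5 * q) - T A a b c (q * p3 A) =
      (iota0 A q * X 6 ^ a * X 4 ^ b * X 2 ^ c) * Q3 A := by
    simp only [T, map_mul, p3, map_add, iota0_X3, iota0_X2, iota0_X4, iota0_X0, iota0_X5, Q3]
    ring
  rw [this]
  exact Ideal.mul_mem_left _ _ Q3_mem

theorem LM (a b c : ℕ) (ρ : R0 A) :
    T A (a + 1) (b + 1) (c + 1) ρ - (-T A a b (c + 1) (ρ * X 1 ^ 2)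
      + T A (a + 1) b c (ρ * ((X 3 - X 0) * X 0)) + T A a (b + 1) c (ρ * X 2 ^ 2)
      + T A a b c (ρ * (X 1 * (X 3 - X 0) * X 2 - X 2 * X 1 * X 0))) ∈ idJ A := by
  have : T A (a + 1) (b + 1) (c + 1) ρ - (-T A a b (c + 1) (ρ * X 1 ^ 2)
      + T A (a + 1) b c (ρ * ((X 3 - X 0) * X 0)) + T A a (b + 1) c (ρ * X 2 ^ 2)
      + T A a b c (ρ * (X 1 * (X 3 - X 0) * X 2 - X 2 * X 1 * X 0))) =
      -(iota0 A ρ * X 6 ^ a * X 4 ^ b * X 2 ^ c) * detM A := by
    simp only [T, map_mul, map_sub, map_pow, iota0_X3, iota0_X2, iota0_X1, iota0_X0, detM]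
    ring
  rw [this]
  exact Ideal.mul_mem_left _ _ detM_mem

section dom
variable [IsDomain A]

/-- the sum over a box of terms -/
noncomputable def boxsum (N : ℕ) (z : ℕ → ℕ → ℕ → R0 A) : D A :=
  ∑ a ∈ Finset.range (N + 1), ∑ b ∈ Finset.range (N + 1), ∑ c ∈ Finset.range (N + 1),
    T A a b c (z a b c)

/-- `z` vanishes outside the box `[0,N]^3`. -/
def InBox (N : ℕ) (z : ℕ → ℕ → ℕ → R0 A) : Prop :=
  ∀ a b c, (N < a ∨ N < b ∨ N < c) → z a b c = 0

omit [IsDomain A] in
theorem boxsum_mono {N N' : ℕ} (h : N ≤ N') (z : ℕ → ℕ → ℕ → R0 A) (hz : InBox N z) :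
    boxsum N' z = boxsum N z := by
  have hsub : Finset.range (N + 1) ⊆ Finset.range (N' + 1) := Finset.range_mono (by omega)
  unfold boxsum
  rw [← Finset.sum_subset hsub]
  · apply Finset.sum_congr rfl
    intro a _
    rw [← Finset.sum_subset hsub]
    · apply Finset.sum_congr rfl
      intro b _
      rw [← Finset.sum_subset hsub]
      intro c _ hc
      rw [Finset.mem_range] at hc
      rw [hz a b c (Or.inr (Or.inr (by omega))), T_zero]
    · intro b _ hb
      rw [Finset.mem_range] at hb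
      apply Finset.sum_eq_zero
      intro c _
      rw [hz a b c (Or.inr (Or.inl (by omega))), T_zero]
  · intro a _ ha
    rw [Finset.mem_range] at ha
    apply Finset.sum_eq_zero
    intro b _
    apply Finset.sum_eq_zero
    intro c _
    rw [hz a b c (Or.inl (by omega)), T_zero]

omit [IsDomain A] in
theorem boxsum_add (N : ℕ) (z z' : ℕ → ℕ → ℕ → R0 A) :
    boxsum N (fun a b c => z a b c + z' a b c) = boxsum N z + boxsum N z' := by
  unfold boxsum
  simp only [T_add, Finset.sum_add_distrib]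

omit [IsDomain A] in
theorem boxsum_neg (N : ℕ) (z : ℕ → ℕ → ℕ → R0 A) :
    boxsum N (fun a b c => -z a b c) = -boxsum N z := by
  unfold boxsum
  simp only [T_neg, Finset.sum_neg_distrib]

/-- the normal forms -/
def NFset : Set (D A) := {y | ∃ (N : ℕ) (z : ℕ → ℕ → ℕ → R0 A), Good z ∧ InBox N z ∧ y = boxsum N z}

theorem Good_add {z z' : ℕ → ℕ → ℕ → R0 A} (h : Good z) (h' : Good z') :
    Good (fun a b c => z a b c + z' a b c) := by
  intro a b c
  refine ⟨fun h1 h2 h3 => ?_, fun h1 => ?_, fun h1 => ?_, fun h1 => ?_⟩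
  · beta_reduce; rw [(h a b c).1 h1 h2 h3, (h' a b c).1 h1 h2 h3, add_zero]
  · beta_reduce; rw [map_add, (h a b c).2.1 h1, (h' a b c).2.1 h1]
  · beta_reduce; rw [map_add, (h a b c).2.2.1 h1, (h' a b c).2.2.1 h1]
  · beta_reduce; rw [map_add, (h a b c).2.2.2 h1, (h' a b c).2.2.2 h1]

theorem Good_neg {z : ℕ → ℕ → ℕ → R0 A} (h : Good z) : Good (fun a b c => -z a b c) := by
  intro a b c
  refine ⟨fun h1 h2 h3 => ?_, fun h1 => ?_, fun h1 => ?_, fun h1 => ?_⟩
  · beta_reduce; rw [(h a b c).1 h1 h2 h3, neg_zero]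
  · beta_reduce; rw [map_neg, (h a b c).2.1 h1]
  · beta_reduce; rw [map_neg, (h a b c).2.2.1 h1]
  · beta_reduce; rw [map_neg, (h a b c).2.2.2 h1]

/-- the additive subgroup of normal forms -/
noncomputable def NF : AddSubgroup (D A) where
  carrier := NFset
  zero_mem' := by
    refine ⟨0, fun _ _ _ => 0, ?_, fun _ _ _ _ => rfl, ?_⟩
    · intro a b c; simp
    · simp [boxsum, T_zero]
  add_mem' := by
    rintro x y ⟨N, z, hz, hb, rfl⟩ ⟨N', z', hz', hb', rfl⟩
    refine ⟨max N N', fun a b c => z a b c + z' a b c, Good_add hz hz', ?_, ?_⟩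
    · intro a b c h
      beta_reduce
      rw [hb a b c (by omega), hb' a b c (by omega), add_zero]
    · rw [boxsum_add, boxsum_mono (le_max_left N N') z hb, boxsum_mono (le_max_right N N') z' hb']
  neg_mem' := by
    rintro x ⟨N, z, hz, hb, rfl⟩
    refine ⟨N, fun a b c => -z a b c, Good_neg hz, ?_, ?_⟩
    · intro a b c h; beta_reduce; rw [hb a b c h, neg_zero]
    · rw [boxsum_neg]

theorem T_mem_NF (a b c : ℕ) (ρ : R0 A) (h0 : ¬(0 < a ∧ 0 < b ∧ 0 < c))
    (h3 : 0 < a → ev A 3 ρ = ρ) (h4 : 0 < b → ev A 4 ρ = ρ) (h5 : 0 < c → ev A 5 ρ = ρ) :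
    T A a b c ρ ∈ NF (A := A) := by
  refine ⟨a + b + c, fun a' b' c' => if a' = a ∧ b' = b ∧ c' = c then ρ else 0, ?_, ?_, ?_⟩
  · intro a' b' c'
    by_cases h : a' = a ∧ b' = b ∧ c' = c
    · obtain ⟨rfl, rfl, rfl⟩ := h
      simp only [and_self, if_true]
      exact ⟨fun h1 h2 h3 => absurd ⟨h1, h2, h3⟩ h0, h3, h4, h5⟩
    · simp [h]
  · intro a' b' c' h
    beta_reduce
    rw [if_neg]
    rintro ⟨rfl, rfl, rfl⟩
    omega
  · unfold boxsum
    rw [Finset.sum_eq_single a]
    · rw [Finset.sum_eq_single b]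
      · rw [Finset.sum_eq_single c]
        · simp
        · intro c' _ hc; beta_reduce; rw [if_neg (fun h => hc h.2.2), T_zero]
        · intro h; exact absurd (Finset.mem_range.mpr (by omega)) h
      · intro b' _ hb
        apply Finset.sum_eq_zero
        intro c' _
        beta_reduce
        rw [if_neg (fun h => hb h.2.1), T_zero]
      · intro h; exact absurd (Finset.mem_range.mpr (by omega)) h
    · intro a' _ ha
      apply Finset.sum_eq_zero
      intro b' _
      apply Finset.sum_eq_zero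
      intro c' _
      beta_reduce
      rw [if_neg (fun h => ha h.1), T_zero]
    · intro h; exact absurd (Finset.mem_range.mpr (by omega)) h

/-- normal forms plus `J` -/
noncomputable def NFJ : AddSubgroup (D A) := NF (A := A) ⊔ (idJ A).toAddSubgroup

theorem J_le_NFJ {x : D A} (hx : x ∈ idJ A) : x ∈ NFJ (A := A) :=
  (le_sup_right : (idJ A).toAddSubgroup ≤ NFJ) hx

theorem NF_le_NFJ {x : D A} (hx : x ∈ NF (A := A)) : x ∈ NFJ (A := A) :=
  (le_sup_left : NF (A := A) ≤ NFJ) hx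

theorem mem_NFJ_of_sub {x y : D A} (h : x - y ∈ idJ A) (hy : y ∈ NFJ (A := A)) :
    x ∈ NFJ (A := A) := by
  have : x = y + (x - y) := by ring
  rw [this]
  exact add_mem hy (J_le_NFJ h)

theorem T_mem_NFJ : ∀ (n a b c : ℕ) (ρ : R0 A), a + b + c ≤ n → T A a b c ρ ∈ NFJ (A := A) := by
  intro n
  induction n with
  | zero =>
    intro a b c ρ h
    obtain ⟨rfl, rfl, rfl⟩ : a = 0 ∧ b = 0 ∧ c = 0 := by omega
    exact NF_le_NFJ (T_mem_NF 0 0 0 ρ (by simp) (by simp) (by simp) (by simp))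
  | succ n ih =>
    intro a b c ρ h
    rcases Nat.lt_or_ge (a + b + c) (n + 1) with hlt | hge
    · exact ih a b c ρ (by omega)
    have hsum : a + b + c = n + 1 := by omega
    by_cases hpos : 0 < a ∧ 0 < b ∧ 0 < c
    · obtain ⟨a', rfl⟩ : ∃ a', a = a' + 1 := ⟨a - 1, by omega⟩
      obtain ⟨b', rfl⟩ : ∃ b', b = b' + 1 := ⟨b - 1, by omega⟩
      obtain ⟨c', rfl⟩ : ∃ c', c = c' + 1 := ⟨c - 1, by omega⟩
      refine mem_NFJ_of_sub (LM a' b' c' ρ) ?_
      refine add_mem (add_mem (add_mem (neg_mem ?_) ?_) ?_) ?_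
      · exact ih _ _ _ _ (by omega)
      · exact ih _ _ _ _ (by omega)
      · exact ih _ _ _ _ (by omega)
      · exact ih _ _ _ _ (by omega)
    · -- reduce the coefficient
      have redS : ∀ ρ' : R0 A, 0 < a → T A a b c (ev A 3 ρ') ∈ NFJ (A := A) →
          T A a b c ρ' ∈ NFJ (A := A) := by
        intro ρ' ha h1
        obtain ⟨a', rfl⟩ : ∃ a', a = a' + 1 := ⟨a - 1, by omega⟩
        obtain ⟨q, hq⟩ := exists_eq_ev_add 3 ρ'
        have e : T A (a' + 1) b c ρ' = T A (a' + 1) b c (ev A 3 ρ') + T A (a' + 1) b c (X 3 * q) := by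
          rw [← T_add, ← hq]
        rw [e]
        exact add_mem h1 (mem_NFJ_of_sub (Ls a' b c q) (ih _ _ _ _ (by omega)))
      have redU : ∀ ρ' : R0 A, 0 < b → T A a b c (ev A 4 ρ') ∈ NFJ (A := A) →
          T A a b c ρ' ∈ NFJ (A := A) := by
        intro ρ' hb h1
        obtain ⟨b', rfl⟩ : ∃ b', b = b' + 1 := ⟨b - 1, by omega⟩
        obtain ⟨q, hq⟩ := exists_eq_ev_add 4 ρ'
        have e : T A a (b' + 1) c ρ' = T A a (b' + 1) c (ev A 4 ρ') + T A a (b' + 1) c (X 4 * q) := by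
          rw [← T_add, ← hq]
        rw [e]
        exact add_mem h1 (mem_NFJ_of_sub (Lu a b' c q) (ih _ _ _ _ (by omega)))
      have redV : ∀ ρ' : R0 A, 0 < c → T A a b c (ev A 5 ρ') ∈ NFJ (A := A) →
          T A a b c ρ' ∈ NFJ (A := A) := by
        intro ρ' hc h1
        obtain ⟨c', rfl⟩ : ∃ c', c = c' + 1 := ⟨c - 1, by omega⟩
        obtain ⟨q, hq⟩ := exists_eq_ev_add 5 ρ'
        have e : T A a b (c' + 1) ρ' = T A a b (c' + 1) (ev A 5 ρ') + T A a b (c' + 1) (X 5 * q) := by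
          rw [← T_add, ← hq]
        rw [e]
        exact add_mem h1 (mem_NFJ_of_sub (Lv a b c' q) (ih _ _ _ _ (by omega)))
      set ρ₁ : R0 A := if 0 < a then ev A 3 ρ else ρ with hρ₁
      set ρ₂ : R0 A := if 0 < b then ev A 4 ρ₁ else ρ₁ with hρ₂
      set ρ₃ : R0 A := if 0 < c then ev A 5 ρ₂ else ρ₂ with hρ₃
      have g3 : T A a b c ρ₃ ∈ NFJ (A := A) := by
        apply NF_le_NFJ
        apply T_mem_NF a b c ρ₃ hpos
        · intro ha
          simp only [hρ₃, hρ₂, hρ₁, if_pos ha]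
          split_ifs <;> simp only [ev_comm 3 5, ev_comm 3 4, ev_ev_self]
        · intro hb
          simp only [hρ₃, hρ₂, hρ₁, if_pos hb]
          split_ifs <;> simp only [ev_comm 4 5, ev_ev_self]
        · intro hc
          simp only [hρ₃, if_pos hc, ev_ev_self]
      have g2 : T A a b c ρ₂ ∈ NFJ (A := A) := by
        by_cases hc : 0 < c
        · apply redV ρ₂ hc
          have : ρ₃ = ev A 5 ρ₂ := by simp only [hρ₃, if_pos hc]
          rw [← this]; exact g3
        · have : ρ₃ = ρ₂ := by simp only [hρ₃, if_neg hc]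
          rw [← this]; exact g3
      have g1 : T A a b c ρ₁ ∈ NFJ (A := A) := by
        by_cases hb : 0 < b
        · apply redU ρ₁ hb
          have : ρ₂ = ev A 4 ρ₁ := by simp only [hρ₂, if_pos hb]
          rw [← this]; exact g2
        · have : ρ₂ = ρ₁ := by simp only [hρ₂, if_neg hb]
          rw [← this]; exact g2
      by_cases ha : 0 < a
      · apply redS ρ ha
        have : ρ₁ = ev A 3 ρ := by simp only [hρ₁, if_pos ha]
        rw [← this]; exact g1
      · have : ρ₁ = ρ := by simp only [hρ₁, if_neg ha]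
        rw [← this]; exact g1

end dom

section dom2
variable [IsDomain A]

theorem mul_X_mem_NFJ_closure (k : Fin 9) (a b c : ℕ) (ρ : R0 A) :
    ∃ (a' b' c' : ℕ) (ρ' : R0 A), T A a b c ρ * X k = T A a' b' c' ρ' := by
  fin_cases k <;> simp only [Fin.reduceFinMk, Fin.zero_eta, Fin.mk_one]
  · exact ⟨a, b, c, ρ * (X 4 + X 2), by simp only [T, map_mul, map_add, iota0_X4, iota0_X2]; ring⟩
  · exact ⟨a, b, c, ρ * (X 3 - X 0), by simp only [T, map_mul, map_sub, iota0_X3, iota0_X0]; ring⟩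
  · exact ⟨a, b, c + 1, ρ, by simp only [T]; ring⟩
  · exact ⟨a, b, c, ρ * (X 5 - X 1), by simp only [T, map_mul, map_sub, iota0_X5, iota0_X1]; ring⟩
  · exact ⟨a, b + 1, c, ρ, by simp only [T]; ring⟩
  · exact ⟨a, b, c, ρ * X 0, by simp only [T, map_mul, iota0_X0]; ring⟩
  · exact ⟨a + 1, b, c, ρ, by simp only [T]; ring⟩
  · exact ⟨a, b, c, ρ * X 1, by simp only [T, map_mul, iota0_X1]; ring⟩
  · exact ⟨a, b, c, ρ * X 2, by simp only [T, map_mul, iota0_X2]; ring⟩

theorem mem_closure_T (y : D A) :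
    y ∈ AddSubgroup.closure {x : D A | ∃ (a b c : ℕ) (ρ : R0 A), x = T A a b c ρ} := by
  induction y using MvPolynomial.induction_on with
  | C r =>
    apply AddSubgroup.subset_closure
    refine ⟨0, 0, 0, C r, ?_⟩
    simp [T, iota0]
  | add p q hp hq => exact add_mem hp hq
  | mul_X p k hp =>
    induction hp using AddSubgroup.closure_induction with
    | mem x hx =>
      obtain ⟨a, b, c, ρ, rfl⟩ := hx
      obtain ⟨a', b', c', ρ', h⟩ := mul_X_mem_NFJ_closure k a b c ρ
      rw [h]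
      exact AddSubgroup.subset_closure ⟨a', b', c', ρ', rfl⟩
    | zero => rw [zero_mul]; exact zero_mem _
    | add x y _ _ hx hy => rw [add_mul]; exact add_mem hx hy
    | neg x _ hx => rw [neg_mul]; exact neg_mem hx

theorem mem_NFJ (y : D A) : y ∈ NFJ (A := A) := by
  have := mem_closure_T y
  induction this using AddSubgroup.closure_induction with
  | mem x hx =>
    obtain ⟨a, b, c, ρ, rfl⟩ := hx
    exact T_mem_NFJ (a + b + c) a b c ρ le_rfl
  | zero => exact zero_mem _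
  | add x y _ _ hx hy => exact add_mem hx hy
  | neg x _ hx => exact neg_mem hx

end dom2

section phi
variable [IsDomain A]

variable (A) in
/-- the fraction field of `A[f,h,i,s,u,v]` -/
abbrev F : Type u := FractionRing (R0 A)

variable (A) in
/-- the inclusion `A[f,h,i,s,u,v] → F` -/
noncomputable def j : R0 A →+* F A := algebraMap (R0 A) (FractionRing (R0 A))

theorem j_injective : Function.Injective (j A) := IsFractionRing.injective (R0 A) (FractionRing (R0 A))

theorem jX_ne_zero (k : Fin 6) : j A (X k) ≠ 0 :=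
  (map_ne_zero_iff (j A) j_injective).mpr (X_ne_zero k)

variable (A) in
noncomputable def G : F A := j A (p1 A) / j A (X 3)
variable (A) in
noncomputable def E : F A := j A (p2 A) / j A (X 4)
variable (A) in
noncomputable def Cc : F A := j A (p3 A) / j A (X 5)

variable (A) in
/-- the parametrisation `a,b,c,d,e,f,g,h,i ↦ u+i, s-f, p3/v, v-h, p2/u, f, p1/s, h, i`. -/
noncomputable def phi : D A →+* F A :=
  eval₂Hom ((j A).comp C)
    ![j A (X 4 + X 2), j A (X 3 - X 0), Cc A, j A (X 5 - X 1), E A, j A (X 0), G A, j A (X 1), j A (X 2)]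

@[simp] theorem phi_X0 : phi A (X 0) = j A (X 4 + X 2) := by simp [phi]
@[simp] theorem phi_X1 : phi A (X 1) = j A (X 3 - X 0) := by simp [phi]
@[simp] theorem phi_X2 : phi A (X 2) = Cc A := by simp [phi]
@[simp] theorem phi_X3 : phi A (X 3) = j A (X 5 - X 1) := by simp [phi]
@[simp] theorem phi_X4 : phi A (X 4) = E A := by simp [phi]
@[simp] theorem phi_X5 : phi A (X 5) = j A (X 0) := by simp [phi]
@[simp] theorem phi_X6 : phi A (X 6) = G A := by simp [phi]
@[simp] theorem phi_X7 : phi A (X 7) = j A (X 1) := by simp [phi]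
@[simp] theorem phi_X8 : phi A (X 8) = j A (X 2) := by simp [phi]

theorem phi_iota0 (ρ : R0 A) : phi A (iota0 A ρ) = j A ρ := by
  have : (phi A).comp (iota0 A).toRingHom = j A := by
    apply MvPolynomial.ringHom_ext
    · intro r
      simp [phi, iota0]
    · intro k
      fin_cases k <;> simp only [Fin.reduceFinMk, Fin.zero_eta, Fin.mk_one, RingHom.comp_apply,
        AlgHom.toRingHom_eq_coe, RingHom.coe_coe, iota0_X0, iota0_X1, iota0_X2, iota0_X3, iota0_X4,
        iota0_X5, map_add, map_sub, phi_X0, phi_X1, phi_X3, phi_X5, phi_X7, phi_X8] <;> ring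
  exact congrArg (fun f => f ρ) this

theorem phi_T (a b c : ℕ) (ρ : R0 A) :
    phi A (T A a b c ρ) = j A ρ * G A ^ a * E A ^ b * Cc A ^ c := by
  simp only [T, map_mul, map_pow, phi_iota0, phi_X6, phi_X4, phi_X2]

theorem phi_Q1 : phi A (Q1 A) = 0 := by
  have h3 := jX_ne_zero (A := A) 3
  simp only [Q1, map_sub, map_mul, map_add, phi_X0, phi_X7, phi_X3, phi_X8, phi_X5, phi_X6, phi_X1,
    G, p1]
  field_simp
  ring

theorem phi_Q2 : phi A (Q2 A) = 0 := by
  have h4 := jX_ne_zero (A := A) 4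
  simp only [Q2, map_sub, map_mul, map_add, phi_X0, phi_X7, phi_X3, phi_X8, phi_X5, phi_X4, phi_X1,
    E, p2]
  field_simp
  ring

theorem phi_Q3 : phi A (Q3 A) = 0 := by
  have h5 := jX_ne_zero (A := A) 5
  simp only [Q3, map_sub, map_mul, map_add, phi_X0, phi_X7, phi_X3, phi_X8, phi_X5, phi_X2, phi_X1,
    Cc, p3]
  field_simp
  ring

theorem phi_detM : phi A (detM A) = 0 := by
  have h3 := jX_ne_zero (A := A) 3
  have h4 := jX_ne_zero (A := A) 4
  have h5 := jX_ne_zero (A := A) 5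
  simp only [detM, map_sub, map_mul, map_add, map_neg, map_pow, phi_X0, phi_X7, phi_X3, phi_X8,
    phi_X5, phi_X2, phi_X1, phi_X4, phi_X6, Cc, p3, E, p2, G, p1]
  field_simp
  ring

theorem J_le_ker : idJ A ≤ RingHom.ker (phi A) := by
  unfold idJ
  rw [Ideal.span_le]
  intro x hx
  simp only [Set.mem_insert_iff, Set.mem_singleton_iff] at hx
  rw [SetLike.mem_coe, RingHom.mem_ker]
  rcases hx with rfl | rfl | rfl | rfl
  · exact phi_Q1
  · exact phi_Q2
  · exact phi_Q3
  · exact phi_detM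

theorem pow_mul_div_pow (t p : F A) (ht : t ≠ 0) (N a : ℕ) (ha : a ≤ N) :
    t ^ N * (p / t) ^ a = p ^ a * t ^ (N - a) := by
  obtain ⟨k, rfl⟩ := Nat.exists_eq_add_of_le ha
  rw [Nat.add_sub_cancel_left, div_pow, pow_add]
  field_simp

theorem j_Tot (N : ℕ) (z : ℕ → ℕ → ℕ → R0 A) :
    j A (Tot N z) = j A (X 3) ^ N * j A (X 4) ^ N * j A (X 5) ^ N * phi A (boxsum N z) := by
  simp only [Tot, Ysum, Wsum, boxsum, map_sum, map_mul, map_pow, phi_T, Finset.mul_sum,
    Finset.sum_mul]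
  apply Finset.sum_congr rfl
  intro a ha
  apply Finset.sum_congr rfl
  intro b hb
  apply Finset.sum_congr rfl
  intro c hc
  rw [Finset.mem_range] at ha hb hc
  have e1 := pow_mul_div_pow (j A (X 3)) (j A (p1 A)) (jX_ne_zero 3) N a (by omega)
  have e2 := pow_mul_div_pow (j A (X 4)) (j A (p2 A)) (jX_ne_zero 4) N b (by omega)
  have e3 := pow_mul_div_pow (j A (X 5)) (j A (p3 A)) (jX_ne_zero 5) N c (by omega)
  simp only [G, E, Cc]
  linear_combination (-(j A (z a b c)) * (j A (X 4) ^ N * (j A (p2 A) / j A (X 4)) ^ b) *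
      (j A (X 5) ^ N * (j A (p3 A) / j A (X 5)) ^ c)) * e1
    - (j A (z a b c) * (j A (p1 A) ^ a * j A (X 3) ^ (N - a)) *
      (j A (X 5) ^ N * (j A (p3 A) / j A (X 5)) ^ c)) * e2
    - (j A (z a b c) * (j A (p1 A) ^ a * j A (X 3) ^ (N - a)) *
      (j A (p2 A) ^ b * j A (X 4) ^ (N - b))) * e3

theorem eq_zero_of_mem_NF_of_phi (y : D A) (hy : y ∈ NF (A := A)) (h : phi A y = 0) : y = 0 := by
  obtain ⟨N, z, hz, _, rfl⟩ := hy
  have h1 : Tot N z = 0 := by
    apply j_injective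
    rw [j_Tot, h, mul_zero, map_zero]
  have h2 := n2poly N z hz h1
  unfold boxsum
  apply Finset.sum_eq_zero
  intro a ha
  apply Finset.sum_eq_zero
  intro b hb
  apply Finset.sum_eq_zero
  intro c hc
  rw [Finset.mem_range] at ha hb hc
  rw [h2 a (by omega) b (by omega) c (by omega), T_zero]

/-- `J` is the kernel of `phi`. -/
theorem ker_phi : RingHom.ker (phi A) = idJ A := by
  apply le_antisymm _ J_le_ker
  intro y hy
  rw [RingHom.mem_ker] at hy
  obtain ⟨w, hw, x, hx, rfl⟩ := AddSubgroup.mem_sup.mp (mem_NFJ y)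
  have hx' : x ∈ idJ A := hx
  have hw0 : phi A w = 0 := by
    have := J_le_ker hx'
    rw [RingHom.mem_ker] at this
    rw [map_add, this, add_zero] at hy
    exact hy
  rw [eq_zero_of_mem_NF_of_phi w hw hw0, zero_add]
  exact hx'

theorem idJ_isPrime : (idJ A).IsPrime := by
  rw [← ker_phi]
  exact RingHom.ker_isPrime _

end phi

section consequences
variable [IsDomain A]

theorem phi_L2 : phi A (L2 A) = j A (X 3) := by
  simp only [L2, map_add, phi_X1, phi_X5, map_sub]; ring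

theorem L2_not_mem : L2 A ∉ idJ A := by
  intro h
  rw [← ker_phi, RingHom.mem_ker, phi_L2] at h
  exact jX_ne_zero 3 h

/-- nonzero constants are nonzerodivisors modulo `J`. -/
theorem mem_J_of_C_mul_mem (r : A) (hr : r ≠ 0) (y : D A) (h : C r * y ∈ idJ A) : y ∈ idJ A := by
  rw [← ker_phi, RingHom.mem_ker] at h ⊢
  rw [map_mul] at h
  refine (mul_eq_zero.mp h).resolve_left ?_
  have : phi A (C r) = j A (C r) := by simp [phi]
  rw [this]
  exact (map_ne_zero_iff (j A) j_injective).mpr (by simpa using hr)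

end consequences

end Groth.Agent.Lib.helper13.Lie3B
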