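import Mathlib

/-!
Helper lemmas on cofiltered limits of schemes with affine transition maps (helper13).
-/

universe u

open CategoryTheory AlgebraicGeometry Limits

namespace Groth.Agent.Lib.helper13

variable {I : Type u} [SmallCategory I] [IsCofiltered I]
  (D : I ⥤ Scheme.{u}) (c : Limits.Cone D) (hc : Limits.IsLimit c)

include hc in
/-- If all transition maps are affine and dominant, then so are the projections. -/
lemma isDominant_π_app [∀ (i j : I) (f : i ⟶ j), IsAffineHom (D.map f)]
    (hd : ∀ (i j : I) (φ : i ⟶ j), IsDominant (D.map φ)) (j : I) :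
    IsDominant (c.π.app j) := by
  refine ⟨?_⟩
  rw [DenseRange, dense_iff_inter_open]
  intro W hW hWne
  obtain ⟨x, hx⟩ := hWne
  obtain ⟨_, ⟨W', hW' : IsAffineOpen W', rfl⟩, hxW', hW'W⟩ :=
    (D.obj j).isBasis_affineOpens.exists_subset_of_mem_open hx hW
  have h1 : ∀ k : Over j, IsAffine ((opensDiagram D j W').obj k) := fun k => hW'.preimage _
  have h2 : ∀ k : Over j, Nonempty ((opensDiagram D j W').obj k) := by
    intro k
    have hdk := (hd _ _ k.hom).denseRange
    obtain ⟨y, hy⟩ := hdk.exists_mem_open W'.2 ⟨x, hxW'⟩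
    exact ⟨⟨y, hy⟩⟩
  have h3 : ∀ k : Over j, CompactSpace ((opensDiagram D j W').obj k) := fun k => inferInstance
  obtain ⟨⟨s, hs⟩⟩ := Scheme.nonempty_of_isLimit (opensDiagram D j W') (opensCone D c j W')
    (isLimitOpensCone D c hc j W')
  exact ⟨c.π.app j s, hW'W hs, s, rfl⟩

end Groth.Agent.Lib.helper13
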