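import Mathlib

/-!
# McCoy's theorem for multivariate polynomials, family version (helper13)

If a nonzero polynomial `a` annihilates every member of a family `F` of multivariate polynomials,
then some nonzero constant annihilates every member of `F`.
-/

set_option autoImplicit false

namespace Groth.Agent.Lib.helper13.McCoy

open MvPolynomial
open scoped MonomialOrder

variable {σ : Type*} {R : Type*} [CommRing R]

theorem mccoy_family (m : MonomialOrder σ) (F : Set (MvPolynomial σ R)) :
    ∀ (a : MvPolynomial σ R), a ≠ 0 → (∀ f ∈ F, f * a = 0) →
      ∃ c : R, c ≠ 0 ∧ ∀ f ∈ F, c • f = 0 := by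
  intro a
  induction' hd : m.toSyn (m.degree a) using WellFoundedLT.induction with d ih generalizing a
  intro ha h
  classical
  by_cases hall : ∀ f ∈ F, ∀ α, f.coeff α • a = 0
  · refine ⟨m.leadingCoeff a, m.leadingCoeff_ne_zero_iff.mpr ha, fun f hf => ?_⟩
    ext α
    rw [coeff_smul, coeff_zero, smul_eq_mul]
    have h1 := congrArg (coeff (m.degree a)) (hall f hf α)
    rw [coeff_smul, coeff_zero, smul_eq_mul] at h1
    rw [mul_comm]
    exact h1
  · push Not at hall
    obtain ⟨f, hf, α, hα⟩ := hall
    let T := f.support.filter (fun β => f.coeff β • a ≠ 0)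
    have hT : T.Nonempty := by
      refine ⟨α, Finset.mem_filter.mpr ⟨?_, hα⟩⟩
      rw [mem_support_iff]
      intro h0
      apply hα
      rw [h0, zero_smul]
    obtain ⟨α₀, hα₀T, hmax⟩ := T.exists_max_image (fun β => m.toSyn β) hT
    set a' := f.coeff α₀ • a with ha'
    have ha'0 : a' ≠ 0 := (Finset.mem_filter.mp hα₀T).2
    have key : f.coeff α₀ * m.leadingCoeff a = 0 := by
      have h0 := congrArg (coeff (α₀ + m.degree a)) (h f hf)
      rw [coeff_mul, coeff_zero, Finset.sum_eq_single (α₀, m.degree a)] at h0
      · exact h0
      · rintro ⟨β, γ⟩ hβγ hne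
        rw [Finset.HasAntidiagonal.mem_antidiagonal] at hβγ
        simp only at hβγ
        have hsum : m.toSyn β + m.toSyn γ = m.toSyn α₀ + m.toSyn (m.degree a) := by
          rw [← map_add, ← map_add, hβγ]
        rcases lt_trichotomy (m.toSyn β) (m.toSyn α₀) with hlt | heq | hgt
        · have hγ : m.degree a ≺[m] γ := by
            by_contra hle
            rw [not_lt] at hle
            have := add_lt_add_of_lt_of_le hlt hle
            rw [hsum] at this
            exact lt_irrefl _ this
          simp only
          rw [m.coeff_eq_zero_of_lt hγ, mul_zero]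
        · exfalso
          have hβ : β = α₀ := m.toSyn.injective heq
          subst hβ
          have hγ : γ = m.degree a := add_left_cancel hβγ
          subst hγ
          exact hne rfl
        · have hβ : f.coeff β • a = 0 := by
            by_contra hne'
            have hβT : β ∈ T := by
              refine Finset.mem_filter.mpr ⟨?_, hne'⟩
              rw [mem_support_iff]
              intro h0
              apply hne'
              rw [h0, zero_smul]
            exact absurd (hmax β hβT) (not_le.mpr hgt)
          have h2 := congrArg (coeff γ) hβ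
          rw [coeff_smul, coeff_zero, smul_eq_mul] at h2
          exact h2
      · intro hnot
        exfalso
        apply hnot
        rw [Finset.HasAntidiagonal.mem_antidiagonal]
    have hdeg : m.toSyn (m.degree a') < m.toSyn (m.degree a) := by
      have hle : m.degree a' ≼[m] m.degree a := m.degree_smul_le
      rcases lt_or_eq_of_le hle with h1 | h1
      · exact h1
      · exfalso
        have h2 : m.degree a' = m.degree a := m.toSyn.injective h1
        have hlc : m.leadingCoeff a' ≠ 0 := m.leadingCoeff_ne_zero_iff.mpr ha'0
        apply hlc
        rw [MonomialOrder.leadingCoeff, h2, ha', coeff_smul, smul_eq_mul]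
        exact key
    exact ih _ (hd ▸ hdeg) a' rfl ha'0 (fun f' hf' => by rw [ha', mul_smul_comm, h f' hf', smul_zero])

/-- A finite-variable version that needs no choice of monomial order. -/
theorem mccoy_family_fin {n : ℕ} (F : Set (MvPolynomial (Fin n) R)) (a : MvPolynomial (Fin n) R)
    (ha : a ≠ 0) (h : ∀ f ∈ F, f * a = 0) : ∃ c : R, c ≠ 0 ∧ ∀ f ∈ F, c • f = 0 :=
  mccoy_family MonomialOrder.lex F a ha h

end Groth.Agent.Lib.helper13.McCoy
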