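import Mathlib

/-!
# Two-term cochain complexes (degrees `-1, 0`): homotopies and isomorphisms (helper13)
-/

set_option autoImplicit false
universe v u
open CategoryTheory CategoryTheory.Limits

namespace Groth.Agent.Lib.helper13.NLBC

section Homotopy

variable {C : Type u} [Category.{v} C] [Preadditive C]

/-- a homotopy between two maps out of a complex concentrated in degrees `-1, 0`, from a single
map `s : X⁰ ⟶ Y⁻¹` -/
noncomputable def homotopyOfTwoTerm (X Y : CochainComplex C ℤ)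
    (hz : ∀ i : ℤ, i ≠ -1 → i ≠ 0 → IsZero (X.X i)) (φ ψ : X ⟶ Y) (s : X.X 0 ⟶ Y.X (-1))
    (h1 : φ.f (-1) = X.d (-1) 0 ≫ s + ψ.f (-1)) (h0 : φ.f 0 = s ≫ Y.d (-1) 0 + ψ.f 0) :
    Homotopy φ ψ where
  hom := fun i j => if h : i = 0 ∧ j = -1 then
              eqToHom (by rw [h.1]) ≫ s ≫ eqToHom (by rw [h.2]) else 0
  zero := fun i j hij => by
    rw [dif_neg]
    rintro ⟨rfl, rfl⟩
    exact hij (by simp)
  comm := fun i => by
    by_cases hi1 : i = -1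
    · subst hi1
      rw [dNext_eq _ (show (ComplexShape.up ℤ).Rel (-1) 0 by simp),
        prevD_eq _ (show (ComplexShape.up ℤ).Rel (-2) (-1) by simp)]
      rw [dif_pos (show (0 : ℤ) = 0 ∧ (-1 : ℤ) = -1 from ⟨rfl, rfl⟩),
        dif_neg (show ¬ ((-1 : ℤ) = 0 ∧ (-2 : ℤ) = -1) by omega), zero_comp, add_zero, h1]
      simp
    · by_cases hi0 : i = 0
      · subst hi0
        rw [dNext_eq _ (show (ComplexShape.up ℤ).Rel 0 1 by simp),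
          prevD_eq _ (show (ComplexShape.up ℤ).Rel (-1) 0 by simp)]
        rw [dif_pos (show (0 : ℤ) = 0 ∧ (-1 : ℤ) = -1 from ⟨rfl, rfl⟩),
          dif_neg (show ¬ ((1 : ℤ) = 0 ∧ (0 : ℤ) = -1) by omega), comp_zero, zero_add, h0]
        simp
      · exact (hz i hi1 hi0).eq_of_src _ _

end Homotopy

section Iso

variable {C : Type u} [Category.{v} C] [HasZeroMorphisms C]

/-- a map of complexes concentrated in degrees `-1, 0` which is an isomorphism in these two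
degrees is an isomorphism -/
theorem isIso_of_two_term {X Y : CochainComplex C ℤ}
    (hX : ∀ i : ℤ, i ≠ -1 → i ≠ 0 → IsZero (X.X i))
    (hY : ∀ i : ℤ, i ≠ -1 → i ≠ 0 → IsZero (Y.X i)) (φ : X ⟶ Y)
    (h1 : IsIso (φ.f (-1))) (h0 : IsIso (φ.f 0)) : IsIso φ := by
  haveI : ∀ i, IsIso (φ.f i) := fun i => by
    by_cases hi1 : i = -1
    · subst hi1; exact h1
    · by_cases hi0 : i = 0
      · subst hi0; exact h0
      · exact ⟨⟨0, (hX i hi1 hi0).eq_of_src _ _, (hY i hi1 hi0).eq_of_src _ _⟩⟩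
  exact HomologicalComplex.Hom.isIso_of_components φ

end Iso


section Double

open HomologicalComplex

variable {C : Type u} [Category.{v} C] [Preadditive C] [HasZeroObject C]

/-- homotopy between two maps of `double` complexes in degrees `-1, 0` given in components -/
noncomputable def homotopyDouble {X₀ X₁ Y₀ Y₁ : C} (d : X₀ ⟶ X₁) (d' : Y₀ ⟶ Y₁)
    (hrel : (ComplexShape.up ℤ).Rel (-1) 0) (φ ψ : double d hrel ⟶ double d' hrel)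
    (a₀ b₀ : X₀ ⟶ Y₀) (a₁ b₁ : X₁ ⟶ Y₁) (s : X₁ ⟶ Y₀)
    (hφ₀ : φ.f (-1) = (doubleXIso₀ d hrel).hom ≫ a₀ ≫ (doubleXIso₀ d' hrel).inv)
    (hφ₁ : φ.f 0 = (doubleXIso₁ d hrel (by decide)).hom ≫ a₁ ≫
      (doubleXIso₁ d' hrel (by decide)).inv)
    (hψ₀ : ψ.f (-1) = (doubleXIso₀ d hrel).hom ≫ b₀ ≫ (doubleXIso₀ d' hrel).inv)
    (hψ₁ : ψ.f 0 = (doubleXIso₁ d hrel (by decide)).hom ≫ b₁ ≫
      (doubleXIso₁ d' hrel (by decide)).inv)
    (h₀ : a₀ = d ≫ s + b₀) (h₁ : a₁ = s ≫ d' + b₁) : Homotopy φ ψ :=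
  homotopyOfTwoTerm _ _ (fun i h1 h0 => isZero_double_X d hrel i h1 h0) φ ψ
    ((doubleXIso₁ d hrel (by decide)).hom ≫ s ≫ (doubleXIso₀ d' hrel).inv)
    (by
      rw [hφ₀, hψ₀, double_d d hrel (by decide), h₀]
      simp [Preadditive.add_comp, Preadditive.comp_add])
    (by
      rw [hφ₁, hψ₁, double_d d' hrel (by decide), h₁]
      simp [Preadditive.add_comp, Preadditive.comp_add])

/-- a map of `double` complexes in degrees `-1, 0` with invertible components is invertible -/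
theorem isIso_double {X₀ X₁ Y₀ Y₁ : C} (d : X₀ ⟶ X₁) (d' : Y₀ ⟶ Y₁)
    (hrel : (ComplexShape.up ℤ).Rel (-1) 0) (φ : double d hrel ⟶ double d' hrel)
    (a₀ : X₀ ⟶ Y₀) (a₁ : X₁ ⟶ Y₁)
    (hφ₀ : φ.f (-1) = (doubleXIso₀ d hrel).hom ≫ a₀ ≫ (doubleXIso₀ d' hrel).inv)
    (hφ₁ : φ.f 0 = (doubleXIso₁ d hrel (by decide)).hom ≫ a₁ ≫
      (doubleXIso₁ d' hrel (by decide)).inv)
    (h₀ : IsIso a₀) (h₁ : IsIso a₁) : IsIso φ := by
  apply isIso_of_two_term (fun i h1 h0 => isZero_double_X d hrel i h1 h0)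
    (fun i h1 h0 => isZero_double_X d' hrel i h1 h0) φ
  · rw [hφ₀]; infer_instance
  · rw [hφ₁]; infer_instance

/-- composition of maps of `double` complexes, in components -/
theorem double_comp_eq {X₀ X₁ Y₀ Y₁ Z₀ Z₁ : C} (d : X₀ ⟶ X₁) (d' : Y₀ ⟶ Y₁) (d'' : Z₀ ⟶ Z₁)
    (hrel : (ComplexShape.up ℤ).Rel (-1) 0) (φ : double d hrel ⟶ double d' hrel)
    (ψ : double d' hrel ⟶ double d'' hrel) (χ : double d hrel ⟶ double d'' hrel)
    (a₀ : X₀ ⟶ Y₀) (a₁ : X₁ ⟶ Y₁) (b₀ : Y₀ ⟶ Z₀) (b₁ : Y₁ ⟶ Z₁) (c₀ : X₀ ⟶ Z₀) (c₁ : X₁ ⟶ Z₁)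
    (hφ₀ : φ.f (-1) = (doubleXIso₀ d hrel).hom ≫ a₀ ≫ (doubleXIso₀ d' hrel).inv)
    (hφ₁ : φ.f 0 = (doubleXIso₁ d hrel (by decide)).hom ≫ a₁ ≫
      (doubleXIso₁ d' hrel (by decide)).inv)
    (hψ₀ : ψ.f (-1) = (doubleXIso₀ d' hrel).hom ≫ b₀ ≫ (doubleXIso₀ d'' hrel).inv)
    (hψ₁ : ψ.f 0 = (doubleXIso₁ d' hrel (by decide)).hom ≫ b₁ ≫
      (doubleXIso₁ d'' hrel (by decide)).inv)
    (hχ₀ : χ.f (-1) = (doubleXIso₀ d hrel).hom ≫ c₀ ≫ (doubleXIso₀ d'' hrel).inv)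
    (hχ₁ : χ.f 0 = (doubleXIso₁ d hrel (by decide)).hom ≫ c₁ ≫
      (doubleXIso₁ d'' hrel (by decide)).inv)
    (h₀ : c₀ = a₀ ≫ b₀) (h₁ : c₁ = a₁ ≫ b₁) : χ = φ ≫ ψ := by
  apply from_double_hom_ext
  · rw [comp_f, hφ₀, hψ₀, hχ₀, h₀]
    simp
  · rw [comp_f, hφ₁, hψ₁, hχ₁, h₁]
    simp

/-- identity of a `double` complex, in components -/
theorem double_eq_id {X₀ X₁ : C} (d : X₀ ⟶ X₁)
    (hrel : (ComplexShape.up ℤ).Rel (-1) 0) (φ : double d hrel ⟶ double d hrel)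
    (a₀ : X₀ ⟶ X₀) (a₁ : X₁ ⟶ X₁)
    (hφ₀ : φ.f (-1) = (doubleXIso₀ d hrel).hom ≫ a₀ ≫ (doubleXIso₀ d hrel).inv)
    (hφ₁ : φ.f 0 = (doubleXIso₁ d hrel (by decide)).hom ≫ a₁ ≫
      (doubleXIso₁ d hrel (by decide)).inv)
    (h₀ : a₀ = 𝟙 _) (h₁ : a₁ = 𝟙 _) : φ = 𝟙 _ := by
  apply from_double_hom_ext
  · rw [hφ₀, h₀]; simp
  · rw [hφ₁, h₁]; simp

end Double

end Groth.Agent.Lib.helper13.NLBC
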