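import Mathlib
import Groth.Prelude.Def_SheafNL
import Groth.Agent.Lib.Helper13.NLBC1

/-!
# Functoriality and homotopy invariance of `NLCx.map`, `NLCx.bcMap` (helper13)
-/

set_option autoImplicit false
universe u
open CategoryTheory CategoryTheory.Limits HomologicalComplex TensorProduct Algebra

namespace Groth.Agent.Lib.helper13.NLBC

section Basic

variable {R S : Type u} [CommRing R] [CommRing S] [Algebra R S]

lemma isZero_cx_X (P : Extension.{u} R S) (i : ℤ) (h1 : i ≠ -1) (h0 : i ≠ 0) :
    IsZero ((NLCx.cx P).X i) :=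
  isZero_double_X _ _ i h1 h0

lemma isZero_bcCx_X (P : Extension.{u} R S) (S' : Type u) [CommRing S'] [Algebra S S'] (i : ℤ)
    (h1 : i ≠ -1) (h0 : i ≠ 0) : IsZero ((NLCx.bcCx P S').X i) :=
  isZero_double_X _ _ i h1 h0

lemma cx_d (P : Extension.{u} R S) :
    (NLCx.cx P).d (-1) 0 = (doubleXIso₀ (ModuleCat.ofHom P.cotangentComplex) _).hom ≫
      ModuleCat.ofHom P.cotangentComplex ≫
      (doubleXIso₁ (ModuleCat.ofHom P.cotangentComplex) _ (by decide)).inv :=
  double_d _ _ (by decide)

lemma bcCx_d (P : Extension.{u} R S) (S' : Type u) [CommRing S'] [Algebra S S'] :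
    (NLCx.bcCx P S').d (-1) 0 =
      (doubleXIso₀ (ModuleCat.ofHom (P.cotangentComplex.baseChange S')) _).hom ≫
      ModuleCat.ofHom (P.cotangentComplex.baseChange S') ≫
      (doubleXIso₁ (ModuleCat.ofHom (P.cotangentComplex.baseChange S')) _ (by decide)).inv :=
  double_d _ _ (by decide)

end Basic

section SameTop

variable {R S : Type u} [CommRing R] [CommRing S] [Algebra R S]
variable {R' : Type u} [CommRing R'] [Algebra R' S] [Algebra R R'] [IsScalarTower R R' S]
variable {P : Extension.{u} R S} {P' : Extension.{u} R' S}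

lemma map_f_neg1 (f : P.Hom P') :
    (NLCx.map f).f (-1) = (doubleXIso₀ (ModuleCat.ofHom P.cotangentComplex) _).hom ≫
      ModuleCat.ofHom (Extension.Cotangent.map f) ≫
      (doubleXIso₀ (ModuleCat.ofHom P'.cotangentComplex) _).inv :=
  mkHomFromDouble_f₀ _ _ _ _ _ _

lemma map_f_zero (f : P.Hom P') :
    (NLCx.map f).f 0 = (doubleXIso₁ (ModuleCat.ofHom P.cotangentComplex) _ (by decide)).hom ≫
      ModuleCat.ofHom (Extension.CotangentSpace.map f) ≫
      (doubleXIso₁ (ModuleCat.ofHom P'.cotangentComplex) _ (by decide)).inv :=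
  mkHomFromDouble_f₁ _ _ _ _ _ _

/-- two morphisms of extensions induce homotopic maps of naive cotangent complexes -/
noncomputable def homotopyMap (f g : P.Hom P') : Homotopy (NLCx.map f) (NLCx.map g) :=
  homotopyDouble _ _ _ (NLCx.map f) (NLCx.map g) _ _ _ _ (ModuleCat.ofHom (f.sub g))
    (map_f_neg1 f) (map_f_zero f) (map_f_neg1 g) (map_f_zero g)
    (by
      refine ModuleCat.hom_ext (LinearMap.ext (fun y => ?_))
      have h := LinearMap.congr_fun (Extension.Cotangent.map_sub_map f g) y
      change Extension.Cotangent.map f y =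
        (f.sub g) (P.cotangentComplex y) + Extension.Cotangent.map g y
      rw [← sub_eq_iff_eq_add]
      exact h)
    (by
      refine ModuleCat.hom_ext (LinearMap.ext (fun y => ?_))
      have h := LinearMap.congr_fun (Extension.CotangentSpace.map_sub_map f g) y
      change Extension.CotangentSpace.map f y =
        P'.cotangentComplex ((f.sub g) y) + Extension.CotangentSpace.map g y
      rw [← sub_eq_iff_eq_add]
      exact h)

end SameTop

section BaseChange

variable {R S : Type u} [CommRing R] [CommRing S] [Algebra R S]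
variable {R' S' : Type u} [CommRing R'] [CommRing S'] [Algebra R' S'] [Algebra R R'] [Algebra S S']
  [Algebra R S'] [IsScalarTower R R' S'] [IsScalarTower R S S']
variable {P : Extension.{u} R S} {P' : Extension.{u} R' S'}

lemma bcMap_f_neg1 (f : P.Hom P') :
    (NLCx.bcMap f).f (-1) =
      (doubleXIso₀ (ModuleCat.ofHom (P.cotangentComplex.baseChange S')) _).hom ≫
      ModuleCat.ofHom (LinearMap.liftBaseChange S' (Extension.Cotangent.map f)) ≫
      (doubleXIso₀ (ModuleCat.ofHom P'.cotangentComplex) _).inv :=
  mkHomFromDouble_f₀ _ _ _ _ _ _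

lemma bcMap_f_zero (f : P.Hom P') :
    (NLCx.bcMap f).f 0 =
      (doubleXIso₁ (ModuleCat.ofHom (P.cotangentComplex.baseChange S')) _ (by decide)).hom ≫
      ModuleCat.ofHom (LinearMap.liftBaseChange S' (Extension.CotangentSpace.map f)) ≫
      (doubleXIso₁ (ModuleCat.ofHom P'.cotangentComplex) _ (by decide)).inv :=
  mkHomFromDouble_f₁ _ _ _ _ _ _

/-- two morphisms of extensions over a square induce homotopic base change maps -/
noncomputable def homotopyBcMap (f g : P.Hom P') : Homotopy (NLCx.bcMap f) (NLCx.bcMap g) :=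
  homotopyDouble _ _ _ (NLCx.bcMap f) (NLCx.bcMap g) _ _ _ _
    (ModuleCat.ofHom (LinearMap.liftBaseChange S' (f.sub g)))
    (bcMap_f_neg1 f) (bcMap_f_zero f) (bcMap_f_neg1 g) (bcMap_f_zero g)
    (by
      refine ModuleCat.hom_ext (TensorProduct.AlgebraTensorModule.curry_injective ?_)
      refine LinearMap.ext (fun a => LinearMap.ext (fun y => ?_))
      have h := LinearMap.congr_fun (Extension.Cotangent.map_sub_map f g) y
      change LinearMap.liftBaseChange S' (Extension.Cotangent.map f) (a ⊗ₜ y) =
        LinearMap.liftBaseChange S' (f.sub g) (P.cotangentComplex.baseChange S' (a ⊗ₜ y)) +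
          LinearMap.liftBaseChange S' (Extension.Cotangent.map g) (a ⊗ₜ y)
      rw [LinearMap.baseChange_tmul, LinearMap.liftBaseChange_tmul, LinearMap.liftBaseChange_tmul,
        LinearMap.liftBaseChange_tmul, ← smul_add]
      congr 1
      rw [← sub_eq_iff_eq_add]
      exact h)
    (by
      refine ModuleCat.hom_ext (TensorProduct.AlgebraTensorModule.curry_injective ?_)
      refine LinearMap.ext (fun a => LinearMap.ext (fun y => ?_))
      have h := LinearMap.congr_fun (Extension.CotangentSpace.map_sub_map f g) y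
      change LinearMap.liftBaseChange S' (Extension.CotangentSpace.map f) (a ⊗ₜ y) =
        P'.cotangentComplex (LinearMap.liftBaseChange S' (f.sub g) (a ⊗ₜ y)) +
          LinearMap.liftBaseChange S' (Extension.CotangentSpace.map g) (a ⊗ₜ y)
      rw [LinearMap.liftBaseChange_tmul, LinearMap.liftBaseChange_tmul,
        LinearMap.liftBaseChange_tmul, map_smul, ← smul_add]
      congr 1
      rw [← sub_eq_iff_eq_add]
      exact h)

/-- `bcMap f` is an isomorphism of complexes as soon as its two components are bijective -/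
theorem isIso_bcMap (f : P.Hom P')
    (h₀ : Function.Bijective (LinearMap.liftBaseChange S' (Extension.Cotangent.map f)))
    (h₁ : Function.Bijective (LinearMap.liftBaseChange S' (Extension.CotangentSpace.map f))) :
    IsIso (NLCx.bcMap f) :=
  isIso_double _ _ _ (NLCx.bcMap f) _ _ (bcMap_f_neg1 f) (bcMap_f_zero f)
    ((ConcreteCategory.isIso_iff_bijective _).mpr h₀)
    ((ConcreteCategory.isIso_iff_bijective _).mpr h₁)

end BaseChange

section Comp

variable {R S : Type u} [CommRing R] [CommRing S] [Algebra R S]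

theorem map_id (P : Extension.{u} R S) : NLCx.map (Extension.Hom.id P) = 𝟙 (NLCx.cx P) :=
  double_eq_id _ _ (NLCx.map (Extension.Hom.id P)) _ _ (map_f_neg1 _) (map_f_zero _)
    (by rw [Extension.Cotangent.map_id]; rfl) (by rw [Extension.CotangentSpace.map_id]; rfl)

theorem map_comp {P P' P'' : Extension.{u} R S} (f : P.Hom P') (g : P'.Hom P'') :
    NLCx.map (g.comp f) = NLCx.map f ≫ NLCx.map g :=
  double_comp_eq _ _ _ _ (NLCx.map f) (NLCx.map g) (NLCx.map (g.comp f)) _ _ _ _ _ _
    (map_f_neg1 f) (map_f_zero f) (map_f_neg1 g) (map_f_zero g) (map_f_neg1 _) (map_f_zero _)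
    (by
      refine ModuleCat.hom_ext (LinearMap.ext (fun y => ?_))
      exact LinearMap.congr_fun (Extension.Cotangent.map_comp _ f g) y)
    (by
      refine ModuleCat.hom_ext (LinearMap.ext (fun y => ?_))
      exact LinearMap.congr_fun (Extension.CotangentSpace.map_comp f g) y)

variable {R' S' : Type u} [CommRing R'] [CommRing S'] [Algebra R' S'] [Algebra R R'] [Algebra S S']
  [Algebra R S'] [IsScalarTower R R' S'] [IsScalarTower R S S']

theorem bcMap_comp {P : Extension.{u} R S} {P' P'' : Extension.{u} R' S'} (f : P.Hom P')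
    (g : P'.Hom P'') : NLCx.bcMap (g.comp f) = NLCx.bcMap f ≫ NLCx.map g :=
  double_comp_eq _ _ _ _ (NLCx.bcMap f) (NLCx.map g) (NLCx.bcMap (g.comp f)) _ _ _ _ _ _
    (bcMap_f_neg1 f) (bcMap_f_zero f) (map_f_neg1 g) (map_f_zero g) (bcMap_f_neg1 _)
    (bcMap_f_zero _)
    (by
      refine ModuleCat.hom_ext (TensorProduct.AlgebraTensorModule.curry_injective ?_)
      refine LinearMap.ext (fun a => LinearMap.ext (fun y => ?_))
      change LinearMap.liftBaseChange S' (Extension.Cotangent.map (g.comp f)) (a ⊗ₜ y) =
        Extension.Cotangent.map g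
          (LinearMap.liftBaseChange S' (Extension.Cotangent.map f) (a ⊗ₜ y))
      rw [LinearMap.liftBaseChange_tmul, LinearMap.liftBaseChange_tmul, map_smul]
      congr 1
      exact LinearMap.congr_fun (Extension.Cotangent.map_comp _ f g) y)
    (by
      refine ModuleCat.hom_ext (TensorProduct.AlgebraTensorModule.curry_injective ?_)
      refine LinearMap.ext (fun a => LinearMap.ext (fun y => ?_))
      change LinearMap.liftBaseChange S' (Extension.CotangentSpace.map (g.comp f)) (a ⊗ₜ y) =
        Extension.CotangentSpace.map g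
          (LinearMap.liftBaseChange S' (Extension.CotangentSpace.map f) (a ⊗ₜ y))
      rw [LinearMap.liftBaseChange_tmul, LinearMap.liftBaseChange_tmul, map_smul]
      congr 1
      exact LinearMap.congr_fun (Extension.CotangentSpace.map_comp f g) y)

end Comp

end Groth.Agent.Lib.helper13.NLBC
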