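import Mathlib

/-!
# Base change of conormal modules when the quotient is flat (helper13)

Mathlib proves that `T ⊗[R] I/I² → I'/I'²` (`I' = I (T ⊗[R] S)`) is bijective when `T` is flat over
`R`.  Here: it is bijective when `S ⧸ I` is flat over `R` (any `T`), and consequently the
cotangent module of a base-changed extension of a flat algebra is the base change of the
cotangent module.
-/

set_option autoImplicit false
universe u
open TensorProduct

namespace Groth.Agent.Lib.helper13.NLFlat

section Ideal

variable (R : Type*) {S : Type*} [CommRing R] [CommRing S] [Algebra R S]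
variable (T : Type*) [CommRing T] [Algebra R T] (I : Ideal S)

/-- the sequence `I/I² → S/I² → S/I` is exact -/
lemma exact_cotangentToQuotientSquare :
    Function.Exact (I.cotangentToQuotientSquare.restrictScalars R)
      (Ideal.Quotient.factorₐ R (Ideal.pow_le_self (two_ne_zero) : I ^ 2 ≤ I)).toLinearMap := by
  intro x
  obtain ⟨y, rfl⟩ := Ideal.Quotient.mk_surjective x
  constructor
  · intro hy
    have hy' : y ∈ I := by
      have : Ideal.Quotient.mk I y = 0 := hy
      exact Ideal.Quotient.eq_zero_iff_mem.1 this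
    exact ⟨I.toCotangent ⟨y, hy'⟩, I.toCotangent_to_quotient_square ⟨y, hy'⟩⟩
  · rintro ⟨c, hc⟩
    obtain ⟨z, rfl⟩ := I.toCotangent_surjective c
    have h1 : Ideal.Quotient.mk (I ^ 2) (z : S) = Ideal.Quotient.mk (I ^ 2) y := by
      rw [← hc]
      exact (I.toCotangent_to_quotient_square z).symm
    change Ideal.Quotient.factorₐ R (Ideal.pow_le_self (two_ne_zero) : I ^ 2 ≤ I)
      (Ideal.Quotient.mk (I ^ 2) y) = 0
    rw [← h1]
    change Ideal.Quotient.mk I (z : S) = 0
    exact Ideal.Quotient.eq_zero_iff_mem.2 z.2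

set_option backward.isDefEq.respectTransparency.types false in
set_option backward.defeqAttrib.useBackward true in
/-- variant of Mathlib's `Ideal.tensorCotangentHom_injective_of_flat`: the quotient `S ⧸ I` is
flat over `R`, with no condition on `T` -/
lemma tensorCotangentHom_injective_of_flat_quotient [Module.Flat R (S ⧸ I)] :
    Function.Injective (I.tensorCotangentHom R T) := by
  let a : S →+* T ⊗[R] S := Algebra.TensorProduct.includeRight.toRingHom
  let f : (I.map a).Cotangent →ₗ[T] T ⊗[R] S ⧸ (I.map a) ^ 2 :=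
    (Ideal.cotangentToQuotientSquare _).restrictScalars T
  suffices h : Function.Injective (f ∘ₗ Ideal.tensorCotangentHom R T I) from .of_comp h
  let g : T ⊗[R] I.Cotangent →ₗ[T] T ⊗[R] (S ⧸ I ^ 2) :=
    AlgebraTensorModule.lTensor T T I.cotangentToQuotientSquare
  let hₐ : T ⊗[R] (S ⧸ I ^ 2) ≃ₐ[T] T ⊗[R] S ⧸ (I.map a) ^ 2 :=
    (Algebra.TensorProduct.tensorQuotientEquiv _ _ _ _).trans
      (Ideal.quotientEquivAlgOfEq T (Ideal.map_pow _ _ _))
  have : f ∘ₗ Ideal.tensorCotangentHom R T I = hₐ.toLinearMap ∘ₗ g := by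
    ext x
    obtain ⟨x, rfl⟩ := I.toCotangent_surjective x
    dsimp [f, g, hₐ]
    rw [Ideal.tensorCotangentHom_tmul, one_smul, Ideal.toCotangent_to_quotient_square]
    simp
  rw [this, LinearMap.coe_comp]
  apply hₐ.injective.comp
  exact LinearMap.lTensor_injective_of_exact_of_flat
    (Ideal.Quotient.factorₐ R (Ideal.pow_le_self (two_ne_zero) : I ^ 2 ≤ I)).toLinearMap
    (Ideal.Quotient.factor_surjective (Ideal.pow_le_self (two_ne_zero) : I ^ 2 ≤ I))
    (I.cotangentToQuotientSquare.restrictScalars R) I.cotangentToQuotientSquare_injective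
    (exact_cotangentToQuotientSquare R I) T

/-- the base change of the conormal module, for a flat quotient -/
noncomputable def tensorCotangentEquivOfFlatQuotient [Module.Flat R (S ⧸ I)] :
    T ⊗[R] I.Cotangent ≃ₗ[T]
      (I.map (Algebra.TensorProduct.includeRight.toRingHom : _ →+* T ⊗[R] S)).Cotangent :=
  LinearEquiv.ofBijective (I.tensorCotangentHom R T)
    ⟨tensorCotangentHom_injective_of_flat_quotient R T I, I.tensorCotangentHom_surjective R T⟩

lemma tensorCotangentEquivOfFlatQuotient_tmul [Module.Flat R (S ⧸ I)] (t : T) (x : I) :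
    tensorCotangentEquivOfFlatQuotient R T I (t ⊗ₜ I.toCotangent x) =
      t • (I.map (Algebra.TensorProduct.includeRight.toRingHom : S →+* T ⊗[R] S)).toCotangent
        ⟨1 ⊗ₜ x, Ideal.mem_map_of_mem _ x.2⟩ :=
  rfl

end Ideal

end Groth.Agent.Lib.helper13.NLFlat
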