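import Mathlib
import Groth.Agent.Lib.Helper13.NLFlat4

/-!
# Base change of the cotangent module of an extension of a flat algebra (helper13)
-/

set_option autoImplicit false
universe u
open TensorProduct Algebra

namespace Groth.Agent.Lib.helper13.NLFlat

variable {R S : Type*} [CommRing R] [CommRing S] [Algebra R S] (P : Extension.{u} R S)
variable (T : Type*) [CommRing T] [Algebra R T]

lemma flat_ring_quotient_ker [Module.Flat R S] : Module.Flat R (P.Ring ⧸ P.ker) :=
  Module.Flat.of_linearEquiv
    (Ideal.quotientKerAlgEquivOfSurjective (f := IsScalarTower.toAlgHom R P.Ring S)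
      P.algebraMap_surjective).toLinearEquiv

set_option backward.isDefEq.respectTransparency.types false in
/-- If `S` is flat over `R`, there is a `T`-linear isomorphism
`T ⊗[R] P.Cotangent ≃ₗ[T] (P.baseChange).Cotangent` (variant of Mathlib's `tensorCotangentOfFlat`,
which assumes `T` flat). -/
noncomputable def tensorCotangentOfFlatTarget [Module.Flat R S] :
    T ⊗[R] P.Cotangent ≃ₗ[T] (P.baseChange (T := T)).Cotangent :=
  haveI : Module.Flat R (P.Ring ⧸ P.ker) := flat_ring_quotient_ker P
  AlgebraTensorModule.congr (.refl T T) (P.cotangentEquivCotangentKer.restrictScalars R) ≪≫ₗ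
    tensorCotangentEquivOfFlatQuotient R T P.ker ≪≫ₗ
    (Ideal.Cotangent.equivOfEq _ _ (P.ker_baseChange T).symm).restrictScalars T ≪≫ₗ
    (P.baseChange (T := T)).cotangentEquivCotangentKer.symm.restrictScalars T

set_option backward.isDefEq.respectTransparency.types false in
attribute [local instance] Algebra.TensorProduct.rightAlgebra in
lemma tensorCotangentOfFlatTarget_tmul [Module.Flat R S] (t : T) (x : P.Cotangent) :
    tensorCotangentOfFlatTarget P T (t ⊗ₜ x) =
      t • Extension.Cotangent.map (P.toBaseChange T) x := by
  obtain ⟨x, rfl⟩ := Extension.Cotangent.mk_surjective x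
  simp only [tensorCotangentOfFlatTarget, LinearEquiv.trans_apply, AlgebraTensorModule.congr_tmul,
    LinearEquiv.refl_apply, LinearEquiv.restrictScalars_apply,
    Extension.cotangentEquivCotangentKer_apply,
    Extension.Cotangent.val_mk, tensorCotangentEquivOfFlatQuotient_tmul, map_smul,
    Extension.Cotangent.map_mk,
    Extension.Hom.toAlgHom_apply, Ideal.Cotangent.equivOfEq_toCotangent]
  rfl

set_option backward.isDefEq.respectTransparency.types false in
attribute [local instance] Algebra.TensorProduct.rightAlgebra in
/-- for `S` flat over `R`, the cotangent module of the base-changed extension is the base change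
of the cotangent module along `S → T ⊗[R] S` -/
theorem isBaseChange_cotangent_map [Module.Flat R S] :
    IsBaseChange (T ⊗[R] S) (Extension.Cotangent.map (P.toBaseChange T)) := by
  let L : (T ⊗[R] S) ⊗[S] P.Cotangent →ₗ[T ⊗[R] S] (P.baseChange (T := T)).Cotangent :=
    LinearMap.liftBaseChange (T ⊗[R] S) (Extension.Cotangent.map (P.toBaseChange T))
  let c := Algebra.IsPushout.cancelBaseChange R T S (T ⊗[R] S) P.Cotangent
  have hcomp : ∀ z : T ⊗[R] P.Cotangent, L (c.symm z) = tensorCotangentOfFlatTarget P T z := by
    intro z
    induction z with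
    | zero => simp
    | add x y hx hy => simp only [map_add, hx, hy]
    | tmul t m =>
      rw [Algebra.IsPushout.cancelBaseChange_symm_tmul, tensorCotangentOfFlatTarget_tmul]
      simp only [L, LinearMap.liftBaseChange_tmul]
      rw [algebraMap_smul]
  have hL : ⇑L = ⇑(tensorCotangentOfFlatTarget P T) ∘ ⇑c := by
    funext w
    have h := hcomp (c w)
    rw [LinearEquiv.symm_apply_apply] at h
    exact h
  have hbij : Function.Bijective L := by
    rw [hL]
    exact (tensorCotangentOfFlatTarget P T).bijective.comp c.bijective
  exact IsBaseChange.of_equiv (LinearEquiv.ofBijective L hbij) (fun x => by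
    simp [L])

attribute [local instance] Algebra.TensorProduct.rightAlgebra in
/-- for `S` flat over `R`: if the cotangent module of `P` is flat over `S`, the cotangent module
of the base change of `P` is flat over `T ⊗[R] S` -/
theorem flat_cotangent_baseChange [Module.Flat R S] [Module.Flat S P.Cotangent] :
    Module.Flat (T ⊗[R] S) (P.baseChange (T := T)).Cotangent :=
  Module.Flat.isBaseChange S (T ⊗[R] S) P.Cotangent _ (isBaseChange_cotangent_map P T)

end Groth.Agent.Lib.helper13.NLFlat
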