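import Mathlib
import Groth.Prelude.Def_SheafNL
import Groth.Agent.Lib.Helper13.NLBC2
import Groth.Agent.Lib.Helper13.NLFlat5

/-!
# Base change of the naive cotangent complex of a presentation along a pushout square:
components (helper13)
-/

set_option autoImplicit false
universe u
open CategoryTheory TensorProduct Algebra MvPolynomial

namespace Groth.Agent.Lib.helper13.NLBC

section DegreeZero

variable {R S : Type u} [CommRing R] [CommRing S] [Algebra R S]
variable {R' S' : Type u} [CommRing R'] [CommRing S'] [Algebra R' S'] [Algebra R R'] [Algebra S S']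
  [Algebra R S'] [IsScalarTower R R' S'] [IsScalarTower R S S']

lemma sameVarsHom_toAlgHom_X {ι : Type u} (G : Generators R S ι) (G' : Generators R' S' ι)
    (h : ∀ i, G'.val i = algebraMap S S' (G.val i)) (i : ι) :
    (NLCx.sameVarsHom G G' h).toExtensionHom.toAlgHom (X i) = X i := by
  rw [Generators.Hom.toExtensionHom_toAlgHom_apply, Generators.Hom.toAlgHom_X]
  rfl

/-- in degree `0`, the base change map for presentations on the same variables is bijective
(for any commutative square) -/
theorem bijective_liftBaseChange_cotangentSpace_sameVars {ι : Type u} (G : Generators R S ι)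
    (G' : Generators R' S' ι) (h : ∀ i, G'.val i = algebraMap S S' (G.val i)) :
    Function.Bijective (LinearMap.liftBaseChange S'
      (Extension.CotangentSpace.map (NLCx.sameVarsHom G G' h).toExtensionHom)) := by
  let b := (G.cotangentSpaceBasis).baseChange S'
  let e : S' ⊗[S] G.toExtension.CotangentSpace ≃ₗ[S'] G'.toExtension.CotangentSpace :=
    b.equiv G'.cotangentSpaceBasis (Equiv.refl ι)
  have he : LinearMap.liftBaseChange S'
      (Extension.CotangentSpace.map (NLCx.sameVarsHom G G' h).toExtensionHom) =
      e.toLinearMap := by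
    refine b.ext (fun i => ?_)
    have h1 : G.cotangentSpaceBasis i = (1 : S) ⊗ₜ[G.toExtension.Ring]
        KaehlerDifferential.D R G.toExtension.Ring (X i) := G.cotangentSpaceBasis_apply i
    have h2 : G'.cotangentSpaceBasis i = (1 : S') ⊗ₜ[G'.toExtension.Ring]
        KaehlerDifferential.D R' G'.toExtension.Ring (X i) := G'.cotangentSpaceBasis_apply i
    rw [LinearEquiv.coe_coe, Module.Basis.equiv_apply, Module.Basis.baseChange_apply,
      LinearMap.liftBaseChange_tmul, one_smul, h1,
      Extension.CotangentSpace.map_tmul, sameVarsHom_toAlgHom_X, map_one, Equiv.refl_apply, h2]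
  rw [he]
  exact e.bijective

end DegreeZero

section AbstractTransport

variable {R' T S' : Type u} [CommRing R'] [CommRing T] [CommRing S'] [Algebra R' T] [Algebra R' S']
  [Algebra T S'] {Q : Extension.{u} R' T} {P' : Extension.{u} R' S'}
  (ψ : Q.Ring ≃ₐ[R'] P'.Ring)
  (hψ : ∀ x, algebraMap P'.Ring S' (ψ x) = algebraMap T S' (algebraMap Q.Ring T x))

/-- an isomorphism of extensions over an isomorphism of rings `T ≃ S'`, as a morphism -/
noncomputable def transportHom : Q.Hom P' where
  toRingHom := (ψ : Q.Ring →+* P'.Ring)
  toRingHom_algebraMap x := by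
    change ψ (algebraMap R' Q.Ring x) = _
    rw [ψ.commutes]
    rfl
  algebraMap_toRingHom x := hψ x

lemma transportHom_toRingHom_apply (x : Q.Ring) : (transportHom ψ hψ).toRingHom x = ψ x := rfl

variable (he : Function.Injective (algebraMap T S'))

include hψ he in
lemma mem_ker_transport_iff (x : Q.Ring) : ψ x ∈ P'.ker ↔ x ∈ Q.ker := by
  rw [RingHom.mem_ker, RingHom.mem_ker, hψ x]
  exact map_eq_zero_iff _ he

include hψ he in
lemma ker_eq_map_symm : Q.ker = P'.ker.map (ψ.symm : P'.Ring →+* Q.Ring) := by
  apply le_antisymm
  · intro x hx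
    have h1 : ψ x ∈ P'.ker := (mem_ker_transport_iff ψ hψ he x).mpr hx
    have h2 := Ideal.mem_map_of_mem (ψ.symm : P'.Ring →+* Q.Ring) h1
    have h3 : (ψ.symm : P'.Ring →+* Q.Ring) (ψ x) = x := ψ.symm_apply_apply x
    rw [h3] at h2
    exact h2
  · rw [Ideal.map_le_iff_le_comap]
    intro y hy
    rw [Ideal.mem_comap]
    apply (mem_ker_transport_iff ψ hψ he _).mp
    have h3 : ψ ((ψ.symm : P'.Ring →+* Q.Ring) y) = y := ψ.apply_symm_apply y
    rw [h3]
    exact hy

variable [IsScalarTower R' T S']

include he in
theorem bijective_cotangent_map_transportHom :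
    Function.Bijective (Extension.Cotangent.map (transportHom ψ hψ)) := by
  constructor
  · rw [injective_iff_map_eq_zero]
    intro x hx
    obtain ⟨x, rfl⟩ := Extension.Cotangent.mk_surjective x
    rw [Extension.Cotangent.map_mk, Extension.Cotangent.mk_eq_zero_iff] at hx
    rw [Extension.Cotangent.mk_eq_zero_iff]
    have h2 := Ideal.mem_map_of_mem (ψ.symm : P'.Ring →+* Q.Ring) hx
    have h3 : (ψ.symm : P'.Ring →+* Q.Ring) (ψ x.1) = x.1 := ψ.symm_apply_apply x.1
    rw [Ideal.map_pow, ← ker_eq_map_symm ψ hψ he] at h2
    rw [← h3]
    exact h2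
  · intro y
    obtain ⟨y, rfl⟩ := Extension.Cotangent.mk_surjective y
    have hy : ψ.symm y.1 ∈ Q.ker := by
      apply (mem_ker_transport_iff ψ hψ he _).mp
      rw [ψ.apply_symm_apply]
      exact y.2
    refine ⟨Extension.Cotangent.mk ⟨ψ.symm y.1, hy⟩, ?_⟩
    rw [Extension.Cotangent.map_mk]
    congr 1
    exact Subtype.ext (ψ.apply_symm_apply y.1)

end AbstractTransport

section TensorCotangentHom

variable {R S : Type u} [CommRing R] [CommRing S] [Algebra R S] (P : Extension.{u} R S)
variable (T : Type u) [CommRing T] [Algebra R T]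

set_option backward.isDefEq.respectTransparency.types false in
/-- The canonical `T`-linear map `T ⊗[R] P.Cotangent → (P.baseChange).Cotangent`; it is always
surjective (and bijective when `T` or `S` is flat over `R`). -/
noncomputable def tensorCotangentHom :
    T ⊗[R] P.Cotangent →ₗ[T] (P.baseChange (T := T)).Cotangent :=
  ((P.baseChange (T := T)).cotangentEquivCotangentKer.symm.restrictScalars T).toLinearMap ∘ₗ
    ((Ideal.Cotangent.equivOfEq _ _ (P.ker_baseChange T).symm).restrictScalars T).toLinearMap ∘ₗ
    P.ker.tensorCotangentHom R T ∘ₗ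
    (AlgebraTensorModule.congr (.refl T T)
      (P.cotangentEquivCotangentKer.restrictScalars R)).toLinearMap

set_option backward.isDefEq.respectTransparency.types false in
attribute [local instance] Algebra.TensorProduct.rightAlgebra in
lemma tensorCotangentHom_tmul (t : T) (x : P.Cotangent) :
    tensorCotangentHom P T (t ⊗ₜ x) = t • Extension.Cotangent.map (P.toBaseChange T) x := by
  obtain ⟨x, rfl⟩ := Extension.Cotangent.mk_surjective x
  simp only [tensorCotangentHom, LinearMap.coe_comp, LinearEquiv.coe_coe, Function.comp_apply,
    AlgebraTensorModule.congr_tmul,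
    LinearEquiv.refl_apply, LinearEquiv.restrictScalars_apply,
    Extension.cotangentEquivCotangentKer_apply,
    Extension.Cotangent.val_mk, Ideal.tensorCotangentHom_tmul, map_smul,
    Extension.Cotangent.map_mk,
    Extension.Hom.toAlgHom_apply, Ideal.Cotangent.equivOfEq_toCotangent]
  rfl

set_option backward.isDefEq.respectTransparency.types false in
lemma tensorCotangentHom_surjective : Function.Surjective (tensorCotangentHom P T) := by
  unfold tensorCotangentHom
  rw [LinearMap.coe_comp, LinearMap.coe_comp, LinearMap.coe_comp]
  exact (LinearEquiv.surjective _).comp ((LinearEquiv.surjective _).comp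
    ((Ideal.tensorCotangentHom_surjective R T P.ker).comp (LinearEquiv.surjective _)))

end TensorCotangentHom

section Transport

variable {R S : Type u} [CommRing R] [CommRing S] [Algebra R S]
variable {R' S' : Type u} [CommRing R'] [CommRing S'] [Algebra R' S'] [Algebra R R'] [Algebra S S']
  [Algebra R S'] [IsScalarTower R R' S'] [IsScalarTower R S S'] [Algebra.IsPushout R R' S S']

variable (R S R' S') in
/-- the algebra structure `R' ⊗[R] S → S'` of a pushout square -/
@[instance_reducible]
noncomputable def algebraPushout : Algebra (R' ⊗[R] S) S' :=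
  (Algebra.IsPushout.equiv R R' S S').toAlgHom.toRingHom.toAlgebra

attribute [local instance] algebraPushout Algebra.TensorProduct.rightAlgebra

lemma algebraMap_pushout_apply (x : R' ⊗[R] S) :
    algebraMap (R' ⊗[R] S) S' x = Algebra.IsPushout.equiv R R' S S' x := rfl

lemma algebraMap_pushout_injective : Function.Injective (algebraMap (R' ⊗[R] S) S') :=
  (Algebra.IsPushout.equiv R R' S S').injective

instance isScalarTower_pushout_left : IsScalarTower R' (R' ⊗[R] S) S' :=
  IsScalarTower.of_algebraMap_eq (fun x => by
    rw [algebraMap_pushout_apply, AlgEquiv.commutes])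

instance isScalarTower_pushout_right : IsScalarTower S (R' ⊗[R] S) S' :=
  IsScalarTower.of_algebraMap_eq (fun x => by
    rw [algebraMap_pushout_apply]
    change _ = Algebra.IsPushout.equiv R R' S S' (1 ⊗ₜ x)
    rw [Algebra.IsPushout.equiv_tmul, map_one, one_mul])

variable {P : Extension.{u} R S} {P' : Extension.{u} R' S'} (f : P.Hom P')
  (ψ : R' ⊗[R] P.Ring ≃ₐ[R'] P'.Ring) (hψ : ∀ p : P.Ring, ψ (1 ⊗ₜ p) = f.toRingHom p)

include hψ in
lemma algebraMap_transport (x : R' ⊗[R] P.Ring) :
    algebraMap P'.Ring S' (ψ x) =
      algebraMap (R' ⊗[R] S) S'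
        (algebraMap (P.baseChange (T := R')).Ring (R' ⊗[R] S) x) := by
  let φ : R' ⊗[R] P.Ring →+* R' ⊗[R] S :=
    algebraMap (P.baseChange (T := R')).Ring (R' ⊗[R] S)
  have hφ : ∀ (a : R') (p : P.Ring), φ (a ⊗ₜ[R] p) = a ⊗ₜ[R] algebraMap P.Ring S p :=
    fun _ _ => rfl
  change algebraMap P'.Ring S' (ψ x) = Algebra.IsPushout.equiv R R' S S' (φ x)
  induction x with
  | zero => simp
  | add x y hx hy => simp only [map_add, hx, hy]
  | tmul a p =>
    have h1 : (a ⊗ₜ[R] p : R' ⊗[R] P.Ring) = a • (1 ⊗ₜ[R] p) := by
      rw [TensorProduct.smul_tmul', smul_eq_mul, mul_one]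
    rw [hφ, Algebra.IsPushout.equiv_tmul, h1, map_smul, hψ, Algebra.smul_def, map_mul,
      f.algebraMap_toRingHom, ← IsScalarTower.algebraMap_apply]

/-- the comparison morphism from the base change of `P` to `P'` -/
noncomputable def pushoutHom : (P.baseChange (T := R')).Hom P' :=
  transportHom (Q := P.baseChange (T := R')) ψ (algebraMap_transport f ψ hψ)

theorem bijective_cotangent_map_pushoutHom :
    Function.Bijective (Extension.Cotangent.map (pushoutHom f ψ hψ)) :=
  bijective_cotangent_map_transportHom (Q := P.baseChange (T := R')) ψ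
    (algebraMap_transport f ψ hψ) algebraMap_pushout_injective

lemma cotangent_map_pushoutHom_toBaseChange (x : P.Cotangent) :
    Extension.Cotangent.map (pushoutHom f ψ hψ) (Extension.Cotangent.map (P.toBaseChange R') x) =
      Extension.Cotangent.map f x := by
  obtain ⟨x, rfl⟩ := Extension.Cotangent.mk_surjective x
  rw [Extension.Cotangent.map_mk, Extension.Cotangent.map_mk, Extension.Cotangent.map_mk]
  congr 1
  exact Subtype.ext (hψ x.1)

lemma cotangent_map_pushoutHom_smul (t : R') (y : (P.baseChange (T := R')).Cotangent) :
    Extension.Cotangent.map (pushoutHom f ψ hψ) (t • y) =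
      t • Extension.Cotangent.map (pushoutHom f ψ hψ) y := by
  rw [← algebraMap_smul (R' ⊗[R] S) t y, map_smul, algebraMap_smul]

/-- the base change map on `I/I²` agrees with the comparison map, via cancellation -/
theorem liftBaseChange_cotangent_cancel_symm
    (E : R' ⊗[R] P.Cotangent →ₗ[R'] (P.baseChange (T := R')).Cotangent)
    (hE : ∀ (t : R') (x : P.Cotangent),
      E (t ⊗ₜ x) = t • Extension.Cotangent.map (P.toBaseChange R') x)
    (z : R' ⊗[R] P.Cotangent) :
    LinearMap.liftBaseChange S' (Extension.Cotangent.map f)
        ((Algebra.IsPushout.cancelBaseChange R R' S S' P.Cotangent).symm z) =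
      Extension.Cotangent.map (pushoutHom f ψ hψ) (E z) := by
  induction z with
  | zero => simp
  | add x y hx hy => simp only [map_add, hx, hy]
  | tmul t x =>
    rw [Algebra.IsPushout.cancelBaseChange_symm_tmul, LinearMap.liftBaseChange_tmul, hE,
      cotangent_map_pushoutHom_smul, cotangent_map_pushoutHom_toBaseChange, algebraMap_smul]

include hψ in
/-- transport of bijectivity in degree `-1` to an abstract pushout square -/
theorem bijective_liftBaseChange_cotangent
    (E : R' ⊗[R] P.Cotangent ≃ₗ[R'] (P.baseChange (T := R')).Cotangent)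
    (hE : ∀ (t : R') (x : P.Cotangent),
      E (t ⊗ₜ x) = t • Extension.Cotangent.map (P.toBaseChange R') x) :
    Function.Bijective (LinearMap.liftBaseChange S' (Extension.Cotangent.map f)) := by
  have h : ∀ w : S' ⊗[S] P.Cotangent,
      LinearMap.liftBaseChange S' (Extension.Cotangent.map f) w =
        Extension.Cotangent.map (pushoutHom f ψ hψ)
          (E (Algebra.IsPushout.cancelBaseChange R R' S S' P.Cotangent w)) := fun w => by
    have := liftBaseChange_cotangent_cancel_symm f ψ hψ E.toLinearMap hE
      (Algebra.IsPushout.cancelBaseChange R R' S S' P.Cotangent w)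
    rwa [LinearEquiv.symm_apply_apply] at this
  have h' : ⇑(LinearMap.liftBaseChange S' (Extension.Cotangent.map f)) =
      ⇑(Extension.Cotangent.map (pushoutHom f ψ hψ)) ∘ ⇑E ∘
        ⇑(Algebra.IsPushout.cancelBaseChange R R' S S' P.Cotangent) := funext h
  rw [h']
  exact (bijective_cotangent_map_pushoutHom f ψ hψ).comp
    (E.bijective.comp (Algebra.IsPushout.cancelBaseChange R R' S S' P.Cotangent).bijective)

include hψ in
/-- surjectivity in degree `-1` for an abstract pushout square -/
theorem surjective_liftBaseChange_cotangent :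
    Function.Surjective (LinearMap.liftBaseChange S' (Extension.Cotangent.map f)) := by
  have h : ∀ w : S' ⊗[S] P.Cotangent,
      LinearMap.liftBaseChange S' (Extension.Cotangent.map f) w =
        Extension.Cotangent.map (pushoutHom f ψ hψ)
          (tensorCotangentHom P R'
            (Algebra.IsPushout.cancelBaseChange R R' S S' P.Cotangent w)) := fun w => by
    have := liftBaseChange_cotangent_cancel_symm f ψ hψ (tensorCotangentHom P R')
      (tensorCotangentHom_tmul P R')
      (Algebra.IsPushout.cancelBaseChange R R' S S' P.Cotangent w)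
    rwa [LinearEquiv.symm_apply_apply] at this
  have h' : ⇑(LinearMap.liftBaseChange S' (Extension.Cotangent.map f)) =
      ⇑(Extension.Cotangent.map (pushoutHom f ψ hψ)) ∘ ⇑(tensorCotangentHom P R') ∘
        ⇑(Algebra.IsPushout.cancelBaseChange R R' S S' P.Cotangent) := funext h
  rw [h']
  exact (bijective_cotangent_map_pushoutHom f ψ hψ).2.comp
    ((tensorCotangentHom_surjective P R').comp
      (Algebra.IsPushout.cancelBaseChange R R' S S' P.Cotangent).surjective)

end Transport

section SameVars

variable {R S : Type u} [CommRing R] [CommRing S] [Algebra R S]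
variable {R' S' : Type u} [CommRing R'] [CommRing S'] [Algebra R' S'] [Algebra R R'] [Algebra S S']
  [Algebra R S'] [IsScalarTower R R' S'] [IsScalarTower R S S'] [Algebra.IsPushout R R' S S']
variable {ι : Type u} (G : Generators R S ι) (G' : Generators R' S' ι)
  (h : ∀ i, G'.val i = algebraMap S S' (G.val i))

lemma algebraTensorAlgEquiv_one_tmul (p : MvPolynomial ι R) :
    MvPolynomial.algebraTensorAlgEquiv R R' ((1 : R') ⊗ₜ[R] p) =
      (NLCx.sameVarsHom G G' h).toExtensionHom.toRingHom p := by
  rw [MvPolynomial.algebraTensorAlgEquiv_tmul, one_smul]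
  change _ = MvPolynomial.aeval (fun i => (MvPolynomial.X i : MvPolynomial ι R')) p
  induction p using MvPolynomial.induction_on with
  | C a => simp [MvPolynomial.algebraMap_eq, IsScalarTower.algebraMap_apply R R' (MvPolynomial ι R')]
  | add p q hp hq => simp only [map_add, hp, hq]
  | mul_X p i hp => simp only [map_mul, hp, MvPolynomial.map_X, MvPolynomial.aeval_X]

/-- surjectivity in degree `-1` for presentations on the same variables over a pushout square -/
theorem surjective_liftBaseChange_cotangent_sameVars :
    Function.Surjective (LinearMap.liftBaseChange S'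
      (Extension.Cotangent.map (NLCx.sameVarsHom G G' h).toExtensionHom)) :=
  surjective_liftBaseChange_cotangent (P := G.toExtension) (P' := G'.toExtension) _
    (MvPolynomial.algebraTensorAlgEquiv R R') (algebraTensorAlgEquiv_one_tmul G G' h)

attribute [local instance] Algebra.TensorProduct.rightAlgebra in
/-- bijectivity in degree `-1` for presentations on the same variables over a pushout square,
given bijectivity for the concrete tensor product -/
theorem bijective_liftBaseChange_cotangent_sameVars
    (E : R' ⊗[R] G.toExtension.Cotangent ≃ₗ[R'] (G.toExtension.baseChange (T := R')).Cotangent)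
    (hE : ∀ (t : R') (x : G.toExtension.Cotangent),
      E (t ⊗ₜ x) = t • Extension.Cotangent.map (G.toExtension.toBaseChange R') x) :
    Function.Bijective (LinearMap.liftBaseChange S'
      (Extension.Cotangent.map (NLCx.sameVarsHom G G' h).toExtensionHom)) :=
  bijective_liftBaseChange_cotangent (P := G.toExtension) (P' := G'.toExtension) _
    (MvPolynomial.algebraTensorAlgEquiv R R') (algebraTensorAlgEquiv_one_tmul G G' h) E hE

/-- `R'` flat over `R`: bijectivity in degree `-1` -/
theorem bijective_liftBaseChange_cotangent_sameVars_of_flat_base [Module.Flat R R'] :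
    Function.Bijective (LinearMap.liftBaseChange S'
      (Extension.Cotangent.map (NLCx.sameVarsHom G G' h).toExtensionHom)) :=
  bijective_liftBaseChange_cotangent_sameVars G G' h (G.toExtension.tensorCotangentOfFlat R')
    (G.toExtension.tensorCotangentOfFlat_tmul R')

/-- `S` flat over `R`: bijectivity in degree `-1` -/
theorem bijective_liftBaseChange_cotangent_sameVars_of_flat [Module.Flat R S] :
    Function.Bijective (LinearMap.liftBaseChange S'
      (Extension.Cotangent.map (NLCx.sameVarsHom G G' h).toExtensionHom)) :=
  bijective_liftBaseChange_cotangent_sameVars G G' h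
    (NLFlat.tensorCotangentOfFlatTarget G.toExtension R')
    (NLFlat.tensorCotangentOfFlatTarget_tmul G.toExtension R')

/-- over a pushout square, `bcMap` for presentations on the same variables is an isomorphism of
complexes when `R'` is flat over `R` -/
theorem isIso_bcMap_sameVars_of_flat_base [Module.Flat R R'] :
    IsIso (NLCx.bcMap (S' := S') (NLCx.sameVarsHom G G' h).toExtensionHom) :=
  isIso_bcMap _ (bijective_liftBaseChange_cotangent_sameVars_of_flat_base G G' h)
    (bijective_liftBaseChange_cotangentSpace_sameVars G G' h)

/-- over a pushout square, `bcMap` for presentations on the same variables is an isomorphism of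
complexes when `S` is flat over `R` -/
theorem isIso_bcMap_sameVars_of_flat [Module.Flat R S] :
    IsIso (NLCx.bcMap (S' := S') (NLCx.sameVarsHom G G' h).toExtensionHom) :=
  isIso_bcMap _ (bijective_liftBaseChange_cotangent_sameVars_of_flat G G' h)
    (bijective_liftBaseChange_cotangentSpace_sameVars G G' h)

end SameVars

end Groth.Agent.Lib.helper13.NLBC
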