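import Mathlib
import Groth.Prelude.Def_SheafNL
import Groth.Agent.Lib.Helper13.NLBC3

/-!
# `bcMapSelf` over a pushout square is a homotopy equivalence when the base change map for
presentations on the same variables is an isomorphism (helper13)
-/

set_option autoImplicit false
universe u
open CategoryTheory TensorProduct Algebra MvPolynomial

namespace Groth.Agent.Lib.helper13.NLBC

variable (R S R' S' : Type u) [CommRing R] [CommRing S] [Algebra R S]
  [CommRing R'] [CommRing S'] [Algebra R' S'] [Algebra R R'] [Algebra S S']
  [Algebra R S'] [IsScalarTower R R' S'] [IsScalarTower R S S']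

section

variable [Algebra.IsPushout R R' S S']

/-- in a pushout square the images of the elements of `S` generate `S'` over `R'` -/
lemma aeval_algebraMap_surjective {ι : Type u} (v : ι → S)
    (hv : Function.Surjective (aeval (R := R) v)) :
    Function.Surjective (aeval (R := R') (fun i => algebraMap S S' (v i))) := by
  intro x
  obtain ⟨z, rfl⟩ := (Algebra.IsPushout.equiv R R' S S').surjective x
  induction z with
  | zero => exact ⟨0, by simp⟩
  | add x y hx hy =>
    obtain ⟨a, ha⟩ := hx
    obtain ⟨b, hb⟩ := hy
    exact ⟨a + b, by rw [map_add, ha, hb, map_add]⟩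
  | tmul a b =>
    obtain ⟨p, rfl⟩ := hv b
    refine ⟨a • MvPolynomial.map (algebraMap R R') p, ?_⟩
    rw [map_smul, Algebra.IsPushout.equiv_tmul, Algebra.smul_def]
    congr 1
    rw [MvPolynomial.aeval_map_algebraMap]
    have : ∀ q : MvPolynomial ι R, aeval (fun i => algebraMap S S' (v i)) q =
        algebraMap S S' (aeval v q) := fun q => by
      induction q using MvPolynomial.induction_on with
      | C r => simp [← IsScalarTower.algebraMap_apply]
      | add p q hp hq => simp only [map_add, hp, hq]
      | mul_X p i hp => simp only [map_mul, hp, aeval_X]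
    exact this p

/-- the base change of a presentation to a pushout square: same variables -/
noncomputable def sameVarsGenerators {ι : Type u} (G : Generators R S ι) : Generators R' S' ι :=
  Generators.ofSurjective (fun i => algebraMap S S' (G.val i))
    (aeval_algebraMap_surjective R S R' S' G.val (fun x => ⟨G.σ x, G.aeval_val_σ x⟩))

lemma sameVarsGenerators_val {ι : Type u} (G : Generators R S ι) (i : ι) :
    (sameVarsGenerators R S R' S' G).val i = algebraMap S S' (G.val i) := rfl

end

section HomotopyEquiv

variable {R S R' S'}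

/-- If `bcMap f₁` is an isomorphism for one morphism `f₁ : P → P₁` of extensions over the square,
then `bcMap d` is a homotopy equivalence for every `d : P → P'`, provided there are morphisms of
extensions `P₁ → P'` and `P' → P₁`. -/
noncomputable def homotopyEquivBcMap {P : Extension.{u} R S} {P₁ P' : Extension.{u} R' S'}
    (f₁ : P.Hom P₁) [IsIso (NLCx.bcMap (S' := S') f₁)] (d : P.Hom P') (f₂ : P₁.Hom P')
    (f₃ : P'.Hom P₁) : HomotopyEquiv (NLCx.bcCx P S') (NLCx.cx P') where
  hom := NLCx.bcMap d
  inv := NLCx.map f₃ ≫ inv (NLCx.bcMap (S' := S') f₁)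
  homotopyHomInvId :=
    (Homotopy.ofEq (by rw [← Category.assoc, ← bcMap_comp])).trans
      (((homotopyBcMap (f₃.comp d) f₁).compRight (inv (NLCx.bcMap (S' := S') f₁))).trans
        (Homotopy.ofEq (IsIso.hom_inv_id _)))
  homotopyInvHomId :=
    (((homotopyBcMap d (f₂.comp f₁)).compLeft
        (NLCx.map f₃ ≫ inv (NLCx.bcMap (S' := S') f₁))).trans
      (Homotopy.ofEq (by
        rw [bcMap_comp, Category.assoc, IsIso.inv_hom_id_assoc, ← map_comp]))).trans
      ((homotopyMap (f₂.comp f₃) (Extension.Hom.id P')).trans (Homotopy.ofEq (map_id P')))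

@[simp]
lemma homotopyEquivBcMap_hom {P : Extension.{u} R S} {P₁ P' : Extension.{u} R' S'}
    (f₁ : P.Hom P₁) [IsIso (NLCx.bcMap (S' := S') f₁)] (d : P.Hom P') (f₂ : P₁.Hom P')
    (f₃ : P'.Hom P₁) : (homotopyEquivBcMap f₁ d f₂ f₃).hom = NLCx.bcMap d := rfl

end HomotopyEquiv

section Self

variable [Algebra.IsPushout R R' S S']

/-- over a pushout square, `bcMapSelf` is (the forward map of) a homotopy equivalence as soon as
the base change map for the presentation by all elements of `S` and the presentation of `S'` on
the same variables is an isomorphism of complexes -/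
theorem exists_homotopyEquiv_bcMapSelf
    (hiso : ∀ (G₁ : Generators R' S' S)
      (h : ∀ s, G₁.val s = algebraMap S S' ((Generators.self R S).val s)),
      IsIso (NLCx.bcMap (S' := S') (NLCx.sameVarsHom (Generators.self R S) G₁ h).toExtensionHom)) :
    ∃ e : HomotopyEquiv (NLCx.bcCx (Generators.self R S).toExtension S')
        (NLCx.cx (Generators.self R' S').toExtension),
      e.hom = NLCx.bcMapSelf R S R' S' := by
  let G₁ : Generators R' S' S := sameVarsGenerators R S R' S' (Generators.self R S)
  have h₁ : ∀ s, G₁.val s = algebraMap S S' ((Generators.self R S).val s) := fun s => rfl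
  haveI := hiso G₁ h₁
  exact ⟨homotopyEquivBcMap (NLCx.sameVarsHom (Generators.self R S) G₁ h₁).toExtensionHom
    ((Generators.self R S).defaultHom (Generators.self R' S')).toExtensionHom
    (G₁.defaultHom (Generators.self R' S')).toExtensionHom
    ((Generators.self R' S').defaultHom G₁).toExtensionHom, rfl⟩

/-- `R'` flat over `R` -/
theorem exists_homotopyEquiv_bcMapSelf_of_flat_base [Module.Flat R R'] :
    ∃ e : HomotopyEquiv (NLCx.bcCx (Generators.self R S).toExtension S')
        (NLCx.cx (Generators.self R' S').toExtension),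
      e.hom = NLCx.bcMapSelf R S R' S' :=
  exists_homotopyEquiv_bcMapSelf R S R' S'
    (fun G₁ h => isIso_bcMap_sameVars_of_flat_base _ G₁ h)

/-- `S` flat over `R` -/
theorem exists_homotopyEquiv_bcMapSelf_of_flat [Module.Flat R S] :
    ∃ e : HomotopyEquiv (NLCx.bcCx (Generators.self R S).toExtension S')
        (NLCx.cx (Generators.self R' S').toExtension),
      e.hom = NLCx.bcMapSelf R S R' S' :=
  exists_homotopyEquiv_bcMapSelf R S R' S'
    (fun G₁ h => isIso_bcMap_sameVars_of_flat _ G₁ h)

/-- `S` flat over `R`: `bcMapSelf` is a quasi-isomorphism -/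
theorem quasiIso_bcMapSelf_of_flat [Module.Flat R S] : QuasiIso (NLCx.bcMapSelf R S R' S') := by
  obtain ⟨e, he⟩ := exists_homotopyEquiv_bcMapSelf_of_flat R S R' S'
  rw [← he]
  infer_instance

/-- `R'` flat over `R`: `bcMapSelf` is a quasi-isomorphism -/
theorem quasiIso_bcMapSelf_of_flat_base [Module.Flat R R'] :
    QuasiIso (NLCx.bcMapSelf R S R' S') := by
  obtain ⟨e, he⟩ := exists_homotopyEquiv_bcMapSelf_of_flat_base R S R' S'
  rw [← he]
  infer_instance

end Self

end Groth.Agent.Lib.helper13.NLBC
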