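import Mathlib
import Groth.Prelude.Def_SheafNL
import Groth.Agent.Lib.Helper13.NLBC4

/-!
# The map `bcH1Map` on `H^{-1}` of the base-changed naive cotangent complex (helper13)
-/

set_option autoImplicit false
universe u
open CategoryTheory TensorProduct Algebra MvPolynomial

namespace Groth.Agent.Lib.helper13.NLBC

section

variable {R S : Type u} [CommRing R] [CommRing S] [Algebra R S]
variable {R' S' : Type u} [CommRing R'] [CommRing S'] [Algebra R' S'] [Algebra R R'] [Algebra S S']
  [Algebra R S'] [IsScalarTower R R' S'] [IsScalarTower R S S']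
variable {P : Extension.{u} R S} {P' P'' : Extension.{u} R' S'}

lemma cotangentComplex_liftBaseChange (f : P.Hom P') (x : S' ⊗[S] P.Cotangent) :
    P'.cotangentComplex (LinearMap.liftBaseChange S' (Extension.Cotangent.map f) x) =
      LinearMap.liftBaseChange S' (Extension.CotangentSpace.map f)
        (P.cotangentComplex.baseChange S' x) := by
  induction x with
  | zero => simp
  | add x y hx hy => simp only [map_add, hx, hy]
  | tmul a y =>
    rw [LinearMap.liftBaseChange_tmul, LinearMap.baseChange_tmul, LinearMap.liftBaseChange_tmul,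
      map_smul, Extension.CotangentSpace.map_cotangentComplex]

@[simp]
lemma bcH1Map_coe (f : P.Hom P') (x : NLCx.bcH1 P S') :
    (NLCx.bcH1Map f x).1 = LinearMap.liftBaseChange S' (Extension.Cotangent.map f) x.1 := rfl

/-- `bcH1Map` does not depend on the morphism of extensions -/
theorem bcH1Map_eq (f g : P.Hom P') : NLCx.bcH1Map f = NLCx.bcH1Map g := by
  refine LinearMap.ext (fun x => Subtype.ext ?_)
  rw [bcH1Map_coe, bcH1Map_coe]
  have hx : P.cotangentComplex.baseChange S' x.1 = 0 := x.2
  have key : ∀ w : S' ⊗[S] P.Cotangent,
      LinearMap.liftBaseChange S' (Extension.Cotangent.map f) w =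
        LinearMap.liftBaseChange S' (f.sub g) (P.cotangentComplex.baseChange S' w) +
          LinearMap.liftBaseChange S' (Extension.Cotangent.map g) w := fun w => by
    induction w with
    | zero => simp
    | add x y hx hy => rw [map_add, hx, hy, map_add, map_add, map_add]; abel
    | tmul a y =>
      have h := LinearMap.congr_fun (Extension.Cotangent.map_sub_map f g) y
      rw [LinearMap.baseChange_tmul, LinearMap.liftBaseChange_tmul, LinearMap.liftBaseChange_tmul,
        LinearMap.liftBaseChange_tmul, ← smul_add]
      congr 1
      rw [← sub_eq_iff_eq_add]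
      exact h
  rw [key x.1, hx, map_zero, zero_add]

/-- `bcH1Map` of a composite -/
theorem bcH1Map_comp (f : P.Hom P') (g : P'.Hom P'') (x : NLCx.bcH1 P S') :
    NLCx.bcH1Map (g.comp f) x = Extension.H1Cotangent.map g (NLCx.bcH1Map f x) := by
  apply Subtype.ext
  rw [bcH1Map_coe]
  change _ = Extension.Cotangent.map g (LinearMap.liftBaseChange S' (Extension.Cotangent.map f) x.1)
  generalize x.1 = w
  induction w with
  | zero => simp
  | add x y hx hy => simp only [map_add, hx, hy]
  | tmul a y =>
    rw [LinearMap.liftBaseChange_tmul, LinearMap.liftBaseChange_tmul, map_smul]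
    congr 1
    exact LinearMap.congr_fun (Extension.Cotangent.map_comp _ f g) y

/-- surjectivity of `bcH1Map` from surjectivity in degree `-1` and injectivity in degree `0` -/
theorem bcH1Map_surjective_of (f : P.Hom P')
    (h₀ : Function.Surjective (LinearMap.liftBaseChange S' (Extension.Cotangent.map f)))
    (h₁ : Function.Injective (LinearMap.liftBaseChange S' (Extension.CotangentSpace.map f))) :
    Function.Surjective (NLCx.bcH1Map f) := by
  intro y
  obtain ⟨x, hx⟩ := h₀ y.1
  have hx' : x ∈ NLCx.bcH1 P S' := by
    change P.cotangentComplex.baseChange S' x = 0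
    apply h₁
    rw [← cotangentComplex_liftBaseChange, hx, map_zero]
    exact y.2
  exact ⟨⟨x, hx'⟩, Subtype.ext hx⟩

end

section Pushout

variable (R S R' S' : Type u) [CommRing R] [CommRing S] [Algebra R S]
  [CommRing R'] [CommRing S'] [Algebra R' S'] [Algebra R R'] [Algebra S S']
  [Algebra R S'] [IsScalarTower R R' S'] [IsScalarTower R S S'] [Algebra.IsPushout R R' S S']

variable {R S R' S'} in
theorem bcH1Map_surjective_sameVars {ι : Type u} (G : Generators R S ι) (G' : Generators R' S' ι)
    (h : ∀ i, G'.val i = algebraMap S S' (G.val i)) :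
    Function.Surjective (NLCx.bcH1Map (NLCx.sameVarsHom G G' h).toExtensionHom) :=
  bcH1Map_surjective_of _ (surjective_liftBaseChange_cotangent_sameVars G G' h)
    (bijective_liftBaseChange_cotangentSpace_sameVars G G' h).1

theorem bcH1Map_surjective_self :
    Function.Surjective (NLCx.bcH1Map
      ((Generators.self R S).defaultHom (Generators.self R' S')).toExtensionHom) := by
  let G₁ : Generators R' S' S := sameVarsGenerators R S R' S' (Generators.self R S)
  have h₁ : ∀ s, G₁.val s = algebraMap S S' ((Generators.self R S).val s) := fun s => rfl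
  let f₁ := (NLCx.sameVarsHom (Generators.self R S) G₁ h₁).toExtensionHom
  let f₂ := (G₁.defaultHom (Generators.self R' S')).toExtensionHom
  let f₃ := ((Generators.self R' S').defaultHom G₁).toExtensionHom
  intro y
  obtain ⟨x₁, hx₁⟩ := bcH1Map_surjective_sameVars (Generators.self R S) G₁ h₁
    (Extension.H1Cotangent.map f₃ y)
  refine ⟨x₁, ?_⟩
  rw [bcH1Map_eq _ (f₂.comp f₁), bcH1Map_comp, hx₁, ← Extension.H1Cotangent.map_comp_apply,
    Extension.H1Cotangent.map_eq (f₂.comp f₃) (Extension.Hom.id _), Extension.H1Cotangent.map_id]
  rfl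

end Pushout

end Groth.Agent.Lib.helper13.NLBC
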