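import Mathlib
import Groth.Prelude.Def_DRing2
import Groth.Agent.Lib.Helper23.TA10

/-!
# A two-term complex `M → F` with `F` flat and tor-amplitude in `[-1, 0]` has `M` flat (helper13)
-/

set_option autoImplicit false
universe u
open CategoryTheory CategoryTheory.Limits HomologicalComplex

attribute [local instance] HasDerivedCategory.standard

namespace Groth.Agent.Lib.helper13.NLFlat

open Groth.Agent.Lib.helper23.TA Groth.Agent.Lib.helper23.PCohAmp

section Abstract

variable {C : Type*} [Category C] [Abelian C]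

lemma shortExact_of_isZero_X₁_of_isIso (S : ShortComplex C) (h1 : IsZero S.X₁) (hg : IsIso S.g) :
    S.ShortExact where
  exact := (S.exact_iff_mono (h1.eq_of_src _ _)).2 inferInstance
  mono_f := ⟨fun a b _ => h1.eq_of_tgt a b⟩
  epi_g := inferInstance

lemma shortExact_of_isZero_X₃_of_isIso (S : ShortComplex C) (h3 : IsZero S.X₃) (hf : IsIso S.f) :
    S.ShortExact where
  exact := (S.exact_iff_epi (h3.eq_of_tgt _ _)).2 inferInstance
  mono_f := inferInstance
  epi_g := ⟨fun a b _ => h3.eq_of_src a b⟩

lemma shortExact_of_isZero (S : ShortComplex C) (h1 : IsZero S.X₁) (h2 : IsZero S.X₂)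
    (h3 : IsZero S.X₃) : S.ShortExact where
  exact := S.exact_of_isZero_X₂ h2
  mono_f := ⟨fun a b _ => h1.eq_of_tgt a b⟩
  epi_g := ⟨fun a b _ => h3.eq_of_src a b⟩

end Abstract

variable {B : Type u} [CommRing B] {M F : ModuleCat.{u} B} (d : M ⟶ F)
  (hrel : (ComplexShape.up ℤ).Rel (-1) 0)

/-- the inclusion of the degree `0` term -/
noncomputable def sesF :
    (single (ModuleCat.{u} B) (ComplexShape.up ℤ) 0).obj F ⟶ double d hrel :=
  mkHomFromSingle ((doubleXIso₁ d hrel (by omega)).inv) (fun k _ => by
    rw [double_d_eq_zero₀ d hrel 0 k (by omega), comp_zero])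

/-- the projection to the degree `-1` term -/
noncomputable def sesG :
    double d hrel ⟶ (single (ModuleCat.{u} B) (ComplexShape.up ℤ) (-1)).obj M :=
  mkHomToSingle ((doubleXIso₀ d hrel).hom) (fun i _ => by
    rw [double_d_eq_zero₁ d hrel i (-1) (by omega), zero_comp])

lemma sesF_sesG : sesF d hrel ≫ sesG d hrel = 0 := by
  apply HomologicalComplex.from_single_hom_ext
  exact (isZero_single_obj_X (ComplexShape.up ℤ) (-1) M 0 (by omega)).eq_of_tgt _ _

/-- the stupid-truncation short exact sequence of a two-term complex -/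
noncomputable def sesSC : ShortComplex (CochainComplex (ModuleCat.{u} B) ℤ) :=
  ShortComplex.mk (sesF d hrel) (sesG d hrel) (sesF_sesG d hrel)

lemma sesSC_shortExact : (sesSC d hrel).ShortExact := by
  apply HomologicalComplex.shortExact_of_degreewise_shortExact
  intro i
  by_cases h1 : i = -1
  · subst h1
    apply shortExact_of_isZero_X₁_of_isIso
    · exact isZero_single_obj_X (ComplexShape.up ℤ) 0 F (-1) (by omega)
    · change IsIso ((sesG d hrel).f (-1))
      rw [sesG, mkHomToSingle_f]
      infer_instance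
  · by_cases h0 : i = 0
    · subst h0
      apply shortExact_of_isZero_X₃_of_isIso
      · exact isZero_single_obj_X (ComplexShape.up ℤ) (-1) M 0 (by omega)
      · change IsIso ((sesF d hrel).f 0)
        rw [sesF, mkHomFromSingle_f]
        infer_instance
    · apply shortExact_of_isZero
      · exact isZero_single_obj_X (ComplexShape.up ℤ) 0 F i h0
      · exact isZero_double_X d hrel i h1 h0
      · exact isZero_single_obj_X (ComplexShape.up ℤ) (-1) M i h1

/-- a module `M` such that `M[n]` has tor amplitude in `[n, n]` is flat -/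
lemma flat_of_hasTorAmplitudeIn_single (n : ℤ) (M : ModuleCat.{u} B)
    (h : DRing.HasTorAmplitudeIn B n n
      ((DerivedCategory.singleFunctor (ModuleCat.{u} B) n).obj M)) : Module.Flat B M := by
  obtain ⟨E, hV, hfl, ⟨e⟩⟩ := h
  haveI : E.IsStrictlyGE n := (CochainComplex.isStrictlyGE_iff _ _).2 (fun i hi => hV i (Or.inl hi))
  haveI : E.IsStrictlyLE n := (CochainComplex.isStrictlyLE_iff _ _).2 (fun i hi => hV i (Or.inr hi))
  obtain ⟨M', ⟨e'⟩⟩ := E.exists_iso_single n
  have e0 : E.X n ≅ M' := (HomologicalComplex.eval _ _ n).mapIso e' ≪≫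
    HomologicalComplex.singleObjXSelf (ComplexShape.up ℤ) n M'
  have e1 : (DerivedCategory.singleFunctor (ModuleCat.{u} B) n).obj M' ≅
      (DerivedCategory.singleFunctor (ModuleCat.{u} B) n).obj M :=
    (DerivedCategory.singleFunctorIsoCompQ _ n).app M' ≪≫ DerivedCategory.Q.mapIso e'.symm ≪≫ e
  have e2 : M' ≅ M := (DerivedCategory.singleFunctor (ModuleCat.{u} B) n).preimageIso e1
  haveI := hfl n
  exact Module.Flat.of_linearEquiv (e0 ≪≫ e2).toLinearEquiv.symm

/-- **Step T**: if `M → F` (degrees `-1, 0`) has tor amplitude in `[-1, 0]` and `F` is flat, then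
`M` is flat. -/
theorem flat_of_hasTorAmplitudeIn_double (hF : Module.Flat B F)
    (h : DRing.HasTorAmplitudeIn B (-1) 0 (DerivedCategory.Q.obj (double d hrel))) :
    Module.Flat B M := by
  have hS := sesSC_shortExact d hrel
  have hT := DerivedCategory.triangleOfSES_distinguished hS
  have h₁ : DRing.HasTorAmplitudeIn B 0 0 (DerivedCategory.triangleOfSES hS).obj₁ :=
    hasTorAmplitudeIn_of_iso ((DerivedCategory.singleFunctorIsoCompQ _ 0).app F)
      (hasTorAmplitudeIn_single_flat F hF 0)
  have h₃ : DRing.HasTorAmplitudeIn B (-1) 0 (DerivedCategory.triangleOfSES hS).obj₃ :=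
    hasTorAmplitudeIn_cone _ hT h₁ h (by omega) le_rfl (by omega) le_rfl
  have h₃' : DRing.HasTorAmplitudeIn B (-1) 0
      ((DerivedCategory.singleFunctor (ModuleCat.{u} B) (-1)).obj M) :=
    hasTorAmplitudeIn_of_iso ((DerivedCategory.singleFunctorIsoCompQ _ (-1)).app M).symm h₃
  apply flat_of_hasTorAmplitudeIn_single (-1) M
  rw [hasTorAmplitudeIn_iff_amp] at h₃' ⊢
  have h4 : Amp (FlatP B) (-1) ((-1 : ℤ) + 1)
      ((DerivedCategory.singleFunctor (ModuleCat.{u} B) (-1)).obj M) := by
    simpa using h₃'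
  refine Amp.truncate flatP_kernel h4 ?_
  haveI : ((DerivedCategory.singleFunctor (ModuleCat.{u} B) (-1)).obj M).IsLE (-1) :=
    inferInstance
  exact DerivedCategory.isZero_of_isLE _ (-1) _ (by omega)

end Groth.Agent.Lib.helper13.NLFlat
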