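import Mathlib
import Groth.Prelude.Def_SheafNL
import Groth.Agent.Lib.Helper13.NLBC4
import Groth.Agent.Lib.Helper13.NLFlat1
import Groth.Agent.Lib.Helper13.BiTriv3
import Groth.Agent.Lib.Helper23.LBCComp

/-!
# Derived base change of the naive cotangent complex of a flat algebra (helper13)
-/

set_option autoImplicit false
universe v u
open CategoryTheory CategoryTheory.Limits HomologicalComplex TensorProduct Algebra

attribute [local instance] HasDerivedCategory.standard

namespace Groth.Agent.Lib.helper13.NLBC

section MapDouble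

variable {C D : Type*} [Category C] [Category D] [Preadditive C] [Preadditive D]
  [HasZeroObject C] [HasZeroObject D] (F : C ⥤ D) [F.Additive]

/-- an additive functor applied termwise to a two-term complex -/
theorem nonempty_mapHomologicalComplex_double_iso {X₀ X₁ : C} (d : X₀ ⟶ X₁) {Y₀ Y₁ : D}
    (d' : Y₀ ⟶ Y₁) (e₀ : F.obj X₀ ≅ Y₀) (e₁ : F.obj X₁ ≅ Y₁)
    (comm : e₀.hom ≫ d' = F.map d ≫ e₁.hom) (hrel : (ComplexShape.up ℤ).Rel (-1) 0) :
    Nonempty (((F.mapHomologicalComplex (ComplexShape.up ℤ)).obj (double d hrel)) ≅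
      double d' hrel) := by
  let K := (F.mapHomologicalComplex (ComplexShape.up ℤ)).obj (double d hrel)
  have hcomm : (e₀.inv ≫ F.map (doubleXIso₀ d hrel).inv) ≫ K.d (-1) 0 =
      d' ≫ (e₁.inv ≫ F.map (doubleXIso₁ d hrel (by decide)).inv) := by
    change _ ≫ F.map ((double d hrel).d (-1) 0) = _
    rw [double_d d hrel (by decide), F.map_comp, F.map_comp, Category.assoc,
      ← F.map_comp_assoc, Iso.inv_hom_id, F.map_id, Category.id_comp, ← Category.assoc,
      ← Category.assoc]
    congr 1
    rw [Iso.inv_comp_eq, ← Category.assoc, comm, Category.assoc, Iso.hom_inv_id, Category.comp_id]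
  let ψ : double d' hrel ⟶ K :=
    mkHomFromDouble hrel (by decide) (e₀.inv ≫ F.map (doubleXIso₀ d hrel).inv)
      (e₁.inv ≫ F.map (doubleXIso₁ d hrel (by decide)).inv) hcomm
      (fun k _ => by
        change _ ≫ F.map ((double d hrel).d 0 k) = 0
        rw [double_d_eq_zero₀ d hrel 0 k (by decide), F.map_zero, comp_zero])
  haveI : IsIso ψ := by
    apply isIso_of_two_term (fun i h1 h0 => isZero_double_X d' hrel i h1 h0)
      (fun i h1 h0 => F.map_isZero (isZero_double_X d hrel i h1 h0)) ψ
    · rw [mkHomFromDouble_f₀]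
      exact ((doubleXIso₀ d' hrel) ≪≫ e₀.symm ≪≫
        F.mapIso (doubleXIso₀ d hrel).symm).isIso_hom
    · rw [mkHomFromDouble_f₁]
      exact ((doubleXIso₁ d' hrel (by decide)) ≪≫ e₁.symm ≪≫
        F.mapIso (doubleXIso₁ d hrel (by decide)).symm).isIso_hom
  exact ⟨(asIso ψ).symm⟩

end MapDouble

section Main

variable {A B : Type u} [CommRing A] [CommRing B] [Algebra A B]

set_option backward.isDefEq.respectTransparency false in
lemma extendObjEquiv_naturality (B' : Type u) [CommRing B'] [Algebra B B'] {M N : ModuleCat.{u} B}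
    (g : M ⟶ N) (z : (ModuleCat.extendScalars.{u, u, u} (algebraMap B B')).obj M) :
    BiTriv.extendObjEquiv (B := B') N
        (((ModuleCat.extendScalars.{u, u, u} (algebraMap B B')).map g).hom z) =
      (g.hom.baseChange B') (BiTriv.extendObjEquiv (B := B') M z) := by
  induction z using TensorProduct.induction_on with
  | zero => simp
  | tmul b m => rfl
  | add x y hx hy => simp only [map_add, hx, hy]

/-- extension of scalars applied termwise to `cx P` is `bcCx P` -/
theorem nonempty_extendScalars_cx_iso (P : Extension.{u} A B) (B' : Type u) [CommRing B']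
    [Algebra B B'] :
    Nonempty (((ModuleCat.extendScalars.{u, u, u} (algebraMap B B')).mapHomologicalComplex
      (ComplexShape.up ℤ)).obj (NLCx.cx P) ≅ NLCx.bcCx P B') :=
  nonempty_mapHomologicalComplex_double_iso _ (ModuleCat.ofHom P.cotangentComplex)
    (ModuleCat.ofHom (P.cotangentComplex.baseChange B'))
    (BiTriv.extendObjEquiv (B := B') (ModuleCat.of B P.Cotangent)).toModuleIso
    (BiTriv.extendObjEquiv (B := B') (ModuleCat.of B P.CotangentSpace)).toModuleIso
    (by
      refine ModuleCat.hom_ext (LinearMap.ext (fun z => ?_))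
      exact (extendObjEquiv_naturality B' (ModuleCat.ofHom P.cotangentComplex) z).symm) _

end Main

section Derived

variable (A B A' B' : Type u) [CommRing A] [CommRing B] [Algebra A B]
  [CommRing A'] [CommRing B'] [Algebra A' B'] [Algebra A A'] [Algebra B B']
  [Algebra A B'] [IsScalarTower A A' B'] [IsScalarTower A B B']

/-- if `NL_{B/A}` has tor amplitude in `[-1, 0]`, the complex `LCI.NLcx A B` is termwise flat -/
theorem termwiseFlat_NLcx (h : DRing.HasTorAmplitudeIn B (-1) 0 (LCI.NL A B)) :
    DRing.TermwiseFlat (NLCx.cx (Generators.self A B).toExtension) := by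
  let P := (Generators.self A B).toExtension
  have hrel : (ComplexShape.up ℤ).Rel (-1) 0 := by simp
  haveI : Module.Free B P.CotangentSpace :=
    Module.Free.of_basis (Generators.self A B).cotangentSpaceBasis
  have hF : Module.Flat B (ModuleCat.of B P.CotangentSpace) :=
    inferInstanceAs (Module.Flat B P.CotangentSpace)
  have hM : Module.Flat B (ModuleCat.of B P.Cotangent) :=
    NLFlat.flat_of_hasTorAmplitudeIn_double (ModuleCat.ofHom P.cotangentComplex) hrel hF h
  intro i
  by_cases h1 : i = -1
  · subst h1
    exact Module.Flat.of_linearEquiv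
      (doubleXIso₀ (ModuleCat.ofHom P.cotangentComplex) hrel).toLinearEquiv
  · by_cases h0 : i = 0
    · subst h0
      exact Module.Flat.of_linearEquiv
        (doubleXIso₁ (ModuleCat.ofHom P.cotangentComplex) hrel (by decide)).toLinearEquiv
    · haveI := ModuleCat.subsingleton_of_isZero (isZero_cx_X P i h1 h0)
      infer_instance

variable [Algebra.IsPushout A A' B B'] [Module.Flat A B]

/-- derived base change of the naive cotangent complex of a flat algebra with tor amplitude in
`[-1, 0]` along a pushout square -/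
theorem nonempty_LBaseChange_NL_iso (h : DRing.HasTorAmplitudeIn B (-1) 0 (LCI.NL A B))
    [DRing.HasLBaseChange (algebraMap B B')] :
    Nonempty ((DRing.LBaseChange (algebraMap B B')).obj (LCI.NL A B) ≅ LCI.NL A' B') := by
  let P := (Generators.self A B).toExtension
  have hfl := termwiseFlat_NLcx A B h
  have hc : DRing.VanishesAbove (NLCx.cx P) 0 :=
    fun i hi => isZero_cx_X P i (by omega) (by omega)
  obtain ⟨e1⟩ := Groth.Agent.Lib.helper23.LBCComp.lbc_iso (algebraMap B B') (NLCx.cx P) 0 hc hfl
  obtain ⟨e2⟩ := nonempty_extendScalars_cx_iso P B'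
  have hq := quasiIso_bcMapSelf_of_flat A B A' B'
  have hiso : IsIso (DerivedCategory.Q.map (NLCx.bcMapSelf A B A' B')) :=
    (DerivedCategory.isIso_Q_map_iff_quasiIso _ _).mpr hq
  exact ⟨e1 ≪≫ DerivedCategory.Q.mapIso e2 ≪≫
    @asIso _ _ _ _ (DerivedCategory.Q.map (NLCx.bcMapSelf A B A' B')) hiso⟩

end Derived

end Groth.Agent.Lib.helper13.NLBC
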