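import Mathlib
import Groth.Prelude.Def_SheafNL
import Groth.Agent.Lib.Helper13.NLBC5
import Groth.Agent.Lib.Helper13.CotLoc4

/-!
# The kernel of `bcH1Map` for local complete intersections (helper13)
-/

set_option autoImplicit false
universe w w' u
open CategoryTheory TensorProduct Algebra MvPolynomial

namespace Groth.Agent.Lib.helper13.NLBC

section Retract

variable {R : Type*} [CommRing R] {M N : Type*} [AddCommGroup M] [Module R M]
  [AddCommGroup N] [Module R N]

/-- the kernel of a surjection from a finite projective module onto a projective module is finite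
projective -/
theorem finite_projective_ker_of_surjective (f : M →ₗ[R] N) (hf : Function.Surjective f)
    [Module.Finite R M] [Module.Projective R M] [Module.Projective R N] :
    Module.Finite R (LinearMap.ker f) ∧ Module.Projective R (LinearMap.ker f) := by
  obtain ⟨σ, hσ⟩ := Module.projective_lifting_property f LinearMap.id hf
  have hσ' : ∀ y, f (σ y) = y := fun y => LinearMap.congr_fun hσ y
  let r : M →ₗ[R] LinearMap.ker f :=
    (LinearMap.id - σ ∘ₗ f).codRestrict (LinearMap.ker f) (fun x => by
      rw [LinearMap.mem_ker, LinearMap.sub_apply, map_sub, LinearMap.id_apply,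
        LinearMap.comp_apply, hσ', sub_self])
  have hr : r ∘ₗ (LinearMap.ker f).subtype = LinearMap.id := by
    refine LinearMap.ext (fun x => Subtype.ext ?_)
    change (x : M) - σ (f x) = x
    rw [x.2, map_zero, sub_zero]
  have hsurj : Function.Surjective r := fun y => ⟨y, LinearMap.congr_fun hr y⟩
  exact ⟨Module.Finite.of_surjective r hsurj,
    Module.Projective.of_split (LinearMap.ker f).subtype r hr⟩

end Retract

section Independence

variable {R S : Type u} [CommRing R] [CommRing S] [Algebra R S]

/-- finite projectivity of the conormal module is independent of the presentation (among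
extensions with finite projective cotangent space) -/
theorem finite_projective_cotangent_of_hom {P : Extension.{w} R S} {Q : Extension.{w'} R S}
    (f : P.Hom Q) (g : Q.Hom P) [Module.Finite S Q.Cotangent] [Module.Projective S Q.Cotangent]
    [Module.Finite S P.CotangentSpace] [Module.Projective S P.CotangentSpace] :
    Module.Finite S P.Cotangent ∧ Module.Projective S P.Cotangent := by
  let h : P.CotangentSpace →ₗ[S] P.Cotangent := (g.comp f).sub (Extension.Hom.id P)
  let i : P.Cotangent →ₗ[S] Q.Cotangent × P.CotangentSpace :=
    (Extension.Cotangent.map f).prod P.cotangentComplex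
  let s : Q.Cotangent × P.CotangentSpace →ₗ[S] P.Cotangent :=
    (Extension.Cotangent.map g).coprod (-h)
  have hs : s ∘ₗ i = LinearMap.id := by
    refine LinearMap.ext (fun x => ?_)
    have h1 := LinearMap.congr_fun
      (Extension.Cotangent.map_sub_map (g.comp f) (Extension.Hom.id P)) x
    rw [Extension.Cotangent.map_comp, Extension.Cotangent.map_id] at h1
    change Extension.Cotangent.map g (Extension.Cotangent.map f x) + -(h (P.cotangentComplex x)) = x
    have h2 : Extension.Cotangent.map g (Extension.Cotangent.map f x) - x =
        h (P.cotangentComplex x) := h1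
    rw [← h2]
    abel
  have hsurj : Function.Surjective s := fun y => ⟨i y, LinearMap.congr_fun hs y⟩
  exact ⟨Module.Finite.of_surjective s hsurj, Module.Projective.of_split i s hs⟩

end Independence

section LCI

variable {A B : Type u} [CommRing A] [CommRing B] [Algebra A B]

/-- a local complete intersection has a finite presentation with finite projective conormal
module -/
theorem exists_generators_of_isLCI (h : LCI.IsLCI A B) :
    ∃ (n : ℕ) (G : Generators A B (Fin n)), Module.Finite B G.toExtension.Cotangent ∧
      Module.Projective B G.toExtension.Cotangent := by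
  obtain ⟨-, n, f, hf, hK⟩ := h
  let v : Fin n → B := fun i => f (MvPolynomial.X i)
  have hv : MvPolynomial.aeval v = f := by
    apply MvPolynomial.algHom_ext
    intro i
    simp [v]
  let G : Algebra.Generators A B (Fin n) :=
    Algebra.Generators.ofSurjective v (by rw [hv]; exact hf)
  have hker : G.toExtension.ker = RingHom.ker f.toRingHom := by
    ext x
    change algebraMap G.toExtension.Ring B x = 0 ↔ f x = 0
    rw [← hv]
    rfl
  have hK' : LCI.IsKoszulRegularIdeal G.toExtension.ker := by
    rw [hker]
    exact hK
  exact ⟨n, G, Groth.Agent.Lib.helper13.CotLoc.finite_projective_cotangent_extension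
    G.toExtension hK'⟩

/-- for a local complete intersection, the conormal module of every presentation by a polynomial
ring in finitely many variables is finite projective -/
theorem finite_projective_cotangent_of_isLCI (h : LCI.IsLCI A B) {ι : Type w} [Finite ι]
    (G : Generators A B ι) :
    Module.Finite B G.toExtension.Cotangent ∧ Module.Projective B G.toExtension.Cotangent := by
  obtain ⟨n, G₀, hfin, hproj⟩ := exists_generators_of_isLCI h
  haveI : Module.Free B G.toExtension.CotangentSpace :=
    Module.Free.of_basis G.cotangentSpaceBasis
  haveI : Module.Finite B G.toExtension.CotangentSpace :=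
    Module.Finite.of_basis G.cotangentSpaceBasis
  exact finite_projective_cotangent_of_hom (G.defaultHom G₀).toExtensionHom
    (G₀.defaultHom G).toExtensionHom

end LCI

section KerSameVars

variable {R S : Type u} [CommRing R] [CommRing S] [Algebra R S]
variable {R' S' : Type u} [CommRing R'] [CommRing S'] [Algebra R' S'] [Algebra R R'] [Algebra S S']
  [Algebra R S'] [IsScalarTower R R' S'] [IsScalarTower R S S']
variable {P : Extension.{u} R S} {P' : Extension.{u} R' S'}

/-- when the degree `0` component is injective, the kernel of `bcH1Map f` is the kernel of the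
degree `-1` component -/
noncomputable def kerBcH1MapEquiv (f : P.Hom P')
    (h₁ : Function.Injective (LinearMap.liftBaseChange S' (Extension.CotangentSpace.map f))) :
    LinearMap.ker (NLCx.bcH1Map f) ≃ₗ[S']
      LinearMap.ker (LinearMap.liftBaseChange S' (Extension.Cotangent.map f)) :=
  LinearEquiv.ofBijective
    (((NLCx.bcH1 P S').subtype ∘ₗ (LinearMap.ker (NLCx.bcH1Map f)).subtype).codRestrict
      (LinearMap.ker (LinearMap.liftBaseChange S' (Extension.Cotangent.map f))) (fun x => by
        rw [LinearMap.mem_ker]
        have hx : NLCx.bcH1Map f x.1 = 0 := x.2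
        have := congrArg Subtype.val hx
        exact this))
    ⟨fun x y hxy => by
      have := congrArg Subtype.val hxy
      exact Subtype.ext (Subtype.ext this),
    fun y => by
      have hy : LinearMap.liftBaseChange S' (Extension.Cotangent.map f) y.1 = 0 := y.2
      have hy' : y.1 ∈ NLCx.bcH1 P S' := by
        change P.cotangentComplex.baseChange S' y.1 = 0
        apply h₁
        rw [← cotangentComplex_liftBaseChange, hy, map_zero, map_zero]
      exact ⟨⟨⟨y.1, hy'⟩, by
        rw [LinearMap.mem_ker]
        exact Subtype.ext hy⟩, Subtype.ext rfl⟩⟩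

variable [Algebra.IsPushout R R' S S']

/-- for presentations on the same finitely many variables over a pushout square, with finite
projective conormal modules, the kernel of `bcH1Map` is finite projective -/
theorem finite_projective_ker_bcH1Map_sameVars {ι : Type u} (G : Generators R S ι)
    (G' : Generators R' S' ι) (h : ∀ i, G'.val i = algebraMap S S' (G.val i))
    [Module.Finite S G.toExtension.Cotangent] [Module.Projective S G.toExtension.Cotangent]
    [Module.Projective S' G'.toExtension.Cotangent] :
    Module.Finite S' (LinearMap.ker (NLCx.bcH1Map (NLCx.sameVarsHom G G' h).toExtensionHom)) ∧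
      Module.Projective S'
        (LinearMap.ker (NLCx.bcH1Map (NLCx.sameVarsHom G G' h).toExtensionHom)) := by
  obtain ⟨h1, h2⟩ := finite_projective_ker_of_surjective _
    (surjective_liftBaseChange_cotangent_sameVars G G' h)
  let e := kerBcH1MapEquiv (NLCx.sameVarsHom G G' h).toExtensionHom
    (bijective_liftBaseChange_cotangentSpace_sameVars G G' h).1
  exact ⟨Module.Finite.equiv e.symm, Module.Projective.of_equiv e.symm⟩

end KerSameVars

section BcH1Same

variable {R S : Type u} [CommRing R] [CommRing S] [Algebra R S]
variable (S' : Type u) [CommRing S'] [Algebra S S']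
variable {P Q : Extension.{u} R S}

lemma baseChange_cotangentComplex_map (a : P.Hom Q) (x : S' ⊗[S] P.Cotangent) :
    Q.cotangentComplex.baseChange S' ((Extension.Cotangent.map a).baseChange S' x) =
      (Extension.CotangentSpace.map a).baseChange S' (P.cotangentComplex.baseChange S' x) := by
  induction x with
  | zero => simp
  | add x y hx hy => simp only [map_add, hx, hy]
  | tmul t y =>
    rw [LinearMap.baseChange_tmul, LinearMap.baseChange_tmul, LinearMap.baseChange_tmul,
      LinearMap.baseChange_tmul, Extension.CotangentSpace.map_cotangentComplex]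

/-- functoriality of `bcH1` for morphisms of extensions of the same algebra -/
noncomputable def bcH1MapSame (a : P.Hom Q) : NLCx.bcH1 P S' →ₗ[S'] NLCx.bcH1 Q S' :=
  ((Extension.Cotangent.map a).baseChange S').restrict (p := NLCx.bcH1 P S')
    (q := NLCx.bcH1 Q S') (fun x hx => by
      change Q.cotangentComplex.baseChange S' _ = 0
      have hx' : P.cotangentComplex.baseChange S' x = 0 := hx
      rw [baseChange_cotangentComplex_map, hx', map_zero])

@[simp]
lemma bcH1MapSame_coe (a : P.Hom Q) (x : NLCx.bcH1 P S') :
    (bcH1MapSame S' a x).1 = (Extension.Cotangent.map a).baseChange S' x.1 := rfl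

/-- `bcH1MapSame` does not depend on the morphism -/
theorem bcH1MapSame_eq (a a' : P.Hom Q) : bcH1MapSame S' a = bcH1MapSame S' a' := by
  refine LinearMap.ext (fun x => Subtype.ext ?_)
  rw [bcH1MapSame_coe, bcH1MapSame_coe]
  have hx : P.cotangentComplex.baseChange S' x.1 = 0 := x.2
  have key : ∀ w : S' ⊗[S] P.Cotangent,
      (Extension.Cotangent.map a).baseChange S' w =
        (a.sub a').baseChange S' (P.cotangentComplex.baseChange S' w) +
          (Extension.Cotangent.map a').baseChange S' w := fun w => by
    induction w with
    | zero => simp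
    | add x y hx hy => rw [map_add, hx, hy, map_add, map_add, map_add]; abel
    | tmul t y =>
      have h := LinearMap.congr_fun (Extension.Cotangent.map_sub_map a a') y
      rw [LinearMap.baseChange_tmul, LinearMap.baseChange_tmul, LinearMap.baseChange_tmul,
        LinearMap.baseChange_tmul, ← TensorProduct.tmul_add]
      congr 1
      rw [← sub_eq_iff_eq_add]
      exact h
  rw [key x.1, hx, map_zero, zero_add]

theorem bcH1MapSame_id (x : NLCx.bcH1 P S') : bcH1MapSame S' (Extension.Hom.id P) x = x := by
  apply Subtype.ext
  rw [bcH1MapSame_coe, Extension.Cotangent.map_id, LinearMap.baseChange_id]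
  rfl

theorem bcH1MapSame_comp {Q' : Extension.{u} R S} (a : P.Hom Q) (b : Q.Hom Q')
    (x : NLCx.bcH1 P S') :
    bcH1MapSame S' (b.comp a) x = bcH1MapSame S' b (bcH1MapSame S' a x) := by
  apply Subtype.ext
  rw [bcH1MapSame_coe, bcH1MapSame_coe, bcH1MapSame_coe]
  generalize x.1 = w
  induction w with
  | zero => simp
  | add x y hx hy => simp only [map_add, hx, hy]
  | tmul t y =>
    rw [LinearMap.baseChange_tmul, LinearMap.baseChange_tmul, LinearMap.baseChange_tmul]
    congr 1
    exact LinearMap.congr_fun (Extension.Cotangent.map_comp _ a b) y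

/-- `bcH1` does not depend on the presentation -/
noncomputable def bcH1Equiv (a : P.Hom Q) (b : Q.Hom P) : NLCx.bcH1 P S' ≃ₗ[S'] NLCx.bcH1 Q S' :=
  LinearEquiv.ofLinear (bcH1MapSame S' a) (bcH1MapSame S' b)
    (LinearMap.ext (fun x => by
      rw [LinearMap.comp_apply, ← bcH1MapSame_comp, bcH1MapSame_eq S' _ (Extension.Hom.id Q),
        bcH1MapSame_id]
      rfl))
    (LinearMap.ext (fun x => by
      rw [LinearMap.comp_apply, ← bcH1MapSame_comp, bcH1MapSame_eq S' _ (Extension.Hom.id P),
        bcH1MapSame_id]
      rfl))

end BcH1Same

section Final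

variable {R S : Type u} [CommRing R] [CommRing S] [Algebra R S]
variable {R' S' : Type u} [CommRing R'] [CommRing S'] [Algebra R' S'] [Algebra R R'] [Algebra S S']
  [Algebra R S'] [IsScalarTower R R' S'] [IsScalarTower R S S']

theorem bcH1Map_comp_same {P Q : Extension.{u} R S} {P' : Extension.{u} R' S'} (a : P.Hom Q)
    (f : Q.Hom P') (x : NLCx.bcH1 P S') :
    NLCx.bcH1Map (f.comp a) x = NLCx.bcH1Map f (bcH1MapSame S' a x) := by
  apply Subtype.ext
  rw [bcH1Map_coe, bcH1Map_coe, bcH1MapSame_coe]
  generalize x.1 = w
  induction w with
  | zero => simp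
  | add x y hx hy => simp only [map_add, hx, hy]
  | tmul t y =>
    rw [LinearMap.baseChange_tmul, LinearMap.liftBaseChange_tmul, LinearMap.liftBaseChange_tmul]
    congr 1
    exact LinearMap.congr_fun (Extension.Cotangent.map_comp _ a f) y

variable (R S R' S') in
/-- for a pushout square of local complete intersections, the kernel of `bcH1Map` for the
presentations on all elements is finite projective -/
theorem finite_projective_ker_bcH1Map_self [Algebra.IsPushout R R' S S']
    (hS : LCI.IsLCI R S) (hS' : LCI.IsLCI R' S') :
    Module.Finite S' (LinearMap.ker (NLCx.bcH1Map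
        ((Generators.self R S).defaultHom (Generators.self R' S')).toExtensionHom)) ∧
      Module.Projective S' (LinearMap.ker (NLCx.bcH1Map
        ((Generators.self R S).defaultHom (Generators.self R' S')).toExtensionHom)) := by
  obtain ⟨n, G₀, -, -⟩ := exists_generators_of_isLCI hS
  let G : Generators R S (ULift.{u} (Fin n)) :=
    Generators.ofSurjective (fun i => G₀.val i.down) (fun s => by
      refine ⟨MvPolynomial.rename ULift.up (G₀.σ s), ?_⟩
      rw [MvPolynomial.aeval_rename]
      exact G₀.aeval_val_σ s)
  obtain ⟨hf, hp⟩ := finite_projective_cotangent_of_isLCI hS G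
  let G' : Generators R' S' (ULift.{u} (Fin n)) := sameVarsGenerators R S R' S' G
  obtain ⟨hf', hp'⟩ := finite_projective_cotangent_of_isLCI hS' G'
  have h' : ∀ i, G'.val i = algebraMap S S' (G.val i) := fun i => rfl
  obtain ⟨k1, k2⟩ := finite_projective_ker_bcH1Map_sameVars G G' h'
  let P := (Generators.self R S).toExtension
  let P' := (Generators.self R' S').toExtension
  let d : P.Hom P' := ((Generators.self R S).defaultHom (Generators.self R' S')).toExtensionHom
  let a : P.Hom G.toExtension := ((Generators.self R S).defaultHom G).toExtensionHom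
  let b : G.toExtension.Hom P := (G.defaultHom (Generators.self R S)).toExtensionHom
  let c : G'.toExtension.Hom P' := (G'.defaultHom (Generators.self R' S')).toExtensionHom
  let c' : P'.Hom G'.toExtension := ((Generators.self R' S').defaultHom G').toExtensionHom
  let f₁ : G.toExtension.Hom G'.toExtension := (NLCx.sameVarsHom G G' h').toExtensionHom
  let E := bcH1Equiv S' a b
  have key : ∀ x, NLCx.bcH1Map d x =
      Extension.H1Cotangent.map c (NLCx.bcH1Map f₁ (E x)) := fun x => by
    rw [bcH1Map_eq d (c.comp (f₁.comp a)), bcH1Map_comp, bcH1Map_comp_same]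
    rfl
  have hinj : Function.Injective (Extension.H1Cotangent.map c) :=
    (Extension.H1Cotangent.equiv c c').injective
  have hker : LinearMap.ker (NLCx.bcH1Map d) =
      (LinearMap.ker (NLCx.bcH1Map f₁)).comap E.toLinearMap := by
    ext x
    rw [LinearMap.mem_ker, Submodule.mem_comap, LinearMap.mem_ker, key,
      map_eq_zero_iff _ hinj]
    rfl
  change Module.Finite S' (LinearMap.ker (NLCx.bcH1Map d)) ∧
    Module.Projective S' (LinearMap.ker (NLCx.bcH1Map d))
  rw [hker]
  let e := LinearEquiv.ofSubmodule' E (LinearMap.ker (NLCx.bcH1Map f₁))
  exact ⟨Module.Finite.equiv e.symm, Module.Projective.of_equiv e.symm⟩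

end Final

end Groth.Agent.Lib.helper13.NLBC
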