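import Mathlib
import Groth.Prelude.Def_SheafNL
import Groth.Agent.Lib.Helper13.NLBC3

/-!
# The naive cotangent complex of a presentation is unchanged by localizing the base (helper13)
-/

set_option autoImplicit false
universe u
open CategoryTheory TensorProduct Algebra MvPolynomial

namespace Groth.Agent.Lib.helper13.NLBC

section SameTop

variable {R S : Type u} [CommRing R] [CommRing S] [Algebra R S]
variable {R' : Type u} [CommRing R'] [Algebra R' S] [Algebra R R'] [IsScalarTower R R' S]
variable {P : Extension.{u} R S} {P' : Extension.{u} R' S}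

/-- `NLCx.map f` is an isomorphism of complexes as soon as its two components are bijective -/
theorem isIso_map (f : P.Hom P')
    (h₀ : Function.Bijective (Extension.Cotangent.map f))
    (h₁ : Function.Bijective (Extension.CotangentSpace.map f)) :
    IsIso (NLCx.map f) :=
  isIso_double _ _ _ (NLCx.map f) _ _ (map_f_neg1 f) (map_f_zero f)
    ((ConcreteCategory.isIso_iff_bijective _).mpr h₀)
    ((ConcreteCategory.isIso_iff_bijective _).mpr h₁)

/-- in degree `0`, the comparison map for presentations on the same variables is bijective -/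
theorem bijective_cotangentSpace_map_sameVars {ι : Type u} (G : Generators R S ι)
    (G' : Generators R' S ι) (h : ∀ i, G'.val i = algebraMap S S (G.val i)) :
    Function.Bijective
      (Extension.CotangentSpace.map (NLCx.sameVarsHom (S' := S) G G' h).toExtensionHom) := by
  let e : G.toExtension.CotangentSpace ≃ₗ[S] G'.toExtension.CotangentSpace :=
    G.cotangentSpaceBasis.equiv G'.cotangentSpaceBasis (Equiv.refl ι)
  have he : Extension.CotangentSpace.map (NLCx.sameVarsHom (S' := S) G G' h).toExtensionHom =
      e.toLinearMap := by
    refine G.cotangentSpaceBasis.ext (fun i => ?_)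
    have h1 : G.cotangentSpaceBasis i = (1 : S) ⊗ₜ[G.toExtension.Ring]
        KaehlerDifferential.D R G.toExtension.Ring (X i) := G.cotangentSpaceBasis_apply i
    have h2 : G'.cotangentSpaceBasis i = (1 : S) ⊗ₜ[G'.toExtension.Ring]
        KaehlerDifferential.D R' G'.toExtension.Ring (X i) := G'.cotangentSpaceBasis_apply i
    rw [LinearEquiv.coe_coe, Module.Basis.equiv_apply, h1,
      Extension.CotangentSpace.map_tmul, sameVarsHom_toAlgHom_X, map_one, Equiv.refl_apply, h2]
  rw [he]
  exact e.bijective

/-- in degree `-1`, a morphism of extensions of the same algebra which is a localization on the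
rings at elements acting invertibly on the algebra induces a bijection -/
theorem bijective_cotangent_map_of_isLocalization (f : P.Hom P') [Algebra P.Ring P'.Ring]
    (halg : algebraMap P.Ring P'.Ring = f.toRingHom) (N : Submonoid P.Ring)
    [IsLocalization N P'.Ring] (hN : ∀ n ∈ N, IsUnit (algebraMap P.Ring S n)) :
    Function.Bijective (Extension.Cotangent.map f) := by
  have hcomp : ∀ p : P.Ring, algebraMap P'.Ring S (algebraMap P.Ring P'.Ring p) =
      algebraMap P.Ring S p := fun p => by
    rw [halg, f.algebraMap_toRingHom]
    rfl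
  have hI' : P'.ker = P.ker.map (algebraMap P.Ring P'.Ring) := by
    apply le_antisymm
    · intro p' hp'
      rw [IsLocalization.mem_map_algebraMap_iff N]
      obtain ⟨⟨p, n⟩, hpn⟩ := IsLocalization.surj N p'
      refine ⟨⟨⟨p, ?_⟩, n⟩, hpn⟩
      change algebraMap P.Ring S p = 0
      rw [← hcomp, ← hpn, map_mul, show algebraMap P'.Ring S p' = 0 from hp', zero_mul]
    · rw [Ideal.map_le_iff_le_comap]
      intro p hp
      change algebraMap P'.Ring S (algebraMap P.Ring P'.Ring p) = 0
      rw [hcomp]
      exact hp
  have hunit : ∀ n ∈ N, ∀ x : P.Cotangent, n • x = 0 → x = 0 := fun n hn x hx => by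
    obtain ⟨u, hu⟩ := hN n hn
    rw [← algebraMap_smul S n x, ← hu] at hx
    have := congrArg (fun z => (↑u⁻¹ : S) • z) hx
    simpa [smul_smul] using this
  constructor
  · rw [injective_iff_map_eq_zero]
    intro x hx
    obtain ⟨x, rfl⟩ := Extension.Cotangent.mk_surjective x
    rw [Extension.Cotangent.map_mk, Extension.Cotangent.mk_eq_zero_iff] at hx
    have hx' : algebraMap P.Ring P'.Ring x.1 ∈ (P.ker ^ 2).map (algebraMap P.Ring P'.Ring) := by
      rw [Ideal.map_pow, ← hI', halg]
      exact hx
    rw [IsLocalization.algebraMap_mem_map_algebraMap_iff N] at hx'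
    obtain ⟨n, hn, hmem⟩ := hx'
    apply hunit n hn
    rw [← map_smul, Extension.Cotangent.mk_eq_zero_iff]
    exact hmem
  · intro y
    obtain ⟨y, rfl⟩ := Extension.Cotangent.mk_surjective y
    obtain ⟨⟨p, n⟩, hpn⟩ := IsLocalization.surj N y.1
    have hp : p ∈ P.ker := by
      change algebraMap P.Ring S p = 0
      rw [← hcomp, ← hpn, map_mul, show algebraMap P'.Ring S y.1 = 0 from y.2, zero_mul]
    obtain ⟨u, hu⟩ := hN n n.2
    refine ⟨(↑u⁻¹ : S) • Extension.Cotangent.mk ⟨p, hp⟩, ?_⟩
    rw [map_smul, Extension.Cotangent.map_mk]
    have h1 : Extension.Cotangent.mk (P := P') ⟨f.toAlgHom p, by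
        change f.toRingHom p ∈ P'.ker
        rw [← halg, hI']
        exact Ideal.mem_map_of_mem _ hp⟩ = (algebraMap P.Ring S n) • Extension.Cotangent.mk y := by
      rw [← hcomp, algebraMap_smul, ← map_smul]
      congr 1
      apply Subtype.ext
      change f.toRingHom p = algebraMap P.Ring P'.Ring n * y.1
      rw [← halg, ← hpn, mul_comm]
    rw [h1, ← hu, smul_smul]
    simp

end SameTop

section Localization

variable {A A' B : Type u} [CommRing A] [CommRing A'] [CommRing B]
  [Algebra A A'] [Algebra A' B] [Algebra A B] [IsScalarTower A A' B]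

lemma sameVarsHom_toRingHom_eq_map {ι : Type u} (G : Generators A B ι) (G' : Generators A' B ι)
    (h : ∀ i, G'.val i = algebraMap B B (G.val i)) (p : MvPolynomial ι A) :
    (NLCx.sameVarsHom (S' := B) G G' h).toExtensionHom.toRingHom p =
      MvPolynomial.map (algebraMap A A') p := by
  change MvPolynomial.aeval (fun i => (MvPolynomial.X i : MvPolynomial ι A')) p = _
  induction p using MvPolynomial.induction_on with
  | C a => simp [MvPolynomial.algebraMap_eq, IsScalarTower.algebraMap_apply A A' (MvPolynomial ι A')]
  | add p q hp hq => simp only [map_add, hp, hq]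
  | mul_X p i hp => simp only [map_mul, hp, MvPolynomial.map_X, MvPolynomial.aeval_X]

/-- for `A'` a localization of `A` and presentations of an `A'`-algebra `B` over `A` and over `A'`
on the same variables, the comparison map of naive cotangent complexes is an isomorphism -/
theorem isIso_map_sameVars_of_isLocalization (M : Submonoid A) [IsLocalization M A']
    {ι : Type u} (G : Generators A B ι) (G' : Generators A' B ι)
    (h : ∀ i, G'.val i = algebraMap B B (G.val i)) :
    IsIso (NLCx.map (NLCx.sameVarsHom (S' := B) G G' h).toExtensionHom) := by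
  letI alg : Algebra G.toExtension.Ring G'.toExtension.Ring :=
    (MvPolynomial.algebraMvPolynomial : Algebra (MvPolynomial ι A) (MvPolynomial ι A'))
  have halg : algebraMap G.toExtension.Ring G'.toExtension.Ring =
      (NLCx.sameVarsHom (S' := B) G G' h).toExtensionHom.toRingHom :=
    RingHom.ext (fun p => (sameVarsHom_toRingHom_eq_map G G' h p).symm)
  let N : Submonoid G.toExtension.Ring := M.map (C (σ := ι))
  haveI : IsLocalization N G'.toExtension.Ring :=
    (MvPolynomial.isLocalization M A' : @IsLocalization (MvPolynomial ι A) _ (M.map C)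
      (MvPolynomial ι A') _ MvPolynomial.algebraMvPolynomial)
  refine isIso_map _ (bijective_cotangent_map_of_isLocalization _ halg N ?_)
    (bijective_cotangentSpace_map_sameVars G G' h)
  rintro _ ⟨m, hm, rfl⟩
  have hu : IsUnit (algebraMap A' B (algebraMap A A' m)) :=
    (IsLocalization.map_units A' ⟨m, hm⟩).map (algebraMap A' B)
  have h1 : algebraMap G.toExtension.Ring B (C m : MvPolynomial ι A) =
      algebraMap A' B (algebraMap A A' m) :=
    (G.algebraMap_apply (C m)).trans (by
      rw [MvPolynomial.aeval_C, ← IsScalarTower.algebraMap_apply A A' B])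
  exact h1.symm ▸ hu

end Localization

end Groth.Agent.Lib.helper13.NLBC
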