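import Mathlib
import Groth.Prelude.Def_DRing4
import Groth.Agent.Lib.Helper23.PerfT8
import Groth.Agent.Lib.Helper23.TA10

/-!
# The kernel of a presentation of an algebra of finite tor dimension over a Noetherian ring has
finite projective dimension (helper13)
-/

set_option autoImplicit false
universe u
open CategoryTheory CategoryTheory.Limits TensorProduct

attribute [local instance] HasDerivedCategory.standard

namespace Groth.Agent.Lib.helper13.NLFlat

open Groth.Agent.Lib.helper23.RAdj Groth.Agent.Lib.helper23.TA
  Groth.Agent.Lib.helper23.PCohCore Groth.Agent.Lib.helper23.DRingPC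
  Groth.Agent.Lib.helper23.PerfT

/-- a quotient of a polynomial ring over a Noetherian ring, of finite tor dimension over the base,
has finite projective dimension over the polynomial ring -/
theorem exists_hasProjectiveDimensionLT_of_finiteTorDim (R A : Type u) [CommRing R] [CommRing A]
    [IsNoetherianRing R] [Algebra R A] (hA : DRing.HasFiniteTorDim R A) (n : ℕ)
    (ψ : MvPolynomial (Fin n) R →ₐ[R] A) (hψ : Function.Surjective ψ) :
    ∃ d : ℕ, HasProjectiveDimensionLT (BA ψ.toRingHom) (d + 1) := by
  obtain ⟨d₀, hd₀⟩ := hA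
  let P := MvPolynomial (Fin n) R
  have hfin : Module.Finite P (BA ψ.toRingHom) := by
    letI := ψ.toRingHom.toAlgebra
    exact Module.Finite.of_surjective (Algebra.linearMap P A) hψ
  let K : Dual.D P := (DerivedCategory.singleFunctor (ModuleCat.{u} P) 0).obj (BA ψ.toRingHom)
  have hK : DRing.IsPseudoCoherent' P K := by
    rw [isPseudoCoherent'_iff_npc]
    exact (forall_npc_single_iff_of_noetherian P (BA ψ.toRingHom)).2 hfin
  let l : A ≃ₗ[R] ((ModuleCat.restrictScalars.{u} (algebraMap R P)).obj (BA ψ.toRingHom)) :=
    { toFun := fun a => a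
      invFun := fun a => a
      left_inv := fun _ => rfl
      right_inv := fun _ => rfl
      map_add' := fun _ _ => rfl
      map_smul' := fun r a => by
        show r • a = (ψ (algebraMap R P r)) * a
        rw [AlgHom.commutes, Algebra.smul_def] }
  have h1 : DRing.HasTorAmplitudeIn R (-(d₀ : ℤ)) 0
      ((DerivedCategory.singleFunctor (ModuleCat.{u} R) 0).obj (ModuleCat.of R A)) :=
    (torVan_iff_hasTorAmplitudeIn d₀ _).1 ((hasTorDimLE_iff_torVan d₀ A).1 hd₀)
  have hKa : DRing.HasTorAmplitudeIn R (-(d₀ : ℤ)) 0
      ((DRing.restrictD (algebraMap R P)).obj K) := by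
    refine hasTorAmplitudeIn_of_iso
      (((ModuleCat.restrictScalars.{u} (algebraMap R P)).mapDerivedCategorySingleFunctor 0).app
        (BA ψ.toRingHom)).symm ?_
    exact hasTorAmplitudeIn_of_iso
      ((DerivedCategory.singleFunctor (ModuleCat.{u} R) 0).mapIso l.toModuleIso) h1
  have hperf := (Groth.Agent.Lib.helper23.RegFibre.isPerfect_of_fibres_globalDimension (A := R) (B := P) n
    (fun p M _ _ => hgl_mvPolynomial R n p M) (-(d₀ : ℤ)) 0 K hK hKa).1
  exact exists_hasProjectiveDimensionLT_of_isPerfect_single _ hperf

/-- the kernel of a presentation of an algebra of finite tor dimension over a Noetherian ring has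
finite projective dimension over the polynomial ring -/
theorem exists_hasProjectiveDimensionLT_ker (R A : Type u) [CommRing R] [CommRing A]
    [IsNoetherianRing R] [Algebra R A] (hA : DRing.HasFiniteTorDim R A) (n : ℕ)
    (ψ : MvPolynomial (Fin n) R →ₐ[R] A) (hψ : Function.Surjective ψ) :
    ∃ d : ℕ, HasProjectiveDimensionLT
      (ModuleCat.of (MvPolynomial (Fin n) R) (RingHom.ker ψ.toRingHom)) (d + 1) := by
  obtain ⟨d, hd⟩ := exists_hasProjectiveDimensionLT_of_finiteTorDim R A hA n ψ hψ
  let P := MvPolynomial (Fin n) R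
  let J : Ideal P := RingHom.ker ψ.toRingHom
  let g : P →ₗ[P] (BA ψ.toRingHom) :=
    { toFun := fun p => ψ p
      map_add' := fun p q => map_add ψ p q
      map_smul' := fun p q => by
        show ψ (p * q) = ψ p * ψ q
        exact map_mul ψ p q }
  let S : ShortComplex (ModuleCat.{u} P) :=
    ShortComplex.mk (ModuleCat.ofHom (Submodule.subtype J)) (ModuleCat.ofHom g) (by
      ext x
      exact x.2)
  have hS : S.ShortExact := by
    refine ModuleCat.shortComplex_shortExact S ?_ (Submodule.subtype_injective J) hψ
    intro p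
    constructor
    · intro hp
      exact ⟨⟨p, hp⟩, rfl⟩
    · rintro ⟨x, rfl⟩
      exact x.2
  haveI : Projective S.X₂ :=
    (IsProjective.iff_projective (R := P) (ModuleCat.of P P)).1 inferInstance
  refine ⟨d, hS.hasProjectiveDimensionLT_X₁ (d + 1) inferInstance ?_⟩
  exact hasProjectiveDimensionLT_of_ge S.X₃ (d + 1) (d + 1 + 1) (by omega)

end Groth.Agent.Lib.helper13.NLFlat
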