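import Mathlib
import Groth.Prelude.Def_LCI2
import Groth.Agent.Lib.Helper13.CotLoc3
import Groth.Agent.Lib.Helper13.NLFlat1

/-!
# From tor amplitude of the naive cotangent complex to flatness of conormal modules (helper13)
-/

set_option autoImplicit false
universe u
open CategoryTheory CategoryTheory.Limits HomologicalComplex Algebra

attribute [local instance] HasDerivedCategory.standard

namespace Groth.Agent.Lib.helper13.NLFlat

open Groth.Agent.Lib.helper23.TA

variable {A B : Type u} [CommRing A] [CommRing B] [Algebra A B]

/-- if `NL_{B/A}` has tor amplitude in `[-1, 0]`, the conormal module of every presentation by a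
polynomial ring (on a small set of variables) is flat -/
theorem flat_cotangent_of_hasTorAmplitudeIn {ι' : Type} (G : Generators A B ι')
    (h : DRing.HasTorAmplitudeIn B (-1) 0 (LCI.NL A B)) :
    Module.Flat B G.toExtension.Cotangent := by
  have hrel : (ComplexShape.up ℤ).Rel (-1) 0 := by simp
  obtain ⟨e⟩ := Groth.Agent.Lib.helper13.CotLoc.nonempty_iso_cotangentComplex
    (Algebra.Generators.self A B) G hrel
  have h' : DRing.HasTorAmplitudeIn B (-1) 0
      (DerivedCategory.Q.obj (double (ModuleCat.ofHom G.toExtension.cotangentComplex) hrel)) :=
    hasTorAmplitudeIn_of_iso e h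
  haveI : Module.Free B G.toExtension.CotangentSpace :=
    Module.Free.of_basis G.cotangentSpaceBasis
  have hF : Module.Flat B (ModuleCat.of B G.toExtension.CotangentSpace) :=
    inferInstanceAs (Module.Flat B G.toExtension.CotangentSpace)
  exact flat_of_hasTorAmplitudeIn_double
    (ModuleCat.ofHom G.toExtension.cotangentComplex) hrel hF h'

/-- the quotient of the ring of an extension by its kernel is the target -/
noncomputable def cotRingEquiv (E : Extension.{u} A B) : (E.Ring ⧸ E.ker) ≃+* B :=
  RingHom.quotientKerEquivOfSurjective (f := algebraMap E.Ring B) E.algebraMap_surjective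

/-- the conormal module of the kernel ideal, semilinearly equivalent to the cotangent module of
the extension -/
noncomputable def cotSemiEquiv (E : Extension.{u} A B) :
    letI : RingHomInvPair (cotRingEquiv E).toRingHom (cotRingEquiv E).symm.toRingHom :=
      RingHomInvPair.of_ringEquiv (cotRingEquiv E)
    letI : RingHomInvPair (cotRingEquiv E).symm.toRingHom (cotRingEquiv E).toRingHom :=
      RingHomInvPair.of_ringEquiv (cotRingEquiv E).symm
    E.ker.Cotangent ≃ₛₗ[(cotRingEquiv E).toRingHom] E.Cotangent :=
  letI : RingHomInvPair (cotRingEquiv E).toRingHom (cotRingEquiv E).symm.toRingHom :=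
    RingHomInvPair.of_ringEquiv (cotRingEquiv E)
  letI : RingHomInvPair (cotRingEquiv E).symm.toRingHom (cotRingEquiv E).toRingHom :=
    RingHomInvPair.of_ringEquiv (cotRingEquiv E).symm
  { toFun := Extension.Cotangent.of
    invFun := Extension.Cotangent.val
    map_add' := fun _ _ => rfl
    map_smul' := fun q x => by
      obtain ⟨p, rfl⟩ := Ideal.Quotient.mk_surjective q
      apply Extension.Cotangent.ext
      change (Ideal.Quotient.mk E.ker p) • x =
        ((algebraMap E.Ring B p) • Extension.Cotangent.of x).val
      rw [algebraMap_smul, Extension.Cotangent.val_smul']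
      rfl
    left_inv := fun _ => rfl
    right_inv := fun _ => rfl }

/-- projectivity of the cotangent module passes to the conormal module of the kernel -/
theorem projective_ker_cotangent (E : Extension.{u} A B) [Module.Projective B E.Cotangent] :
    Module.Projective (E.Ring ⧸ E.ker) E.ker.Cotangent := by
  letI : RingHomInvPair (cotRingEquiv E).toRingHom (cotRingEquiv E).symm.toRingHom :=
    RingHomInvPair.of_ringEquiv (cotRingEquiv E)
  letI : RingHomInvPair (cotRingEquiv E).symm.toRingHom (cotRingEquiv E).toRingHom :=
    RingHomInvPair.of_ringEquiv (cotRingEquiv E).symm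
  exact Module.Projective.of_equiv (cotSemiEquiv E).symm

/-- the cotangent module of an extension with finitely generated kernel is finite -/
theorem finite_cotangent_of_fg (E : Extension.{u} A B) (h : E.ker.FG) :
    Module.Finite B E.Cotangent := by
  haveI : Module.Finite E.Ring E.ker := Module.Finite.iff_fg.2 h
  haveI : Module.Finite E.Ring E.Cotangent :=
    Module.Finite.of_surjective Extension.Cotangent.mk Extension.Cotangent.mk_surjective
  exact Module.Finite.of_restrictScalars_finite E.Ring B _

end Groth.Agent.Lib.helper13.NLFlat
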