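import Mathlib
import Groth.Prelude.Def_LCI2
import Groth.Prelude.Def_RegImm
import Groth.Agent.Lib.Helper13.NLFlat3
import Groth.Agent.Lib.Helper13.NLFlat5
import Groth.Agent.Lib.Helper20.Vasc4
import Groth.Agent.Lib.Helper23.PerfT8
import Groth.Agent.Lib.Helper17.CIField6

/-!
# The fibres of a flat finitely presented algebra whose naive cotangent complex has tor amplitude
in `[-1, 0]` are local complete intersections (helper13)
-/

set_option autoImplicit false
universe u
open CategoryTheory TensorProduct Algebra

attribute [local instance] HasDerivedCategory.standard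

namespace Groth.Agent.Lib.helper13.NLFlat

/-- local form of Vasconcelos' theorem (after helper20, `S2189`): an ideal of finite projective
dimension with projective conormal module is generated by a regular sequence in the local ring
at any prime containing it -/
theorem exists_regular_atPrime {R : Type u} [CommRing R] [IsNoetherianRing R] (I : Ideal R) (n : ℕ)
    (hpd : HasProjectiveDimensionLT (ModuleCat.of R I) n)
    [Module.Projective (R ⧸ I) I.Cotangent] (p : Ideal R) [p.IsPrime] (hIp : I ≤ p) :
    ∃ rs : List (Localization.AtPrime p),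
      RingTheory.Sequence.IsRegular (Localization.AtPrime p) rs ∧
        Ideal.ofList rs = I.map (algebraMap R (Localization.AtPrime p)) := by
  open Groth.Agent.Lib.helper20 in
  have hI' : I.map (algebraMap R (Localization.AtPrime p)) ≠ ⊤ := by
    intro h
    have h1 : I.map (algebraMap R (Localization.AtPrime p)) ≤
        IsLocalRing.maximalIdeal (Localization.AtPrime p) := by
      rw [← Localization.AtPrime.map_eq_maximalIdeal]
      exact Ideal.map_mono hIp
    rw [h] at h1
    exact (IsLocalRing.maximalIdeal.isMaximal _).ne_top (top_le_iff.mp h1)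
  have hpd1 : HasProjectiveDimensionLE (ModuleCat.of R I) n :=
    hasProjectiveDimensionLT_of_ge _ n (n + 1) (Nat.le_succ n)
  have hpd2 : HasProjectiveDimensionLT (ModuleCat.of (Localization.AtPrime p)
      (I.map (algebraMap R (Localization.AtPrime p)))) (n + 1) :=
    Vasc4.pd_map_localization I p.primeCompl (Localization.AtPrime p) n hpd1
  have hfinR : Module.Finite R I.Cotangent :=
    Module.Finite.of_surjective I.toCotangent I.toCotangent_surjective
  have hfin : Module.Finite (R ⧸ I) I.Cotangent := Module.Finite.of_restrictScalars_finite R _ _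
  have hproj : Module.Projective
      (Localization.AtPrime p ⧸ I.map (algebraMap R (Localization.AtPrime p)))
      (I.map (algebraMap R (Localization.AtPrime p))).Cotangent :=
    Vasc4.projective_cotangent_map I p.primeCompl (Localization.AtPrime p)
  obtain ⟨rs, hreg, hrs⟩ := Vasc4.exists_regular_of_projective_cotangent
    (I.map (algebraMap R (Localization.AtPrime p))) hI' (n + 1) hpd2
  exact ⟨rs, hreg, hrs⟩

section Poly

variable (A : Type u) [CommRing A] (n : ℕ) (p : PrimeSpectrum A)

lemma isRegularRing_fibre_mvPolynomial :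
    IsRegularRing (p.asIdeal.ResidueField ⊗[A] MvPolynomial (Fin n) A) := by
  let e : (p.asIdeal.ResidueField ⊗[A] MvPolynomial (Fin n) A) ≃+*
      MvPolynomial (Fin n) p.asIdeal.ResidueField :=
    (MvPolynomial.algebraTensorAlgEquiv A p.asIdeal.ResidueField).toRingEquiv
  haveI : IsNoetherianRing (p.asIdeal.ResidueField ⊗[A] MvPolynomial (Fin n) A) :=
    isNoetherianRing_of_ringEquiv _ e.symm
  haveI : IsRegularRing p.asIdeal.ResidueField := inferInstance
  exact IsRegularRing.of_ringEquiv e.symm

lemma finiteType_fibre_mvPolynomial :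
    Algebra.FiniteType p.asIdeal.ResidueField
      (p.asIdeal.ResidueField ⊗[A] MvPolynomial (Fin n) A) := inferInstance

lemma hasProjectiveDimensionLT_ideal_fibre_mvPolynomial
    (I : Ideal (p.asIdeal.ResidueField ⊗[A] MvPolynomial (Fin n) A)) :
    HasProjectiveDimensionLT
      (ModuleCat.of (p.asIdeal.ResidueField ⊗[A] MvPolynomial (Fin n) A) I) (n + 1) :=
  Groth.Agent.Lib.helper23.PerfT.hgl_mvPolynomial A n p I

end Poly

variable {A B : Type u} [CommRing A] [CommRing B] [Algebra A B]

/-- the fibres of a flat finitely presented algebra whose naive cotangent complex has tor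
amplitude in `[-1, 0]` are local complete intersections -/
theorem isLCIOver_fiber_of_hasTorAmplitudeIn [Module.Flat A B] [Algebra.FinitePresentation A B]
    (h : DRing.HasTorAmplitudeIn B (-1) 0 (LCI.NL A B)) (p : PrimeSpectrum A) :
    Synt.IsLCIOver p.asIdeal.ResidueField (p.asIdeal.Fiber B) := by
  classical
  obtain ⟨n, f, hf⟩ := Algebra.FiniteType.iff_quotient_mvPolynomial''.mp
    (inferInstance : Algebra.FiniteType A B)
  let v : Fin n → B := fun i => f (MvPolynomial.X i)
  have hv : MvPolynomial.aeval v = f := by
    apply MvPolynomial.algHom_ext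
    intro i
    simp [v]
  let G : Algebra.Generators A B (Fin n) :=
    Algebra.Generators.ofSurjective v (by rw [hv]; exact hf)
  let κ := p.asIdeal.ResidueField
  let E : Extension.{u} A B := G.toExtension
  let E' : Extension.{u} κ (κ ⊗[A] B) := E.baseChange (T := κ)
  have hflatE : Module.Flat B E.Cotangent := flat_cotangent_of_hasTorAmplitudeIn G h
  have hflatE' : Module.Flat (κ ⊗[A] B) E'.Cotangent := flat_cotangent_baseChange E κ
  haveI : Algebra.FiniteType κ (κ ⊗[A] B) := inferInstance
  haveI : IsNoetherianRing (κ ⊗[A] B) := Algebra.FiniteType.isNoetherianRing κ _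
  -- the ring of the base-changed extension
  haveI : IsRegularRing E'.Ring := isRegularRing_fibre_mvPolynomial A n p
  haveI : IsNoetherianRing E'.Ring := inferInstance
  have hfin : Module.Finite (κ ⊗[A] B) E'.Cotangent :=
    finite_cotangent_of_fg E' (IsNoetherian.noetherian _)
  haveI : Module.FinitePresentation (κ ⊗[A] B) E'.Cotangent :=
    Module.finitePresentation_of_finite _ _
  haveI : Module.Projective (κ ⊗[A] B) E'.Cotangent :=
    Module.Flat.projective_of_finitePresentation
  haveI hproj : Module.Projective (E'.Ring ⧸ E'.ker) E'.ker.Cotangent :=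
    projective_ker_cotangent E'
  have hpd : HasProjectiveDimensionLT (ModuleCat.of E'.Ring E'.ker) (n + 1) :=
    hasProjectiveDimensionLT_ideal_fibre_mvPolynomial A n p E'.ker
  rw [Groth.Agent.Lib.helper17.CIField.isLCIOver_iff_forall_isCIOver]
  intro Q
  let φ : E'.Ring →ₐ[κ] (κ ⊗[A] B) := IsScalarTower.toAlgHom κ E'.Ring (κ ⊗[A] B)
  have hφ : Function.Surjective φ := E'.algebraMap_surjective
  haveI : (Q.asIdeal.comap φ.toRingHom).IsPrime := Ideal.comap_isPrime _ _
  have hle : E'.ker ≤ Q.asIdeal.comap φ.toRingHom := by
    intro x hx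
    rw [Ideal.mem_comap]
    have : φ.toRingHom x = 0 := hx
    rw [this]
    exact Ideal.zero_mem _
  obtain ⟨rs, hreg, hrs⟩ := exists_regular_atPrime E'.ker (n + 1) hpd
    (Q.asIdeal.comap φ.toRingHom) hle
  haveI : Algebra.FiniteType κ E'.Ring := finiteType_fibre_mvPolynomial A n p
  haveI : Algebra.EssFiniteType κ E'.Ring := inferInstance
  exact (Groth.Agent.Lib.helper17.CIField.isCIOver_atPrime_iff κ φ hφ Q.asIdeal
    (Q.asIdeal.comap φ.toRingHom) rfl).mpr ⟨rs, hreg, hrs⟩

end Groth.Agent.Lib.helper13.NLFlat
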