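import Mathlib

/-!
# Two-term complexes: quasi-isomorphisms onto a complex with projective degree-zero term (helper13)

* `nonempty_prod_equiv_of_quasiIso`: for a map `(φ₁, φ₀)` of two-term complexes
  `dA : A₁ → A₀`, `dB : B₁ → B₀` of modules which is bijective on kernels and cokernels
  (stated elementwise), with `B₀` projective: `A₁ × B₀ ≃ B₁ × A₀` (mapping cone splits).
* `nonempty_prod_equiv_of_localized_quasiIso`: the same when the source complex lives over a ring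
  `S`, the target over a localization `T = M⁻¹S`, and the map becomes a quasi-isomorphism after
  localizing.
-/

set_option autoImplicit false

namespace Groth.Agent.Lib.helper13.NLLoc

section Abstract

variable {T : Type*} [CommRing T]
variable {A₁ A₀ B₁ B₀ : Type*} [AddCommGroup A₁] [Module T A₁] [AddCommGroup A₀] [Module T A₀]
  [AddCommGroup B₁] [Module T B₁] [AddCommGroup B₀] [Module T B₀]

theorem nonempty_prod_equiv_of_quasiIso [Module.Projective T B₀]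
    (dA : A₁ →ₗ[T] A₀) (dB : B₁ →ₗ[T] B₀) (φ₁ : A₁ →ₗ[T] B₁) (φ₀ : A₀ →ₗ[T] B₀)
    (hφ : ∀ a, dB (φ₁ a) = φ₀ (dA a))
    (ha : ∀ a, dA a = 0 → φ₁ a = 0 → a = 0)
    (hb : ∀ b, dB b = 0 → ∃ a, dA a = 0 ∧ φ₁ a = b)
    (hc : ∀ a₀ b₁, φ₀ a₀ = dB b₁ → ∃ a₁, a₀ = dA a₁)
    (hd : ∀ b₀, ∃ a₀ b₁, b₀ = φ₀ a₀ + dB b₁) :
    Nonempty ((A₁ × B₀) ≃ₗ[T] (B₁ × A₀)) := by
  let ρ : (A₀ × B₁) →ₗ[T] B₀ := φ₀.coprod dB
  let ι : A₁ →ₗ[T] (A₀ × B₁) := (-dA).prod φ₁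
  have hρ : Function.Surjective ρ := by
    intro b₀
    obtain ⟨a₀, b₁, h⟩ := hd b₀
    exact ⟨(a₀, b₁), by simp [ρ, h]⟩
  have hι : Function.Injective ι := by
    rw [injective_iff_map_eq_zero]
    intro a h
    have h1 : -dA a = 0 := congrArg Prod.fst h
    have h2 : φ₁ a = 0 := congrArg Prod.snd h
    exact ha a (neg_eq_zero.mp h1) h2
  have hex : Function.Exact ι ρ := by
    intro x
    constructor
    · intro hx
      obtain ⟨a₀, b₁⟩ := x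
      have hx' : φ₀ a₀ + dB b₁ = 0 := by simpa [ρ] using hx
      have h1 : φ₀ a₀ = dB (-b₁) := by
        rw [map_neg]; exact eq_neg_of_add_eq_zero_left hx'
      obtain ⟨a₁', ha₁'⟩ := hc a₀ (-b₁) h1
      have h2 : dB (b₁ + φ₁ a₁') = 0 := by
        rw [map_add, hφ, ← ha₁', add_comm]; exact hx'
      obtain ⟨a'', h3, h4⟩ := hb _ h2
      refine ⟨a'' - a₁', ?_⟩
      ext
      · simp [ι, h3, ha₁']
      · simp [ι, h4]
    · rintro ⟨a, rfl⟩
      simp [ι, ρ, hφ]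
  obtain ⟨s, hs⟩ := Module.projective_lifting_property ρ LinearMap.id hρ
  have e := (hex.splitSurjectiveEquiv hι ⟨s, hs⟩).1
  exact ⟨e.symm.trans (LinearEquiv.prodComm T A₀ B₁)⟩

end Abstract

section Localized

variable {S : Type*} [CommRing S] (M : Submonoid S) {T : Type*} [CommRing T] [Algebra S T]
  [IsLocalization M T]
variable {A₁' A₀' : Type*} [AddCommGroup A₁'] [Module S A₁'] [AddCommGroup A₀'] [Module S A₀']
variable {A₁ A₀ B₁ B₀ : Type*}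
  [AddCommGroup A₁] [Module S A₁] [Module T A₁] [IsScalarTower S T A₁]
  [AddCommGroup A₀] [Module S A₀] [Module T A₀] [IsScalarTower S T A₀]
  [AddCommGroup B₁] [Module S B₁] [Module T B₁] [IsScalarTower S T B₁]
  [AddCommGroup B₀] [Module S B₀] [Module T B₀] [IsScalarTower S T B₀]

include M in
theorem nonempty_prod_equiv_of_localized_quasiIso [Module.Projective T B₀]
    (l₁ : A₁' →ₗ[S] A₁) (l₀ : A₀' →ₗ[S] A₀) [IsLocalizedModule M l₁] [IsLocalizedModule M l₀]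
    (dA : A₁' →ₗ[S] A₀') (dB : B₁ →ₗ[T] B₀) (φ₁ : A₁' →ₗ[S] B₁) (φ₀ : A₀' →ₗ[S] B₀)
    (hφ : ∀ a, dB (φ₁ a) = φ₀ (dA a))
    (ha : ∀ x, dA x = 0 → φ₁ x = 0 → ∃ t : M, t • x = 0)
    (hb : ∀ b, dB b = 0 → ∃ x, dA x = 0 ∧ ∃ t : M, φ₁ x = t • b)
    (hc : ∀ x₀ b₁, φ₀ x₀ = dB b₁ → ∃ t : M, ∃ x₁, t • x₀ = dA x₁)
    (hd : ∀ b₀, ∃ t : M, ∃ x₀ b₁, t • b₀ = φ₀ x₀ + dB b₁) :
    Nonempty ((A₁ × B₀) ≃ₗ[T] (B₁ × A₀)) := by
  haveI := isLocalizedModule_id M B₁ T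
  haveI := isLocalizedModule_id M B₀ T
  let i₁ : B₁ →ₗ[S] B₁ := LinearMap.id
  let i₀ : B₀ →ₗ[S] B₀ := LinearMap.id
  let DA : A₁ →ₗ[T] A₀ := (IsLocalizedModule.map M l₁ l₀ dA).extendScalarsOfIsLocalization M T
  let Φ₁ : A₁ →ₗ[T] B₁ := (IsLocalizedModule.map M l₁ i₁ φ₁).extendScalarsOfIsLocalization M T
  let Φ₀ : A₀ →ₗ[T] B₀ := (IsLocalizedModule.map M l₀ i₀ φ₀).extendScalarsOfIsLocalization M T
  have hDA : ∀ x s, DA (IsLocalizedModule.mk' l₁ x s) = IsLocalizedModule.mk' l₀ (dA x) s :=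
    fun x s => IsLocalizedModule.map_mk' M l₁ l₀ dA x s
  have hΦ₁ : ∀ x s, Φ₁ (IsLocalizedModule.mk' l₁ x s) = IsLocalizedModule.mk' i₁ (φ₁ x) s :=
    fun x s => IsLocalizedModule.map_mk' M l₁ i₁ φ₁ x s
  have hΦ₀ : ∀ x s, Φ₀ (IsLocalizedModule.mk' l₀ x s) = IsLocalizedModule.mk' i₀ (φ₀ x) s :=
    fun x s => IsLocalizedModule.map_mk' M l₀ i₀ φ₀ x s
  -- `dB` commutes with `mk'` for the identity localizations
  have hdBmk : ∀ (b : B₁) (s : M), dB (IsLocalizedModule.mk' i₁ b s) =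
      IsLocalizedModule.mk' i₀ (dB b) s := by
    intro b s
    symm
    rw [IsLocalizedModule.mk'_eq_iff]
    have h1 : (s : S) • IsLocalizedModule.mk' i₁ b s = b := IsLocalizedModule.mk'_cancel' i₁ b s
    have : (s : S) • dB (IsLocalizedModule.mk' i₁ b s) = dB b := by
      rw [← algebraMap_smul T (s : S), ← map_smul, algebraMap_smul, h1]
    exact this.symm
  refine nonempty_prod_equiv_of_quasiIso DA dB Φ₁ Φ₀ ?_ ?_ ?_ ?_ ?_
  · intro a
    obtain ⟨⟨x, s⟩, rfl⟩ := IsLocalizedModule.mk'_surjective M l₁ a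
    simp only [Function.uncurry_apply_pair]
    rw [hΦ₁, hDA, hΦ₀, hdBmk, hφ]
  · intro a h1 h2
    obtain ⟨⟨x, s⟩, rfl⟩ := IsLocalizedModule.mk'_surjective M l₁ a
    simp only [Function.uncurry_apply_pair] at h1 h2 ⊢
    rw [hDA, IsLocalizedModule.mk'_eq_zero'] at h1
    rw [hΦ₁, IsLocalizedModule.mk'_eq_zero'] at h2
    obtain ⟨t, ht⟩ := h1
    obtain ⟨t', ht'⟩ := h2
    have ht0 : (t : S) • dA x = 0 := ht
    have ht0' : (t' : S) • φ₁ x = 0 := ht'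
    have h3 : dA (((t : S) * (t' : S)) • x) = 0 := by
      rw [mul_comm, mul_smul, map_smul, map_smul, ht0, smul_zero]
    have h4 : φ₁ (((t : S) * (t' : S)) • x) = 0 := by
      rw [mul_smul, map_smul, map_smul, ht0', smul_zero]
    obtain ⟨u, hu⟩ := ha _ h3 h4
    rw [IsLocalizedModule.mk'_eq_zero']
    refine ⟨u * (t * t'), ?_⟩
    have hu0 : (u : S) • (((t : S) * (t' : S)) • x) = 0 := hu
    change ((u : S) * ((t : S) * (t' : S))) • x = 0
    rw [mul_smul]; exact hu0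
  · intro b hb0
    obtain ⟨x, hx, t, hxt⟩ := hb b hb0
    refine ⟨IsLocalizedModule.mk' l₁ x t, ?_, ?_⟩
    · rw [hDA, hx, IsLocalizedModule.mk'_zero]
    · rw [hΦ₁, hxt, IsLocalizedModule.mk'_eq_iff]
      rfl
  · intro a₀ b₁ h
    obtain ⟨⟨x₀, s⟩, rfl⟩ := IsLocalizedModule.mk'_surjective M l₀ a₀
    simp only [Function.uncurry_apply_pair] at h ⊢
    rw [hΦ₀, IsLocalizedModule.mk'_eq_iff] at h
    have h' : φ₀ x₀ = dB ((s : S) • b₁) := by
      rw [← algebraMap_smul T (s : S), map_smul, algebraMap_smul]; exact h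
    obtain ⟨t, x₁, hx₁⟩ := hc x₀ _ h'
    refine ⟨IsLocalizedModule.mk' l₁ x₁ (t * s), ?_⟩
    rw [hDA, ← hx₁]
    exact (IsLocalizedModule.mk'_cancel_left l₀ x₀ t s).symm
  · intro b₀
    obtain ⟨t, x₀, b₁, h⟩ := hd b₀
    refine ⟨IsLocalizedModule.mk' l₀ x₀ t, IsLocalizedModule.mk' i₁ b₁ t, ?_⟩
    rw [hΦ₀, hdBmk, ← IsLocalizedModule.mk'_add, ← h]
    symm
    rw [IsLocalizedModule.mk'_eq_iff]
    rfl

end Localized

end Groth.Agent.Lib.helper13.NLLoc
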