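import Mathlib
import Groth.Agent.Lib.Helper13.NLLoc1

/-!
# The naive cotangent complex and localization of the algebra (helper13)

For `T = M⁻¹S`, extensions `P` of `S` and `Q` of `T` over `R` with formally smooth rings and a
morphism `f : P.Hom Q`:
* `isLocalizedModule_H1Cotangent_map`: `H¹(L_P) → H¹(L_Q)` is a localization at `M`;
* `toKaehler_map`: compatibility of `CotangentSpace.map f` with the maps to Kähler differentials;
* `nonempty_localizedCotangent_prod_equiv`: `(I/I²)_M × Q.CotangentSpace ≃ J/J² × (P.CotangentSpace)_M`
  as soon as `Q.CotangentSpace` is projective.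
-/

set_option autoImplicit false
universe u
open Algebra TensorProduct

namespace Groth.Agent.Lib.helper13.NLLoc

variable {R S T : Type u} [CommRing R] [CommRing S] [CommRing T] [Algebra R S] [Algebra R T]
  [Algebra S T] [IsScalarTower R S T]

set_option backward.isDefEq.respectTransparency false in
/-- a morphism of extensions out of the canonical presentation -/
noncomputable def homOfSelf (Q : Extension.{u} R T) : (Generators.self R T).toExtension.Hom Q where
  toRingHom := (MvPolynomial.aeval Q.σ).toRingHom
  toRingHom_algebraMap := (MvPolynomial.aeval Q.σ).commutes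
  algebraMap_toRingHom := by
    have : (IsScalarTower.toAlgHom R Q.Ring T).comp (MvPolynomial.aeval Q.σ) =
        IsScalarTower.toAlgHom _ (Generators.self R T).toExtension.Ring _ := by
      ext i
      change _ = algebraMap (Generators.self R T).Ring _ (.X i)
      simp
    exact DFunLike.congr_fun this

set_option backward.isDefEq.respectTransparency false in
theorem isLocalizedModule_H1Cotangent_map (M : Submonoid S) [IsLocalization M T]
    (P : Extension.{u} R S) (Q : Extension.{u} R T) [FormallySmooth R P.Ring]
    [FormallySmooth R Q.Ring] (f : P.Hom Q) :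
    IsLocalizedModule M (Extension.H1Cotangent.map f) := by
  let P0 : Extension.{u} R S := (Generators.self R S).toExtension
  let Q0 : Extension.{u} R T := (Generators.self R T).toExtension
  haveI : FormallySmooth R P0.Ring := inferInstanceAs (FormallySmooth R (MvPolynomial _ _))
  haveI : FormallySmooth R Q0.Ring := inferInstanceAs (FormallySmooth R (MvPolynomial _ _))
  let a : P0.Hom P := homOfSelf P
  let b : Q0.Hom Q := homOfSelf Q
  let f0 : P0.Hom Q0 :=
    (Generators.defaultHom (Generators.self R S) (Generators.self R T)).toExtensionHom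
  have h1 : Extension.H1Cotangent.map f ∘ₗ Extension.H1Cotangent.map a =
      (Extension.H1Cotangent.map b).restrictScalars S ∘ₗ Extension.H1Cotangent.map f0 := by
    have e1 := Extension.H1Cotangent.map_comp a f
    have e2 := Extension.H1Cotangent.map_comp f0 b
    have e3 := Extension.H1Cotangent.map_eq (f.comp a) (b.comp f0)
    rw [e1, e2] at e3
    exact e3
  have ha : Function.Bijective (Extension.H1Cotangent.map a) := by
    have := (Extension.H1Cotangent.equivOfFormallySmooth P0 P).bijective
    rwa [← LinearEquiv.coe_coe, Extension.H1Cotangent.equivOfFormallySmooth_toLinearMap a] at this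
  have hb : Function.Bijective ((Extension.H1Cotangent.map b).restrictScalars S) := by
    have := (Extension.H1Cotangent.equivOfFormallySmooth Q0 Q).bijective
    rwa [← LinearEquiv.coe_coe, Extension.H1Cotangent.equivOfFormallySmooth_toLinearMap b] at this
  have h0 : IsLocalizedModule M (Extension.H1Cotangent.map f0) :=
    Algebra.H1Cotangent.isLocalizedModule R T M
  rw [← IsLocalizedModule.comp_iff_of_bijective_right _ (Extension.H1Cotangent.map a) ha, h1,
    IsLocalizedModule.comp_iff_of_bijective_left _ _ hb]
  exact h0

theorem toKaehler_map (P : Extension.{u} R S) (Q : Extension.{u} R T) (f : P.Hom Q)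
    (x : P.CotangentSpace) :
    Q.toKaehler (Extension.CotangentSpace.map f x) =
      KaehlerDifferential.map R R S T (P.toKaehler x) := by
  have key : ∀ (ω : Ω[P.Ring⁄R]) (s : S),
      Q.toKaehler (Extension.CotangentSpace.map f (s ⊗ₜ[P.Ring] ω)) =
        KaehlerDifferential.map R R S T (P.toKaehler (s ⊗ₜ[P.Ring] ω)) := by
    intro ω
    have hω : ω ∈ Submodule.span P.Ring (Set.range (KaehlerDifferential.D R P.Ring)) := by
      rw [KaehlerDifferential.span_range_derivation]; trivial
    induction hω using Submodule.span_induction with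
    | mem ω h =>
      obtain ⟨p, rfl⟩ := h
      intro s
      rw [Extension.CotangentSpace.map_tmul]
      simp only [Extension.toKaehler, KaehlerDifferential.mapBaseChange_tmul,
        KaehlerDifferential.map_D, map_smul]
      have h := f.algebraMap_toRingHom p
      have h' : (algebraMap Q.Ring T) (f.toAlgHom p) = (algebraMap S T) ((algebraMap P.Ring S) p) := h
      rw [h', algebraMap_smul]
    | zero => intro s; simp
    | add ω₁ ω₂ _ _ h₁ h₂ => intro s; simp only [tmul_add, map_add, h₁, h₂]
    | smul r ω _ h =>
      intro s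
      have : s ⊗ₜ[P.Ring] (r • ω) = (r • s) ⊗ₜ[P.Ring] ω := (smul_tmul r s ω).symm
      rw [this]
      exact h _
  induction x using TensorProduct.induction_on with
  | zero => simp
  | add x y hx hy => simp only [map_add, hx, hy]
  | tmul s ω => exact key ω s


theorem nonempty_localizedCotangent_prod_equiv (M : Submonoid S) [IsLocalization M T]
    (P : Extension.{u} R S) (Q : Extension.{u} R T) [FormallySmooth R P.Ring]
    [FormallySmooth R Q.Ring] (f : P.Hom Q) [Module.Projective T Q.CotangentSpace]
    {A₁ A₀ : Type*} [AddCommGroup A₁] [Module S A₁] [Module T A₁] [IsScalarTower S T A₁]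
    [AddCommGroup A₀] [Module S A₀] [Module T A₀] [IsScalarTower S T A₀]
    (l₁ : P.Cotangent →ₗ[S] A₁) (l₀ : P.CotangentSpace →ₗ[S] A₀)
    [IsLocalizedModule M l₁] [IsLocalizedModule M l₀] :
    Nonempty ((A₁ × Q.CotangentSpace) ≃ₗ[T] (Q.Cotangent × A₀)) := by
  haveI := isLocalizedModule_H1Cotangent_map M P Q f
  haveI : IsLocalizedModule M (KaehlerDifferential.map R R S T) :=
    inferInstance
  refine nonempty_prod_equiv_of_localized_quasiIso M l₁ l₀ P.cotangentComplex Q.cotangentComplex
    (Extension.Cotangent.map f) (Extension.CotangentSpace.map f) ?_ ?_ ?_ ?_ ?_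
  · intro a
    exact (Extension.CotangentSpace.map_cotangentComplex f a).symm
  · intro x hx hfx
    let y : P.H1Cotangent := ⟨x, hx⟩
    have hy : Extension.H1Cotangent.map f y = 0 := by
      apply Subtype.ext
      exact hfx
    obtain ⟨c, hc⟩ := (IsLocalizedModule.eq_zero_iff M (Extension.H1Cotangent.map f)).mp hy
    exact ⟨c, congrArg Subtype.val hc⟩
  · intro b hb
    let y : Q.H1Cotangent := ⟨b, hb⟩
    obtain ⟨⟨x, t⟩, hx⟩ := IsLocalizedModule.surj M (Extension.H1Cotangent.map f) y
    refine ⟨x.1, x.2, t, ?_⟩
    have := congrArg Subtype.val hx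
    exact this.symm
  · intro x₀ b₁ h
    have h1 : Q.toKaehler (Extension.CotangentSpace.map f x₀) = 0 := by
      rw [h]
      exact Q.exact_cotangentComplex_toKaehler.apply_apply_eq_zero b₁
    rw [toKaehler_map] at h1
    obtain ⟨t, ht⟩ := (IsLocalizedModule.eq_zero_iff M (KaehlerDifferential.map R R S T)).mp h1
    have h2 : P.toKaehler (t • x₀) = 0 := by
      rw [Submonoid.smul_def, map_smul]; exact ht
    obtain ⟨x₁, hx₁⟩ := (P.exact_cotangentComplex_toKaehler _).mp h2
    exact ⟨t, x₁, hx₁.symm⟩
  · intro b₀
    obtain ⟨⟨ω, t⟩, hω⟩ := IsLocalizedModule.surj M (KaehlerDifferential.map R R S T)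
      (Q.toKaehler b₀)
    obtain ⟨x₀, rfl⟩ := P.toKaehler_surjective ω
    have h1 : Q.toKaehler (t • b₀ - Extension.CotangentSpace.map f x₀) = 0 := by
      rw [map_sub, toKaehler_map, ← hω, Submonoid.smul_def, Submonoid.smul_def,
        ← algebraMap_smul T (t : S) b₀, map_smul, algebraMap_smul, sub_self]
    obtain ⟨b₁, hb₁⟩ := (Q.exact_cotangentComplex_toKaehler _).mp h1
    exact ⟨t, x₀, b₁, by rw [hb₁]; abel⟩

end Groth.Agent.Lib.helper13.NLLoc
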