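import Mathlib
import Groth.Prelude.Def_DRing2
import Groth.Prelude.Def_DerCA
import Groth.Agent.Lib.Helper23.DRingPC12
import Groth.Agent.Lib.Helper23.BaseChg4
import Groth.Agent.Lib.Helper3.PCHom3

/-!
# helper13: `m`-pseudo-coherent ring maps (one degree at a time)

`NPCHom m α` : `A` is an `m`-pseudo-coherent `P`-module through `α : P → A`.
`NPCH m f` : the ring map `f : R → S` is `m`-pseudo-coherent: there is a surjection
`φ : R[x_1..x_n] → S` extending `f` through which `S` is an `m`-pseudo-coherent module.
Permanence: polynomial extension, composition (`max r s`), cancellation, localization, Zariski descent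
on the target; `RingHom.PropertyIsLocal (NPCH m)`.
-/

set_option autoImplicit false
universe u
open CategoryTheory CategoryTheory.Limits TensorProduct

attribute [local instance] HasDerivedCategory.standard

namespace Groth.Agent.Lib.helper13.NPCH

open Groth.Agent.Lib.helper23.PCohCore Groth.Agent.Lib.helper23.DRingPC
open Groth.Agent.Lib.helper23.ExtSc Groth.Agent.Lib.helper23.BaseChg
open Groth.Agent.Lib.helper3.PCHomLoc

/-- `A` is an `m`-pseudo-coherent `P`-module through `α`. -/
def NPCHom (m : ℤ) {P A : Type u} [CommRing P] [CommRing A] (α : P →+* A) : Prop :=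
  NPC (FF P) m ((DerivedCategory.singleFunctor (ModuleCat.{u} P) 0).obj
    ((ModuleCat.restrictScalars.{u} α).obj (ModuleCat.of A A)))

lemma pcHom_iff_forall_npcHom {P A : Type u} [CommRing P] [CommRing A] (α : P →+* A) :
    PCHom α ↔ ∀ m : ℤ, NPCHom m α := Iff.rfl

lemma NPCHom.mono {m m' : ℤ} {P A : Type u} [CommRing P] [CommRing A] {α : P →+* A}
    (h : NPCHom m α) (hm : m ≤ m') : NPCHom m' α := NPC.mono h hm

section Transport

variable {P P' A A' : Type u} [CommRing P] [CommRing P'] [CommRing A] [CommRing A']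

/-- transport of `NPCHom` along ring isomorphisms. -/
lemma NPCHom.transport {m : ℤ} (e₁ : P' ≃+* P) (e₂ : A' ≃+* A) (α' : P' →+* A') (α : P →+* A)
    (h : ∀ p, e₂ (α' p) = α (e₁ p)) (hα : NPCHom m α) : NPCHom m α' := by
  have h1 := (npc_restrict_iff e₁.toRingHom (pcMod_of_ringEquiv e₁)
    ((DerivedCategory.singleFunctor (ModuleCat.{u} P) 0).obj
      ((ModuleCat.restrictScalars.{u} α).obj (ModuleCat.of A A))) m).1 hα
  have h2 := (npc_restrict_single_iff e₁.toRingHom _ m).1 h1
  refine h2.of_iso ((DerivedCategory.singleFunctor (ModuleCat.{u} P') 0).mapIso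
    (LinearEquiv.toModuleIso
    ({ toFun := fun x => e₂.symm x
       invFun := fun x => e₂ x
       map_add' := fun x y => map_add e₂.symm x y
       map_smul' := fun p (x : A) => by
        show e₂.symm (α (e₁ p) * x) = α' p * e₂.symm x
        rw [map_mul, ← h p, e₂.symm_apply_apply]
       left_inv := fun x => e₂.apply_symm_apply x
       right_inv := fun x => e₂.symm_apply_apply x } :
      ((ModuleCat.restrictScalars.{u} e₁.toRingHom).obj
        ((ModuleCat.restrictScalars.{u} α).obj (ModuleCat.of A A))) ≃ₗ[P']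
        ((ModuleCat.restrictScalars.{u} α').obj (ModuleCat.of A' A')))))

end Transport

section Poly

variable {P A : Type u} [CommRing P] [CommRing A]

/-- polynomial base change of an `m`-pseudo-coherent algebra. -/
lemma NPCHom.polynomial {m : ℤ} (α : P →+* A) (hα : NPCHom m α) :
    NPCHom m (Polynomial.mapRingHom α) := by
  letI : Algebra P A := α.toAlgebra
  have h1 : NPC (FF P) m ((DerivedCategory.singleFunctor (ModuleCat.{u} P) 0).obj
      (ModuleCat.of P A)) := hα.of_iso
    ((DerivedCategory.singleFunctor (ModuleCat.{u} P) 0).mapIso (LinearEquiv.toModuleIso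
      ({ toFun := fun x => x
         invFun := fun x => x
         map_add' := fun _ _ => rfl
         map_smul' := fun _ _ => rfl
         left_inv := fun _ => rfl
         right_inv := fun _ => rfl } :
        ((ModuleCat.restrictScalars.{u} α).obj (ModuleCat.of A A)) ≃ₗ[P] (ModuleCat.of P A))))
  have h2 := npc_single_baseChange (B := Polynomial P) m (ModuleCat.of P A) h1
  exact h2.of_iso ((DerivedCategory.singleFunctor (ModuleCat.{u} (Polynomial P)) 0).mapIso
    (polyTensorEquiv (P := P) (A := A)).toModuleIso)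

/-- multivariate polynomial base change of an `m`-pseudo-coherent algebra. -/
theorem NPCHom.mvPolynomial {m : ℤ} (α : P →+* A) (hα : NPCHom m α) :
    ∀ k : ℕ, NPCHom m
      (MvPolynomial.map α : MvPolynomial (Fin k) P →+* MvPolynomial (Fin k) A) := by
  intro k
  induction k with
  | zero =>
    refine NPCHom.transport (MvPolynomial.isEmptyRingEquiv P (Fin 0))
      (MvPolynomial.isEmptyRingEquiv A (Fin 0)) _ α (fun p => ?_) hα
    rw [MvPolynomial.isEmptyRingEquiv_eq_coeff_zero, MvPolynomial.isEmptyRingEquiv_eq_coeff_zero,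
      MvPolynomial.coeff_map]
  | succ k ih =>
    refine NPCHom.transport (MvPolynomial.finSuccEquiv P k).toRingEquiv
      (MvPolynomial.finSuccEquiv A k).toRingEquiv _ _ (fun p => ?_) (NPCHom.polynomial _ ih)
    exact finSuccEquiv_map α k p

end Poly

section Restrict

variable {A B : Type u} [CommRing A] [CommRing B] (φ : A →+* B)

lemma npc_single_biprod {s : ℤ} {M N : ModuleCat.{u} A}
    (hM : NPC (FF A) s ((DerivedCategory.singleFunctor (ModuleCat.{u} A) 0).obj M))
    (hN : NPC (FF A) s ((DerivedCategory.singleFunctor (ModuleCat.{u} A) 0).obj N)) :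
    NPC (FF A) s ((DerivedCategory.singleFunctor (ModuleCat.{u} A) 0).obj (M ⊞ N)) := by
  haveI : PreservesBinaryBiproducts (DerivedCategory.singleFunctor (ModuleCat.{u} A) 0) :=
    preservesBinaryBiproducts_of_preservesBiproducts _
  exact (NPC.biprod (FF_sum A) hM hN).of_iso
    ((DerivedCategory.singleFunctor (ModuleCat.{u} A) 0).mapBiprod M N).symm

lemma npc_single_of_iso {s : ℤ} {M N : ModuleCat.{u} A}
    (hM : NPC (FF A) s ((DerivedCategory.singleFunctor (ModuleCat.{u} A) 0).obj M)) (e : M ≅ N) :
    NPC (FF A) s ((DerivedCategory.singleFunctor (ModuleCat.{u} A) 0).obj N) :=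
  hM.of_iso ((DerivedCategory.singleFunctor (ModuleCat.{u} A) 0).mapIso e)

lemma npc_restrict_pi {s : ℤ} (hB : NPCHom s φ) :
    ∀ (k : ℕ), NPC (FF A) s ((DerivedCategory.singleFunctor (ModuleCat.{u} A) 0).obj
      ((ModuleCat.restrictScalars.{u} φ).obj (ModuleCat.of B (Fin k → B)))) := by
  intro k
  induction k with
  | zero =>
    refine NPC.of_isZero (FF A) s
      ((DerivedCategory.singleFunctor (ModuleCat.{u} A) 0).map_isZero ?_)
    haveI : Subsingleton ((ModuleCat.restrictScalars.{u} φ).obj (ModuleCat.of B (Fin 0 → B))) :=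
      inferInstanceAs (Subsingleton (Fin 0 → B))
    exact ModuleCat.isZero_of_subsingleton _
  | succ k ih =>
    have e : ModuleCat.of B (B × (Fin k → B)) ≅ ModuleCat.of B (Fin (k + 1) → B) :=
      (Fin.consLinearEquiv B (fun _ : Fin (k + 1) => B)).toModuleIso
    exact npc_single_of_iso (npc_single_of_iso (npc_single_biprod hB ih)
      (restrictProdIso φ B (Fin k → B)).symm) ((ModuleCat.restrictScalars.{u} φ).mapIso e)

lemma npc_restrict_of_FF {s : ℤ} (hB : NPCHom s φ) (E : ModuleCat.{u} B) (hE : FF B E) :
    NPC (FF A) s ((DerivedCategory.singleFunctor (ModuleCat.{u} A) 0).obj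
      ((ModuleCat.restrictScalars.{u} φ).obj E)) := by
  obtain ⟨h1, h2⟩ := hE
  let b := Module.Free.chooseBasis B E
  let e : E ≃ₗ[B] (Fin (Fintype.card (Module.Free.ChooseBasisIndex B E)) → B) :=
    (b.reindex (Fintype.equivFin _)).equivFun
  exact npc_single_of_iso (npc_restrict_pi φ hB _)
    ((ModuleCat.restrictScalars.{u} φ).mapIso e.toModuleIso.symm)

/-- **transitivity, one degree at a time**: if `B` is an `s`-pseudo-coherent `A`-module and the
`B`-module `N` is `r`-pseudo-coherent, then `N` is a `max r s`-pseudo-coherent `A`-module. -/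
theorem npc_restrict_single_of_npcHom {r s : ℤ} (hB : NPCHom s φ) (N : ModuleCat.{u} B)
    (hN : NPC (FF B) r ((DerivedCategory.singleFunctor (ModuleCat.{u} B) 0).obj N)) :
    NPC (FF A) (max r s) ((DerivedCategory.singleFunctor (ModuleCat.{u} A) 0).obj
      ((ModuleCat.restrictScalars.{u} φ).obj N)) := by
  by_cases hr : 0 < r
  · refine NPC.of_acyclic (FF A) _ _ (fun i hi => ?_)
    exact DerivedCategory.isZero_of_isLE _ 0 i (by
      have := le_max_left r s
      omega)
  · rw [not_lt] at hr
    obtain ⟨E, ⟨-, hEP⟩, hEz, ⟨e⟩⟩ := NPC.exists_strictPC_vanishing_above (FF B) (FF_sum B)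
      (FF_hqs B) (FF_hql B) r 1 (by omega) _ hN
      (fun i hi => DerivedCategory.isZero_of_isLE _ 0 i (by omega))
    have h0 := NPC.of_terms (FF A) (FF_sum A) (FF_hqs A) (FF_hql A) (max r s)
      (((ModuleCat.restrictScalars.{u} φ).mapHomologicalComplex (ComplexShape.up ℤ)).obj E) 0
      (fun i hi => (ModuleCat.restrictScalars.{u} φ).map_isZero (hEz i (by omega)))
      (fun i hi => ?_)
    · have h1 : NPC (FF A) (max r s) ((ModuleCat.restrictScalars.{u} φ).mapDerivedCategory.obj
          (DerivedCategory.Q.obj E)) :=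
        h0.of_iso ((ModuleCat.restrictScalars.{u} φ).mapDerivedCategoryFactors.app E).symm
      exact (npc_restrict_single_iff φ N _).1
        (h1.of_iso ((ModuleCat.restrictScalars.{u} φ).mapDerivedCategory.mapIso e))
    · by_cases hi0 : 0 < i
      · exact NPC.of_isZero (FF A) _ ((DerivedCategory.singleFunctor (ModuleCat.{u} A) 0).map_isZero
          ((ModuleCat.restrictScalars.{u} φ).map_isZero (hEz i (by omega))))
      · rw [not_lt] at hi0
        have hri : r ≤ i := le_trans (le_max_left r s) hi
        have := npc_restrict_of_FF φ hB (E.X i) (hEP i hri)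
        exact NPC.mono this (by
          have := le_max_right r s
          omega)

end Restrict


/-- `f : R → S` is an `m`-pseudo-coherent ring map. -/
def NPCH (m : ℤ) {R S : Type u} [CommRing R] [CommRing S] (f : R →+* S) : Prop :=
  ∃ (n : ℕ) (φ : MvPolynomial (Fin n) R →+* S), φ.comp MvPolynomial.C = f ∧
    Function.Surjective φ ∧ NPCHom m φ

section Basic

variable {R S : Type u} [CommRing R] [CommRing S]

lemma NPCH.mono {m m' : ℤ} {f : R →+* S} (h : NPCH m f) (hm : m ≤ m') : NPCH m' f := by
  obtain ⟨n, φ, hC, hφ, h⟩ := h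
  exact ⟨n, φ, hC, hφ, h.mono hm⟩

lemma npch_of_pch {f : R →+* S} (h : PCH f) (m : ℤ) : NPCH m f := by
  obtain ⟨n, φ, hC, hφ, h⟩ := h
  exact ⟨n, φ, hC, hφ, h m⟩

lemma finiteType_of_npch [Algebra R S] {m : ℤ} (h : NPCH m (algebraMap R S)) :
    Algebra.FiniteType R S := by
  obtain ⟨n, φ, hC, hφ, -⟩ := h
  exact Algebra.FiniteType.iff_quotient_mvPolynomial''.2 ⟨n, toAlgHom φ hC, hφ⟩

lemma finiteType_of_npch' {m : ℤ} (f : R →+* S) (h : NPCH m f) : f.FiniteType := by
  letI := f.toAlgebra
  exact finiteType_of_npch h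

theorem npch_iff_rel [Algebra R S] (m : ℤ) :
    NPCH m (algebraMap R S) ↔ DerCA.IsRelPseudoCoherent R S m (Dual.inD S S) := by
  constructor
  · rintro ⟨n, φ, hC, hφ, h⟩
    refine ⟨n, toAlgHom φ hC, hφ, ?_⟩
    rw [isRelPseudoCoherentVia_iff_npc, toAlgHom_coe, npc_restrict_single_iff]
    exact h
  · rintro ⟨n, α, hα, h⟩
    refine ⟨n, (α : MvPolynomial (Fin n) R →+* S), algHom_comp_C α, hα, ?_⟩
    rw [isRelPseudoCoherentVia_iff_npc, npc_restrict_single_iff] at h
    exact h

theorem pch_iff_forall_npch (f : R →+* S) : PCH f ↔ ∀ m : ℤ, NPCH m f := by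
  letI := f.toAlgebra
  constructor
  · intro h m
    exact npch_of_pch h m
  · intro h
    exact (pch_iff_relAll (R := R) (S := S)).2 (fun m => (npch_iff_rel m).1 (h m))

/-- the defining property can be tested on any presentation. -/
theorem npch_iff_of_presentation {n : ℕ} (f : R →+* S) (φ : MvPolynomial (Fin n) R →+* S)
    (hC : φ.comp MvPolynomial.C = f) (hφ : Function.Surjective φ) (m : ℤ) :
    NPCH m f ↔ NPCHom m φ := by
  constructor
  · intro h
    letI := f.toAlgebra
    have h1 := (npch_iff_rel (R := R) (S := S) m).1 h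
    have h2 := (isRelPseudoCoherent_iff_npc (toAlgHom φ hC) hφ m _).1 h1
    rw [toAlgHom_coe, npc_restrict_single_iff] at h2
    exact h2
  · intro h
    exact ⟨n, φ, hC, hφ, h⟩

end Basic

section Comp

variable {R S T : Type u} [CommRing R] [CommRing S] [CommRing T]

/-- composition of an `s`-pseudo-coherent ring map with an `r`-pseudo-coherent one. -/
theorem npch_comp {r s : ℤ} (f : R →+* S) (g : S →+* T) (hf : NPCH s f) (hg : NPCH r g) :
    NPCH (max r s) (g.comp f) := by
  obtain ⟨n, α, hαC, hα, hαpc⟩ := hf
  obtain ⟨k, β, hβC, hβ, hβpc⟩ := hg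
  letI := f.toAlgebra
  letI := g.toAlgebra
  letI := (g.comp f).toAlgebra
  let φ : MvPolynomial (Fin k) (MvPolynomial (Fin n) R) →+* MvPolynomial (Fin k) S :=
    MvPolynomial.map α
  have hφ : NPCHom s φ := NPCHom.mvPolynomial α hαpc k
  let γ : MvPolynomial (Fin k) (MvPolynomial (Fin n) R) →+* T := β.comp φ
  have hγs : Function.Surjective γ := hβ.comp (MvPolynomial.map_surjective _ hα)
  have hγC : ∀ x : R, γ (MvPolynomial.C (MvPolynomial.C x)) = algebraMap R T x := by
    intro x
    show β (MvPolynomial.map α (MvPolynomial.C (MvPolynomial.C x))) = g (f x)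
    rw [MvPolynomial.map_C]
    have h1 : α (MvPolynomial.C x) = f x := by
      rw [← hαC]
      rfl
    have h2 : β (MvPolynomial.C (f x)) = g (f x) := by
      rw [← hβC]
      rfl
    rw [h1, h2]
  have key := npc_restrict_single_of_npcHom φ hφ
    ((ModuleCat.restrictScalars.{u} β).obj (ModuleCat.of T T)) hβpc
  refine (npch_iff_rel (R := R) (S := T) (max r s)).2
    ((isRelPseudoCoherent_iff_npc_iterated γ hγs hγC _ _).2 ?_)
  refine (npc_restrict_single_iff γ _ _).2 (key.of_iso
    ((DerivedCategory.singleFunctor _ 0).mapIso (LinearEquiv.toModuleIso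
      ({ toFun := fun x => x
         invFun := fun x => x
         map_add' := fun _ _ => rfl
         map_smul' := fun _ _ => rfl
         left_inv := fun _ => rfl
         right_inv := fun _ => rfl } :
        ((ModuleCat.restrictScalars.{u} φ).obj
          ((ModuleCat.restrictScalars.{u} β).obj (ModuleCat.of T T))) ≃ₗ[_]
        ((ModuleCat.restrictScalars.{u} γ).obj (ModuleCat.of T T))))))

theorem npch_comp_self {m : ℤ} (f : R →+* S) (g : S →+* T) (hf : NPCH m f) (hg : NPCH m g) :
    NPCH m (g.comp f) := by
  have := npch_comp f g hf hg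
  rwa [max_self] at this

/-- cancellation. -/
theorem npch_cancel {m : ℤ} (f : R →+* S) (g : S →+* T) (hf : PCH f)
    (hgf : NPCH m (g.comp f)) : NPCH m g := by
  letI := f.toAlgebra
  letI := g.toAlgebra
  letI := (g.comp f).toAlgebra
  haveI : IsScalarTower R S T := IsScalarTower.of_algebraMap_eq' rfl
  haveI : Algebra.FiniteType R S := finiteType_of_pch hf
  haveI : Algebra.FiniteType R T := finiteType_of_npch hgf
  haveI : Algebra.FiniteType S T := Algebra.FiniteType.of_restrictScalars_finiteType R S T
  have h1 : DerCA.IsRelPseudoCoherentModuleAll R S S := pch_iff_relAll.1 hf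
  have h2 : DerCA.IsRelPseudoCoherent R T m (Dual.inD T T) := (npch_iff_rel m).1 hgf
  exact (npch_iff_rel (R := S) (S := T) m).2
    ((isRelPseudoCoherent_iff_of_intermediate h1 _ m).2 h2)

end Comp

section SpanTarget

variable {R S : Type u} [CommRing R] [CommRing S]

theorem npch_of_finite_span_target {m : ℤ} (f : R →+* S) (s : Finset S)
    (hs : Ideal.span (s : Set S) = ⊤)
    (h : ∀ r : s, NPCH m ((algebraMap S (Localization.Away (r : S))).comp f)) : NPCH m f := by
  have hft : f.FiniteType :=
    RingHom.finiteType_ofLocalizationSpanTarget f (s : Set S) hs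
      (fun r => finiteType_of_npch' _ (h ⟨r.1, r.2⟩))
  letI := f.toAlgebra
  haveI : Algebra.FiniteType R S := hft
  obtain ⟨n, α, hα⟩ := exists_presentation (R := R) (A := S)
  refine (npch_iff_rel m).2 ?_
  let g : Fin s.card → S := fun i => (s.equivFin.symm i : S)
  have hg : Ideal.span (Set.range g) = ⊤ := by
    have : Set.range g = (s : Set S) := by
      ext x
      constructor
      · rintro ⟨i, rfl⟩
        exact (s.equivFin.symm i).2
      · intro hx
        exact ⟨s.equivFin ⟨x, hx⟩, by simp [g]⟩
    rw [this, hs]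
  have key := isRelPseudoCoherent_of_cover α hα g hg (KS S) m (fun i => ?_)
  · exact isRelPseudoCoherent_of_iso (toDKSIso S) m key
  · have hi := h (s.equivFin.symm i)
    have he : (algebraMap S (Localization.Away (g i))).comp f =
        algebraMap R (Localization.Away (g i)) :=
      (IsScalarTower.algebraMap_eq R S (Localization.Away (g i))).symm
    have hi' : NPCH m (algebraMap R (Localization.Away (g i))) := by
      rw [← he]
      exact hi
    exact isRelPseudoCoherent_of_iso (extendKSIso S (Localization.Away (g i))).symm m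
      ((npch_iff_rel m).1 hi')

end SpanTarget

section Local

theorem npch_stableUnderComposition (m : ℤ) : RingHom.StableUnderComposition (@NPCH m) :=
  fun _ _ _ _ _ _ f g hf hg => npch_comp_self f g hf hg

theorem npch_holdsForLocalizationAway (m : ℤ) : RingHom.HoldsForLocalizationAway (@NPCH m) :=
  fun _ _ _ _ _ r _ => npch_of_pch (pch_away r) m

theorem npch_ofLocalizationSpanTarget (m : ℤ) : RingHom.OfLocalizationSpanTarget (@NPCH m) :=
  (RingHom.ofLocalizationSpanTarget_iff_finite (@NPCH m)).2
    (fun _ _ _ _ f s hs h => npch_of_finite_span_target f s hs h)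

theorem npch_localizationAwayPreserves (m : ℤ) : RingHom.LocalizationAwayPreserves (@NPCH m) := by
  intro R S _ _ f r R' S' _ _ _ _ _ _ hf
  have h1 : NPCH m ((algebraMap S S').comp f) :=
    npch_comp_self f _ hf (npch_of_pch (pch_away (f r)) m)
  have h2 : (IsLocalization.Away.map R' S' f r).comp (algebraMap R R') =
      (algebraMap S S').comp f := IsLocalization.map_comp _
  rw [← h2] at h1
  exact npch_cancel (algebraMap R R') _ (pch_away r) h1

theorem npch_stableUnderCompositionWithLocalizationAway (m : ℤ) :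
    RingHom.StableUnderCompositionWithLocalizationAway (@NPCH m) :=
  (npch_stableUnderComposition m).stableUnderCompositionWithLocalizationAway
    (npch_holdsForLocalizationAway m)

theorem npch_isLocal (m : ℤ) : RingHom.PropertyIsLocal (@NPCH m) :=
  ⟨npch_localizationAwayPreserves m, npch_ofLocalizationSpanTarget m,
    (npch_ofLocalizationSpanTarget m).ofLocalizationSpan
      (npch_stableUnderCompositionWithLocalizationAway m).left,
    (npch_stableUnderCompositionWithLocalizationAway m).right⟩

end Local

end Groth.Agent.Lib.helper13.NPCH
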