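import Mathlib

/-!
# The characteristic sequence of a module over a polynomial ring (helper13)

For a module `M` over `R[X]` there is a short exact sequence of `R[X]`-modules
`0 → R[X] ⊗[R] M → R[X] ⊗[R] M → M → 0`,
the first map being `X ⊗ 1 - 1 ⊗ X` and the second one the action map.
-/

set_option autoImplicit false
universe u
open Polynomial TensorProduct

namespace Groth.Agent.Lib.helper13.TDSm

variable (R : Type u) [CommRing R] (M : Type u) [AddCommGroup M] [Module R M] [Module R[X] M]
  [IsScalarTower R R[X] M]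

/-- multiplication by `X`, as an `R`-linear endomorphism -/
noncomputable def mulX : M →ₗ[R] M := (LinearMap.lsmul R[X] M (X : R[X])).restrictScalars R

@[simp] lemma mulX_apply (m : M) : mulX R M m = (X : R[X]) • m := rfl

lemma mulX_pow_apply (k : ℕ) (m : M) : ((mulX R M) ^ k) m = ((X : R[X]) ^ k) • m := by
  induction k generalizing m with
  | zero => simp
  | succ k ih => rw [pow_succ, Module.End.mul_apply, ih, mulX_apply, pow_succ, mul_smul]

/-- the action map `R[X] ⊗[R] M → M` -/
noncomputable def actMap : R[X] ⊗[R] M →ₗ[R[X]] M :=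
  LinearMap.liftBaseChange R[X] (LinearMap.id : M →ₗ[R] M)

@[simp] lemma actMap_tmul (p : R[X]) (m : M) : actMap R M (p ⊗ₜ m) = p • m := by
  simp [actMap]

/-- the map `X ⊗ 1 - 1 ⊗ X` -/
noncomputable def charMap : R[X] ⊗[R] M →ₗ[R[X]] R[X] ⊗[R] M :=
  (X : R[X]) • LinearMap.id - LinearMap.baseChange R[X] (mulX R M)

@[simp] lemma charMap_tmul (p : R[X]) (m : M) :
    charMap R M (p ⊗ₜ m) = (X * p) ⊗ₜ m - p ⊗ₜ ((X : R[X]) • m) := by
  simp [charMap, TensorProduct.smul_tmul']

/-- the divided difference map -/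
noncomputable def divDiff : R[X] ⊗[R] M →ₗ[R] R[X] ⊗[R] M :=
  TensorProduct.lift ((Polynomial.basisMonomials R).constr R (fun k : ℕ =>
    ∑ i ∈ Finset.range k, (TensorProduct.mk R R[X] M ((X : R[X]) ^ i)).comp ((mulX R M) ^ (k - 1 - i))))

lemma divDiff_tmul (k : ℕ) (m : M) :
    divDiff R M (((X : R[X]) ^ k) ⊗ₜ m) =
      ∑ i ∈ Finset.range k, ((X : R[X]) ^ i) ⊗ₜ[R] (((X : R[X]) ^ (k - 1 - i)) • m) := by
  have h : ((X : R[X]) ^ k) = Polynomial.basisMonomials R k := by
    rw [Polynomial.coe_basisMonomials, Polynomial.X_pow_eq_monomial]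
  rw [divDiff, TensorProduct.lift.tmul, h, Module.Basis.constr_basis, LinearMap.sum_apply]
  refine Finset.sum_congr rfl (fun i _ => ?_)
  rw [LinearMap.comp_apply, mulX_pow_apply, TensorProduct.mk_apply]

lemma actMap_comp_charMap : (actMap R M).comp (charMap R M) = 0 := by
  apply TensorProduct.AlgebraTensorModule.ext
  intro p m
  rw [LinearMap.comp_apply, charMap_tmul, map_sub, actMap_tmul, actMap_tmul, mul_comm, mul_smul,
    sub_self]
  rfl

lemma charMap_divDiff (x : R[X] ⊗[R] M) :
    charMap R M (divDiff R M x) = x - (1 : R[X]) ⊗ₜ[R] (actMap R M x) := by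
  induction x using TensorProduct.induction_on with
  | zero => simp
  | add x y hx hy => simp only [map_add, hx, hy, TensorProduct.tmul_add]; abel
  | tmul p m =>
    induction p using Polynomial.induction_on' with
    | add p q hp hq =>
      simp only [TensorProduct.add_tmul, map_add, hp, hq, TensorProduct.tmul_add]; abel
    | monomial k a =>
      have h1 : (monomial k a : R[X]) ⊗ₜ[R] m = ((X : R[X]) ^ k) ⊗ₜ[R] (a • m) := by
        rw [← Polynomial.C_mul_X_pow_eq_monomial, ← Polynomial.smul_eq_C_mul,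
          TensorProduct.smul_tmul]
      rw [h1, divDiff_tmul, map_sum]
      simp only [charMap_tmul, actMap_tmul]
      have h2 : ∀ i ∈ Finset.range k,
          ((X : R[X]) * X ^ i) ⊗ₜ[R] (((X : R[X]) ^ (k - 1 - i)) • a • m) -
            ((X : R[X]) ^ i) ⊗ₜ[R] ((X : R[X]) • ((X : R[X]) ^ (k - 1 - i)) • a • m) =
          (fun j : ℕ => ((X : R[X]) ^ j) ⊗ₜ[R] (((X : R[X]) ^ (k - j)) • a • m)) (i + 1) -
            (fun j : ℕ => ((X : R[X]) ^ j) ⊗ₜ[R] (((X : R[X]) ^ (k - j)) • a • m)) i := by
        intro i hi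
        have hi' : i < k := Finset.mem_range.mp hi
        have e1 : k - (i + 1) = k - 1 - i := by omega
        have e2 : k - i = (k - 1 - i) + 1 := by omega
        simp only
        rw [e1, e2, pow_succ (X : R[X]) (k - 1 - i), mul_comm ((X : R[X]) ^ (k - 1 - i)) X,
          mul_smul, pow_succ (X : R[X]) i, mul_comm ((X : R[X]) ^ i) X]
      rw [Finset.sum_congr rfl h2]
      refine (Finset.sum_range_sub (fun j : ℕ => ((X : R[X]) ^ j) ⊗ₜ[R] (((X : R[X]) ^ (k - j)) • a • m)) k).trans ?_
      simp

lemma divDiff_charMap (x : R[X] ⊗[R] M) : divDiff R M (charMap R M x) = x := by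
  induction x using TensorProduct.induction_on with
  | zero => simp
  | add x y hx hy => simp only [map_add, hx, hy]
  | tmul p m =>
    induction p using Polynomial.induction_on' with
    | add p q hp hq =>
      simp only [TensorProduct.add_tmul, map_add, hp, hq]
    | monomial k a =>
      have h1 : (monomial k a : R[X]) ⊗ₜ[R] m = ((X : R[X]) ^ k) ⊗ₜ[R] (a • m) := by
        rw [← Polynomial.C_mul_X_pow_eq_monomial, ← Polynomial.smul_eq_C_mul,
          TensorProduct.smul_tmul]
      rw [h1, charMap_tmul, map_sub, ← pow_succ' (X : R[X]) k, divDiff_tmul, divDiff_tmul,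
        Finset.sum_range_succ]
      have h2 : ∀ i ∈ Finset.range k,
          ((X : R[X]) ^ i) ⊗ₜ[R] (((X : R[X]) ^ (k + 1 - 1 - i)) • a • m) =
          ((X : R[X]) ^ i) ⊗ₜ[R] (((X : R[X]) ^ (k - 1 - i)) • (X : R[X]) • a • m) := by
        intro i hi
        have hi' : i < k := Finset.mem_range.mp hi
        have e2 : k + 1 - 1 - i = (k - 1 - i) + 1 := by omega
        rw [e2, pow_succ, mul_smul]
      rw [Finset.sum_congr rfl h2]
      simp

lemma charMap_injective : Function.Injective (charMap R M) :=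
  Function.LeftInverse.injective (divDiff_charMap R M)

lemma actMap_surjective : Function.Surjective (actMap R M) :=
  fun m => ⟨1 ⊗ₜ m, by simp⟩

lemma exact_charMap_actMap : Function.Exact (charMap R M) (actMap R M) := by
  intro x
  constructor
  · intro hx
    refine ⟨divDiff R M x, ?_⟩
    rw [charMap_divDiff, hx, TensorProduct.tmul_zero, sub_zero]
  · rintro ⟨y, rfl⟩
    exact LinearMap.congr_fun (actMap_comp_charMap R M) y

end Groth.Agent.Lib.helper13.TDSm
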