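import Mathlib
import Groth.Prelude.Def_DRing2
import Groth.Agent.Lib.Helper13.TDSm1
import Groth.Agent.Lib.Helper13.DiagTor1
import Groth.Agent.Lib.Helper13.BiTriv3
import Groth.Agent.Lib.Helper13.TorLow4
import Groth.Agent.Lib.Helper23.RelDual1

/-!
# Tor dimension over a smooth algebra (helper13)

`TD R S d`: every `S`-module of tor amplitude `[-n, 0]` over `R` has tor amplitude `[-(n+d), 0]`
over `S`.  We prove `TD R S 0` for `S` flat, formally unramified and essentially of finite type over
`R` (étale algebras, localizations), `TD R R[X] 1`, and deduce `TD R S n` for `S` standard smooth of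
relative dimension `n` over `R`.
-/

set_option autoImplicit false
universe u
open CategoryTheory CategoryTheory.Limits TensorProduct Polynomial

attribute [local instance] HasDerivedCategory.standard

namespace Groth.Agent.Lib.helper13.TDSm

open Groth.Agent.Lib.helper23.TA Groth.Agent.Lib.helper23.RelDual
  Groth.Agent.Lib.helper13.DiagTor Groth.Agent.Lib.helper13.BiTriv

/-- every `S`-module of tor amplitude `[-n, 0]` over `R` has tor amplitude `[-(n+d), 0]` over `S` -/
def TD (R S : Type u) [CommRing R] [CommRing S] [Algebra R S] (d : ℕ) : Prop :=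
  ∀ (n : ℕ) (M : ModuleCat.{u} S),
    DRing.HasTorAmplitudeIn R (-(n : ℤ)) 0
      ((DerivedCategory.singleFunctor (ModuleCat.{u} R) 0).obj
        ((ModuleCat.restrictScalars.{u} (algebraMap R S)).obj M)) →
    DRing.HasTorAmplitudeIn S (-((n + d : ℕ) : ℤ)) 0
      ((DerivedCategory.singleFunctor (ModuleCat.{u} S) 0).obj M)

section Comp

variable {R S T : Type u} [CommRing R] [CommRing S] [CommRing T] [Algebra R S] [Algebra S T]
  [Algebra R T] [IsScalarTower R S T]

theorem TD.comp {d e : ℕ} (h₁ : TD R S d) (h₂ : TD S T e) : TD R T (d + e) := by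
  intro n M h
  have hcomp : algebraMap R T = (algebraMap S T).comp (algebraMap R S) :=
    IsScalarTower.algebraMap_eq R S T
  have e0 : (ModuleCat.restrictScalars.{u} (algebraMap R T)).obj M ≅
      (ModuleCat.restrictScalars.{u} (algebraMap R S)).obj
        ((ModuleCat.restrictScalars.{u} (algebraMap S T)).obj M) :=
    (ModuleCat.restrictScalarsComp'.{u} (algebraMap R S) (algebraMap S T) (algebraMap R T)
      hcomp).app M
  have h' := hasTorAmplitudeIn_of_iso
    ((DerivedCategory.singleFunctor (ModuleCat.{u} R) 0).mapIso e0) h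
  have h3 := h₂ (n + d) _ (h₁ n _ h')
  have : n + d + e = n + (d + e) := by ring
  rwa [this] at h3

end Comp

section Unramified

variable (R S : Type u) [CommRing R] [CommRing S] [Algebra R S]

/-- flat base change of the restriction, with an opaque model -/
lemma exists_extend_model [Module.Flat R S] (n : ℕ) (M : ModuleCat.{u} S)
    (h : DRing.HasTorAmplitudeIn R (-(n : ℤ)) 0
      ((DerivedCategory.singleFunctor (ModuleCat.{u} R) 0).obj
        ((ModuleCat.restrictScalars.{u} (algebraMap R S)).obj M))) :
    ∃ E : ModuleCat.{u} S, DRing.HasTorAmplitudeIn S (-(n : ℤ)) 0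
        ((DerivedCategory.singleFunctor (ModuleCat.{u} S) 0).obj E) ∧
      Nonempty (E ≃ₗ[S] S ⊗[R] ((ModuleCat.restrictScalars.{u} (algebraMap R S)).obj M)) := by
  have hfl : (algebraMap R S).Flat := RingHom.flat_algebraMap_iff.mpr inferInstance
  exact ⟨_, hasTorAmplitudeIn_extend_of_flat (algebraMap R S) hfl n _ h,
    ⟨extendObjEquiv (B := S) _⟩⟩

/-- flat + formally unramified + essentially of finite type: no loss of tor dimension -/
theorem td_of_unramified [Module.Flat R S] [Algebra.FormallyUnramified R S]
    [Algebra.EssFiniteType R S] : TD R S 0 := by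
  intro n M h
  obtain ⟨E, hE, ⟨eE⟩⟩ := exists_extend_model R S n M h
  let M₀ : ModuleCat.{u} R := (ModuleCat.restrictScalars.{u} (algebraMap R S)).obj M
  letI instR : Module R M := (inferInstance : Module R M₀)
  haveI : IsScalarTower R S M := ⟨fun r s m => by
    change (r • s) • m = (algebraMap R S r) • (s • m)
    rw [Algebra.smul_def, mul_smul]⟩
  let eE' : E ≃ₗ[S] S ⊗[R] M := eE
  let s : M →ₗ[S] S ⊗[R] M := Algebra.FormallyUnramified.sec R S M
  let r : S ⊗[R] M →ₗ[S] M := TensorProduct.AlgebraTensorModule.lift
      ((Algebra.lsmul S S M).toLinearMap.flip.restrictScalars R).flip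
  have hrs : r.comp s = LinearMap.id := Algebra.FormallyUnramified.comp_sec R S M
  let i : M ⟶ E := ModuleCat.ofHom (X := M) (Y := E) (eE'.symm.toLinearMap.comp s)
  let p : E ⟶ M := ModuleCat.ofHom (X := E) (Y := M) (r.comp eE'.toLinearMap)
  have hip : i ≫ p = 𝟙 M := by
    ext m
    change r (eE' (eE'.symm (s m))) = m
    rw [LinearEquiv.apply_symm_apply]
    exact LinearMap.congr_fun hrs m
  have := hasTorAmplitudeIn_of_retract
    ((DerivedCategory.singleFunctor (ModuleCat.{u} S) 0).map i)
    ((DerivedCategory.singleFunctor (ModuleCat.{u} S) 0).map p)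
    (by rw [← Functor.map_comp, hip, CategoryTheory.Functor.map_id]) hE
  simpa using this

theorem td_of_etale [Algebra.Etale R S] : TD R S 0 := td_of_unramified R S

theorem td_of_isLocalization (W : Submonoid R) [IsLocalization W S] : TD R S 0 := by
  haveI : Module.Flat R S := IsLocalization.flat S W
  haveI : Algebra.FormallyUnramified R S := Algebra.FormallyUnramified.of_isLocalization W
  haveI : Algebra.EssFiniteType R S := Algebra.EssFiniteType.of_isLocalization S W
  exact td_of_unramified R S

theorem td_of_bijective (h : Function.Bijective (algebraMap R S)) : TD R S 0 := by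
  haveI : Algebra.Etale R S := RingHom.etale_algebraMap.mp (RingHom.Etale.of_bijective h)
  exact td_of_etale R S

end Unramified

section Transport

variable {R S S' : Type u} [CommRing R] [CommRing S] [CommRing S'] [Algebra R S] [Algebra R S']

theorem TD.of_algEquiv {d : ℕ} (h : TD R S d) (e : S ≃ₐ[R] S') : TD R S' d := by
  letI : Algebra S S' := e.toAlgHom.toRingHom.toAlgebra
  haveI : IsScalarTower R S S' := IsScalarTower.of_algebraMap_eq (fun r => (e.commutes r).symm)
  have hb : Function.Bijective (algebraMap S S') := e.bijective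
  have := h.comp (td_of_bijective S S' hb)
  simpa using this

end Transport

section Poly

variable (R : Type u) [CommRing R]

/-- the polynomial ring in one variable: tor dimension goes up by at most one -/
theorem td_polynomial : TD R R[X] 1 := by
  intro n M h
  obtain ⟨E, hE, ⟨eE⟩⟩ := exists_extend_model R R[X] n M h
  let M₀ : ModuleCat.{u} R := (ModuleCat.restrictScalars.{u} (algebraMap R R[X])).obj M
  letI instR : Module R M := (inferInstance : Module R M₀)
  haveI : IsScalarTower R R[X] M := ⟨fun r s m => by
    change (r • s) • m = (algebraMap R R[X] r) • (s • m)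
    rw [Algebra.smul_def, mul_smul]⟩
  let eE' : E ≃ₗ[R[X]] R[X] ⊗[R] M := eE
  let f : E ⟶ E := ModuleCat.ofHom (X := E) (Y := E)
    (eE'.symm.toLinearMap.comp ((charMap R M).comp eE'.toLinearMap))
  let g : E ⟶ M := ModuleCat.ofHom (X := E) (Y := M) ((actMap R M).comp eE'.toLinearMap)
  have hf : ∀ x : E, f x = eE'.symm (charMap R M (eE' x)) := fun _ => rfl
  have hg : ∀ x : E, g x = actMap R M (eE' x) := fun _ => rfl
  have hfg : f ≫ g = 0 := by
    ext x
    change g (f x) = 0
    rw [hf, hg, LinearEquiv.apply_symm_apply]
    exact LinearMap.congr_fun (actMap_comp_charMap R M) (eE' x)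
  let Sc : ShortComplex (ModuleCat.{u} R[X]) := ShortComplex.mk f g hfg
  have hSc : Sc.ShortExact := by
    haveI : Mono Sc.f := (ModuleCat.mono_iff_injective _).mpr (by
      intro x y hxy
      change f x = f y at hxy
      rw [hf, hf] at hxy
      exact eE'.injective (charMap_injective R M (eE'.symm.injective hxy)))
    haveI : Epi Sc.g := (ModuleCat.epi_iff_surjective _).mpr (by
      intro m
      obtain ⟨z, hz⟩ := actMap_surjective R M m
      refine ⟨eE'.symm z, ?_⟩
      change g (eE'.symm z) = m
      rw [hg, LinearEquiv.apply_symm_apply, hz])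
    refine ShortComplex.ShortExact.mk ?_
    rw [ShortComplex.moduleCat_exact_iff]
    intro y hy
    change g y = 0 at hy
    rw [hg] at hy
    obtain ⟨z, hz⟩ := (exact_charMap_actMap R M (eE' y)).mp hy
    refine ⟨eE'.symm z, ?_⟩
    change f (eE'.symm z) = y
    rw [hf, LinearEquiv.apply_symm_apply, hz, LinearEquiv.symm_apply_apply]
  have hT := hSc.singleTriangle_distinguished
  have := hasTorAmplitudeIn_cone _ hT (a := -((n + 1 : ℕ) : ℤ)) (b := 0) hE hE
    (by push_cast; omega) (by push_cast; omega) (by omega) le_rfl
  exact this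

/-- polynomial rings in `n` variables -/
theorem td_mvPolynomial : ∀ n : ℕ, TD R (MvPolynomial (Fin n) R) n
  | 0 => by
    have hb : Function.Bijective (algebraMap R (MvPolynomial (Fin 0) R)) := by
      have := (MvPolynomial.isEmptyAlgEquiv R (Fin 0)).symm.bijective
      convert this using 1
      ext r
      simp
    exact td_of_bijective R _ hb
  | (n + 1) => by
    have h1 := (td_mvPolynomial n).comp (td_polynomial (MvPolynomial (Fin n) R))
    exact h1.of_algEquiv (MvPolynomial.finSuccEquiv R n).symm

end Poly

section Smooth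

variable (R S : Type u) [CommRing R] [CommRing S] [Algebra R S]

/-- standard smooth algebras of relative dimension `n` -/
theorem td_of_isStandardSmoothOfRelativeDimension (n : ℕ)
    [Algebra.IsStandardSmoothOfRelativeDimension n R S] : TD R S n := by
  obtain ⟨g, hg⟩ := Algebra.IsStandardSmoothOfRelativeDimension.exists_etale_mvPolynomial n R S
  letI : Algebra (MvPolynomial (Fin n) R) S := g.toRingHom.toAlgebra
  haveI : IsScalarTower R (MvPolynomial (Fin n) R) S :=
    IsScalarTower.of_algebraMap_eq (fun r => (g.commutes r).symm)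
  haveI : Algebra.Etale (MvPolynomial (Fin n) R) S := hg
  have := (td_mvPolynomial R n).comp (td_of_etale (MvPolynomial (Fin n) R) S)
  simpa using this

end Smooth

end Groth.Agent.Lib.helper13.TDSm
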