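import Mathlib
import Groth.Prelude.Def_DRing2
import Groth.Prelude.Def_DerSch
import Groth.Agent.Lib.Helper13.TDSm2
import Groth.Agent.S6187

/-!
# Tor dimension over a smooth base, stalkwise on schemes (helper13)
-/

set_option autoImplicit false
universe u
open CategoryTheory CategoryTheory.Limits TensorProduct AlgebraicGeometry Opposite

attribute [local instance] HasDerivedCategory.standard

namespace Groth.Agent.Lib.helper13.TDSm

open Groth.Agent.Lib.helper23.TA Groth.Agent.Lib.helper13.DiagTor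
  Groth.Agent.Lib.helper13.TorLow

section Normalize

variable {A : Type u} [CommRing A]

/-- the tor amplitude of a module can be normalized to an interval `[-n, 0]` -/
lemma hasTorAmplitudeIn_single_normalize (M : ModuleCat.{u} A) (a b : ℤ)
    (h : DRing.HasTorAmplitudeIn A a b
      ((DerivedCategory.singleFunctor (ModuleCat.{u} A) 0).obj M)) (n : ℕ) (hn : -(n : ℤ) ≤ a) :
    DRing.HasTorAmplitudeIn A (-(n : ℤ)) 0
      ((DerivedCategory.singleFunctor (ModuleCat.{u} A) 0).obj M) := by
  obtain ⟨E, hV, hfl, ⟨e⟩⟩ := h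
  have hc : DRing.VanishesAbove E (max b 0) := fun i hi => hV i (Or.inr (by omega))
  have h' : DRing.HasTorAmplitudeIn A a b (DerivedCategory.Q.obj E) := ⟨E, hV, hfl, ⟨Iso.refl _⟩⟩
  have htvl := tvl_of_hasTorAmplitudeIn E (max b 0) hc hfl a b h'
  let e' : DerivedCategory.Q.obj E ≅
      DerivedCategory.Q.obj ((CochainComplex.singleFunctor (ModuleCat.{u} A) 0).obj M) :=
    e ≪≫ (DerivedCategory.singleFunctorIsoCompQ (ModuleCat.{u} A) 0).app M
  have hex : ∀ i : ℤ, 0 < i → E.ExactAt i := by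
    intro i hi
    refine exactAt_of_iso_Q e'.symm i (HomologicalComplex.ExactAt.of_isZero ?_)
    exact HomologicalComplex.isZero_single_obj_X (ComplexShape.up ℤ) 0 M i (by omega)
  have h1 := hasTorAmplitudeIn_of_tvl E (max b 0) hc hfl a 0 htvl hex
  exact hasTorAmplitudeIn_mono (hasTorAmplitudeIn_of_iso e h1) hn le_rfl

end Normalize

section Tower

variable {R₀ R S' : Type u} [CommRing R₀] [CommRing R] [CommRing S'] [Algebra R₀ R] [Algebra R S']
  [Algebra R₀ S'] [IsScalarTower R₀ R S']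

/-- the base of a `TD` may be replaced by a flat algebra over it -/
theorem TD.of_tower_flat [Module.Flat R₀ R] {d : ℕ} (h : TD R₀ S' d) : TD R S' d := by
  intro n M hM
  refine h n M ?_
  have h1 := hasTorAmplitudeIn_restrict_of_flat (A := R₀) (B := R) _ _ _ hM
  have hcomp : algebraMap R₀ S' = (algebraMap R S').comp (algebraMap R₀ R) :=
    IsScalarTower.algebraMap_eq R₀ R S'
  have e0 : (ModuleCat.restrictScalars.{u} (algebraMap R₀ S')).obj M ≅
      (ModuleCat.restrictScalars.{u} (algebraMap R₀ R)).obj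
        ((ModuleCat.restrictScalars.{u} (algebraMap R S')).obj M) :=
    (ModuleCat.restrictScalarsComp'.{u} (algebraMap R₀ R) (algebraMap R S') (algebraMap R₀ S')
      hcomp).app M
  refine hasTorAmplitudeIn_of_iso ?_ h1
  exact restrictDSingleIso (A := R₀) (B := R) _ ≪≫
    ((DerivedCategory.singleFunctorIsoCompQ (ModuleCat.{u} R₀) 0).app _).symm ≪≫
    (DerivedCategory.singleFunctor (ModuleCat.{u} R₀) 0).mapIso e0.symm

end Tower

section Scheme

variable {B S : Scheme.{u}}

/-- **stalkwise `TD` from a standard smooth chart** -/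
theorem td_stalkMap (h : B ⟶ S) (b : B) (U : S.Opens) (hU : IsAffineOpen U) (V : B.Opens)
    (hV : IsAffineOpen V) (hb : b ∈ V) (e : V ≤ h ⁻¹ᵁ U) (n : ℕ)
    (hsm : (h.appLE U V e).hom.IsStandardSmoothOfRelativeDimension n)
    (m : ℕ) (N : ModuleCat.{u} (B.presheaf.stalk b))
    (hN : DRing.HasTorAmplitudeIn (S.presheaf.stalk (h.base b)) (-(m : ℤ)) 0
      ((DerivedCategory.singleFunctor (ModuleCat.{u} (S.presheaf.stalk (h.base b))) 0).obj
        ((ModuleCat.restrictScalars.{u} (h.stalkMap b).hom).obj N))) :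
    DRing.HasTorAmplitudeIn (B.presheaf.stalk b) (-((m + n : ℕ) : ℤ)) 0
      ((DerivedCategory.singleFunctor (ModuleCat.{u} (B.presheaf.stalk b)) 0).obj N) := by
  have hsb : h.base b ∈ U := e hb
  letI a1 : Algebra Γ(S, U) Γ(B, V) := (h.appLE U V e).hom.toAlgebra
  letI a2 : Algebra Γ(B, V) (B.presheaf.stalk b) := B.presheaf.algebra_section_stalk ⟨b, hb⟩
  letI a3 : Algebra Γ(S, U) (S.presheaf.stalk (h.base b)) :=
    S.presheaf.algebra_section_stalk ⟨h.base b, hsb⟩
  letI a4 : Algebra (S.presheaf.stalk (h.base b)) (B.presheaf.stalk b) :=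
    (h.stalkMap b).hom.toAlgebra
  letI a5 : Algebra Γ(S, U) (B.presheaf.stalk b) :=
    ((algebraMap Γ(B, V) (B.presheaf.stalk b)).comp (algebraMap Γ(S, U) Γ(B, V))).toAlgebra
  haveI t1 : IsScalarTower Γ(S, U) Γ(B, V) (B.presheaf.stalk b) :=
    IsScalarTower.of_algebraMap_eq (fun _ => rfl)
  haveI t2 : IsScalarTower Γ(S, U) (S.presheaf.stalk (h.base b)) (B.presheaf.stalk b) := by
    refine IsScalarTower.of_algebraMap_eq (fun a => ?_)
    change (B.presheaf.germ V b hb).hom ((h.appLE U V e).hom a) =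
      (h.stalkMap b).hom ((S.presheaf.germ U (h.base b) hsb).hom a)
    simp only [Scheme.Hom.appLE, CommRingCat.hom_comp, RingHom.coe_comp, Function.comp_apply]
    erw [B.presheaf.germ_res_apply, Scheme.Hom.germ_stalkMap_apply]
  haveI : Algebra.IsStandardSmoothOfRelativeDimension n Γ(S, U) Γ(B, V) := hsm
  haveI := hV.isLocalization_stalk ⟨b, hb⟩
  haveI := hU.isLocalization_stalk ⟨h.base b, hsb⟩
  haveI : Module.Flat Γ(S, U) (S.presheaf.stalk (h.base b)) :=
    IsLocalization.flat _ (hU.primeIdealOf ⟨h.base b, hsb⟩).asIdeal.primeCompl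
  have h1 : TD Γ(S, U) Γ(B, V) n := td_of_isStandardSmoothOfRelativeDimension _ _ n
  have h2 : TD Γ(B, V) (B.presheaf.stalk b) 0 :=
    td_of_isLocalization _ _ (hV.primeIdealOf ⟨b, hb⟩).asIdeal.primeCompl
  have h3 : TD Γ(S, U) (B.presheaf.stalk b) (n + 0) := h1.comp h2
  have h4 : TD (S.presheaf.stalk (h.base b)) (B.presheaf.stalk b) (n + 0) := h3.of_tower_flat
  have := h4 m N hN
  simpa using this

end Scheme

end Groth.Agent.Lib.helper13.TDSm
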