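import Mathlib
import Groth.Prelude.Def_DRing2
import Groth.Agent.Lib.Helper13.TDSm3
import Groth.Agent.Lib.Helper3.PdTor
import Groth.Agent.Lib.Helper23.TA10
import Groth.Agent.Lib.Helper23.TA9

/-!
# Spreading out finite tor dimension of a pseudo-coherent module from a prime (helper13)

`M` a pseudo-coherent `P`-module, `q` a prime of `P`: if `M_q` has tor amplitude in `[-d, 0]` (over
`P`), then `M_g` has tor amplitude in `[-d, 0]` for some `g ∉ q`.
-/

set_option autoImplicit false
universe u
open CategoryTheory CategoryTheory.Limits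

attribute [local instance] HasDerivedCategory.standard

namespace Groth.Agent.Lib.helper13.PerfSpread

open Groth.Agent.Lib.helper23.TA Groth.Agent.Lib.helper23.DRingPC Groth.Agent.Lib.helper13.TDSm
  Groth.Agent.Lib.helper23.PCohCore

variable {P : Type u} [CommRing P]

/-- the localization of a module, as a module over the original ring -/
noncomputable abbrev locM (W : Submonoid P) (M : ModuleCat.{u} P) : ModuleCat.{u} P :=
  ModuleCat.of P (LocalizedModule W M)

/-- the localization of a linear map -/
noncomputable def locMap (W : Submonoid P) {M N : ModuleCat.{u} P} (f : M ⟶ N) :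
    locM W M ⟶ locM W N :=
  ModuleCat.ofHom (IsLocalizedModule.map W (LocalizedModule.mkLinearMap W M)
    (LocalizedModule.mkLinearMap W N) f.hom)

/-- localization preserves short exact sequences -/
lemma exists_locSC (W : Submonoid P) (S : ShortComplex (ModuleCat.{u} P)) (hS : S.ShortExact) :
    ∃ S' : ShortComplex (ModuleCat.{u} P), S'.ShortExact ∧ S'.X₁ = locM W S.X₁ ∧
      S'.X₂ = locM W S.X₂ ∧ S'.X₃ = locM W S.X₃ := by
  have hex : Function.Exact S.f.hom S.g.hom :=
    (ShortComplex.ShortExact.moduleCat_exact_iff_function_exact S).1 hS.exact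
  have hex' := IsLocalizedModule.map_exact W (LocalizedModule.mkLinearMap W S.X₁)
    (LocalizedModule.mkLinearMap W S.X₂) (LocalizedModule.mkLinearMap W S.X₃) S.f.hom S.g.hom hex
  have hinj := IsLocalizedModule.map_injective W (LocalizedModule.mkLinearMap W S.X₁)
    (LocalizedModule.mkLinearMap W S.X₂) S.f.hom hS.moduleCat_injective_f
  have hsurj := IsLocalizedModule.map_surjective W (LocalizedModule.mkLinearMap W S.X₂)
    (LocalizedModule.mkLinearMap W S.X₃) S.g.hom hS.moduleCat_surjective_g
  have hzero : locMap W S.f ≫ locMap W S.g = 0 := by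
    ext x
    exact hex'.apply_apply_eq_zero x
  refine ⟨ShortComplex.mk (locMap W S.f) (locMap W S.g) hzero, ?_, rfl, rfl, rfl⟩
  exact ModuleCat.shortComplex_shortExact _ hex' hinj hsurj

/-- the kernel of a surjection from a flat module -/
lemma tor_kernel (S : ShortComplex (ModuleCat.{u} P)) (hS : S.ShortExact)
    (hfl : Module.Flat P S.X₂) (d : ℕ)
    (h : DRing.HasTorAmplitudeIn P (-((d + 1 : ℕ) : ℤ)) 0
      ((DerivedCategory.singleFunctor (ModuleCat.{u} P) 0).obj S.X₃)) :
    DRing.HasTorAmplitudeIn P (-(d : ℤ)) 0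
      ((DerivedCategory.singleFunctor (ModuleCat.{u} P) 0).obj S.X₁) := by
  have hT := Pretriangulated.rot_of_distTriang _ hS.singleTriangle_distinguished
  have h2 : DRing.HasTorAmplitudeIn P 0 0
      ((DerivedCategory.singleFunctor (ModuleCat.{u} P) 0).obj S.X₂) :=
    hasTorAmplitudeIn_single_flat S.X₂ hfl 0
  have h3 := hasTorAmplitudeIn_cone _ hT (a₁ := 0) (b₁ := 0) (a₂ := -((d + 1 : ℕ) : ℤ)) (b₂ := 0)
    (a := -((d + 1 : ℕ) : ℤ)) (b := 0) h2 h (by push_cast; omega) le_rfl (by omega) le_rfl
  have h4 := hasTorAmplitudeIn_shift h3 (-1)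
  have h5 := hasTorAmplitudeIn_of_iso
    ((shiftEquiv (Dual.D P) (1 : ℤ)).unitIso.app
      ((DerivedCategory.singleFunctor (ModuleCat.{u} P) 0).obj S.X₁)).symm h4
  exact hasTorAmplitudeIn_single_normalize _ _ _ h5 d (by push_cast; omega)

/-- the cokernel of an injection into a flat module -/
lemma tor_coker (S : ShortComplex (ModuleCat.{u} P)) (hS : S.ShortExact)
    (hfl : Module.Flat P S.X₂) (d : ℕ)
    (h : DRing.HasTorAmplitudeIn P (-(d : ℤ)) 0
      ((DerivedCategory.singleFunctor (ModuleCat.{u} P) 0).obj S.X₁)) :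
    DRing.HasTorAmplitudeIn P (-((d + 1 : ℕ) : ℤ)) 0
      ((DerivedCategory.singleFunctor (ModuleCat.{u} P) 0).obj S.X₃) := by
  have hT := hS.singleTriangle_distinguished
  have h2 : DRing.HasTorAmplitudeIn P 0 0
      ((DerivedCategory.singleFunctor (ModuleCat.{u} P) 0).obj S.X₂) :=
    hasTorAmplitudeIn_single_flat S.X₂ hfl 0
  exact hasTorAmplitudeIn_cone _ hT (a₁ := -(d : ℤ)) (b₁ := 0) (a₂ := 0) (b₂ := 0)
    (a := -((d + 1 : ℕ) : ℤ)) (b := 0) h h2 (by push_cast; omega) (by push_cast; omega)
    (by omega) le_rfl

/-- the localization of a finite free module is flat over the original ring -/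
lemma flat_locM_free (W : Submonoid P) (n : ℕ) :
    Module.Flat P (locM W (ModuleCat.of P (Fin n → P))) := by
  haveI : Module.Flat (Localization W) (LocalizedModule W (Fin n → P)) := inferInstance
  haveI : Module.Flat P (Localization W) := IsLocalization.flat _ W
  exact Module.Flat.trans P (Localization W) (LocalizedModule W (Fin n → P))

/-- **spreading out** -/
theorem exists_away_hasTorAmplitudeIn : ∀ (d : ℕ) (M : ModuleCat.{u} P), PCMod P M →
    ∀ (q : Ideal P) [q.IsPrime],
      DRing.HasTorAmplitudeIn P (-(d : ℤ)) 0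
        ((DerivedCategory.singleFunctor (ModuleCat.{u} P) 0).obj (locM q.primeCompl M)) →
      ∃ g : P, g ∉ q ∧ DRing.HasTorAmplitudeIn P (-(d : ℤ)) 0
        ((DerivedCategory.singleFunctor (ModuleCat.{u} P) 0).obj
          (locM (Submonoid.powers g) M)) := by
  intro d
  induction d with
  | zero =>
    intro M hpc q _ h
    have hfl : Module.Flat P (LocalizedModule q.primeCompl M) :=
      flat_of_hasTorAmplitudeIn_zero (locM q.primeCompl M) (by simpa using h)
    haveI : Module.FinitePresentation P M :=
      (npc_negOne_single_iff_finitePresentation P M).1 (hpc (-1))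
    haveI : Module.Flat (Localization q.primeCompl) (LocalizedModule q.primeCompl M) :=
      (Module.flat_iff_of_isLocalization (Localization q.primeCompl) q.primeCompl _).mpr hfl
    haveI : Module.Free (Localization q.primeCompl) (LocalizedModule q.primeCompl M) :=
      Module.free_of_flat_of_isLocalRing
    obtain ⟨r, hr, hfree, -⟩ := Module.FinitePresentation.exists_free_localizedModule_powers
      q.primeCompl (LocalizedModule.mkLinearMap q.primeCompl M) (Localization q.primeCompl)
    refine ⟨r, hr, ?_⟩
    haveI hfree' : Module.Free (Localization (Submonoid.powers r))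
        (LocalizedModule (Submonoid.powers r) M) := hfree
    have hfl1 : Module.Flat (Localization (Submonoid.powers r))
        (LocalizedModule (Submonoid.powers r) M) := Module.Flat.of_free
    have hfl2 : Module.Flat P (LocalizedModule (Submonoid.powers r) M) :=
      (Module.flat_iff_of_isLocalization (Localization (Submonoid.powers r))
        (Submonoid.powers r) _).mp hfl1
    have := hasTorAmplitudeIn_single_flat (locM (Submonoid.powers r) M) hfl2 0
    simpa using this
  | succ d ih =>
    intro M hpc q _ h
    obtain ⟨S, hS, n, h3, h2, h1⟩ := Groth.Agent.Lib.helper3.PdTor.exists_shortExact_of_pcMod M hpc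
    subst h3
    obtain ⟨S', hS', e1, e2, e3⟩ := exists_locSC q.primeCompl S hS
    have hfl' : Module.Flat P S'.X₂ := by
      rw [e2, h2]; exact flat_locM_free _ n
    have hK := tor_kernel S' hS' hfl' d (by rw [e3]; exact h)
    rw [e1] at hK
    obtain ⟨g, hg, hKg⟩ := ih S.X₁ h1 q hK
    refine ⟨g, hg, ?_⟩
    obtain ⟨S'', hS'', e1', e2', e3'⟩ := exists_locSC (Submonoid.powers g) S hS
    have hfl'' : Module.Flat P S''.X₂ := by
      rw [e2', h2]; exact flat_locM_free _ n
    have := tor_coker S'' hS'' hfl'' d (by rw [e1']; exact hKg)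
    rw [e3'] at this
    exact this

end Groth.Agent.Lib.helper13.PerfSpread
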