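import Mathlib
import Groth.Agent.Lib.Helper23.TA12

/-!
# Ring-level lemmas for "pseudo-coherent + finite tor dimension at a point ⇒ perfect near the point" (helper13)

* `exactAt_tensor_of_cone`: for a chain map `φ : P ⟶ F` of bounded above termwise flat complexes whose mapping cone is
  exact in degrees `≥ m`, and `N ⊗ F` exact in degree `m + 1`, the complex `N ⊗ P` is exact in degree `m + 1`.
* `flat_quotient_of_cone`: if moreover `F` has tor amplitude in `[a, b]` and the cone is exact in degrees `≥ a - 2`, then
  `coker (P^{a-1} → P^a)` is flat.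
* `hasTorAmplitudeIn_extend_of_flat`: flat extension of scalars preserves tor amplitude.
-/

set_option autoImplicit false
universe u
open CategoryTheory CategoryTheory.Limits MonoidalCategory
attribute [local instance] HasDerivedCategory.standard

namespace Groth.Agent.Lib.helper13.PCStalk

open Groth.Agent.Lib.helper23.TA Groth.Agent.Lib.helper23.ExtSc DerivedCategory

variable {A : Type u} [CommRing A]

/-- exactness of `G P` in degree `n₁` from exactness of the cone of `G φ` in degree `n₀ = n₁ - 1` and of `G F` in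
degree `n₁` -/
lemma exactAt_of_cone {C : Type*} [Category C] [Abelian C] [HasDerivedCategory C]
    {P F : CochainComplex C ℤ} (φ : P ⟶ F) (n₀ n₁ : ℤ) (h : n₀ + 1 = n₁)
    (hc : (CochainComplex.mappingCone φ).ExactAt n₀) (hF : F.ExactAt n₁) : P.ExactAt n₁ := by
  have hT := DerivedCategory.mappingCone_triangle_distinguished φ
  have hex := HomologySequence.exact₁ _ hT n₀ n₁ h
  rw [HomologicalComplex.exactAt_iff_isZero_homology] at hc hF ⊢
  have h1 : IsZero ((homologyFunctor C n₀).obj (Q.obj (CochainComplex.mappingCone φ))) :=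
    hc.of_iso ((homologyFunctorFactors C n₀).app _)
  have h2 : IsZero ((homologyFunctor C n₁).obj (Q.obj F)) :=
    hF.of_iso ((homologyFunctorFactors C n₁).app _)
  have h3 : IsZero ((homologyFunctor C n₁).obj (Q.obj P)) :=
    hex.isZero_of_both_zeros (h1.eq_of_src _ _) (h2.eq_of_tgt _ _)
  exact h3.of_iso ((homologyFunctorFactors C n₁).app P).symm

/-- the mapping cone of a map of termwise flat complexes is termwise flat -/
lemma termwiseFlat_mappingCone' {P F : DRing.Cx A} (φ : P ⟶ F) (hP : DRing.TermwiseFlat P)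
    (hF : DRing.TermwiseFlat F) : DRing.TermwiseFlat (CochainComplex.mappingCone φ) :=
  termwiseFlat_mappingCone φ hP hF

/-- for a chain map of bounded above termwise flat complexes whose cone is exact in degrees `≥ m`: if `N ⊗ F` is exact
in degree `m + 1` then so is `N ⊗ P` -/
lemma exactAt_tensor_of_cone {P F : DRing.Cx A} (φ : P ⟶ F) (c : ℤ)
    (hPc : DRing.VanishesAbove P c) (hFc : DRing.VanishesAbove F c)
    (hP : DRing.TermwiseFlat P) (hF : DRing.TermwiseFlat F) (m : ℤ)
    (hcone : ∀ i : ℤ, m ≤ i → (CochainComplex.mappingCone φ).ExactAt i)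
    (N : ModuleCat.{u} A)
    (hNF : (((tensorLeft N).mapHomologicalComplex (ComplexShape.up ℤ)).obj F).ExactAt (m + 1)) :
    (((tensorLeft N).mapHomologicalComplex (ComplexShape.up ℤ)).obj P).ExactAt (m + 1) := by
  have hK : DRing.VanishesAbove (CochainComplex.mappingCone φ) (max c c) :=
    vanishesAbove_mappingCone φ c c hPc hFc
  have h1 := exactAt_map_of_flat (tensorLeft N) (tensorLike_tensorLeft N)
    (CochainComplex.mappingCone φ) (max c c) (m - 1) hK (termwiseFlat_mappingCone φ hP hF)
    (fun i hi => hcone i (by omega)) m (by omega)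
  have h2 : (CochainComplex.mappingCone
      (((tensorLeft N).mapHomologicalComplex (ComplexShape.up ℤ)).map φ)).ExactAt m :=
    HomologicalComplex.ExactAt.of_iso h1
      (CochainComplex.mappingCone.mapHomologicalComplexIso φ (tensorLeft N))
  exact exactAt_of_cone _ m (m + 1) rfl h2 hNF

/-- **flatness of the cokernel**: `φ : P ⟶ F` a chain map of bounded above termwise flat complexes whose cone is exact in
degrees `≥ a - 2`, with `F` of tor amplitude in `[a, b]`; then `coker (P^{a-1} → P^a)` is flat -/
theorem flat_quotient_of_cone {P F : DRing.Cx A} (φ : P ⟶ F) (c : ℤ)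
    (hPc : DRing.VanishesAbove P c) (hFc : DRing.VanishesAbove F c)
    (hP : DRing.TermwiseFlat P) (hF : DRing.TermwiseFlat F) (a b : ℤ)
    (hcone : ∀ i : ℤ, a - 2 ≤ i → (CochainComplex.mappingCone φ).ExactAt i)
    (hamp : DRing.HasTorAmplitudeIn A a b (DerivedCategory.Q.obj F)) :
    Module.Flat A ((P.X a) ⧸ LinearMap.range (P.d (a - 1) a).hom) := by
  have htvl : TVL a F := tvl_of_hasTorAmplitudeIn F c hFc hF a b hamp
  haveI := hP a
  refine flat_quotient_range (P.d (a - 1 - 1) (a - 1)).hom (P.d (a - 1) a).hom ?_ ?_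
  · rw [← ModuleCat.hom_comp, P.d_comp_d]
    rfl
  · intro N _ _
    have h0 := htvl (ModuleCat.of A N) (a - 2 + 1) (by omega)
    have h1 := exactAt_tensor_of_cone φ c hPc hFc hP hF (a - 2) hcone (ModuleCat.of A N) h0
    have e : a - 2 + 1 = a - 1 := by ring
    rw [e] at h1
    rw [HomologicalComplex.exactAt_iff' _ (a - 1 - 1) (a - 1) a (by simp) (by simp)] at h1
    exact (ShortComplex.ShortExact.moduleCat_exact_iff_function_exact _).1 h1

section extend

variable {B : Type u} [CommRing B] (ψ : A →+* B)

/-- flat extension of scalars preserves tor amplitude -/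
theorem hasTorAmplitudeIn_extend_of_flat (hψ : ψ.Flat) (K : DRing.Cx A) (a b : ℤ)
    (h : DRing.HasTorAmplitudeIn A a b (DRing.toD K)) :
    DRing.HasTorAmplitudeIn B a b (DRing.toD (((ModuleCat.extendScalars.{u, u, u} ψ).mapHomologicalComplex
      (ComplexShape.up ℤ)).obj K)) := by
  obtain ⟨E, hv, hfl, ⟨e⟩⟩ := h
  haveI := preservesFiniteLimits_extendScalars ψ hψ
  haveI := preservesFiniteColimits_extendScalars ψ
  refine ⟨((ModuleCat.extendScalars.{u, u, u} ψ).mapHomologicalComplex (ComplexShape.up ℤ)).obj E,
    fun i hi => (ModuleCat.extendScalars.{u, u, u} ψ).map_isZero (hv i hi),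
    termwiseFlat_extend ψ E hfl,
    ⟨(extendComplexIso ψ E).symm ≪≫
      (ModuleCat.extendScalars.{u, u, u} ψ).mapDerivedCategory.mapIso e ≪≫ extendComplexIso ψ K⟩⟩

end extend

end Groth.Agent.Lib.helper13.PCStalk
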