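import Mathlib
import Groth.Prelude.Def_DRing2
import Groth.Agent.Lib.Helper13.PerfSpread1
import Groth.Agent.Lib.Helper13.TDSm3
import Groth.Agent.Lib.Helper3.PerfHom4

/-!
# Finite tor dimension of ring maps: localization and spreading out (helper13)
-/

set_option autoImplicit false
universe u
open CategoryTheory CategoryTheory.Limits

attribute [local instance] HasDerivedCategory.standard

namespace Groth.Agent.Lib.helper13.PerfSpread

open Groth.Agent.Lib.helper23.TA Groth.Agent.Lib.helper23.DRingPC Groth.Agent.Lib.helper13.TDSm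
  Groth.Agent.Lib.helper23.PCohCore Groth.Agent.Lib.helper3.PerfHomLoc
  Groth.Agent.Lib.helper3.PCHomLoc Groth.Agent.Lib.helper13.DiagTor Groth.Agent.Lib.helper13.TorLow

section Restrict

variable {A A' : Type u} [CommRing A] [CommRing A']

/-- restriction of scalars of a module along a flat ring map preserves tor amplitude -/
lemma hasTorAmplitudeIn_restrict_single_of_flat (α : A →+* A') (hα : α.Flat)
    (M : ModuleCat.{u} A') (a b : ℤ)
    (h : DRing.HasTorAmplitudeIn A' a b
      ((DerivedCategory.singleFunctor (ModuleCat.{u} A') 0).obj M)) :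
    DRing.HasTorAmplitudeIn A a b
      ((DerivedCategory.singleFunctor (ModuleCat.{u} A) 0).obj
        ((ModuleCat.restrictScalars.{u} α).obj M)) := by
  letI := α.toAlgebra
  haveI : Module.Flat A A' := hα
  have h1 := hasTorAmplitudeIn_restrict_of_flat (A := A) (B := A') _ _ _ h
  refine hasTorAmplitudeIn_of_iso ?_ h1
  exact restrictDSingleIso (A := A) (B := A') _ ≪≫
    ((DerivedCategory.singleFunctorIsoCompQ (ModuleCat.{u} A) 0).app _).symm

/-- `TD` in instance-free form -/
lemma td_apply (α : A →+* A') {d : ℕ} (h : letI := α.toAlgebra; TD A A' d) (n : ℕ)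
    (M : ModuleCat.{u} A')
    (hM : DRing.HasTorAmplitudeIn A (-(n : ℤ)) 0
      ((DerivedCategory.singleFunctor (ModuleCat.{u} A) 0).obj
        ((ModuleCat.restrictScalars.{u} α).obj M))) :
    DRing.HasTorAmplitudeIn A' (-((n + d : ℕ) : ℤ)) 0
      ((DerivedCategory.singleFunctor (ModuleCat.{u} A') 0).obj M) := by
  letI := α.toAlgebra
  exact h n M hM

end Restrict

section Loc

variable {A B A' B' : Type u} [CommRing A] [CommRing B] [CommRing A'] [CommRing B']

/-- **localization of a ring map of finite tor dimension** -/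
theorem ftdle_localization (φ : A →+* B) (α : A →+* A') (β : B →+* B') (ψ : A' →+* B')
    (hsq : ψ.comp α = β.comp φ) (W : Submonoid A)
    (hα : letI := α.toAlgebra; IsLocalization W A') (hβ : β.Flat) {d : ℕ} (h : FTDLE φ d) :
    FTDLE ψ d := by
  have h1 : FTDLE (β.comp φ) (0 + d) := ftdle_comp φ β h (ftdle_of_flat β hβ)
  rw [← hsq] at h1
  have h2 : DRing.HasTorAmplitudeIn A (-((0 + d : ℕ) : ℤ)) 0
      ((DerivedCategory.singleFunctor (ModuleCat.{u} A) 0).obj
        ((ModuleCat.restrictScalars.{u} α).obj (Sf ψ))) :=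
    hasTorAmplitudeIn_of_iso ((DerivedCategory.singleFunctor _ 0).mapIso
      (restrictCompIso α ψ (ModuleCat.of B' B')).symm) h1
  have htd : letI := α.toAlgebra; TD A A' 0 := by
    letI := α.toAlgebra
    haveI : IsLocalization W A' := hα
    exact td_of_isLocalization A A' W
  have h3 := td_apply α htd (0 + d) (Sf ψ) h2
  have : 0 + d + 0 = d := by omega
  rw [this] at h3
  exact h3

end Loc


section LocIso

variable {P B B' : Type u} [CommRing P] [CommRing B] [CommRing B']

/-- the localization of `B` (as a `P`-module through `π`) at `W` is a ring localization of `B` -/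
lemma nonempty_locM_iso (π : P →+* B) (β : B →+* B') (W : Submonoid P)
    (hβ : letI := β.toAlgebra; IsLocalization (W.map π) B') :
    Nonempty (locM W (Sf π) ≅ Sf (β.comp π)) := by
  letI aPB : Algebra P B := π.toAlgebra
  letI aBB' : Algebra B B' := β.toAlgebra
  letI aPB' : Algebra P B' := (β.comp π).toAlgebra
  haveI : IsScalarTower P B B' := IsScalarTower.of_algebraMap_eq (fun _ => rfl)
  haveI h1 : IsLocalization (Algebra.algebraMapSubmonoid B W) B' := hβ
  haveI hloc : IsLocalizedModule W (IsScalarTower.toAlgHom P B B').toLinearMap :=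
    isLocalizedModule_iff_isLocalization.mpr h1
  let e : LocalizedModule W B ≃ₗ[P] B' :=
    IsLocalizedModule.iso W (IsScalarTower.toAlgHom P B B').toLinearMap
  exact ⟨LinearEquiv.toModuleIso (X₁ := locM W (Sf π)) (X₂ := Sf (β.comp π)) e⟩

end LocIso

section Spread

variable {A B A' B' : Type u} [CommRing A] [CommRing B] [CommRing A'] [CommRing B']

/-- **spreading out finite tor dimension of a pseudo-coherent ring map from a prime** -/
theorem exists_away_ftd (φ : A →+* B) (hpc : PCH φ) (q : Ideal B) [q.IsPrime]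
    (α : A →+* A') (hα : α.Flat) (β : B →+* B')
    (hβ : letI := β.toAlgebra; IsLocalization.AtPrime B' q) (ψ : A' →+* B')
    (hsq : ψ.comp α = β.comp φ) (h : FTD ψ) :
    ∃ g : B, g ∉ q ∧ ∀ (B'' : Type u) [CommRing B''] (γ : B →+* B''),
      (letI := γ.toAlgebra; IsLocalization.Away g B'') → FTD (γ.comp φ) := by
  obtain ⟨n, π, hπC, hπs, hπpc⟩ := hpc
  obtain ⟨d, hd⟩ := h
  -- step 1: over `A`
  have h1 : DRing.HasTorAmplitudeIn A (-(d : ℤ)) 0
      ((DerivedCategory.singleFunctor (ModuleCat.{u} A) 0).obj (Sf (β.comp φ))) := by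
    have := hasTorAmplitudeIn_restrict_single_of_flat α hα (Sf ψ) _ _ hd
    have := hasTorAmplitudeIn_of_iso ((DerivedCategory.singleFunctor _ 0).mapIso
      (restrictCompIso α ψ (ModuleCat.of B' B'))) this
    rwa [hsq] at this
  -- step 2: over the polynomial ring
  have hC : (MvPolynomial.C : A →+* MvPolynomial (Fin n) A) =
      algebraMap A (MvPolynomial (Fin n) A) := (MvPolynomial.algebraMap_eq (R := A) (σ := Fin n)).symm
  have hcomp : (β.comp π).comp (MvPolynomial.C : A →+* MvPolynomial (Fin n) A) = β.comp φ := by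
    rw [RingHom.comp_assoc, hπC]
  have h2 : DRing.HasTorAmplitudeIn (MvPolynomial (Fin n) A) (-((d + n : ℕ) : ℤ)) 0
      ((DerivedCategory.singleFunctor (ModuleCat.{u} (MvPolynomial (Fin n) A)) 0).obj
        (Sf (β.comp π))) := by
    refine td_mvPolynomial A n d (Sf (β.comp π)) ?_
    rw [← hC]
    refine hasTorAmplitudeIn_of_iso ((DerivedCategory.singleFunctor _ 0).mapIso
      (restrictCompIso (MvPolynomial.C : A →+* MvPolynomial (Fin n) A) (β.comp π)
        (ModuleCat.of B' B')).symm) ?_
    rw [hcomp]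
    exact h1
  -- step 3: the localization at the prime below `q`
  have hq' : (q.comap π).primeCompl.map π = q.primeCompl := by
    ext b
    constructor
    · rintro ⟨p, hp, rfl⟩
      exact hp
    · intro hb
      obtain ⟨p, rfl⟩ := hπs b
      exact ⟨p, hb, rfl⟩
  obtain ⟨e3⟩ := nonempty_locM_iso π β (q.comap π).primeCompl (by rw [hq']; exact hβ)
  have h3 := hasTorAmplitudeIn_of_iso ((DerivedCategory.singleFunctor _ 0).mapIso e3.symm) h2
  -- step 4: spreading out
  obtain ⟨g', hg', h4⟩ := exists_away_hasTorAmplitudeIn (d + n) (Sf π) hπpc (q.comap π) h3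
  refine ⟨π g', hg', fun B'' _ γ hγ => ?_⟩
  -- step 5
  have hpow : (Submonoid.powers g').map π = Submonoid.powers (π g') := Submonoid.map_powers π g'
  obtain ⟨e5⟩ := nonempty_locM_iso π γ (Submonoid.powers g') (by rw [hpow]; exact hγ)
  have h5 := hasTorAmplitudeIn_of_iso ((DerivedCategory.singleFunctor _ 0).mapIso e5) h4
  -- step 6: back to `A`
  have hCfl : (MvPolynomial.C : A →+* MvPolynomial (Fin n) A).Flat := by
    rw [hC]
    exact RingHom.flat_algebraMap_iff.mpr inferInstance
  have h6 := hasTorAmplitudeIn_restrict_single_of_flat _ hCfl _ _ _ h5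
  have h7 := hasTorAmplitudeIn_of_iso ((DerivedCategory.singleFunctor _ 0).mapIso
    (restrictCompIso (MvPolynomial.C : A →+* MvPolynomial (Fin n) A) (γ.comp π)
      (ModuleCat.of B'' B''))) h6
  have hcomp' : (γ.comp π).comp (MvPolynomial.C : A →+* MvPolynomial (Fin n) A) = γ.comp φ := by
    rw [RingHom.comp_assoc, hπC]
  rw [hcomp'] at h7
  exact ⟨d + n, h7⟩

end Spread

end Groth.Agent.Lib.helper13.PerfSpread
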