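import Mathlib
import Groth.Prelude.Def_DCoh3
import Groth.Prelude.Def_MoreMor
import Groth.Prelude.Def_HTor
import Groth.Agent.Lib.Helper11.PullUnit2
import Groth.Agent.Lib.Helper25.IsoBC
import Groth.Agent.Lib.Helper25.TildePush
import Groth.Agent.Lib.Helper25.DCohPerfect
import Groth.Agent.Lib.Helper16.FLF4
import Groth.Agent.Lib.Helper3.PerfHom4
import Groth.Agent.Lib.Helper3.PCFin
import Groth.Agent.Lib.Helper23.TA13
import Groth.Agent.S9498

/-!
# helper13: `i_* O_Z` is perfect when `O_Z` is locally perfect over `O_X` (affine morphisms)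

* `isPerfect_Sf_of_pfh`: a surjective perfect ring map `A → B` makes `B` a perfect `A`-module.
* `exists_strictlyPerfect_push_spec`: `(Spec φ)_* O` is a strictly perfect complex in `D(Spec A)` when `B` is perfect over `A`.
* `isPerfect_push_structureModule`: the global statement.
-/

set_option autoImplicit false
universe u
open CategoryTheory CategoryTheory.Limits AlgebraicGeometry TopologicalSpace Opposite
open Scheme.Modules

attribute [local instance] HasDerivedCategory.standard

namespace Groth.Agent.Lib.helper13.PushPerf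

open Groth.Agent.Lib.helper3.PerfHomLoc Groth.Agent.Lib.helper3.PCHomLoc
open Groth.Agent.Lib.helper23.PCohCore Groth.Agent.Lib.helper23.DRingPC Groth.Agent.Lib.helper23.TA

/-- the tilde of a finite projective module is finite locally free (copied from helper25's `RegPerfect` to keep
the import closure small) -/
lemma isFinLocFree_tilde (R : CommRingCat.{u}) (P : ModuleCat.{u} R) [Module.Finite R P]
    [Module.Projective R P] : FlatMod.IsFinLocFree (tilde P) := by
  obtain ⟨n, f, hf⟩ := Module.Finite.exists_fin' R P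
  obtain ⟨s, hs⟩ := Module.projective_lifting_property f LinearMap.id hf
  let i : P ⟶ Groth.Agent.Lib.helper16.FLF.stdFree R n := ModuleCat.ofHom s
  let r : Groth.Agent.Lib.helper16.FLF.stdFree R n ⟶ P := ModuleCat.ofHom f
  have hir : i ≫ r = 𝟙 P := by
    ext x
    exact LinearMap.congr_fun hs x
  have h1 : FlatMod.IsFinLocFree (tilde (Groth.Agent.Lib.helper16.FLF.stdFree R n)) :=
    Groth.Agent.Lib.helper16.FLF.isFinLocFree_of_iso
      (Groth.Agent.Lib.helper16.FLF.tildeFreeModIso R n).symm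
      (Groth.Agent.Lib.helper16.FLF.isFinLocFree_freeMod _ n)
  refine Groth.Agent.Lib.helper16.FLF.isFinLocFree_of_retract h1 (tilde.map i) (tilde.map r) ?_
  rw [← tilde.map_comp, hir, tilde.map_id]

section Ring

variable {A B : Type u} [CommRing A] [CommRing B]

/-- a surjective perfect ring map makes the target a perfect module over the source -/
theorem isPerfect_Sf_of_pfh (φ : A →+* B) (hφ : Function.Surjective φ) (h : PFH φ) :
    DRing.IsPerfect A ((DerivedCategory.singleFunctor (ModuleCat.{u} A) 0).obj (Sf φ)) := by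
  obtain ⟨hpc, d, hd⟩ := h
  letI := φ.toAlgebra
  haveI : Module.Finite A B := Module.Finite.of_surjective (Algebra.linearMap A B) hφ
  have h1 : PCHom (algebraMap A B) := Groth.Agent.Lib.helper3.PCFin.pch_iff_pcHom_of_finite.1 hpc
  exact isPerfect_of_npc_of_hasTorAmplitudeIn _ (-(d : ℤ)) 0 h1 hd

/-- `(Spec φ)_* O_{Spec B}` is represented by a strictly perfect complex when `B` is a perfect `A`-module -/
theorem exists_strictlyPerfect_push_spec (φ : A →+* B)
    (h : DRing.IsPerfect A ((DerivedCategory.singleFunctor (ModuleCat.{u} A) 0).obj (Sf φ))) :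
    ∃ E : CochainComplex (Spec (CommRingCat.of A)).Modules ℤ, DCoh.IsStrictlyPerfect E ∧
      Nonempty (DCoh.inD (Spec (CommRingCat.of A))
        ((pushforward (Spec.map (CommRingCat.ofHom φ))).obj
          (Coh.structureModule (Spec (CommRingCat.of B)))) ≅ DerivedCategory.Q.obj E) := by
  haveI := Groth.Agent.S9498.preservesFiniteLimits_tilde (CommRingCat.of A)
  haveI := Groth.Agent.S9498.preservesFiniteColimits_tilde (CommRingCat.of A)
  obtain ⟨E₀, a, b, hV, hP, ⟨e⟩⟩ := h
  refine ⟨((tilde.functor (CommRingCat.of A)).mapHomologicalComplex (ComplexShape.up ℤ)).obj E₀,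
    ⟨⟨a, b, fun i hi => (tilde.functor (CommRingCat.of A)).map_isZero (hV i hi)⟩, fun i => ?_⟩, ⟨?_⟩⟩
  · haveI := (hP i).1
    haveI := (hP i).2
    exact isFinLocFree_tilde (CommRingCat.of A) (E₀.X i)
  · exact (DerivedCategory.singleFunctor _ 0).mapIso
        ((Groth.Agent.Lib.Helper25.TildePush.tildePushIso (CommRingCat.ofHom φ)).app
          (ModuleCat.of B B)) ≪≫
      (((tilde.functor (CommRingCat.of A)).mapDerivedCategorySingleFunctor 0).app (Sf φ)).symm ≪≫
      (DCoh.tildeD (CommRingCat.of A)).mapIso e.symm ≪≫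
      ((tilde.functor (CommRingCat.of A)).mapDerivedCategoryFactors).app E₀

end Ring

section Affine

/-- the affine case: for a morphism of affine schemes `g : Y ⟶ W` with `Γ(Y)` perfect over `Γ(W)`, the
restriction of `g_* O_Y` to `Spec Γ(W)` is represented by a strictly perfect complex -/
theorem exists_strictlyPerfect_push_affine {Y W : Scheme.{u}} [IsAffine Y] [IsAffine W] (g : Y ⟶ W)
    (h : DRing.IsPerfect ↑Γ(W, ⊤)
      ((DerivedCategory.singleFunctor (ModuleCat.{u} ↑Γ(W, ⊤)) 0).obj (Sf g.appTop.hom))) :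
    ∃ E : CochainComplex (Spec (CommRingCat.of ↑Γ(W, ⊤))).Modules ℤ, DCoh.IsStrictlyPerfect E ∧
      Nonempty ((DCoh.restrictD W.isoSpec.inv).obj
        (DCoh.inD W ((pushforward g).obj (Coh.structureModule Y))) ≅ DerivedCategory.Q.obj E) := by
  obtain ⟨E, hE, ⟨e⟩⟩ := exists_strictlyPerfect_push_spec g.appTop.hom h
  refine ⟨E, hE, ⟨?_ ≪≫ e⟩⟩
  have hsq : Y.isoSpec.inv ≫ g = Spec.map g.appTop ≫ W.isoSpec.inv :=
    (Scheme.isoSpec_inv_naturality g).symm
  exact ((restrictFunctor W.isoSpec.inv).mapDerivedCategorySingleFunctor 0).app _ ≪≫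
    (DerivedCategory.singleFunctor _ 0).mapIso
      ((Groth.Agent.Lib.Helper25.IsoBC.bcIso Y.isoSpec.inv W.isoSpec.inv g (Spec.map g.appTop) hsq).app
          (Coh.structureModule Y) ≪≫
        (pushforward (Spec.map g.appTop)).mapIso (restrictUnitIso Y.isoSpec.inv))

end Affine

section Global

variable {Z X : Scheme.{u}} (i : Z ⟶ X)

lemma isPerfect_appLE_congr {U U₁ : X.Opens} {V V₁ : Z.Opens} (hU : U₁ = U) (hV : V₁ = V)
    (e : V ≤ i ⁻¹ᵁ U) (e₁ : V₁ ≤ i ⁻¹ᵁ U₁)
    (h : DRing.IsPerfect ↑Γ(X, U)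
      ((DerivedCategory.singleFunctor (ModuleCat.{u} ↑Γ(X, U)) 0).obj (Sf (i.appLE U V e).hom))) :
    DRing.IsPerfect ↑Γ(X, U₁)
      ((DerivedCategory.singleFunctor (ModuleCat.{u} ↑Γ(X, U₁)) 0).obj
        (Sf (i.appLE U₁ V₁ e₁).hom)) := by
  subst hU
  subst hV
  exact h

/-- **`i_* O_Z` is perfect** for an affine morphism `i : Z ⟶ X` such that every point of `X` has an affine open
neighbourhood `U` with `Γ(Z, i⁻¹ U)` a perfect `Γ(X, U)`-module. -/
theorem isPerfect_push_structureModule [IsAffineHom i]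
    (H : ∀ x : X, ∃ U : X.Opens, IsAffineOpen U ∧ x ∈ U ∧
      DRing.IsPerfect ↑Γ(X, U)
        ((DerivedCategory.singleFunctor (ModuleCat.{u} ↑Γ(X, U)) 0).obj (Sf (i.app U).hom))) :
    DCoh.IsPerfect (DCoh.inD X ((pushforward i).obj (Coh.structureModule Z))) := by
  intro x
  obtain ⟨U, hU, hxU, hP⟩ := H x
  haveI : IsAffine (U : Scheme.{u}) := hU
  haveI : IsAffine ((i ⁻¹ᵁ U : Z.Opens) : Scheme.{u}) := hU.preimage i
  have hP' : DRing.IsPerfect ↑Γ((U : Scheme.{u}), ⊤)
      ((DerivedCategory.singleFunctor (ModuleCat.{u} ↑Γ((U : Scheme.{u}), ⊤)) 0).obj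
        (Sf (i ∣_ U).appTop.hom)) := by
    have h0 : (i ∣_ U).appTop = i.appLE (U.ι ''ᵁ ⊤) ((i ⁻¹ᵁ U).ι ''ᵁ ⊤) _ :=
      morphismRestrict_app' i U ⊤
    rw [h0]
    refine isPerfect_appLE_congr i (U := U) (V := i ⁻¹ᵁ U) U.ι_image_top (i ⁻¹ᵁ U).ι_image_top
      le_rfl _ ?_
    rw [Scheme.Hom.appLE_eq_app]
    exact hP
  obtain ⟨E, hE, ⟨e⟩⟩ := exists_strictlyPerfect_push_affine (i ∣_ U) hP'
  refine Groth.Agent.Lib.helper25.DCohPerfect.isPerfect_at_of_restrictD_iso _ x
    ((U : Scheme.{u}).isoSpec.inv ≫ U.ι) ?_ E hE ?_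
  · rw [Scheme.Hom.opensRange_comp_of_isIso, Scheme.Opens.opensRange_ι]
    exact hxU
  · obtain ⟨θ⟩ := Groth.Agent.Lib.helper25.DCohPerfect.nonempty_restrictD_comp_iso
      (U : Scheme.{u}).isoSpec.inv U.ι (DCoh.inD X ((pushforward i).obj (Coh.structureModule Z)))
    refine ⟨θ ≪≫ (DCoh.restrictD (U : Scheme.{u}).isoSpec.inv).mapIso ?_ ≪≫ e⟩
    exact ((restrictFunctor U.ι).mapDerivedCategorySingleFunctor 0).app _ ≪≫
      (DerivedCategory.singleFunctor _ 0).mapIso
        (Groth.Agent.Lib.helper11.PullUnit.restrictPushforwardIso i U (Coh.structureModule Z) ≪≫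
          (pushforward (i ∣_ U)).mapIso (restrictUnitIso (i ⁻¹ᵁ U).ι))

end Global

end Groth.Agent.Lib.helper13.PushPerf
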