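import Mathlib
import Groth.Prelude.Def_DerSch2
import Groth.Agent.Lib.Helper13.PushPerf1
import Groth.Agent.Lib.Helper25.RelPC
import Groth.Agent.Lib.Helper23.HomNat

/-!
# helper13: the structure sheaf is chart-pseudo-coherent for pseudo-coherent ring maps

* `isPseudoCoherentD_tildeD_of_isPseudoCoherent` (copy of helper25's easy direction, small closure).
* `pushUnitIsoOfIso`, `pushChartUnitIso`: `c_* O_U ≅ (Γ(X,U) as a P-module)~` for a chart `c = chartImm U φ`.
* `chartPC_unitCx`: `ChartPC m (O_X[0]) U V φ` for every `m` when `Γ(X, U)` is a pseudo-coherent `P`-module through `φ`.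
-/

set_option autoImplicit false
universe u
open CategoryTheory CategoryTheory.Limits AlgebraicGeometry TopologicalSpace Opposite
open Scheme.Modules

attribute [local instance] HasDerivedCategory.standard

namespace Groth.Agent.Lib.helper13.PushPerf

open Groth.Agent.Lib.helper3.PerfHomLoc Groth.Agent.Lib.helper3.PCHomLoc
open Groth.Agent.Lib.helper23.PCohCore Groth.Agent.Lib.helper23.DRingPC Groth.Agent.Lib.helper23.TA
open DerivedCategory

section Tilde

variable (R : CommRingCat.{u}) [PreservesFiniteLimits (tilde.functor R)]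

lemma isIso_homology_tildeD_map_iff {M N : DerivedCategory (ModuleCat.{u} R)} (β : M ⟶ N) (i : ℤ) :
    IsIso ((homologyFunctor _ i).map ((DCoh.tildeD R).map β)) ↔
      IsIso ((homologyFunctor _ i).map β) := by
  have h := NatIso.isIso_map_iff (Groth.Agent.Lib.helper23.HomNat.homologyNatIso (tilde.functor R) i) β
  refine h.trans ?_
  constructor
  · intro h1
    dsimp only [Functor.comp_map] at h1
    exact isIso_of_fully_faithful (tilde.functor R) _
  · intro h1
    dsimp only [Functor.comp_map]
    infer_instance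

lemma epi_homology_tildeD_map_iff {M N : DerivedCategory (ModuleCat.{u} R)} (β : M ⟶ N) (i : ℤ) :
    Epi ((homologyFunctor _ i).map ((DCoh.tildeD R).map β)) ↔
      Epi ((homologyFunctor _ i).map β) := by
  let e := Groth.Agent.Lib.helper23.HomNat.homologyNatIso (tilde.functor R) i
  have hnat := e.hom.naturality β
  dsimp only [Functor.comp_map] at hnat
  constructor
  · intro h1
    have h2 : Epi ((tilde.functor R).map ((homologyFunctor _ i).map β)) := by
      have : (tilde.functor R).map ((homologyFunctor _ i).map β) =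
          e.inv.app M ≫ (homologyFunctor _ i).map ((DCoh.tildeD R).map β) ≫ e.hom.app N := by
        rw [hnat, ← Category.assoc, ← NatTrans.comp_app, Iso.inv_hom_id, NatTrans.id_app]
        exact (Category.id_comp _).symm
      rw [this]
      infer_instance
    exact (tilde.functor R).epi_of_epi_map h2
  · intro h1
    have : (homologyFunctor _ i).map ((DCoh.tildeD R).map β) =
        e.hom.app M ≫ (tilde.functor R).map ((homologyFunctor _ i).map β) ≫ e.inv.app N := by
      rw [← Category.assoc, ← hnat, Category.assoc, ← NatTrans.comp_app, Iso.hom_inv_id,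
        NatTrans.id_app]
      exact (Category.comp_id _).symm
    rw [this]
    infer_instance

end Tilde

section TildePC

variable (A : Type u) [CommRing A] [PreservesFiniteLimits (tilde.functor (CommRingCat.of A))]

/-- `M` `m`-pseudo-coherent in `D(A)` implies `M~` `m`-pseudo-coherent (helper25's `TildePC`, copied to keep
the import closure small) -/
theorem isPseudoCoherentD_tildeD_of_isPseudoCoherent (M : Dual.D A) (m : ℤ)
    (hM : DRing.IsPseudoCoherent A m M) :
    DCoh.IsPseudoCoherentD m ((DCoh.tildeD (CommRingCat.of A)).obj M) := by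
  haveI := Groth.Agent.S9498.preservesFiniteColimits_tilde (CommRingCat.of A)
  obtain ⟨E, a, b, α, hV, hF, h1, h2⟩ := hM
  let F₀ : CochainComplex (Spec (CommRingCat.of A)).Modules ℤ :=
    ((tilde.functor (CommRingCat.of A)).mapHomologicalComplex (ComplexShape.up ℤ)).obj E
  have hF₀ : DCoh.IsStrictlyPerfect F₀ := by
    refine ⟨⟨a, b, fun i hi => (tilde.functor (CommRingCat.of A)).map_isZero (hV i hi)⟩, fun i => ?_⟩
    haveI := (hF i).1
    haveI := (hF i).2
    exact isFinLocFree_tilde (CommRingCat.of A) (E.X i)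
  let e : Q.obj F₀ ≅ (DCoh.tildeD (CommRingCat.of A)).obj (Q.obj E) :=
    (((tilde.functor (CommRingCat.of A)).mapDerivedCategoryFactors).app E).symm
  refine Groth.Agent.Lib.helper25.DCohPC4.isPseudoCoherentD_of_pcData_global
    ⟨F₀, e.hom ≫ (DCoh.tildeD (CommRingCat.of A)).map α, hF₀, fun i hi => ?_, ?_⟩
  · haveI := (isIso_homology_tildeD_map_iff (CommRingCat.of A) α i).2 (h1 i hi)
    rw [Functor.map_comp]
    infer_instance
  · haveI := (epi_homology_tildeD_map_iff (CommRingCat.of A) α m).2 h2
    rw [Functor.map_comp]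
    infer_instance

end TildePC

section Chart

variable {X Y : Scheme.{u}}

/-- the direct image of the structure sheaf along an isomorphism -/
noncomputable def pushUnitIsoOfIso {X' X : Scheme.{u}} (h : X' ⟶ X) [IsIso h] :
    (pushforward h).obj (Coh.structureModule X') ≅ Coh.structureModule X :=
  (pushforwardCongr (IsIso.inv_inv (f := h)).symm).app _ ≪≫
    ((Groth.Agent.Lib.Helper25.IsoBC.restrictIsoPush (inv h)).app _).symm ≪≫
    restrictUnitIso (inv h)

/-- `c_* O_U ≅ (Γ(X, U) as a module over the polynomial ring)~` for the chart `c = chartImm U φ` -/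
noncomputable def pushChartUnitIso (U : X.Opens) (hU : IsAffineOpen U) {R : Type u} [CommRing R] {n : ℕ}
    (φ : MvPolynomial (Fin n) R →+* Γ(X, U)) :
    (pushforward (DerSch.chartImm U φ)).obj (Coh.structureModule (U : Scheme.{u})) ≅
      (tilde.functor (CommRingCat.of (MvPolynomial (Fin n) R))).obj (Sf φ) :=
  haveI : IsIso U.toSpecΓ := by
    rw [← hU.isoSpec_hom]
    infer_instance
  ((pushforwardComp U.toSpecΓ (Spec.map (CommRingCat.ofHom φ))).app _).symm ≪≫
    (pushforward (Spec.map (CommRingCat.ofHom φ))).mapIso (pushUnitIsoOfIso U.toSpecΓ) ≪≫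
    (Groth.Agent.Lib.Helper25.TildePush.tildePushIso (CommRingCat.ofHom φ)).app
      (ModuleCat.of Γ(X, U) Γ(X, U))

/-- an exact functor between module categories of schemes preserves isomorphisms of classes of complexes -/
lemma nonempty_Q_map_iso {X' Y' : Scheme.{u}} (F : X'.Modules ⥤ Y'.Modules) [F.Additive]
    [PreservesFiniteLimits F] [PreservesFiniteColimits F] {K K' : CochainComplex X'.Modules ℤ}
    (e : Nonempty (Q.obj K ≅ Q.obj K')) :
    Nonempty (Q.obj ((F.mapHomologicalComplex (ComplexShape.up ℤ)).obj K) ≅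
      Q.obj ((F.mapHomologicalComplex (ComplexShape.up ℤ)).obj K')) :=
  e.map fun e => ((F.mapDerivedCategoryFactors).app K).symm ≪≫ F.mapDerivedCategory.mapIso e ≪≫
    (F.mapDerivedCategoryFactors).app K'

/-- **the structure sheaf is chart-pseudo-coherent** along a chart through which `Γ(X, U)` is a pseudo-coherent
module over the polynomial ring -/
theorem chartPC_unitCx (U : X.Opens) (hU : IsAffineOpen U) (V : Y.Opens) {n : ℕ}
    (φ : MvPolynomial (Fin n) Γ(Y, V) →+* Γ(X, U)) (hφ : Function.Surjective φ) (hpc : PCHom φ) (m : ℤ) :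
    DerSch.ChartPC m (DCoh.toD X (DerSch.unitCx X)) U V φ := by
  intro G hG
  haveI : IsClosedImmersion (DerSch.chartImm U φ) :=
    Groth.Agent.Lib.Helper25.RelPC.isClosedImmersion_chartImm U hU φ hφ
  haveI := Groth.Agent.Lib.Helper25.RelPC.preservesFiniteColimits_push (DerSch.chartImm U φ)
  haveI := Groth.Agent.Lib.Helper25.RelPC.preservesFiniteLimits_push (DerSch.chartImm U φ)
  haveI := Groth.Agent.S9498.preservesFiniteLimits_tilde
    (CommRingCat.of (MvPolynomial (Fin n) Γ(Y, V)))
  haveI := Groth.Agent.S9498.preservesFiniteColimits_tilde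
    (CommRingCat.of (MvPolynomial (Fin n) Γ(Y, V)))
  obtain ⟨e1⟩ := nonempty_Q_map_iso (restrictFunctor U.ι) hG
  obtain ⟨e2⟩ := nonempty_Q_map_iso (pushforward (DerSch.chartImm U φ)) ⟨e1⟩
  -- the chain-level computation for the structure sheaf
  let e3 : (DerSch.pushCx (DerSch.chartImm U φ)).obj ((DCoh.restrictCx U).obj (DerSch.unitCx X)) ≅
      (HomologicalComplex.single _ (ComplexShape.up ℤ) 0).obj
        ((tilde.functor (CommRingCat.of (MvPolynomial (Fin n) Γ(Y, V)))).obj (Sf φ)) :=
    (DerSch.pushCx (DerSch.chartImm U φ)).mapIso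
        ((HomologicalComplex.singleMapHomologicalComplex (restrictFunctor U.ι)
          (ComplexShape.up ℤ) 0).app (Coh.structureModule X)) ≪≫
      (HomologicalComplex.singleMapHomologicalComplex (pushforward (DerSch.chartImm U φ))
          (ComplexShape.up ℤ) 0).app _ ≪≫
      (HomologicalComplex.single _ (ComplexShape.up ℤ) 0).mapIso
        ((pushforward (DerSch.chartImm U φ)).mapIso (restrictUnitIso U.ι) ≪≫
          pushChartUnitIso U hU φ)
  have e4 : DCoh.toD _ ((DerSch.pushCx (DerSch.chartImm U φ)).obj ((DCoh.restrictCx U).obj G)) ≅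
      (DCoh.tildeD (CommRingCat.of (MvPolynomial (Fin n) Γ(Y, V)))).obj
        ((DerivedCategory.singleFunctor (ModuleCat.{u} (MvPolynomial (Fin n) Γ(Y, V))) 0).obj
          (Sf φ)) :=
    e2 ≪≫ Q.mapIso e3 ≪≫ ((DerivedCategory.singleFunctorIsoCompQ _ 0).app _).symm ≪≫
      (((tilde.functor (CommRingCat.of (MvPolynomial (Fin n) Γ(Y, V)))).mapDerivedCategorySingleFunctor
        0).app (Sf φ)).symm
  refine Groth.Agent.Lib.helper25.DCohPC3.isPseudoCoherentD_of_iso e4.symm ?_
  exact isPseudoCoherentD_tildeD_of_isPseudoCoherent _ _ m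
    ((isPseudoCoherent_iff_npc _ m _).2 (hpc m))

end Chart

end Groth.Agent.Lib.helper13.PushPerf
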