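import Mathlib
import Groth.Prelude.Def_DerSch2
import Groth.Prelude.Def_RegImm
import Groth.Agent.Lib.Helper13.PushPerf2
import Groth.Agent.Lib.Helper13.PerfSpread2
import Groth.Agent.Lib.Helper3.PerfKos2
import Groth.Agent.S6187

/-!
# helper13: perfect dimension of morphisms from chartwise ring-level data

* `ftdle_stalkMap`: a bound on the tor dimension of `Γ(S, V) → Γ(X, U)` passes to the stalk map at every point of `U`.
* `hasTorAmplitudeAt_unitCx_of_ftdle`: `FTDLE (f.stalkMap x) d` gives `DerSch.HasTorAmplitudeAt f (-d) 0 (unitCx X) x`.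
* `isPseudoCoherentRelAll_unitCx_of_isPseudoCoherentMor`: a pseudo-coherent morphism (all affine pairs) has
  `O_X[0]` pseudo-coherent relative to `f` in chart form.
* `hasPerfDimLE_of_koszul`: Koszul-regular immersions of codimension `d` have perfect dimension `≤ d`.
-/

set_option autoImplicit false
universe u
open CategoryTheory CategoryTheory.Limits AlgebraicGeometry TopologicalSpace Opposite
open Scheme.Modules

attribute [local instance] HasDerivedCategory.standard

namespace Groth.Agent.Lib.helper13.PushPerf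

open Groth.Agent.Lib.helper3.PerfHomLoc Groth.Agent.Lib.helper3.PCHomLoc
open Groth.Agent.Lib.helper23.PCohCore Groth.Agent.Lib.helper23.DRingPC Groth.Agent.Lib.helper23.TA
open Groth.Agent.Lib.helper13.PerfSpread
open DerivedCategory

section Stalk

variable {X S : Scheme.{u}}

/-- the square of ring maps attached to a chart of `f` at `x` -/
lemma stalk_square (f : X ⟶ S) (x : X) (V : S.Opens) (U : X.Opens)
    (hx : x ∈ U) (e : U ≤ f ⁻¹ᵁ V) :
    (f.stalkMap x).hom.comp (S.presheaf.germ V (f.base x) (e hx)).hom =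
      (X.presheaf.germ U x hx).hom.comp (f.appLE V U e).hom := by
  ext a
  change (f.stalkMap x).hom ((S.presheaf.germ V (f.base x) (e hx)).hom a) =
    (X.presheaf.germ U x hx).hom ((f.appLE V U e).hom a)
  simp only [Scheme.Hom.appLE, CommRingCat.hom_comp, RingHom.coe_comp, Function.comp_apply]
  erw [X.presheaf.germ_res_apply, Scheme.Hom.germ_stalkMap_apply]

/-- a bound on the tor dimension on a chart passes to the stalks -/
theorem ftdle_stalkMap (f : X ⟶ S) (x : X) (V : S.Opens) (hV : IsAffineOpen V) (U : X.Opens)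
    (hU : IsAffineOpen U) (hxU : x ∈ U) (e : U ≤ f ⁻¹ᵁ V) {d : ℕ}
    (hd : FTDLE (f.appLE V U e).hom d) : FTDLE (f.stalkMap x).hom d := by
  have hsq := stalk_square f x V U hxU e
  letI a1 : Algebra Γ(S, V) (S.presheaf.stalk (f.base x)) :=
    S.presheaf.algebra_section_stalk ⟨f.base x, e hxU⟩
  letI a2 : Algebra Γ(X, U) (X.presheaf.stalk x) := X.presheaf.algebra_section_stalk ⟨x, hxU⟩
  have hlocV := hV.isLocalization_stalk ⟨f.base x, e hxU⟩
  have hlocU := hU.isLocalization_stalk ⟨x, hxU⟩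
  have hβ : (X.presheaf.germ U x hxU).hom.Flat :=
    (IsLocalization.flat _ (hU.primeIdealOf ⟨x, hxU⟩).asIdeal.primeCompl :
      Module.Flat Γ(X, U) (X.presheaf.stalk x))
  exact ftdle_localization (f.appLE V U e).hom (S.presheaf.germ V (f.base x) (e hxU)).hom
    (X.presheaf.germ U x hxU).hom (f.stalkMap x).hom hsq
    (hV.primeIdealOf ⟨f.base x, e hxU⟩).asIdeal.primeCompl hlocV hβ hd

/-- stalkwise tor amplitude of the structure sheaf from the stalk map -/
theorem hasTorAmplitudeAt_unitCx_of_ftdle (f : X ⟶ S) (x : X) {d : ℕ}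
    (h : FTDLE (f.stalkMap x).hom d) :
    DerSch.HasTorAmplitudeAt f (-(d : ℤ)) 0 (DerSch.unitCx X) x := by
  obtain ⟨e0⟩ := Groth.Agent.S6187.nonempty_stalk_structureModule_iso X x
  have e1 : (DerSch.stalkCxOver f x).obj (DerSch.unitCx X) ≅
      (HomologicalComplex.single _ (ComplexShape.up ℤ) 0).obj
        ((DerSch.stalkOver f x).obj (Coh.structureModule X)) :=
    (HomologicalComplex.singleMapHomologicalComplex (DerSch.stalkOver f x)
      (ComplexShape.up ℤ) 0).app (Coh.structureModule X)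
  have e2 : (DerSch.stalkOver f x).obj (Coh.structureModule X) ≅ Sf (f.stalkMap x).hom :=
    (ModuleCat.restrictScalars.{u} (f.stalkMap x).hom).mapIso e0
  refine hasTorAmplitudeIn_of_iso ?_ h
  exact (DerivedCategory.singleFunctorIsoCompQ _ 0).app _ ≪≫
    Q.mapIso ((HomologicalComplex.single _ (ComplexShape.up ℤ) 0).mapIso e2.symm ≪≫ e1.symm)

end Stalk

section Rel

variable {X Y : Scheme.{u}}

/-- **a pseudo-coherent morphism (all affine pairs, presentation form) has `O_X[0]` pseudo-coherent relative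
to it in chart form** -/
theorem isPseudoCoherentRelAll_unitCx_of_isPseudoCoherentMor (f : X ⟶ Y)
    (hf : MoreMor.IsPseudoCoherentMor f) :
    DerSch.IsPseudoCoherentRelAll f (DCoh.toD X (DerSch.unitCx X)) := by
  have hpch : ∀ (U : X.Opens) (V : Y.Opens) (_ : IsAffineOpen U) (_ : IsAffineOpen V)
      (e : U ≤ f ⁻¹ᵁ V), PCH (f.appLE V U e).hom :=
    fun U V hU hV e => (pch_iff_toAlgebra _).1 (hf U V hU hV e)
  have hft : LocallyOfFiniteType f := by
    rw [HasRingHomProperty.iff_appLE (P := @LocallyOfFiniteType)]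
    intro V U e
    letI := (f.appLE V.1 U.1 e).hom.toAlgebra
    exact finiteType_of_pch (hpch U.1 V.1 U.2 V.2 e)
  intro m
  refine ⟨hft, Set.univ, ?_, fun V _ => ⟨{U : X.affineOpens | (U : X.Opens) ≤ f ⁻¹ᵁ (V : Y.Opens)},
    ?_, fun U hU h => ?_⟩⟩
  · -- affine opens cover `Y`
    refine eq_top_iff.2 fun y _ => ?_
    obtain ⟨_, ⟨V, hV, rfl⟩, hyV, -⟩ :=
      Y.isBasis_affineOpens.exists_subset_of_mem_open (Set.mem_univ y) isOpen_univ
    exact Opens.mem_iSup.2 ⟨⟨V, hV⟩, Opens.mem_iSup.2 ⟨Set.mem_univ _, hyV⟩⟩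
  · -- affine opens inside `f⁻¹ V` cover it
    refine le_antisymm (iSup₂_le fun U hU => hU) fun x hx => ?_
    obtain ⟨_, ⟨U, hU, rfl⟩, hxU, hUV⟩ :=
      X.isBasis_affineOpens.exists_subset_of_mem_open hx (f ⁻¹ᵁ (V : Y.Opens)).isOpen
    exact Opens.mem_iSup.2 ⟨⟨U, hU⟩, Opens.mem_iSup.2 ⟨hUV, hxU⟩⟩
  · -- the chart
    obtain ⟨n, φ, hφc, hφs, hφpc⟩ := hpch U.1 V.1 U.2 V.2 h
    exact ⟨n, φ, ⟨hφs, hφc⟩, chartPC_unitCx U.1 U.2 V.1 φ hφs hφpc m⟩

end Rel

section Koszul

variable {Z X : Scheme.{u}}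

open Groth.Agent.Lib.helper3.PerfKos in
/-- **Koszul-regular immersions of codimension `d` have perfect dimension `≤ d`** -/
theorem hasPerfDimLE_of_koszul (i : Z ⟶ X) (d : ℕ)
    (hi : RegImm.IsRegularImmersionOfCodim RegImm.Kind.koszul d i) : DerSch.HasPerfDimLE i d := by
  obtain ⟨-, h⟩ := hi
  have hreg : ∀ z : Z, RegImm.IsRegularImmersionAt .koszul i z := fun z => by
    obtain ⟨U, hzU, hcl, rs, -, hrs, hker⟩ := h z
    exact ⟨U, hzU, hcl, rs, hrs, hker⟩
  have hperf := isPerfectMor_of_forall_koszul i hreg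
  refine ⟨isPseudoCoherentRelAll_unitCx_of_isPseudoCoherentMor i
    (isPseudoCoherentMor_of_isPerfectMor i hperf), fun z => ?_⟩
  obtain ⟨U, hzU, hcl, rs, hlen, hrs, hker⟩ := h z
  obtain ⟨haff, hsurj⟩ := affine_and_surjective_of_restrict i U.1 U.2 hcl
  have e := quotIso (i.app U.1).hom hsurj (Ideal.span {x | x ∈ rs}) hker
  have h1 : FTDLE (i.app U.1).hom rs.length :=
    hasTorAmplitudeIn_of_iso ((DerivedCategory.singleFunctor _ 0).mapIso e)
      (Groth.Agent.Lib.helper3.KosPerf.hasTorAmplitudeIn_quot rs hrs)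
  rw [hlen] at h1
  have h2 : FTDLE (i.appLE U.1 (i ⁻¹ᵁ U.1) le_rfl).hom d := by
    rwa [Scheme.Hom.appLE_eq_app]
  exact hasTorAmplitudeAt_unitCx_of_ftdle i z
    (ftdle_stalkMap i z U.1 U.2 (i ⁻¹ᵁ U.1) haff hzU le_rfl h2)

end Koszul

end Groth.Agent.Lib.helper13.PushPerf
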