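import Groth.Agent.Lib.Helper13.StalkD
import Groth.Agent.S6187

/-!
# A flat morphism has tor dimension `≤ 0` (stalkwise form `DerSch.HasTorDimLE f 0`)
-/

set_option autoImplicit false
universe u
open CategoryTheory CategoryTheory.Limits AlgebraicGeometry Opposite TopologicalSpace
attribute [local instance] HasDerivedCategory.standard

namespace Groth.Agent.Lib.helper13.StalkD

open Groth.Agent.Lib.Helper25.StalkExact DerivedCategory Groth.Agent.Lib.Helper25.PushProj

variable {X Y : Scheme.{u}}

open Groth.Agent.Lib.helper23.TA in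
/-- a flat morphism has tor dimension `≤ 0` -/
lemma hasTorDimLE_zero_of_flat (f : X ⟶ Y) [Flat f] : DerSch.HasTorDimLE f 0 := by
  intro x
  obtain ⟨e0⟩ := Groth.Agent.S6187.nonempty_stalk_structureModule_iso X x
  have e1 : (DerSch.stalkCxOver f x).obj (DerSch.unitCx X) ≅
      (HomologicalComplex.single _ (ComplexShape.up ℤ) 0).obj
        ((DerSch.stalkOver f x).obj (Coh.structureModule X)) :=
    (HomologicalComplex.singleMapHomologicalComplex (DerSch.stalkOver f x)
      (ComplexShape.up ℤ) 0).app (Coh.structureModule X)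
  have e2 : (DerSch.stalkOver f x).obj (Coh.structureModule X) ≅
      (ModuleCat.restrictScalars.{u} (f.stalkMap x).hom).obj
        (ModuleCat.of (X.presheaf.stalk x) (X.presheaf.stalk x)) :=
    (ModuleCat.restrictScalars.{u} (f.stalkMap x).hom).mapIso e0
  have hfl : (f.stalkMap x).hom.Flat := AlgebraicGeometry.Flat.stalkMap f x
  letI alg : Algebra (Y.presheaf.stalk (f.base x)) (X.presheaf.stalk x) := (f.stalkMap x).hom.toAlgebra
  have hfl' : Module.Flat (Y.presheaf.stalk (f.base x)) (X.presheaf.stalk x) := hfl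
  have e3 : (ModuleCat.restrictScalars.{u} (f.stalkMap x).hom).obj
        (ModuleCat.of (X.presheaf.stalk x) (X.presheaf.stalk x)) ≅
      ModuleCat.of (Y.presheaf.stalk (f.base x)) (X.presheaf.stalk x) :=
    Groth.Agent.S6187.restrictSelfIso (A := Y.presheaf.stalk (f.base x)) (B := X.presheaf.stalk x)
  have h0 := hasTorAmplitudeIn_single_flat
    (ModuleCat.of (Y.presheaf.stalk (f.base x)) (X.presheaf.stalk x)) hfl' 0
  have e4 : (DerivedCategory.singleFunctor (ModuleCat.{u} (Y.presheaf.stalk (f.base x))) 0).obj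
      (ModuleCat.of (Y.presheaf.stalk (f.base x)) (X.presheaf.stalk x)) ≅
      DRing.toD ((DerSch.stalkCxOver f x).obj (DerSch.unitCx X)) :=
    (DerivedCategory.singleFunctorIsoCompQ _ 0).app _ ≪≫
      Q.mapIso ((HomologicalComplex.single _ (ComplexShape.up ℤ) 0).mapIso (e2 ≪≫ e3).symm ≪≫ e1.symm)
  have h1 := hasTorAmplitudeIn_of_iso e4 h0
  have h2 : (-((0 : ℕ) : ℤ)) = 0 := by simp
  show DRing.HasTorAmplitudeIn _ (-((0 : ℕ) : ℤ)) 0 _
  rw [h2]
  exact h1

end Groth.Agent.Lib.helper13.StalkD
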