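import Mathlib
import Groth.Agent.Lib.Helper13.PushPerf3
import Groth.Agent.Lib.Helper25.TildePC
import Groth.Agent.Lib.Helper23.DRingPC2
import Groth.Agent.S7172
import Groth.Agent.Lib.Helper13.StalkD2

/-!
# helper13: chart pseudo-coherence of the structure sheaf, degree by degree

* `nonempty_chart_unit_iso`, `chartPC_unitCx_iff`: for a chart `φ : P = Γ(Y,V)[x_1..x_n] ↠ Γ(X,U)`,
  `ChartPC m (O_X[0]) U V φ ↔` the `P`-module `Γ(X, U)` is `m`-pseudo-coherent.
* `npc_negOne_Sf_iff`: `(-1)`-pseudo-coherence of `B` over `A[x]` is finite presentation of `A → B`.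
* `isPseudoCoherentRel_unitCx_of_forall`, `exists_chart'`.
* `isNPseudoCoherent_negOne_iff` (S6225), `hasPerfDimLE_zero_iff` (S6214).
-/

set_option autoImplicit false
universe u
open CategoryTheory CategoryTheory.Limits AlgebraicGeometry TopologicalSpace Opposite
open Scheme.Modules

attribute [local instance] HasDerivedCategory.standard

namespace Groth.Agent.Lib.helper13.PushPerf

open Groth.Agent.Lib.helper3.PerfHomLoc Groth.Agent.Lib.helper3.PCHomLoc
open Groth.Agent.Lib.helper23.PCohCore Groth.Agent.Lib.helper23.DRingPC Groth.Agent.Lib.helper23.TA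
open DerivedCategory

section Ring

variable {A B : Type u} [CommRing A] [CommRing B]

/-- the canonical linear surjection `P → B` for a ring map `φ : P → B` -/
noncomputable def sfLin {P : Type u} [CommRing P] (φ : P →+* B) : P →ₗ[P] Sf φ where
  toFun p := (φ p : B)
  map_add' p q := map_add φ p q
  map_smul' a p := by
    show φ (a * p) = φ a * φ p
    exact map_mul φ a p

lemma fg_ker_iff_finitePresentation_Sf {P : Type u} [CommRing P] (φ : P →+* B)
    (hφ : Function.Surjective φ) :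
    (RingHom.ker φ).FG ↔ Module.FinitePresentation P (Sf φ) := by
  have h := Module.FinitePresentation.fg_ker_iff (sfLin φ) hφ
  have hk : LinearMap.ker (sfLin φ) = RingHom.ker φ := by
    ext x
    rfl
  rw [hk] at h
  exact h

theorem npc_negOne_Sf_iff {n : ℕ} (ψ : A →+* B) (φ : MvPolynomial (Fin n) A →+* B)
    (hC : φ.comp MvPolynomial.C = ψ) (hφ : Function.Surjective φ) :
    NPC (FF (MvPolynomial (Fin n) A)) (-1)
      ((DerivedCategory.singleFunctor (ModuleCat.{u} (MvPolynomial (Fin n) A)) 0).obj (Sf φ)) ↔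
      ψ.FinitePresentation := by
  rw [npc_negOne_single_iff_finitePresentation, ← fg_ker_iff_finitePresentation_Sf φ hφ]
  letI := ψ.toAlgebra
  have hC' : φ.comp MvPolynomial.C = algebraMap A B := hC
  constructor
  · intro h
    exact ⟨n, toAlgHom φ hC', hφ, h⟩
  · intro h
    haveI : Algebra.FinitePresentation A B := h
    exact Algebra.FinitePresentation.ker_fg_of_mvPolynomial (toAlgHom φ hC') hφ

end Ring

section Chart

variable {X Y : Scheme.{u}}

/-- the direct image of (any representative of) `O_X[0]` restricted to `U` along a chart is the tilde of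
`Γ(X, U)` in degree `0` -/
lemma nonempty_chart_unit_iso (U : X.Opens) (hU : IsAffineOpen U) (V : Y.Opens) {n : ℕ}
    (φ : MvPolynomial (Fin n) Γ(Y, V) →+* Γ(X, U)) (hφ : Function.Surjective φ)
    (G : CochainComplex X.Modules ℤ) (hG : Nonempty (DCoh.toD X G ≅ DCoh.toD X (DerSch.unitCx X))) :
    Nonempty (DCoh.toD _ ((DerSch.pushCx (DerSch.chartImm U φ)).obj ((DCoh.restrictCx U).obj G)) ≅
      DCoh.inD (Spec (CommRingCat.of (MvPolynomial (Fin n) Γ(Y, V))))
        ((tilde.functor (CommRingCat.of (MvPolynomial (Fin n) Γ(Y, V)))).obj (Sf φ))) := by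
  haveI : IsClosedImmersion (DerSch.chartImm U φ) :=
    Groth.Agent.Lib.Helper25.RelPC.isClosedImmersion_chartImm U hU φ hφ
  haveI := Groth.Agent.Lib.Helper25.RelPC.preservesFiniteColimits_push (DerSch.chartImm U φ)
  haveI := Groth.Agent.Lib.Helper25.RelPC.preservesFiniteLimits_push (DerSch.chartImm U φ)
  obtain ⟨e1⟩ := nonempty_Q_map_iso (restrictFunctor U.ι) hG
  obtain ⟨e2⟩ := nonempty_Q_map_iso (pushforward (DerSch.chartImm U φ)) ⟨e1⟩
  let e3 : (DerSch.pushCx (DerSch.chartImm U φ)).obj ((DCoh.restrictCx U).obj (DerSch.unitCx X)) ≅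
      (HomologicalComplex.single _ (ComplexShape.up ℤ) 0).obj
        ((tilde.functor (CommRingCat.of (MvPolynomial (Fin n) Γ(Y, V)))).obj (Sf φ)) :=
    (DerSch.pushCx (DerSch.chartImm U φ)).mapIso
        ((HomologicalComplex.singleMapHomologicalComplex (restrictFunctor U.ι)
          (ComplexShape.up ℤ) 0).app (Coh.structureModule X)) ≪≫
      (HomologicalComplex.singleMapHomologicalComplex (pushforward (DerSch.chartImm U φ))
          (ComplexShape.up ℤ) 0).app _ ≪≫
      (HomologicalComplex.single _ (ComplexShape.up ℤ) 0).mapIso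
        ((pushforward (DerSch.chartImm U φ)).mapIso (restrictUnitIso U.ι) ≪≫
          pushChartUnitIso U hU φ)
  exact ⟨e2 ≪≫ Q.mapIso e3 ≪≫ ((DerivedCategory.singleFunctorIsoCompQ _ 0).app _).symm⟩

/-- **chart pseudo-coherence of the structure sheaf, degree by degree** -/
theorem chartPC_unitCx_iff (U : X.Opens) (hU : IsAffineOpen U) (V : Y.Opens) {n : ℕ}
    (φ : MvPolynomial (Fin n) Γ(Y, V) →+* Γ(X, U)) (hφ : Function.Surjective φ) (m : ℤ) :
    DerSch.ChartPC m (DCoh.toD X (DerSch.unitCx X)) U V φ ↔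
      NPC (FF (MvPolynomial (Fin n) Γ(Y, V))) m
        ((DerivedCategory.singleFunctor (ModuleCat.{u} (MvPolynomial (Fin n) Γ(Y, V))) 0).obj
          (Sf φ)) := by
  haveI := Groth.Agent.S9498.preservesFiniteLimits_tilde
    (CommRingCat.of (MvPolynomial (Fin n) Γ(Y, V)))
  haveI := Groth.Agent.S9498.preservesFiniteColimits_tilde
    (CommRingCat.of (MvPolynomial (Fin n) Γ(Y, V)))
  have key : ∀ (G : CochainComplex X.Modules ℤ)
      (_ : Nonempty (DCoh.toD X G ≅ DCoh.toD X (DerSch.unitCx X))),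
      Nonempty (DCoh.toD _ ((DerSch.pushCx (DerSch.chartImm U φ)).obj ((DCoh.restrictCx U).obj G)) ≅
        (DCoh.tildeD (CommRingCat.of (MvPolynomial (Fin n) Γ(Y, V)))).obj
          ((DerivedCategory.singleFunctor (ModuleCat.{u} (MvPolynomial (Fin n) Γ(Y, V))) 0).obj
            (Sf φ))) := by
    intro G hG
    obtain ⟨e⟩ := nonempty_chart_unit_iso U hU V φ hφ G hG
    exact ⟨e ≪≫ (((tilde.functor
      (CommRingCat.of (MvPolynomial (Fin n) Γ(Y, V)))).mapDerivedCategorySingleFunctor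
        0).app (Sf φ)).symm⟩
  constructor
  · intro h
    obtain ⟨e⟩ := key (DerSch.unitCx X) ⟨Iso.refl _⟩
    have h1 := Groth.Agent.Lib.helper25.DCohPC3.isPseudoCoherentD_of_iso e
      (h (DerSch.unitCx X) ⟨Iso.refl _⟩)
    exact (isPseudoCoherent_iff_npc _ m _).1
      ((Groth.Agent.Lib.Helper25.TildePC.isPseudoCoherentD_tildeD_iff _ _ m).1 h1)
  · intro h G hG
    obtain ⟨e⟩ := key G hG
    refine Groth.Agent.Lib.helper25.DCohPC3.isPseudoCoherentD_of_iso e.symm ?_
    exact isPseudoCoherentD_tildeD_of_isPseudoCoherent _ _ m ((isPseudoCoherent_iff_npc _ m _).2 h)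

end Chart

section Rel

variable {X Y : Scheme.{u}} (f : X ⟶ Y)

/-- relative pseudo-coherence of `O_X[0]` in one degree from all affine pairs -/
theorem isPseudoCoherentRel_unitCx_of_forall [LocallyOfFiniteType f] (m : ℤ)
    (H : ∀ (U : X.affineOpens) (V : Y.affineOpens) (h : (U : X.Opens) ≤ f ⁻¹ᵁ (V : Y.Opens)),
      ∃ (n : ℕ) (φ : MvPolynomial (Fin n) Γ(Y, (V : Y.Opens)) →+* Γ(X, (U : X.Opens))),
        DerSch.IsChart f (U : X.Opens) (V : Y.Opens) h φ ∧
          NPC (FF (MvPolynomial (Fin n) Γ(Y, (V : Y.Opens)))) m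
            ((DerivedCategory.singleFunctor _ 0).obj (Sf φ))) :
    DerSch.IsPseudoCoherentRel f m (DCoh.toD X (DerSch.unitCx X)) := by
  refine ⟨inferInstance, Set.univ, ?_, fun V _ =>
    ⟨{U : X.affineOpens | (U : X.Opens) ≤ f ⁻¹ᵁ (V : Y.Opens)}, ?_, fun U hU h => ?_⟩⟩
  · refine eq_top_iff.2 fun y _ => ?_
    obtain ⟨_, ⟨V, hV, rfl⟩, hyV, -⟩ :=
      Y.isBasis_affineOpens.exists_subset_of_mem_open (Set.mem_univ y) isOpen_univ
    exact Opens.mem_iSup.2 ⟨⟨V, hV⟩, Opens.mem_iSup.2 ⟨Set.mem_univ _, hyV⟩⟩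
  · refine le_antisymm (iSup₂_le fun U hU => hU) fun x hx => ?_
    obtain ⟨_, ⟨U, hU, rfl⟩, hxU, hUV⟩ :=
      X.isBasis_affineOpens.exists_subset_of_mem_open hx (f ⁻¹ᵁ (V : Y.Opens)).isOpen
    exact Opens.mem_iSup.2 ⟨⟨U, hU⟩, Opens.mem_iSup.2 ⟨hUV, hxU⟩⟩
  · obtain ⟨n, φ, hc, hnpc⟩ := H U V h
    exact ⟨n, φ, hc, (chartPC_unitCx_iff U.1 U.2 V.1 φ hc.1 m).2 hnpc⟩

/-- around every point there is an affine chart on which `K` is chart-pseudo-coherent (with the chart data) -/
lemma exists_chart' {m : ℤ} {K : DCoh.D X} (h : DerSch.IsPseudoCoherentRel f m K) (x : X) :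
    ∃ (U : X.affineOpens) (V : Y.affineOpens) (hle : (U : X.Opens) ≤ f ⁻¹ᵁ (V : Y.Opens)) (n : ℕ)
      (φ : MvPolynomial (Fin n) Γ(Y, (V : Y.Opens)) →+* Γ(X, (U : X.Opens))),
      x ∈ (U : X.Opens) ∧ DerSch.IsChart f (U : X.Opens) (V : Y.Opens) hle φ ∧
        DerSch.ChartPC m K (U : X.Opens) (V : Y.Opens) φ := by
  obtain ⟨-, 𝒱, h𝒱, H𝒱⟩ := h
  have hx : f x ∈ (⨆ V ∈ 𝒱, (V : Y.Opens)) := by rw [h𝒱]; trivial
  obtain ⟨V, hx⟩ := TopologicalSpace.Opens.mem_iSup.mp hx
  obtain ⟨hV, hx⟩ := TopologicalSpace.Opens.mem_iSup.mp hx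
  obtain ⟨𝒰, h𝒰, H𝒰⟩ := H𝒱 V hV
  have hx' : x ∈ (⨆ U ∈ 𝒰, (U : X.Opens)) := by rw [h𝒰]; exact hx
  obtain ⟨U, hx'⟩ := TopologicalSpace.Opens.mem_iSup.mp hx'
  obtain ⟨hU, hx'⟩ := TopologicalSpace.Opens.mem_iSup.mp hx'
  have hle : (U : X.Opens) ≤ f ⁻¹ᵁ (V : Y.Opens) := by
    rw [← h𝒰]
    exact le_iSup₂ (f := fun (U : X.affineOpens) (_ : U ∈ 𝒰) => (U : X.Opens)) U hU
  obtain ⟨n, φ, hc, hpc⟩ := H𝒰 U hU hle
  exact ⟨U, V, hle, n, φ, hx', hc, hpc⟩

/-- **S6225** -/
theorem isNPseudoCoherent_negOne_iff [LocallyOfFiniteType f] :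
    DerSch.IsNPseudoCoherent f (-1) ↔ LocallyOfFinitePresentation f := by
  constructor
  · intro h
    rw [HasRingHomProperty.iff_exists_appLE (P := @LocallyOfFinitePresentation)
      (RingHom.finitePresentation_stableUnderComposition.stableUnderCompositionWithLocalizationAway
        RingHom.finitePresentation_holdsForLocalizationAway).left]
    intro x
    obtain ⟨U, V, hle, n, φ, hxU, hc, hpc⟩ := exists_chart' f h x
    exact ⟨V, U, hxU, hle, (npc_negOne_Sf_iff _ φ hc.2 hc.1).1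
      ((chartPC_unitCx_iff U.1 U.2 V.1 φ hc.1 (-1)).1 hpc)⟩
  · intro h
    refine isPseudoCoherentRel_unitCx_of_forall f (-1) fun U V hle => ?_
    have hfp : (f.appLE V.1 U.1 hle).hom.FinitePresentation :=
      HasRingHomProperty.appLE (P := @LocallyOfFinitePresentation) f h V U hle
    letI := (f.appLE V.1 U.1 hle).hom.toAlgebra
    obtain ⟨n, φ', hφ', -⟩ := (show Algebra.FinitePresentation Γ(Y, V.1) Γ(X, U.1) from hfp).out
    have hC : (φ' : MvPolynomial (Fin n) Γ(Y, V.1) →+* Γ(X, U.1)).comp MvPolynomial.C =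
        (f.appLE V.1 U.1 hle).hom := algHom_comp_C φ'
    exact ⟨n, (φ' : MvPolynomial (Fin n) Γ(Y, V.1) →+* Γ(X, U.1)), ⟨hφ', hC⟩,
      (npc_negOne_Sf_iff _ _ hC hφ').2 hfp⟩

/-- **S6214** -/
theorem hasPerfDimLE_zero_iff [LocallyOfFiniteType f] :
    DerSch.HasPerfDimLE f 0 ↔ (Flat f ∧ LocallyOfFinitePresentation f) := by
  constructor
  · rintro ⟨hpc, htor⟩
    refine ⟨?_, (isNPseudoCoherent_negOne_iff f).1 (hpc (-1))⟩
    rw [Flat.iff_flat_stalkMap]
    intro x
    obtain ⟨e0⟩ := Groth.Agent.S6187.nonempty_stalk_structureModule_iso X x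
    have e1 : (DerSch.stalkCxOver f x).obj (DerSch.unitCx X) ≅
        (HomologicalComplex.single _ (ComplexShape.up ℤ) 0).obj
          ((DerSch.stalkOver f x).obj (Coh.structureModule X)) :=
      (HomologicalComplex.singleMapHomologicalComplex (DerSch.stalkOver f x)
        (ComplexShape.up ℤ) 0).app (Coh.structureModule X)
    have e2 : (DerSch.stalkOver f x).obj (Coh.structureModule X) ≅ Sf (f.stalkMap x).hom :=
      (ModuleCat.restrictScalars.{u} (f.stalkMap x).hom).mapIso e0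
    have h1 : DRing.HasTorAmplitudeIn (Y.presheaf.stalk (f.base x)) 0 0
        ((DerivedCategory.singleFunctor _ 0).obj (Sf (f.stalkMap x).hom)) := by
      have h0 := htor x
      simp only [Nat.cast_zero, neg_zero] at h0
      exact hasTorAmplitudeIn_of_iso (Q.mapIso (e1 ≪≫
        (HomologicalComplex.single _ (ComplexShape.up ℤ) 0).mapIso e2) ≪≫
        ((DerivedCategory.singleFunctorIsoCompQ _ 0).app _).symm) h0
    haveI h2 : Module.Flat (Y.presheaf.stalk (f.base x)) (Sf (f.stalkMap x).hom) :=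
      flat_of_hasTorAmplitudeIn_zero _ h1
    letI := (f.stalkMap x).hom.toAlgebra
    show Module.Flat (Y.presheaf.stalk (f.base x)) (X.presheaf.stalk x)
    exact Module.Flat.of_linearEquiv
      (Groth.Agent.Lib.helper3.PCQuot.restrictOfIso (f.stalkMap x).hom (X.presheaf.stalk x)
        (fun r y => rfl)).toLinearEquiv
  · rintro ⟨hfl, hfp⟩
    haveI := hfl
    haveI := hfp
    exact ⟨isPseudoCoherentRelAll_unitCx_of_isPseudoCoherentMor f
      (isPseudoCoherentMor_of_isPerfectMor f (Groth.Agent.S7172.result f)),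
      Groth.Agent.Lib.helper13.StalkD.hasTorDimLE_zero_of_flat f⟩

end Rel

end Groth.Agent.Lib.helper13.PushPerf
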