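import Mathlib
import Groth.Agent.Lib.Helper13.NPCH1
import Groth.Agent.Lib.Helper13.PushPerf5

/-!
# helper13: `n`-pseudo-coherent morphisms of schemes are a `HasRingHomProperty`

`DerSch.IsNPseudoCoherent f m ↔ affineLocally (NPCH m) f`; composition (S6209).
-/

set_option autoImplicit false
universe u
open CategoryTheory CategoryTheory.Limits AlgebraicGeometry TopologicalSpace Opposite

attribute [local instance] HasDerivedCategory.standard

namespace Groth.Agent.Lib.helper13.NPCH

open Groth.Agent.Lib.helper3.PerfHomLoc Groth.Agent.Lib.helper3.PCHomLoc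
open Groth.Agent.Lib.helper23.PCohCore Groth.Agent.Lib.helper23.DRingPC
open Groth.Agent.Lib.helper13.PushPerf

variable {X Y Z : Scheme.{u}}

/-- the class of morphisms affine-locally `m`-pseudo-coherent, as a `HasRingHomProperty`. -/
instance hasRingHomProperty_affineLocally (m : ℤ) :
    HasRingHomProperty (affineLocally (@NPCH m)) (@NPCH m) where
  isLocal_ringHomProperty := npch_isLocal m
  eq_affineLocally' := rfl

lemma locallyOfFiniteType_of_affineLocally (f : X ⟶ Y) (m : ℤ)
    (h : affineLocally (@NPCH m) f) : LocallyOfFiniteType f := by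
  rw [HasRingHomProperty.iff_appLE (P := @LocallyOfFiniteType)]
  intro U V e
  exact finiteType_of_npch' _
    (HasRingHomProperty.appLE (P := affineLocally (@NPCH m)) f h U V e)

/-- **`n`-pseudo-coherent morphisms, affine-locally** -/
theorem isNPseudoCoherent_iff_affineLocally (f : X ⟶ Y) (m : ℤ) :
    DerSch.IsNPseudoCoherent f m ↔ affineLocally (@NPCH m) f := by
  constructor
  · intro h
    rw [HasRingHomProperty.iff_exists_appLE (P := affineLocally (@NPCH m))
      (npch_stableUnderCompositionWithLocalizationAway m).left]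
    intro x
    obtain ⟨U, V, hle, n, φ, hxU, hc, hpc⟩ := exists_chart' f h x
    exact ⟨V, U, hxU, hle, n, φ, hc.2, hc.1, (chartPC_unitCx_iff U.1 U.2 V.1 φ hc.1 m).1 hpc⟩
  · intro h
    haveI := locallyOfFiniteType_of_affineLocally f m h
    refine isPseudoCoherentRel_unitCx_of_forall f m fun U V hle => ?_
    obtain ⟨n, φ, hC, hφ, hpc⟩ :=
      HasRingHomProperty.appLE (P := affineLocally (@NPCH m)) f h V U hle
    exact ⟨n, φ, ⟨hφ, hC⟩, hpc⟩

/-- `m`-pseudo-coherent morphisms as a morphism property. -/
def npcMor (m : ℤ) : MorphismProperty Scheme.{u} := fun _ _ f => DerSch.IsNPseudoCoherent f m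

theorem npcMor_eq (m : ℤ) : npcMor.{u} m = affineLocally (@NPCH m) := by
  ext X Y f
  exact isNPseudoCoherent_iff_affineLocally f m

instance (m : ℤ) : HasRingHomProperty (npcMor.{u} m) (@NPCH m) where
  isLocal_ringHomProperty := npch_isLocal m
  eq_affineLocally' := npcMor_eq m

theorem isNPseudoCoherent_mono (f : X ⟶ Y) {m m' : ℤ} (hm : m ≤ m')
    (h : DerSch.IsNPseudoCoherent f m) : DerSch.IsNPseudoCoherent f m' := by
  rw [isNPseudoCoherent_iff_affineLocally, affineLocally_iff_affineOpens_le] at h ⊢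
  intro U V e
  exact (h U V e).mono hm

theorem npch_appLE (f : X ⟶ Y) {m : ℤ} (h : DerSch.IsNPseudoCoherent f m)
    {U : X.Opens} {V : Y.Opens} (hU : IsAffineOpen U) (hV : IsAffineOpen V) (e : U ≤ f ⁻¹ᵁ V) :
    NPCH m (f.appLE V U e).hom :=
  HasRingHomProperty.appLE (P := npcMor m) f h ⟨V, hV⟩ ⟨U, hU⟩ e

/-- **S6209** -/
theorem isNPseudoCoherent_comp (f : X ⟶ Y) (g : Y ⟶ Z) (r s : ℤ)
    (hf : DerSch.IsNPseudoCoherent f r) (hg : DerSch.IsNPseudoCoherent g s) :
    DerSch.IsNPseudoCoherent (f ≫ g) (max r s) := by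
  haveI : (npcMor.{u} (max r s)).IsStableUnderComposition :=
    HasRingHomProperty.stableUnderComposition (P := npcMor.{u} (max r s))
      (npch_stableUnderComposition (max r s))
  exact (npcMor.{u} (max r s)).comp_mem f g
    (isNPseudoCoherent_mono f (le_max_left r s) hf)
    (isNPseudoCoherent_mono g (le_max_right r s) hg)

end Groth.Agent.Lib.helper13.NPCH
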