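import Mathlib
import Groth.Agent.Lib.Helper13.NPCH1

/-!
# helper13: `m`-pseudo-coherent ring maps and flat base change / faithfully flat descent
-/

set_option autoImplicit false
universe u
open CategoryTheory CategoryTheory.Limits TensorProduct

attribute [local instance] HasDerivedCategory.standard

namespace Groth.Agent.Lib.helper13.NPCH

open Groth.Agent.Lib.helper23.PCohCore Groth.Agent.Lib.helper23.DRingPC
open Groth.Agent.Lib.helper23.ExtSc Groth.Agent.Lib.helper23.BaseChg
open Groth.Agent.Lib.helper3.PCHomLoc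

section Pushout

variable {R S T T' : Type u} [CommRing R] [CommRing S] [CommRing T] [CommRing T']
  [Algebra R S] [Algebra R T] [Algebra R T'] [Algebra S T'] [Algebra T T']
  [IsScalarTower R S T'] [IsScalarTower R T T']

/-- the presentation of the pushout induced by a presentation of `T`. -/
noncomputable def pushPres {n : ℕ} (φ : MvPolynomial (Fin n) R →+* T) :
    MvPolynomial (Fin n) S →+* T' :=
  MvPolynomial.eval₂Hom (algebraMap S T') (fun i => algebraMap T T' (φ (MvPolynomial.X i)))

lemma pushPres_C {n : ℕ} (φ : MvPolynomial (Fin n) R →+* T) (s : S) :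
    pushPres (S := S) (T' := T') φ (MvPolynomial.C s) = algebraMap S T' s := by
  simp [pushPres]

lemma pushPres_comp_C {n : ℕ} (φ : MvPolynomial (Fin n) R →+* T) :
    (pushPres (S := S) (T' := T') φ).comp MvPolynomial.C = algebraMap S T' := by
  ext s
  exact pushPres_C φ s

lemma pushPres_map {n : ℕ} (φ : MvPolynomial (Fin n) R →+* T)
    (hC : φ.comp MvPolynomial.C = algebraMap R T) (p : MvPolynomial (Fin n) R) :
    pushPres (S := S) (T' := T') φ (MvPolynomial.map (algebraMap R S) p) =
      algebraMap T T' (φ p) := by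
  have : (pushPres (S := S) (T' := T') φ).comp (MvPolynomial.map (algebraMap R S)) =
      (algebraMap T T').comp φ := by
    apply MvPolynomial.ringHom_ext
    · intro r
      have h1 : φ (MvPolynomial.C r) = algebraMap R T r := DFunLike.congr_fun hC r
      simp only [RingHom.comp_apply, MvPolynomial.map_C, pushPres_C, h1]
      rw [← IsScalarTower.algebraMap_apply, ← IsScalarTower.algebraMap_apply]
    · intro i
      simp [pushPres]
  exact DFunLike.congr_fun this p

end Pushout


section Main

attribute [local instance] MvPolynomial.algebraMvPolynomial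

variable {R S T T' : Type u} [CommRing R] [CommRing S] [CommRing T] [CommRing T']
  [Algebra R S] [Algebra R T] [Algebra R T'] [Algebra S T'] [Algebra T T']
  [IsScalarTower R S T'] [IsScalarTower R T T'] [Algebra.IsPushout R S T T']

lemma flat_mvPolynomial (n : ℕ) [Module.Flat R S] :
    Module.Flat (MvPolynomial (Fin n) R) (MvPolynomial (Fin n) S) :=
  Module.Flat.isBaseChange (R := R) (S := MvPolynomial (Fin n) R) (M := S)
    (MvPolynomial (Fin n) S)
    (Algebra.IsPushout.out (R := R) (S := MvPolynomial (Fin n) R) (R' := S)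
      (S' := MvPolynomial (Fin n) S))

lemma faithfullyFlat_mvPolynomial (n : ℕ) [Module.FaithfullyFlat R S] :
    Module.FaithfullyFlat (MvPolynomial (Fin n) R) (MvPolynomial (Fin n) S) :=
  Module.FaithfullyFlat.of_linearEquiv (R := MvPolynomial (Fin n) R)
    (M := MvPolynomial (Fin n) R ⊗[R] S)
    (IsBaseChange.equiv (Algebra.IsPushout.out (R := R) (S := MvPolynomial (Fin n) R) (R' := S)
      (S' := MvPolynomial (Fin n) S))).symm

/-- for a presentation `φ` of `T` over `R`, the pushout `T'` is `S[x] ⊗_{R[x]} T`. -/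
theorem nonempty_extend_iso {n : ℕ} (φ : MvPolynomial (Fin n) R →+* T)
    (hC : φ.comp MvPolynomial.C = algebraMap R T) :
    Nonempty (ModuleCat.of (MvPolynomial (Fin n) S) (MvPolynomial (Fin n) S ⊗[MvPolynomial (Fin n) R]
        ((ModuleCat.restrictScalars.{u} φ).obj (ModuleCat.of T T))) ≅
      (ModuleCat.restrictScalars.{u} (pushPres (S := S) (T' := T') φ)).obj (ModuleCat.of T' T')) := by
  letI a1 : Algebra (MvPolynomial (Fin n) R) T := φ.toAlgebra
  letI a2 : Algebra (MvPolynomial (Fin n) S) T' := (pushPres (S := S) (T' := T') φ).toAlgebra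
  letI a3 : Algebra (MvPolynomial (Fin n) R) T' := ((algebraMap T T').comp φ).toAlgebra
  haveI t1 : IsScalarTower R (MvPolynomial (Fin n) R) T := IsScalarTower.of_algebraMap_eq (fun r => by
    rw [MvPolynomial.algebraMap_eq]
    exact (DFunLike.congr_fun hC r).symm)
  haveI t2 : IsScalarTower (MvPolynomial (Fin n) R) T T' := IsScalarTower.of_algebraMap_eq (fun _ => rfl)
  haveI t3 : IsScalarTower (MvPolynomial (Fin n) R) (MvPolynomial (Fin n) S) T' :=
    IsScalarTower.of_algebraMap_eq (fun p => (pushPres_map φ hC p).symm)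
  haveI t4 : IsScalarTower S (MvPolynomial (Fin n) S) T' := IsScalarTower.of_algebraMap_eq (fun s => by
    rw [MvPolynomial.algebraMap_eq]
    exact (pushPres_C φ s).symm)
  haveI t5 : IsScalarTower R (MvPolynomial (Fin n) S) T' := IsScalarTower.of_algebraMap_eq (fun r => by
    rw [IsScalarTower.algebraMap_apply R S T', IsScalarTower.algebraMap_apply S (MvPolynomial (Fin n) S) T',
      ← IsScalarTower.algebraMap_apply R S (MvPolynomial (Fin n) S)])
  haveI hpo : Algebra.IsPushout (MvPolynomial (Fin n) R) (MvPolynomial (Fin n) S) T T' := by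
    have h0 : Algebra.IsPushout R T S T' := Algebra.IsPushout.symm inferInstance
    have h1 : Algebra.IsPushout (MvPolynomial (Fin n) R) T (MvPolynomial (Fin n) S) T' :=
      (Algebra.IsPushout.comp_iff R (MvPolynomial (Fin n) R) S (MvPolynomial (Fin n) S)).1 h0
    exact Algebra.IsPushout.symm h1
  have hbc : IsBaseChange (MvPolynomial (Fin n) S)
      (IsScalarTower.toAlgHom (MvPolynomial (Fin n) R) T T').toLinearMap := hpo.out
  let e0 : ((ModuleCat.restrictScalars.{u} φ).obj (ModuleCat.of T T)) ≃ₗ[MvPolynomial (Fin n) R] T :=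
    { toFun := fun x => x
      invFun := fun x => x
      map_add' := fun _ _ => rfl
      map_smul' := fun _ _ => rfl
      left_inv := fun _ => rfl
      right_inv := fun _ => rfl }
  let e1 : (MvPolynomial (Fin n) S ⊗[MvPolynomial (Fin n) R]
        ((ModuleCat.restrictScalars.{u} φ).obj (ModuleCat.of T T))) ≃ₗ[MvPolynomial (Fin n) S]
      (MvPolynomial (Fin n) S ⊗[MvPolynomial (Fin n) R] T) :=
    TensorProduct.AlgebraTensorModule.congr (LinearEquiv.refl _ _) e0
  let e2 : T' ≃ₗ[MvPolynomial (Fin n) S]
      ((ModuleCat.restrictScalars.{u} (pushPres (S := S) (T' := T') φ)).obj (ModuleCat.of T' T')) :=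
    { toFun := fun x => x
      invFun := fun x => x
      map_add' := fun _ _ => rfl
      map_smul' := fun _ _ => rfl
      left_inv := fun _ => rfl
      right_inv := fun _ => rfl }
  exact ⟨(e1.trans (hbc.equiv.trans e2)).toModuleIso⟩


lemma pushPres_surjective {n : ℕ} (φ : MvPolynomial (Fin n) R →+* T)
    (hC : φ.comp MvPolynomial.C = algebraMap R T) (hφ : Function.Surjective φ) :
    Function.Surjective (pushPres (S := S) (T' := T') φ) := by
  have hbc : IsBaseChange S (IsScalarTower.toAlgHom R T T').toLinearMap :=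
    Algebra.IsPushout.out
  intro x
  rw [← RingHom.mem_range]
  refine hbc.inductionOn x (fun x => x ∈ (pushPres (S := S) (T' := T') φ).range)
    (Subring.zero_mem _) (fun t => ?_) (fun s x hx => ?_) (fun x y hx hy => Subring.add_mem _ hx hy)
  · obtain ⟨p, rfl⟩ := hφ t
    exact ⟨MvPolynomial.map (algebraMap R S) p, pushPres_map φ hC p⟩
  · rw [Algebra.smul_def]
    exact Subring.mul_mem _ ⟨MvPolynomial.C s, pushPres_C φ s⟩ hx

/-- **flat base change of `m`-pseudo-coherent ring maps** -/
theorem npch_of_isPushout_of_flat [Module.Flat R S] {m : ℤ} (h : NPCH m (algebraMap R T)) :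
    NPCH m (algebraMap S T') := by
  obtain ⟨n, φ, hC, hφ, hpc⟩ := h
  haveI := flat_mvPolynomial (R := R) (S := S) n
  refine ⟨n, pushPres φ, pushPres_comp_C φ, pushPres_surjective φ hC hφ, ?_⟩
  obtain ⟨e⟩ := nonempty_extend_iso (S := S) (T' := T') φ hC
  exact npc_single_of_iso (npc_single_baseChange (A := MvPolynomial (Fin n) R)
    (B := MvPolynomial (Fin n) S) m _ hpc) e

/-- **faithfully flat descent of `m`-pseudo-coherent ring maps** -/
theorem npch_of_isPushout_of_faithfullyFlat [Module.FaithfullyFlat R S] [Algebra.FiniteType R T]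
    {m : ℤ} (h : NPCH m (algebraMap S T')) : NPCH m (algebraMap R T) := by
  obtain ⟨n, α, hα⟩ := exists_presentation (R := R) (A := T)
  have hC : (α : MvPolynomial (Fin n) R →+* T).comp MvPolynomial.C = algebraMap R T :=
    algHom_comp_C α
  refine ⟨n, (α : MvPolynomial (Fin n) R →+* T), hC, hα, ?_⟩
  haveI := faithfullyFlat_mvPolynomial (R := R) (S := S) n
  have h1 : NPCHom m (pushPres (S := S) (T' := T') (α : MvPolynomial (Fin n) R →+* T)) :=
    (npch_iff_of_presentation _ _ (pushPres_comp_C _) (pushPres_surjective _ hC hα) m).1 h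
  obtain ⟨e⟩ := nonempty_extend_iso (S := S) (T' := T') (α : MvPolynomial (Fin n) R →+* T) hC
  have h2 := npc_single_of_iso h1 e.symm
  set M : ModuleCat.{u} (MvPolynomial (Fin n) R) :=
    (ModuleCat.restrictScalars.{u} (α : MvPolynomial (Fin n) R →+* T)).obj (ModuleCat.of T T) with hM
  let K : DRing.Cx (MvPolynomial (Fin n) R) :=
    (CochainComplex.singleFunctor (ModuleCat.{u} (MvPolynomial (Fin n) R)) 0).obj M
  have e3 : DRing.toD (((ModuleCat.extendScalars.{u, u, u}
      (algebraMap (MvPolynomial (Fin n) R) (MvPolynomial (Fin n) S))).mapHomologicalComplex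
        (ComplexShape.up ℤ)).obj K) ≅
      (DerivedCategory.singleFunctor (ModuleCat.{u} (MvPolynomial (Fin n) S)) 0).obj
        (ModuleCat.of (MvPolynomial (Fin n) S)
          (MvPolynomial (Fin n) S ⊗[MvPolynomial (Fin n) R] M)) :=
    DerivedCategory.Q.mapIso ((HomologicalComplex.singleMapHomologicalComplex
      (ModuleCat.extendScalars.{u, u, u}
        (algebraMap (MvPolynomial (Fin n) R) (MvPolynomial (Fin n) S)))
      (ComplexShape.up ℤ) 0).app M) ≪≫
    ((DerivedCategory.singleFunctorIsoCompQ (ModuleCat.{u} (MvPolynomial (Fin n) S)) 0).app _).symm ≪≫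
    (DerivedCategory.singleFunctor (ModuleCat.{u} (MvPolynomial (Fin n) S)) 0).mapIso
      (extendObjEquiv (B := MvPolynomial (Fin n) S) M).toModuleIso
  have h3 := npc_of_faithfullyFlat (B := MvPolynomial (Fin n) S) K m (h2.of_iso e3.symm)
  exact h3.of_iso ((DerivedCategory.singleFunctorIsoCompQ
    (ModuleCat.{u} (MvPolynomial (Fin n) R)) 0).app M).symm

end Main

end Groth.Agent.Lib.helper13.NPCH
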