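import Mathlib
import Groth.Agent.Lib.Helper13.NPCH2
import Groth.Agent.Lib.Helper13.NPCH3

/-!
# helper13: flat base change for morphism properties local at source and target; S6226
-/

set_option autoImplicit false
universe u
open CategoryTheory CategoryTheory.Limits AlgebraicGeometry TopologicalSpace Opposite TensorProduct

attribute [local instance] HasDerivedCategory.standard

namespace Groth.Agent.Lib.helper13.NPCH

section General

variable (P : MorphismProperty Scheme.{u}) [IsZariskiLocalAtTarget P] [IsZariskiLocalAtSource P]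

/-- all affine but the source of `g` -/
lemma pullback_fst_of_flat_step1
    (H : ∀ {R S T : CommRingCat.{u}} (φ : R ⟶ S) (ψ : R ⟶ T), Flat (Spec.map φ) → P (Spec.map ψ) →
      P (pullback.fst (Spec.map φ) (Spec.map ψ)))
    {R A : CommRingCat.{u}} {Y : Scheme.{u}} (φ : R ⟶ A) (g : Y ⟶ Spec R)
    (hφ : Flat (Spec.map φ)) (hg : P g) : P (pullback.fst (Spec.map φ) g) := by
  rw [IsZariskiLocalAtSource.iff_of_openCover (P := P)
    (Scheme.Pullback.openCoverOfRight Y.affineCover (Spec.map φ) g)]
  intro i
  have key : (Scheme.Pullback.openCoverOfRight Y.affineCover (Spec.map φ) g).f i ≫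
      pullback.fst (Spec.map φ) g = pullback.fst (Spec.map φ) (Y.affineCover.f i ≫ g) := by
    rw [Scheme.Pullback.openCoverOfRight_f]
    exact (pullback.lift_fst _ _ _).trans (Category.comp_id _)
  rw [key]
  have aux : ∀ {T : CommRingCat.{u}} (j : Spec T ⟶ Y) [IsOpenImmersion j],
      P (pullback.fst (Spec.map φ) (j ≫ g)) := by
    intro T j _
    obtain ⟨ψ, hψ⟩ := Spec.map_surjective (j ≫ g)
    rw [← hψ]
    exact H φ ψ hφ (hψ ▸ IsZariskiLocalAtSource.comp hg _)
  exact @aux _ (Y.affineCover.f i) (Y.affineCover.map_prop i)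


/-- affine base -/
lemma pullback_fst_of_flat_step2
    (H : ∀ {R S T : CommRingCat.{u}} (φ : R ⟶ S) (ψ : R ⟶ T), Flat (Spec.map φ) → P (Spec.map ψ) →
      P (pullback.fst (Spec.map φ) (Spec.map ψ)))
    {R : CommRingCat.{u}} {X Y : Scheme.{u}} (f : X ⟶ Spec R) (g : Y ⟶ Spec R)
    [Flat f] (hg : P g) : P (pullback.fst f g) := by
  have aux : ∀ {A : CommRingCat.{u}} (j : Spec A ⟶ X) [IsOpenImmersion j],
      P (pullback.snd (pullback.fst f g) j) := by
    intro A j _
    let e := pullbackSymmetry (pullback.fst f g) j ≪≫ pullbackRightPullbackFstIso f g j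
    have he : e.hom ≫ pullback.fst (j ≫ f) g = pullback.snd (pullback.fst f g) j := by
      simp [e]
    rw [← he, P.cancel_left_of_respectsIso]
    obtain ⟨φ, hφ⟩ := Spec.map_surjective (j ≫ f)
    have hfl : Flat (Spec.map φ) := hφ ▸ inferInstance
    have key : ∀ (k : Spec A ⟶ Spec R), Spec.map φ = k → P (pullback.fst k g) := by
      rintro _ rfl
      exact pullback_fst_of_flat_step1 P H φ g hfl hg
    exact key _ hφ
  rw [IsZariskiLocalAtTarget.iff_of_openCover (P := P) X.affineCover]
  intro i
  exact @aux _ (X.affineCover.f i) (X.affineCover.map_prop i)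

/-- **flat base change for a property local at source and target, from the affine case** -/
theorem pullback_fst_of_flat
    (H : ∀ {R S T : CommRingCat.{u}} (φ : R ⟶ S) (ψ : R ⟶ T), Flat (Spec.map φ) → P (Spec.map ψ) →
      P (pullback.fst (Spec.map φ) (Spec.map ψ)))
    {X Y S : Scheme.{u}} (f : X ⟶ S) (g : Y ⟶ S) [Flat f] (hg : P g) : P (pullback.fst f g) := by
  have aux : ∀ {A : CommRingCat.{u}} (j : Spec A ⟶ S) [IsOpenImmersion j],
      P (pullback.snd (pullback.fst f g) (pullback.fst f j)) := by
    intro A j _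
    let e : pullback (pullback.fst f g) (pullback.fst f j) ≅
        pullback (pullback.snd f j) (pullback.fst j g) :=
      pullbackSymmetry _ _ ≪≫ pullbackRightPullbackFstIso f g (pullback.fst f j) ≪≫
        pullback.congrHom pullback.condition rfl ≪≫
        (pullbackRightPullbackFstIso j g (pullback.snd f j)).symm
    have he : e.hom ≫ pullback.fst (pullback.snd f j) (pullback.fst j g) =
        pullback.snd (pullback.fst f g) (pullback.fst f j) := by
      simp only [e, Iso.trans_hom, Iso.symm_hom, pullback.congrHom_hom, Category.assoc,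
        pullbackRightPullbackFstIso_inv_fst]
      erw [pullback.lift_fst]
      simp
    rw [← he, P.cancel_left_of_respectsIso]
    exact pullback_fst_of_flat_step2 P H _ _
      (IsZariskiLocalAtTarget.of_isPullback (IsPullback.of_hasPullback j g).flip hg)
  rw [IsZariskiLocalAtTarget.iff_of_openCover (P := P) (S.affineCover.pullback₁ f)]
  intro i
  exact @aux _ (S.affineCover.f i) (S.affineCover.map_prop i)

end General

section NPC

attribute [local instance] Algebra.TensorProduct.rightAlgebra

lemma npcMor_pullback_fst_affine (m : ℤ) {R S T : CommRingCat.{u}} (φ : R ⟶ S) (ψ : R ⟶ T)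
    (hφ : Flat (Spec.map φ)) (hψ : npcMor m (Spec.map ψ)) :
    npcMor m (pullback.fst (Spec.map φ) (Spec.map ψ)) := by
  algebraize [φ.hom, ψ.hom]
  haveI hfl : Module.Flat R S := (HasRingHomProperty.Spec_iff (P := @Flat)).1 hφ
  have hpc : NPCH m (algebraMap R T) := (HasRingHomProperty.Spec_iff (P := npcMor m)).1 hψ
  have h1 : NPCH m (algebraMap S (S ⊗[R] T)) := npch_of_isPushout_of_flat hpc
  show npcMor m (pullback.fst (Spec.map (CommRingCat.ofHom (algebraMap R S)))
    (Spec.map (CommRingCat.ofHom (algebraMap R T))))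
  rw [← pullbackSpecIso_hom_fst' R S T, (npcMor m).cancel_left_of_respectsIso,
    HasRingHomProperty.Spec_iff (P := npcMor m)]
  exact h1

variable {X Y Y' : Scheme.{u}}

/-- **S6226** -/
theorem isNPseudoCoherent_baseChange_of_flat (f : X ⟶ Y) (n : ℤ)
    (hf : DerSch.IsNPseudoCoherent f n) (h : Y' ⟶ Y) [Flat h] :
    DerSch.IsNPseudoCoherent (pullback.snd f h) n := by
  have h1 : npcMor n (pullback.fst h f) :=
    pullback_fst_of_flat (npcMor n) (npcMor_pullback_fst_affine n) h f hf
  have h2 : npcMor n ((pullbackSymmetry f h).hom ≫ pullback.fst h f) :=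
    ((npcMor n).cancel_left_of_respectsIso _ _).2 h1
  rwa [pullbackSymmetry_hom_comp_fst] at h2

end NPC

end Groth.Agent.Lib.helper13.NPCH
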