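import Mathlib
import Groth.Agent.Lib.Helper13.NPCH4

/-!
# helper13: fpqc descent for morphism properties local at source and target and stable under
flat base change; S6227
-/

set_option autoImplicit false
universe u
open CategoryTheory CategoryTheory.Limits AlgebraicGeometry TopologicalSpace Opposite TensorProduct

attribute [local instance] HasDerivedCategory.standard

namespace Groth.Agent.Lib.helper13.NPCH

section General

variable (P : MorphismProperty Scheme.{u}) [IsZariskiLocalAtTarget P] [IsZariskiLocalAtSource P]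

/-- affine `X` and `S` -/
lemma descent_step1
    (H : ∀ {R S T : CommRingCat.{u}} (φ : R ⟶ S) (ψ : R ⟶ T), Flat (Spec.map φ) →
      Surjective (Spec.map φ) → LocallyOfFiniteType (Spec.map ψ) →
      P (pullback.fst (Spec.map φ) (Spec.map ψ)) → P (Spec.map ψ))
    {R A : CommRingCat.{u}} {Y : Scheme.{u}} (φ : R ⟶ A) (g : Y ⟶ Spec R)
    (hφ : Flat (Spec.map φ)) (hφ' : Surjective (Spec.map φ)) [LocallyOfFiniteType g]
    (hfst : P (pullback.fst (Spec.map φ) g)) : P g := by
  have aux : ∀ {T : CommRingCat.{u}} (j : Spec T ⟶ Y) [IsOpenImmersion j], P (j ≫ g) := by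
    intro T j _
    have heq : pullback.fst (Spec.map φ) (j ≫ g) =
        pullback.map _ _ _ _ (𝟙 _) j (𝟙 _) (by simp) (by simp) ≫
          pullback.fst (Spec.map φ) g := (pullback.lift_fst _ _ _).symm
    have h1 : P (pullback.fst (Spec.map φ) (j ≫ g)) :=
      heq ▸ IsZariskiLocalAtSource.comp hfst _
    obtain ⟨ψ, hψ⟩ := Spec.map_surjective (j ≫ g)
    have hlft : LocallyOfFiniteType (Spec.map ψ) := hψ ▸ inferInstance
    have key : ∀ (k : Spec T ⟶ Spec R), Spec.map ψ = k → P (pullback.fst (Spec.map φ) k) → P k := by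
      rintro _ rfl h
      exact H φ ψ hφ hφ' hlft h
    exact key _ hψ h1
  rw [IsZariskiLocalAtSource.iff_of_openCover (P := P) Y.affineCover]
  intro i
  exact @aux _ (Y.affineCover.f i) (Y.affineCover.map_prop i)


/-- affine base -/
lemma descent_step2
    (hbc : ∀ {X Y S : Scheme.{u}} (f : X ⟶ S) (g : Y ⟶ S) [Flat f], P g → P (pullback.fst f g))
    (H : ∀ {R S T : CommRingCat.{u}} (φ : R ⟶ S) (ψ : R ⟶ T), Flat (Spec.map φ) →
      Surjective (Spec.map φ) → LocallyOfFiniteType (Spec.map ψ) →
      P (pullback.fst (Spec.map φ) (Spec.map ψ)) → P (Spec.map ψ))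
    {R : CommRingCat.{u}} {X Y : Scheme.{u}} (f : X ⟶ Spec R) (g : Y ⟶ Spec R)
    [Flat f] [Surjective f] [QuasiCompact f] [LocallyOfFiniteType g]
    (hfst : P (pullback.fst f g)) : P g := by
  haveI : CompactSpace X := by
    simpa [← quasiCompact_iff_compactSpace f] using (inferInstance : QuasiCompact f)
  obtain ⟨W, p, hsurj, hli, hW⟩ := X.exists_hom_isAffine_of_isZariskiLocalAtSource @IsLocalIso
  haveI : Flat p := IsLocalIso.le_of_isZariskiLocalAtSource @Flat _ _ p hli
  haveI : Surjective p := hsurj
  let q : Spec Γ(W, ⊤) ⟶ X := W.isoSpec.inv ≫ p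
  haveI : Flat q := inferInstanceAs (Flat (W.isoSpec.inv ≫ p))
  haveI : Surjective q := inferInstanceAs (Surjective (W.isoSpec.inv ≫ p))
  have h1 : P (pullback.fst (q ≫ f) g) := by
    rw [← pullbackRightPullbackFstIso_inv_fst f g q, P.cancel_left_of_respectsIso]
    exact hbc q (pullback.fst f g) hfst
  obtain ⟨φ, hφ⟩ := Spec.map_surjective (q ≫ f)
  have hfl : Flat (Spec.map φ) := hφ ▸ inferInstance
  have hsj : Surjective (Spec.map φ) := hφ ▸ inferInstance
  have key : ∀ (k : Spec Γ(W, ⊤) ⟶ Spec R), Spec.map φ = k → P (pullback.fst k g) → P g := by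
    rintro _ rfl h
    exact descent_step1 P H φ g hfl hsj h
  exact key _ hφ h1


set_option backward.isDefEq.respectTransparency false in
/-- **fpqc descent for a property local at source and target, stable under flat base change,
from the affine case** -/
theorem descent_of_affine
    (hbc : ∀ {X Y S : Scheme.{u}} (f : X ⟶ S) (g : Y ⟶ S) [Flat f], P g → P (pullback.fst f g))
    (H : ∀ {R S T : CommRingCat.{u}} (φ : R ⟶ S) (ψ : R ⟶ T), Flat (Spec.map φ) →
      Surjective (Spec.map φ) → LocallyOfFiniteType (Spec.map ψ) →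
      P (pullback.fst (Spec.map φ) (Spec.map ψ)) → P (Spec.map ψ))
    {X Y S : Scheme.{u}} (f : X ⟶ S) (g : Y ⟶ S)
    [Flat f] [Surjective f] [QuasiCompact f] [LocallyOfFiniteType g]
    (hfst : P (pullback.fst f g)) : P g := by
  have aux : ∀ {A : CommRingCat.{u}} (ι : Spec A ⟶ S) [IsOpenImmersion ι],
      P (pullback.snd g ι) := by
    intro A ι _
    let e : pullback (pullback.snd f ι) (pullback.snd g ι) ≅
        pullback (pullback.fst f g) (pullback.fst f ι) :=
      pullbackLeftPullbackSndIso f ι (pullback.snd g ι) ≪≫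
        pullback.congrHom rfl pullback.condition.symm ≪≫
        (pullbackAssoc f g g ι).symm ≪≫ pullback.congrHom pullback.condition.symm rfl ≪≫
        (pullbackRightPullbackFstIso f ι (pullback.fst f g)).symm
    have heq : e.hom ≫ pullback.snd (pullback.fst f g) (pullback.fst f ι) =
        pullback.fst (pullback.snd f ι) (pullback.snd g ι) := by
      apply pullback.hom_ext <;> simp [e, pullback.condition]
    refine descent_step2 P hbc H (pullback.snd f ι) (pullback.snd g ι) ?_
    rw [← heq, P.cancel_left_of_respectsIso]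
    exact IsZariskiLocalAtTarget.of_isPullback (iY := pullback.fst f ι)
      (IsPullback.of_hasPullback _ _) hfst
  rw [IsZariskiLocalAtTarget.iff_of_openCover (P := P) S.affineCover]
  intro i
  exact @aux _ (S.affineCover.f i) (S.affineCover.map_prop i)

end General

section NPC

attribute [local instance] Algebra.TensorProduct.rightAlgebra

lemma npcMor_descent_affine (m : ℤ) {R S T : CommRingCat.{u}} (φ : R ⟶ S) (ψ : R ⟶ T)
    (hφ : Flat (Spec.map φ)) (hφ' : Surjective (Spec.map φ))
    (hψ : LocallyOfFiniteType (Spec.map ψ))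
    (hfst : npcMor m (pullback.fst (Spec.map φ) (Spec.map ψ))) : npcMor m (Spec.map ψ) := by
  algebraize [φ.hom, ψ.hom]
  haveI hff : Module.FaithfullyFlat R S := (flat_and_surjective_SpecMap_iff φ).1 ⟨hφ, hφ'⟩
  haveI hft : Algebra.FiniteType R T :=
    (HasRingHomProperty.Spec_iff (P := @LocallyOfFiniteType)).1 hψ
  have h1 : npcMor m (pullback.fst (Spec.map (CommRingCat.ofHom (algebraMap R S)))
    (Spec.map (CommRingCat.ofHom (algebraMap R T)))) := hfst
  rw [← pullbackSpecIso_hom_fst' R S T, (npcMor m).cancel_left_of_respectsIso,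
    HasRingHomProperty.Spec_iff (P := npcMor m)] at h1
  rw [HasRingHomProperty.Spec_iff (P := npcMor m)]
  exact npch_of_isPushout_of_faithfullyFlat (S := S) (T' := S ⊗[R] T) h1

variable {X Y Y' : Scheme.{u}}

/-- **S6227** -/
theorem isNPseudoCoherent_of_faithfullyFlat_baseChange (f : X ⟶ Y) [LocallyOfFiniteType f] (n : ℤ)
    (h : Y' ⟶ Y) [Flat h] [Surjective h] [QuasiCompact h]
    (hf' : DerSch.IsNPseudoCoherent (pullback.snd f h) n) : DerSch.IsNPseudoCoherent f n := by
  have h1 : npcMor n ((pullbackSymmetry h f).hom ≫ pullback.snd f h) :=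
    ((npcMor n).cancel_left_of_respectsIso _ _).2 hf'
  rw [pullbackSymmetry_hom_comp_snd] at h1
  exact descent_of_affine (npcMor n)
    (fun f g _ hg => pullback_fst_of_flat (npcMor n) (npcMor_pullback_fst_affine n) f g hg)
    (npcMor_descent_affine n) h f h1

end NPC

end Groth.Agent.Lib.helper13.NPCH
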