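/-
Helper library (helper13): in a finitely generated field extension `E/K`, the algebraic closure of
`K` in `E` is finite over `K`.
-/
import Mathlib

set_option autoImplicit false

namespace Groth.Agent.Lib.helper13.Nag

open IntermediateField IntermediateField.algebraAdjoinAdjoin

/-- If `x` is algebraically independent over `M ⊇ K` and `a` is a `K`-linearly independent family
in `M`, then `a` is linearly independent over the subalgebra `K[x]`. -/
theorem linearIndependent_adjoin_of_algebraicIndependent {K M E σ ι : Type*} [Field K] [Field M]
    [Field E] [Algebra K M] [Algebra M E] [Algebra K E] [IsScalarTower K M E]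
    (x : σ → E) (hxM : AlgebraicIndependent M x) (a : ι → M) (ha : LinearIndependent K a) :
    LinearIndependent (Algebra.adjoin K (Set.range x)) (fun i => algebraMap M E (a i)) := by
  classical
  rw [linearIndependent_iff']
  intro t g hg i hi
  -- write `g i = aeval x (P i)`
  have hP : ∀ j, ∃ P : MvPolynomial σ K, MvPolynomial.aeval x P = (g j : E) := by
    intro j
    have h1 : ∀ e : E, e ∈ Algebra.adjoin K (Set.range x) →
        ∃ P : MvPolynomial σ K, MvPolynomial.aeval x P = e := by
      intro e he
      rw [Algebra.adjoin_range_eq_range_aeval] at he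
      exact he
    exact h1 _ (g j).2
  choose P hP using hP
  let Q : MvPolynomial σ M :=
    ∑ j ∈ t, MvPolynomial.C (a j) * MvPolynomial.map (algebraMap K M) (P j)
  have hQ : MvPolynomial.aeval x Q = 0 := by
    rw [map_sum, ← hg]
    refine Finset.sum_congr rfl (fun j _ => ?_)
    rw [map_mul, MvPolynomial.aeval_C, MvPolynomial.aeval_map_algebraMap, hP, mul_comm]
    rfl
  have hQ0 : Q = 0 := by
    have hinj := algebraicIndependent_iff_injective_aeval.mp hxM
    exact hinj (by rw [hQ, map_zero])
  have hcoef : ∀ m, ∑ j ∈ t, (MvPolynomial.coeff m (P j)) • a j = 0 := by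
    intro m
    have h1 := congrArg (MvPolynomial.coeff m) hQ0
    rw [MvPolynomial.coeff_sum, MvPolynomial.coeff_zero] at h1
    rw [← h1]
    refine Finset.sum_congr rfl (fun j _ => ?_)
    rw [MvPolynomial.coeff_C_mul, MvPolynomial.coeff_map, Algebra.smul_def, mul_comm]
  have hPi : P i = 0 := by
    ext m
    rw [MvPolynomial.coeff_zero]
    exact (linearIndependent_iff'.mp ha) t (fun j => MvPolynomial.coeff m (P j)) (hcoef m) i hi
  apply Subtype.ext
  rw [← hP i, hPi, map_zero]
  rfl

/-- In a finitely generated field extension `E/K`, the algebraic closure of `K` in `E` is finite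
over `K`. -/
theorem finite_algebraicClosure_of_essFiniteType (K E : Type*) [Field K] [Field E] [Algebra K E]
    [Algebra.EssFiniteType K E] : Module.Finite K (algebraicClosure K E) := by
  classical
  -- a finite transcendence basis
  obtain ⟨s, hs⟩ : ∃ s : Finset E, IsTranscendenceBasis K ((↑) : s → E) := by
    have ⟨s, hs⟩ := IntermediateField.fg_top K E
    have : Algebra.IsAlgebraic (Algebra.adjoin K (s : Set E)) E := by
      rw [← isAlgebraic_adjoin_iff_top, hs, Algebra.isAlgebraic_iff_isIntegral]
      refine Algebra.isIntegral_of_surjective topEquiv.surjective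
    have ⟨t, hts, ht⟩ := exists_isTranscendenceBasis_subset (R := K) (s : Set E)
    lift t to Finset E using s.finite_toSet.subset hts
    exact ⟨t, ht⟩
  haveI : Module.Finite (IntermediateField.adjoin K (s : Set E)) E := by
    apply +allowSynthFailures Algebra.finite_of_essFiniteType_of_isAlgebraic
    · exact .of_comp K _ _
    · convert! hs.isAlgebraic_field <;> simp
  have hxM : AlgebraicIndependent (algebraicClosure K E) ((↑) : s → E) :=
    hs.1.extendScalars (algebraicClosure K E)
  -- a basis of the algebraic closure
  let b := Module.Basis.ofVectorSpace K (algebraicClosure K E)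
  have h1 := linearIndependent_adjoin_of_algebraicIndependent ((↑) : s → E) hxM b
    b.linearIndependent
  have hrange : Set.range ((↑) : s → E) = (s : Set E) := Subtype.range_coe
  have h2 : LinearIndependent (Algebra.adjoin K (s : Set E))
      (fun i => algebraMap (algebraicClosure K E) E (b i)) := by
    convert h1 <;> exact hrange.symm
  have h3 : LinearIndependent (IntermediateField.adjoin K (s : Set E))
      (fun i => algebraMap (algebraicClosure K E) E (b i)) :=
    (LinearIndependent.iff_fractionRing (Algebra.adjoin K (s : Set E))
      (IntermediateField.adjoin K (s : Set E))).mp h2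
  haveI : Finite (Module.Basis.ofVectorSpaceIndex K (algebraicClosure K E)) :=
    h3.finite_of_isNoetherian
  exact Module.Finite.of_basis b

end Groth.Agent.Lib.helper13.Nag
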