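/-
Helper library (helper13): over a Nagata ring `R`, the integral closure of `R` in a field which is
essentially of finite type over `R` is a finite `R`-module; consequences for reduced algebras of
finite type (Stacks 03GH).
-/
import Mathlib
import Groth.Agent.Lib.Helper13.Nag1
import Groth.Agent.Lib.Helper13.PIns2

set_option autoImplicit false

namespace Groth.Agent.Lib.helper13.Nag

universe u

open Groth.Agent.Lib.helper13.PIns

/-- Integrality over a ring and over a quotient of it through which the algebra structure
factors. -/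
theorem isIntegral_quotient_iff {R L : Type*} [CommRing R] [CommRing L] [Algebra R L]
    (p : Ideal R) [Algebra (R ⧸ p) L] [IsScalarTower R (R ⧸ p) L] (x : L) :
    IsIntegral (R ⧸ p) x ↔ IsIntegral R x := by
  constructor
  · intro h
    haveI : Algebra.IsIntegral R (R ⧸ p) :=
      Algebra.isIntegral_of_surjective Ideal.Quotient.mk_surjective
    exact isIntegral_trans x h
  · intro h
    exact h.tower_top

/-- **Core finiteness.** Let `R` be a Noetherian ring all of whose quotients by primes are N-2
(i.e. a Nagata ring), and `L` a field essentially of finite type over `R`. Then the integral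
closure of `R` in `L` is a finite `R`-module. -/
theorem finite_integralClosure_of_essFiniteType_field {R L : Type u} [CommRing R]
    [IsNoetherianRing R] [Field L] [Algebra R L]
    (hN2 : ∀ (p : Ideal R) [p.IsPrime], CAlg.IsN2 (R ⧸ p))
    [hess : Algebra.EssFiniteType R L] : Module.Finite R (integralClosure R L) := by
  classical
  obtain ⟨p, hp⟩ : ∃ p : Ideal R, p = RingHom.ker (algebraMap R L) := ⟨_, rfl⟩
  haveI : p.IsPrime := hp ▸ RingHom.ker_isPrime _
  letI : Algebra (R ⧸ p) L :=
    (Ideal.Quotient.lift p (algebraMap R L) (fun a ha => by rwa [hp] at ha)).toAlgebra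
  haveI : IsScalarTower R (R ⧸ p) L := IsScalarTower.of_algebraMap_eq (fun r => rfl)
  have hinj : Function.Injective (algebraMap (R ⧸ p) L) := by
    rw [injective_iff_map_eq_zero]
    intro a ha
    obtain ⟨r, rfl⟩ := Ideal.Quotient.mk_surjective a
    have : algebraMap R L r = 0 := ha
    rw [Ideal.Quotient.eq_zero_iff_mem, hp]
    exact this
  haveI : FaithfulSMul (R ⧸ p) L := (faithfulSMul_iff_algebraMap_injective _ _).mpr hinj
  letI : Algebra (FractionRing (R ⧸ p)) L := FractionRing.liftAlgebra (R ⧸ p) L
  haveI : IsScalarTower (R ⧸ p) (FractionRing (R ⧸ p)) L :=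
    FractionRing.isScalarTower_liftAlgebra _ _
  haveI : IsScalarTower R (FractionRing (R ⧸ p)) L := IsScalarTower.of_algebraMap_eq (fun r => by
    rw [IsScalarTower.algebraMap_apply R (R ⧸ p) L,
      IsScalarTower.algebraMap_apply (R ⧸ p) (FractionRing (R ⧸ p)) L,
      ← IsScalarTower.algebraMap_apply R (R ⧸ p) (FractionRing (R ⧸ p))])
  haveI : Algebra.EssFiniteType (FractionRing (R ⧸ p)) L :=
    Algebra.EssFiniteType.of_comp R (FractionRing (R ⧸ p)) L
  haveI hfin : Module.Finite (FractionRing (R ⧸ p)) (algebraicClosure (FractionRing (R ⧸ p)) L) :=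
    finite_algebraicClosure_of_essFiniteType _ _
  have h1 : Module.Finite (R ⧸ p)
      (integralClosure (R ⧸ p) (algebraicClosure (FractionRing (R ⧸ p)) L)) :=
    IsN2.finite_integralClosure (hN2 p) (FractionRing (R ⧸ p))
      (algebraicClosure (FractionRing (R ⧸ p)) L)
  -- the map to the integral closure in `L`
  haveI : IsScalarTower (R ⧸ p) (algebraicClosure (FractionRing (R ⧸ p)) L) L :=
    IsScalarTower.of_algebraMap_eq (fun _ => rfl)
  let φ : algebraicClosure (FractionRing (R ⧸ p)) L →ₐ[R ⧸ p] L :=
    IsScalarTower.toAlgHom (R ⧸ p) (algebraicClosure (FractionRing (R ⧸ p)) L) L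
  have hφinj : Function.Injective φ := fun a b hab => Subtype.ext hab
  have hsurj : Function.Surjective φ.mapIntegralClosure := by
    rintro ⟨x, hx⟩
    have hxK : IsIntegral (FractionRing (R ⧸ p)) x := IsIntegral.tower_top hx
    have hxM : x ∈ algebraicClosure (FractionRing (R ⧸ p)) L :=
      mem_algebraicClosure_iff.mpr hxK.isAlgebraic
    refine ⟨⟨⟨x, hxM⟩, ?_⟩, Subtype.ext rfl⟩
    exact (isIntegral_algHom_iff φ hφinj).mp hx
  haveI h2 : Module.Finite (R ⧸ p) (integralClosure (R ⧸ p) L) :=
    Module.Finite.of_surjective φ.mapIntegralClosure.toLinearMap hsurj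
  haveI h3 : Module.Finite R (integralClosure (R ⧸ p) L) := Module.Finite.trans (R ⧸ p) _
  let ι : integralClosure (R ⧸ p) L →ₗ[R] integralClosure R L :=
    { toFun := fun x => ⟨x.1, (isIntegral_quotient_iff p x.1).mp x.2⟩
      map_add' := fun x y => rfl
      map_smul' := fun r x => rfl }
  refine Module.Finite.of_surjective ι ?_
  rintro ⟨x, hx⟩
  exact ⟨⟨x, (isIntegral_quotient_iff p x).mpr hx⟩, rfl⟩

/-- If `B` embeds into a finite product of `A`-algebras in each of which the integral closure of
the Noetherian ring `A` is finite, then the integral closure of `A` in `B` is finite. -/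
theorem finite_integralClosure_of_injective_pi {A B : Type*} [CommRing A] [IsNoetherianRing A]
    [CommRing B] [Algebra A B] {ι : Type*} [Finite ι] (L : ι → Type*) [∀ i, CommRing (L i)]
    [∀ i, Algebra A (L i)] (ψ : B →ₐ[A] (Π i, L i)) (hψ : Function.Injective ψ)
    (h : ∀ i, Module.Finite A (integralClosure A (L i))) :
    Module.Finite A (integralClosure A B) := by
  classical
  let χ : integralClosure A B →ₗ[A] (Π i, integralClosure A (L i)) :=
    LinearMap.pi (fun i => (((Pi.evalAlgHom A L i).comp ψ).mapIntegralClosure).toLinearMap)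
  have hχ : Function.Injective χ := by
    intro x y hxy
    apply Subtype.ext
    apply hψ
    funext i
    exact congrArg Subtype.val (congrFun hxy i)
  haveI : ∀ i, Module.Finite A (integralClosure A (L i)) := h
  haveI := Fintype.ofFinite ι
  exact Module.Finite.of_injective χ hχ

/-- Stacks 03GH for algebras of finite type: over a Nagata ring `R`, the integral closure of `R`
in a reduced `R`-algebra of finite type is finite. -/
theorem finite_integralClosure_of_finiteType_of_isReduced {R S : Type u} [CommRing R]
    [IsNoetherianRing R] (hN2 : ∀ (p : Ideal R) [p.IsPrime], CAlg.IsN2 (R ⧸ p))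
    [CommRing S] [IsReduced S] [Algebra R S] [Algebra.FiniteType R S] :
    Module.Finite R (integralClosure R S) := by
  classical
  haveI : IsNoetherianRing S := Algebra.FiniteType.isNoetherianRing R S
  haveI : Finite (minimalPrimes S) := (minimalPrimes.finite_of_isNoetherianRing S).to_subtype
  haveI hprime : ∀ q : minimalPrimes S, (q : Ideal S).IsPrime := fun q => q.2.1.1
  let L : minimalPrimes S → Type u := fun q => FractionRing (S ⧸ (q : Ideal S))
  let ψ : S →ₐ[R] (Π q, L q) := Pi.algHom R L (fun q =>
    (IsScalarTower.toAlgHom R (S ⧸ (q : Ideal S)) (L q)).comp (Ideal.Quotient.mkₐ R (q : Ideal S)))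
  have hψ : Function.Injective ψ := by
    rw [injective_iff_map_eq_zero]
    intro s hs
    have h1 : ∀ q : minimalPrimes S, s ∈ (q : Ideal S) := by
      intro q
      have h2 : algebraMap (S ⧸ (q : Ideal S)) (L q) (Ideal.Quotient.mk _ s) = 0 :=
        congrFun hs q
      rw [map_eq_zero_iff _ (IsFractionRing.injective _ _)] at h2
      exact Ideal.Quotient.eq_zero_iff_mem.mp h2
    have h3 : s ∈ sInf (minimalPrimes S) := by
      rw [Ideal.mem_sInf]
      intro q hq
      exact h1 ⟨q, hq⟩
    have h4 : sInf (minimalPrimes S) = (⊥ : Ideal S) := by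
      rw [minimalPrimes, Ideal.sInf_minimalPrimes]
      exact nilradical_eq_zero S
    rw [h4] at h3
    exact h3
  refine finite_integralClosure_of_injective_pi L ψ hψ (fun q => ?_)
  haveI : Algebra.FiniteType R (S ⧸ (q : Ideal S)) :=
    Algebra.FiniteType.of_surjective (Ideal.Quotient.mkₐ R (q : Ideal S))
      Ideal.Quotient.mk_surjective
  haveI : Algebra.EssFiniteType (S ⧸ (q : Ideal S)) (L q) :=
    Algebra.EssFiniteType.of_isLocalization _ (nonZeroDivisors (S ⧸ (q : Ideal S)))
  haveI : Algebra.EssFiniteType R (L q) := Algebra.EssFiniteType.comp R (S ⧸ (q : Ideal S)) (L q)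
  exact finite_integralClosure_of_essFiniteType_field hN2

end Groth.Agent.Lib.helper13.Nag
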