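/-
Helper library (helper13): finiteness of relative normalizations over Nagata bases.
-/
import Mathlib
import Groth.Agent.Lib.Helper13.Nag2

set_option autoImplicit false

namespace Groth.Agent.Lib.helper13.Nag

universe u

open AlgebraicGeometry CategoryTheory Limits TopologicalSpace Opposite

/-- The relative normalization is finite as soon as the integral closures on affine opens are
module-finite. -/
theorem isFinite_fromNormalization_of_forall_finite {X S : Scheme.{u}} (f : X ⟶ S)
    [QuasiCompact f] [QuasiSeparated f]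
    (h : ∀ (U : S.Opens), IsAffineOpen U →
      letI := (f.app U).hom.toAlgebra
      Module.Finite Γ(S, U) (integralClosure Γ(S, U) Γ(X, f ⁻¹ᵁ U))) :
    IsFinite f.fromNormalization := by
  haveI : IsAffineHom f.fromNormalization := inferInstance
  refine { finite_app := fun U hU => ?_ }
  letI alg : Algebra Γ(S, U) Γ(X, f ⁻¹ᵁ U) := (f.app U).hom.toAlgebra
  haveI h3 : Module.Finite Γ(S, U) (integralClosure Γ(S, U) Γ(X, f ⁻¹ᵁ U)) := h U hU
  rw [Scheme.Hom.fromNormalization_app f hU]
  have h4 : (algebraMap Γ(S, U) (integralClosure Γ(S, U) Γ(X, f ⁻¹ᵁ U))).Finite :=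
    RingHom.finite_algebraMap.mpr h3
  exact RingHom.Finite.comp (RingHom.Finite.of_surjective _
    (ConcreteCategory.bijective_of_isIso (f.normalizationObjIso hU).inv).2) h4

/-- Sections of a reduced scheme over an open `W` are determined by their values at a set of points
of `W` of which every point of `W` is a specialization. -/
theorem eq_zero_of_forall_evaluation_eq_zero {X : Scheme.{u}} [IsReduced X] (W : X.Opens)
    (T : Set X) (hTW : T ⊆ W) (hgen : ∀ w ∈ W, ∃ t ∈ T, t ⤳ w) (s : Γ(X, W))
    (hs : ∀ t (ht : t ∈ T), X.evaluation W t (hTW ht) s = 0) : s = 0 := by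
  rw [← AlgebraicGeometry.basicOpen_eq_bot_iff]
  ext w
  simp only [Opens.coe_bot, Set.mem_empty_iff_false, iff_false]
  intro hw
  have hwW : w ∈ W := X.basicOpen_le s hw
  obtain ⟨t, ht, htw⟩ := hgen w hwW
  have htb : t ∈ X.basicOpen s := htw.mem_open (X.basicOpen s).2 hw
  exact (Scheme.evaluation_ne_zero_iff_mem_basicOpen X t (hTW ht) s).mpr htb (hs t ht)

/-- **Finiteness of the integral closure in sections.** Let `f : X ⟶ S` be a morphism with `X`
reduced and `U` an affine open of `S` with Nagata coordinate ring. If `f⁻¹U` has a finite set `T`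
of points, of which every point of `f⁻¹U` is a specialization, whose residue fields are
essentially of finite type over `Γ(S, U)`, then the integral closure of `Γ(S, U)` in
`Γ(X, f⁻¹U)` is finite. -/
theorem finite_integralClosure_sections {X S : Scheme.{u}} (f : X ⟶ S) [IsReduced X]
    (U : S.Opens) [IsNoetherianRing Γ(S, U)]
    (hN2 : ∀ (p : Ideal Γ(S, U)) [p.IsPrime], CAlg.IsN2 (Γ(S, U) ⧸ p))
    (T : Set X) (hT : T.Finite) (hTW : T ⊆ f ⁻¹ᵁ U) (hgen : ∀ w ∈ f ⁻¹ᵁ U, ∃ t ∈ T, t ⤳ w)
    (hess : ∀ t (ht : t ∈ T), (f.app U ≫ X.evaluation (f ⁻¹ᵁ U) t (hTW ht)).hom.EssFiniteType) :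
    letI := (f.app U).hom.toAlgebra
    Module.Finite Γ(S, U) (integralClosure Γ(S, U) Γ(X, f ⁻¹ᵁ U)) := by
  classical
  letI alg : Algebra Γ(S, U) Γ(X, f ⁻¹ᵁ U) := (f.app U).hom.toAlgebra
  haveI : Finite T := hT.to_subtype
  let L : T → Type u := fun t => X.residueField t.1
  letI algL : ∀ t : T, Algebra Γ(S, U) (L t) := fun t =>
    (f.app U ≫ X.evaluation (f ⁻¹ᵁ U) t.1 (hTW t.2)).hom.toAlgebra
  let ψ : Γ(X, f ⁻¹ᵁ U) →ₐ[Γ(S, U)] (Π t, L t) := Pi.algHom Γ(S, U) L (fun t =>
    { toRingHom := (X.evaluation (f ⁻¹ᵁ U) t.1 (hTW t.2)).hom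
      commutes' := fun r => rfl })
  have hψ : Function.Injective ψ := by
    rw [injective_iff_map_eq_zero]
    intro s hs
    refine eq_zero_of_forall_evaluation_eq_zero (f ⁻¹ᵁ U) T hTW hgen s (fun t ht => ?_)
    exact congrFun hs ⟨t, ht⟩
  refine finite_integralClosure_of_injective_pi L ψ hψ (fun t => ?_)
  haveI : Algebra.EssFiniteType Γ(S, U) (L t) := hess t.1 t.2
  exact finite_integralClosure_of_essFiniteType_field hN2

/-- Evaluation at a point of an affine open is essentially of finite type. -/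
theorem essFiniteType_evaluation {S : Scheme.{u}} (U : S.Opens) (hU : IsAffineOpen U) (s : S)
    (hs : s ∈ U) : (S.evaluation U s hs).hom.EssFiniteType := by
  letI : Algebra Γ(S, U) (S.presheaf.stalk s) := S.presheaf.algebra_section_stalk ⟨s, hs⟩
  have e1 : (S.presheaf.germ U s hs).hom.EssFiniteType := by
    have := hU.isLocalization_stalk ⟨s, hs⟩
    have h2 : Algebra.EssFiniteType Γ(S, U) (S.presheaf.stalk s) :=
      Algebra.EssFiniteType.of_isLocalization _
        (hU.primeIdealOf ⟨s, hs⟩).asIdeal.primeCompl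
    exact h2
  have e3 : (S.residue s).hom.EssFiniteType :=
    RingHom.FiniteType.essFiniteType
      (RingHom.FiniteType.of_surjective _ (S.residue_surjective s))
  exact e1.comp e3

/-- The composite `Γ(S, U) ⟶ Γ(X, f⁻¹U) ⟶ κ(x)` is essentially of finite type when the residue
field extension `κ(f x) ⟶ κ(x)` is. -/
theorem essFiniteType_app_evaluation {X S : Scheme.{u}} (f : X ⟶ S) (U : S.Opens)
    (hU : IsAffineOpen U) (x : X) (hx : x ∈ f ⁻¹ᵁ U)
    (h : (f.residueFieldMap x).hom.EssFiniteType) :
    (f.app U ≫ X.evaluation (f ⁻¹ᵁ U) x hx).hom.EssFiniteType := by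
  rw [← Scheme.evaluation_naturality f x hx]
  exact (essFiniteType_evaluation U hU (f x) hx).comp h

end Groth.Agent.Lib.helper13.Nag
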