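import Mathlib
import Groth.Agent.Lib.Helper13.Normal7

/-!
# Normalization in the spectrum of a local ring: sections over preimages of affine opens, seen
inside the local ring
-/

set_option autoImplicit false

namespace Groth.Agent.Lib.helper13.Normal

universe u

open AlgebraicGeometry CategoryTheory Limits

noncomputable section

variable {X : Scheme.{u}} {R : CommRingCat.{u}} [IsLocalRing R]

/-- The identification `Γ(Spec R, f⁻¹U) ≅ R` when `U` contains the image of the closed point. -/
def kap (f : Spec R ⟶ X) (U : X.Opens) (hU : f (IsLocalRing.closedPoint R) ∈ U) :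
    Γ(Spec R, f ⁻¹ᵁ U) ≅ R :=
  (Spec R).presheaf.mapIso
    (eqToIso (Scheme.preimage_eq_top_of_closedPoint_mem f hU).symm).op ≪≫ Scheme.ΓSpecIso R

lemma germ_stalkClosedPointTo_eq (f : Spec R ⟶ X) (U : X.Opens)
    (hU : f (IsLocalRing.closedPoint R) ∈ U) :
    X.presheaf.germ U _ hU ≫ Scheme.stalkClosedPointTo f = f.app U ≫ (kap f U hU).hom :=
  Scheme.germ_stalkClosedPointTo f U hU

lemma map_eqToHom_kap {Y : Scheme.{u}} (f₁ : Spec R ⟶ X) (f₂ : Spec R ⟶ Y) (U₁ : X.Opens)
    (U₂ : Y.Opens) (h₁ : f₁ (IsLocalRing.closedPoint R) ∈ U₁)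
    (h₂ : f₂ (IsLocalRing.closedPoint R) ∈ U₂) (e : f₂ ⁻¹ᵁ U₂ = f₁ ⁻¹ᵁ U₁) :
    (Spec R).presheaf.map (eqToHom e).op ≫ (kap f₂ U₂ h₂).hom = (kap f₁ U₁ h₁).hom := by
  simp only [kap, Iso.trans_hom, Functor.mapIso_hom, Iso.op_hom, eqToIso.hom, ← Category.assoc,
    ← Functor.map_comp, ← op_comp, eqToHom_trans]

variable (g : Spec R ⟶ X) [QuasiCompact g] [QuasiSeparated g]

lemma fromNormalization_toNormalization_apply (p : ↥(Spec R)) :
    g.fromNormalization (g.toNormalization p) = g p := by
  rw [← Scheme.Hom.comp_apply, Scheme.Hom.toNormalization_fromNormalization]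

lemma toNormalization_closedPoint_mem (V : X.Opens) (hpt : g (IsLocalRing.closedPoint R) ∈ V) :
    g.toNormalization (IsLocalRing.closedPoint R) ∈ g.fromNormalization ⁻¹ᵁ V := by
  show g.fromNormalization (g.toNormalization _) ∈ V
  rw [fromNormalization_toNormalization_apply]
  exact hpt

/-- Sections of the normalization over the preimage of an affine open, mapped to `R`. -/
theorem germ_comp_stalkClosedPointTo_toNormalization (V : X.Opens) (hV : IsAffineOpen V)
    (hpt : g (IsLocalRing.closedPoint R) ∈ V) :
    letI := (g.app V).hom.toAlgebra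
    g.normalization.presheaf.germ (g.fromNormalization ⁻¹ᵁ V)
        (g.toNormalization (IsLocalRing.closedPoint R))
        (toNormalization_closedPoint_mem g V hpt) ≫
      Scheme.stalkClosedPointTo g.toNormalization =
    (g.normalizationObjIso hV).hom ≫
      CommRingCat.ofHom (integralClosure Γ(X, V) Γ(Spec R, g ⁻¹ᵁ V)).val.toRingHom ≫
        (kap g V hpt).hom := by
  have E2 := g.toNormalization_app_preimage ⟨V, hV⟩
  rw [germ_stalkClosedPointTo_eq, E2]
  simp only [Category.assoc]
  congr 2

/-- The sections of the normalization over the preimage of an affine open `V`, mapped to `R`, are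
exactly the elements of `R` integral over `Γ(X, V)`. -/
theorem range_germ_comp_stalkClosedPointTo_toNormalization (V : X.Opens) (hV : IsAffineOpen V)
    (hpt : g (IsLocalRing.closedPoint R) ∈ V) :
    Set.range (g.normalization.presheaf.germ (g.fromNormalization ⁻¹ᵁ V)
        (g.toNormalization (IsLocalRing.closedPoint R))
        (toNormalization_closedPoint_mem g V hpt) ≫
      Scheme.stalkClosedPointTo g.toNormalization).hom =
    {c : R | (X.presheaf.germ V _ hpt ≫ Scheme.stalkClosedPointTo g).hom.IsIntegralElem c} := by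
  letI := (g.app V).hom.toAlgebra
  rw [germ_comp_stalkClosedPointTo_toNormalization g V hV hpt, germ_stalkClosedPointTo_eq]
  have hcomp : (g.app V ≫ (kap g V hpt).hom).hom =
      (kap g V hpt).hom.hom.comp (g.app V).hom := rfl
  ext c
  simp only [Set.mem_range, Set.mem_setOf_eq]
  constructor
  · rintro ⟨b, rfl⟩
    obtain ⟨p, hp, hpe⟩ := ((g.normalizationObjIso hV).hom b).2
    refine ⟨p, hp, ?_⟩
    rw [hcomp]
    have := Polynomial.hom_eval₂ p (g.app V).hom (kap g V hpt).hom.hom
      ((g.normalizationObjIso hV).hom b).1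
    erw [← this]
    rw [show Polynomial.eval₂ (g.app V).hom ((g.normalizationObjIso hV).hom b).1 p = 0 from hpe,
      map_zero]
  · rintro ⟨p, hp, hpe⟩
    have hint : IsIntegral Γ(X, V) ((kap g V hpt).inv c) := by
      refine ⟨p, hp, ?_⟩
      have hinj : Function.Injective (kap g V hpt).hom.hom :=
        (ConcreteCategory.bijective_of_isIso (kap g V hpt).hom).1
      apply hinj
      rw [map_zero]
      show (kap g V hpt).hom.hom (Polynomial.eval₂ (g.app V).hom ((kap g V hpt).inv c) p) = 0
      rw [Polynomial.hom_eval₂, ← hcomp]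
      have h1 : (kap g V hpt).hom.hom ((kap g V hpt).inv c) = c := by
        show ((kap g V hpt).inv ≫ (kap g V hpt).hom) c = c
        rw [Iso.inv_hom_id]; rfl
      rw [h1]
      exact hpe
    refine ⟨(g.normalizationObjIso hV).inv ⟨(kap g V hpt).inv c, hint⟩, ?_⟩
    show (kap g V hpt).hom ((((g.normalizationObjIso hV).inv ≫ (g.normalizationObjIso hV).hom)
      ⟨(kap g V hpt).inv c, hint⟩ : integralClosure Γ(X, V) Γ(Spec R, g ⁻¹ᵁ V)).1) = c
    rw [Iso.inv_hom_id]
    show ((kap g V hpt).inv ≫ (kap g V hpt).hom) c = c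
    rw [Iso.inv_hom_id]; rfl

/-- Pulling back a section of `X` over `V` to the normalization and mapping to `R` is the same as
mapping it to `R` directly. -/
theorem fromNormalization_app_germ_comp_stalkClosedPointTo (V : X.Opens) (hV : IsAffineOpen V)
    (hpt : g (IsLocalRing.closedPoint R) ∈ V) :
    g.fromNormalization.app V ≫ g.normalization.presheaf.germ (g.fromNormalization ⁻¹ᵁ V)
        (g.toNormalization (IsLocalRing.closedPoint R))
        (toNormalization_closedPoint_mem g V hpt) ≫
      Scheme.stalkClosedPointTo g.toNormalization =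
    X.presheaf.germ V _ hpt ≫ Scheme.stalkClosedPointTo g := by
  letI := (g.app V).hom.toAlgebra
  rw [germ_comp_stalkClosedPointTo_toNormalization g V hV hpt, germ_stalkClosedPointTo_eq,
    g.fromNormalization_app hV]
  simp only [Category.assoc, Iso.inv_hom_id_assoc]
  rfl

end

end Groth.Agent.Lib.helper13.Normal
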