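import Mathlib
import Groth.Agent.Lib.Helper13.Normal1

/-!
# Rational functions lying in all local rings are regular (integral schemes); normal case:
sections integral over the global sections extend
-/

set_option autoImplicit false

namespace Groth.Agent.Lib.helper13.Normal

universe u

open AlgebraicGeometry CategoryTheory Limits TopologicalSpace

noncomputable section

/-- On an integral scheme, a rational function which lies in the local ring of every point of a
nonempty open `U` is a section over `U`. -/
theorem exists_section_of_forall_mem_range {X : Scheme.{u}} [IsIntegral X] (U : X.Opens)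
    [Nonempty U] (t : X.functionField)
    (h : ∀ x ∈ U, t ∈ Set.range (algebraMap (X.presheaf.stalk x) X.functionField)) :
    ∃ s : Γ(X, U), X.germToFunctionField U s = t := by
  classical
  have hη : ∀ W : X.Opens, (W : Set X).Nonempty → genericPoint X ∈ W := fun W hW =>
    ((genericPoint_spec X).mem_open_set_iff W.isOpen).mpr (by simpa using hW)
  choose c hc using fun x : U => h x.1 x.2
  choose V hxV s hs using fun x : U => X.presheaf.exists_germ_eq (x := x.1) (c x)
  let V' : U → X.Opens := fun x => V x ⊓ U
  have hxV' : ∀ x : U, x.1 ∈ V' x := fun x => ⟨hxV x, x.2⟩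
  let s' : ∀ x : U, Γ(X, V' x) := fun x => X.presheaf.map (homOfLE inf_le_left).op (s x)
  have hηV' : ∀ x : U, genericPoint X ∈ V' x := fun x => hη _ ⟨x.1, hxV' x⟩
  have hgerm : ∀ x : U, X.presheaf.germ (V' x) (genericPoint X) (hηV' x) (s' x) = t := by
    intro x
    haveI : Nonempty (V x) := ⟨⟨x.1, hxV x⟩⟩
    have h1 : X.presheaf.germ (V' x) (genericPoint X) (hηV' x) (s' x) =
        X.presheaf.germ (V x) (genericPoint X) (hηV' x).1 (s x) :=
      X.presheaf.germ_res_apply (homOfLE inf_le_left) _ (hηV' x) (s x)
    rw [h1, ← hc x, ← hs x]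
    exact (Scheme.algebraMap_germ_eq_germToFunctionField X (hxV x) (s x)).symm
  have hcompat : TopCat.Presheaf.IsCompatible X.sheaf.1 V' s' := by
    intro x y
    have hmem : genericPoint X ∈ V' x ⊓ V' y := ⟨hηV' x, hηV' y⟩
    apply germ_injective_of_isIntegral X (genericPoint X) hmem
    have e1 := X.presheaf.germ_res_apply (Opens.infLELeft (V' x) (V' y)) _ hmem (s' x)
    have e2 := X.presheaf.germ_res_apply (Opens.infLERight (V' x) (V' y)) _ hmem (s' y)
    exact e1.trans ((hgerm x).trans ((hgerm y).symm.trans e2.symm))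
  have hcover : U ≤ iSup V' := fun x hx => by
    rw [Opens.mem_iSup]
    exact ⟨⟨x, hx⟩, hxV' ⟨x, hx⟩⟩
  obtain ⟨g, hg, -⟩ := X.sheaf.existsUnique_gluing' V' U (fun x => homOfLE inf_le_right) hcover
    s' hcompat
  refine ⟨g, ?_⟩
  obtain ⟨x₀⟩ := ‹Nonempty U›
  have e3 := X.presheaf.germ_res_apply (homOfLE (inf_le_right : V' x₀ ≤ U)) _ (hηV' x₀) g
  have e4 : X.presheaf.map (homOfLE (inf_le_right : V' x₀ ≤ U)).op g = s' x₀ := hg x₀
  rw [e4, hgerm] at e3
  exact e3.symm

end

end Groth.Agent.Lib.helper13.Normal
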