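import Mathlib
import Groth.Agent.Lib.Helper7.OmegaStruct

/-!
# The second exact sequence of differentials on sections of an affine chart (helper13)

Block B6a of helper20's plan for S11924.  `i : X ⟶ P` a closed immersion, `p : P ⟶ S`, `q = i ≫ p`,
`(ΩP, dP)`, `(ΩX, dX)` universal derivations, `U ⊆ P` affine inside `p⁻¹ W`, `W ⊆ S` affine.

* `map_eq_zero_iff` (ring level): for a surjection `A → B` with kernel `J`, the kernel of
  `Ω[A⁄R] → Ω[B⁄R]` is `J Ω[A⁄R] + A ⟨d a | a ∈ J⟩`.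
* `exists_res`: an additive `res : Γ(ΩP, U) → Γ(ΩX, i⁻¹U)`, semilinear along `i.app U`, with
  `res (dP a) = dX (i^# a)`, surjective, with kernel `J(U) Γ(ΩP, U) + ⟨dP a | a ∈ J(U)⟩`.
* `span_range_d`: `Γ(ΩP, U)` is spanned by the `dP a`.
* `res_natural`: any two such maps (for `U' ≤ U`) commute with the restriction maps.
* `exists_res_dOmega`: the same for the frozen `Omega.sheaf` and `OmegaSh.dOmega`.
-/

set_option autoImplicit false
set_option linter.unusedSectionVars false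
set_option linter.style.haveILetI false
universe u
open CategoryTheory CategoryTheory.Limits AlgebraicGeometry TensorProduct Opposite

namespace Groth.Agent.Lib.helper13.OmegaRes

section Alg

/-- for a surjection `A → B`, `1 ⊗ m = 0` in `B ⊗[A] M` iff `m ∈ ker • ⊤` -/
lemma one_tmul_eq_zero_iff {A B M : Type*} [CommRing A] [CommRing B] [Algebra A B] [AddCommGroup M]
    [Module A M] (h : Function.Surjective (algebraMap A B)) (m : M) :
    (1 : B) ⊗ₜ[A] m = 0 ↔ m ∈ (RingHom.ker (algebraMap A B) • ⊤ : Submodule A M) := by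
  have hs : Function.Surjective (Algebra.ofId A B) := h
  let e : (A ⧸ RingHom.ker (Algebra.ofId A B)) ≃ₐ[A] B := Ideal.quotientKerAlgEquivOfSurjective hs
  let E : (A ⧸ RingHom.ker (Algebra.ofId A B)) ⊗[A] M ≃ₗ[A] B ⊗[A] M :=
    TensorProduct.congr e.toLinearEquiv (LinearEquiv.refl A M)
  have hE : E ((1 : A ⧸ RingHom.ker (Algebra.ofId A B)) ⊗ₜ[A] m) = (1 : B) ⊗ₜ[A] m := by
    simp [E]
  rw [← hE, LinearEquiv.map_eq_zero_iff]
  rw [← LinearEquiv.map_eq_zero_iff (TensorProduct.quotTensorEquivQuotSMul M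
    (RingHom.ker (Algebra.ofId A B)))]
  have h1 : (1 : A ⧸ RingHom.ker (Algebra.ofId A B)) = Ideal.Quotient.mk _ 1 := rfl
  rw [h1, TensorProduct.quotTensorEquivQuotSMul_mk_tmul, one_smul, Submodule.Quotient.mk_eq_zero]
  rfl

variable {R A B : Type u} [CommRing R] [CommRing A] [CommRing B] [Algebra R A] [Algebra R B]
  [Algebra A B] [IsScalarTower R A B]

/-- the kernel of `Ω[A⁄R] → Ω[B⁄R]` for a surjection `A → B` with kernel `J` is
`J Ω[A⁄R] + A ⟨d a | a ∈ J⟩` -/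
theorem map_eq_zero_iff (h : Function.Surjective (algebraMap A B)) (ω : Ω[A⁄R]) :
    KaehlerDifferential.map R R A B ω = 0 ↔
      ω ∈ (RingHom.ker (algebraMap A B) • ⊤ : Submodule A (Ω[A⁄R])) ⊔
        Submodule.span A ((KaehlerDifferential.D R A) '' (RingHom.ker (algebraMap A B) : Set A)) := by
  constructor
  · intro hω
    have h1 : KaehlerDifferential.mapBaseChange R A B ((1 : B) ⊗ₜ[A] ω) = 0 := by
      rw [KaehlerDifferential.mapBaseChange_tmul, one_smul, hω]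
    have h2 : (1 : B) ⊗ₜ[A] ω ∈ LinearMap.range (KaehlerDifferential.kerCotangentToTensor R A B) := by
      rw [KaehlerDifferential.range_kerCotangentToTensor R A B h]
      exact h1
    obtain ⟨c, hc⟩ := h2
    obtain ⟨x, rfl⟩ := Ideal.toCotangent_surjective _ c
    rw [KaehlerDifferential.kerCotangentToTensor_toCotangent] at hc
    have h3 : (1 : B) ⊗ₜ[A] (ω - KaehlerDifferential.D R A x.1) = 0 := by
      rw [TensorProduct.tmul_sub, hc, sub_self]
    rw [one_tmul_eq_zero_iff h] at h3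
    have h4 : ω = (ω - KaehlerDifferential.D R A x.1) + KaehlerDifferential.D R A x.1 := by abel
    rw [h4]
    exact Submodule.add_mem_sup h3 (Submodule.subset_span ⟨x.1, x.2, rfl⟩)
  · intro hω
    have hle : (RingHom.ker (algebraMap A B) • ⊤ : Submodule A (Ω[A⁄R])) ⊔
        Submodule.span A ((KaehlerDifferential.D R A) '' (RingHom.ker (algebraMap A B) : Set A)) ≤
        LinearMap.ker (KaehlerDifferential.map R R A B) := by
      refine sup_le ?_ ?_
      · rw [Submodule.smul_le]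
        intro j hj n _
        rw [LinearMap.mem_ker, map_smul, ← algebraMap_smul B j, RingHom.mem_ker.mp hj, zero_smul]
      · rw [Submodule.span_le]
        rintro _ ⟨x, hx, rfl⟩
        rw [SetLike.mem_coe, LinearMap.mem_ker, KaehlerDifferential.map_D,
          RingHom.mem_ker.mp hx, map_zero]
    exact hle hω

end Alg

section Sch

open Groth.Agent.Lib.helper7

variable {X P S : Scheme.{u}} (i : X ⟶ P) [IsClosedImmersion i] (p : P ⟶ S) (q : X ⟶ S)
  (hq : i ≫ p = q)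
  {ΩP : P.Modules} (dP : OmegaSh.Der p ΩP) (hP : OmegaSh.IsUniversal dP)
  {ΩX : X.Modules} (dX : OmegaSh.Der q ΩX) (hX : OmegaSh.IsUniversal dX)

include hq hP hX in
/-- **section-level second exact sequence** (block B6a) -/
theorem exists_res {U : P.Opens} (hU : IsAffineOpen U) {W : S.Opens} (hW : IsAffineOpen W)
    (hUW : U ≤ p ⁻¹ᵁ W) :
    ∃ res : Γ(ΩP, U) →+ Γ(ΩX, i ⁻¹ᵁ U),
      (∀ (a : Γ(P, U)) (ω : Γ(ΩP, U)), res (a • ω) = (i.app U a) • res ω) ∧
      (∀ a : Γ(P, U), res (dP.app U a) = dX.app (i ⁻¹ᵁ U) (i.app U a)) ∧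
      Function.Surjective res ∧
      ∀ ω : Γ(ΩP, U), res ω = 0 ↔
        ω ∈ (i.ker.ideal ⟨U, hU⟩ • ⊤ : Submodule Γ(P, U) Γ(ΩP, U)) ⊔
          Submodule.span Γ(P, U) ((dP.app U) '' (i.ker.ideal ⟨U, hU⟩ : Set Γ(P, U))) := by
  subst hq
  have hV : IsAffineOpen (i ⁻¹ᵁ U) := hU.preimage i
  have eVW : i ⁻¹ᵁ U ≤ (i ≫ p) ⁻¹ᵁ W := fun x hx => hUW hx
  letI algRA := (p.appLE W U hUW).hom.toAlgebra
  letI algAB := (i.app U).hom.toAlgebra
  letI algRB := ((i ≫ p).appLE W (i ⁻¹ᵁ U) eVW).hom.toAlgebra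
  haveI : IsScalarTower Γ(S, W) Γ(P, U) Γ(X, i ⁻¹ᵁ U) := IsScalarTower.of_algebraMap_eq' (by
    change ((i ≫ p).appLE W (i ⁻¹ᵁ U) eVW).hom = (i.app U).hom.comp (p.appLE W U hUW).hom
    rw [← CommRingCat.hom_comp, ← Scheme.Hom.appLE_comp_appLE _ _ W U (i ⁻¹ᵁ U) hUW le_rfl,
      Scheme.Hom.appLE_eq_app])
  have hsurj : Function.Surjective (algebraMap Γ(P, U) Γ(X, i ⁻¹ᵁ U)) := i.app_surjective U hU
  have hker : RingHom.ker (algebraMap Γ(P, U) Γ(X, i ⁻¹ᵁ U)) = i.ker.ideal ⟨U, hU⟩ := by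
    rw [Scheme.Hom.ker_apply]; rfl
  obtain ⟨ψP, hψP⟩ := OmegaStruct.exists_sectionsEquiv p dP hP hU hW hUW
  obtain ⟨ψX, hψX⟩ := OmegaStruct.exists_sectionsEquiv (i ≫ p) dX hX hV hW eVW
  let m := KaehlerDifferential.map Γ(S, W) Γ(S, W) Γ(P, U) Γ(X, i ⁻¹ᵁ U)
  let res : Γ(ΩP, U) →+ Γ(ΩX, i ⁻¹ᵁ U) :=
    (ψX.symm.toLinearMap.toAddMonoidHom).comp (m.toAddMonoidHom.comp ψP.toLinearMap.toAddMonoidHom)
  have hres : ∀ ω, res ω = ψX.symm (m (ψP ω)) := fun _ => rfl
  refine ⟨res, ?_, ?_, ?_, ?_⟩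
  · intro a ω
    rw [hres, hres, map_smul, map_smul, ← algebraMap_smul Γ(X, i ⁻¹ᵁ U) a (m (ψP ω)), map_smul]
    rfl
  · intro a
    rw [hres, hψP, KaehlerDifferential.map_D, ← hψX, LinearEquiv.symm_apply_apply]
    rfl
  · intro y
    obtain ⟨z, hz⟩ := KaehlerDifferential.map_surjective_of_surjective Γ(S, W) Γ(S, W) Γ(P, U)
      Γ(X, i ⁻¹ᵁ U) hsurj (ψX y)
    refine ⟨ψP.symm z, ?_⟩
    rw [hres, LinearEquiv.apply_symm_apply]
    change ψX.symm (m z) = y
    rw [show m z = ψX y from hz, LinearEquiv.symm_apply_apply]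
  · intro ω
    rw [hres, LinearEquiv.map_eq_zero_iff, map_eq_zero_iff hsurj, hker]
    -- transport along ψP
    have himg : ((i.ker.ideal ⟨U, hU⟩ • ⊤ : Submodule Γ(P, U) Γ(ΩP, U)) ⊔
        Submodule.span Γ(P, U) ((dP.app U) '' (i.ker.ideal ⟨U, hU⟩ : Set Γ(P, U)))).map
          ψP.toLinearMap =
        (i.ker.ideal ⟨U, hU⟩ • ⊤ : Submodule Γ(P, U) (Ω[Γ(P, U)⁄Γ(S, W)])) ⊔
        Submodule.span Γ(P, U) ((KaehlerDifferential.D Γ(S, W) Γ(P, U)) ''
          (i.ker.ideal ⟨U, hU⟩ : Set Γ(P, U))) := by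
      rw [Submodule.map_sup, Submodule.map_smul'', Submodule.map_top, LinearEquiv.range,
        Submodule.map_span, Set.image_image]
      congr 2
      exact Set.image_congr (fun a _ => hψP a)
    rw [← himg]
    constructor
    · rintro ⟨ω', hω', h⟩
      rwa [← ψP.injective h]
    · intro h; exact ⟨ω, h, rfl⟩

end Sch

section Nat

open Groth.Agent.Lib.helper7

variable {X P S : Scheme.{u}} (i : X ⟶ P) (p : P ⟶ S) (q : X ⟶ S)
  {ΩP : P.Modules} (dP : OmegaSh.Der p ΩP) (hP : OmegaSh.IsUniversal dP)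
  {ΩX : X.Modules} (dX : OmegaSh.Der q ΩX)

include hP in
/-- on an affine chart, the sections of `Ω_P` are spanned by the differentials -/
theorem span_range_d {U : P.Opens} (hU : IsAffineOpen U) {W : S.Opens} (hW : IsAffineOpen W)
    (hUW : U ≤ p ⁻¹ᵁ W) :
    Submodule.span Γ(P, U) (Set.range (dP.app U)) = ⊤ := by
  letI algRA := (p.appLE W U hUW).hom.toAlgebra
  obtain ⟨ψP, hψP⟩ := OmegaStruct.exists_sectionsEquiv p dP hP hU hW hUW
  have h1 := KaehlerDifferential.span_range_derivation Γ(S, W) Γ(P, U)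
  have h2 : (Submodule.span Γ(P, U) (Set.range (dP.app U))).map ψP.toLinearMap = ⊤ := by
    rw [Submodule.map_span, ← Set.range_comp, ← h1]
    congr 1
    ext x
    simp only [Set.mem_range, Function.comp_apply]
    constructor
    · rintro ⟨a, rfl⟩; exact ⟨a, (hψP a).symm⟩
    · rintro ⟨a, rfl⟩; exact ⟨a, hψP a⟩
  rw [eq_top_iff]
  intro ω _
  have h3 : ψP ω ∈ (Submodule.span Γ(P, U) (Set.range (dP.app U))).map ψP.toLinearMap := by
    rw [h2]; trivial
  obtain ⟨ω', hω', h⟩ := h3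
  rwa [← ψP.injective h]

include hP in
/-- **naturality** (block B6a): semilinear maps compatible with the differentials commute with the
restriction maps. -/
theorem res_natural {U U' : P.Opens} (hU : IsAffineOpen U) {W : S.Opens} (hW : IsAffineOpen W)
    (hUW : U ≤ p ⁻¹ᵁ W) (hle : U' ≤ U)
    (res : Γ(ΩP, U) →+ Γ(ΩX, i ⁻¹ᵁ U)) (res' : Γ(ΩP, U') →+ Γ(ΩX, i ⁻¹ᵁ U'))
    (hlin : ∀ (a : Γ(P, U)) (ω : Γ(ΩP, U)), res (a • ω) = (i.app U a) • res ω)
    (hd : ∀ a : Γ(P, U), res (dP.app U a) = dX.app (i ⁻¹ᵁ U) (i.app U a))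
    (hlin' : ∀ (a : Γ(P, U')) (ω : Γ(ΩP, U')), res' (a • ω) = (i.app U' a) • res' ω)
    (hd' : ∀ a : Γ(P, U'), res' (dP.app U' a) = dX.app (i ⁻¹ᵁ U') (i.app U' a))
    (ω : Γ(ΩP, U)) :
    res' (ΩP.presheaf.map (homOfLE hle).op ω) =
      ΩX.presheaf.map (homOfLE (show i ⁻¹ᵁ U' ≤ i ⁻¹ᵁ U from fun _ hx => hle hx)).op (res ω) := by
  have hle' : i ⁻¹ᵁ U' ≤ i ⁻¹ᵁ U := fun _ hx => hle hx
  have hnat : ∀ a : Γ(P, U), i.app U' (P.presheaf.map (homOfLE hle).op a) =
      X.presheaf.map (homOfLE hle').op (i.app U a) := by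
    intro a
    have := i.naturality (homOfLE hle).op
    exact congrArg (fun φ => φ.hom a) this
  have hmem : ω ∈ Submodule.span Γ(P, U) (Set.range (dP.app U)) := by
    rw [span_range_d p dP hP hU hW hUW]; trivial
  induction hmem using Submodule.span_induction with
  | mem x hx =>
    obtain ⟨a, rfl⟩ := hx
    rw [hd, ← OmegaUniv.der_map, hd', hnat, ← OmegaUniv.der_map]
  | zero => simp
  | add x y _ _ hx hy => rw [map_add, map_add, map_add, map_add, hx, hy]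
  | smul a x _ hx =>
    rw [Scheme.Modules.map_smul, hlin', hx, hlin, Scheme.Modules.map_smul, hnat]

end Nat

/-- `exists_res` for the frozen sheaves of differentials -/
theorem exists_res_dOmega {X P S : Scheme.{u}} (i : X ⟶ P) [IsClosedImmersion i] (p : P ⟶ S)
    [QuasiSeparated p] (q : X ⟶ S) [QuasiSeparated q] (hq : i ≫ p = q)
    {U : P.Opens} (hU : IsAffineOpen U) {W : S.Opens} (hW : IsAffineOpen W) (hUW : U ≤ p ⁻¹ᵁ W) :
    ∃ res : Γ(Omega.sheaf p, U) →+ Γ(Omega.sheaf q, i ⁻¹ᵁ U),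
      (∀ (a : Γ(P, U)) (ω : Γ(Omega.sheaf p, U)), res (a • ω) = (i.app U a) • res ω) ∧
      (∀ a : Γ(P, U), res ((OmegaSh.dOmega p).app U a) =
        (OmegaSh.dOmega q).app (i ⁻¹ᵁ U) (i.app U a)) ∧
      Function.Surjective res ∧
      ∀ ω : Γ(Omega.sheaf p, U), res ω = 0 ↔
        ω ∈ (i.ker.ideal ⟨U, hU⟩ • ⊤ : Submodule Γ(P, U) Γ(Omega.sheaf p, U)) ⊔
          Submodule.span Γ(P, U)
            (((OmegaSh.dOmega p).app U) '' (i.ker.ideal ⟨U, hU⟩ : Set Γ(P, U))) :=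
  exists_res i p q hq (OmegaSh.dOmega p) (Groth.Agent.Lib.helper7.OmegaUniv.isUniversal_dOmega p)
    (OmegaSh.dOmega q) (Groth.Agent.Lib.helper7.OmegaUniv.isUniversal_dOmega q) hU hW hUW

end Groth.Agent.Lib.helper13.OmegaRes
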