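import Mathlib

/-!
# Spreading out "one geometric point in the fibre" over a constructible set (ring level)
-/

set_option autoImplicit false

namespace Groth.Agent.Lib.helper13.PC

universe u

section

variable {R C : Type u} [CommRing R] [CommRing C] [Algebra R C]

/-- Elements of an extended ideal lie in the extension of a finitely generated subideal. -/
lemma exists_finset_of_mem_map (p : Ideal R) {x : C} (hx : x ∈ Ideal.map (algebraMap R C) p) :
    ∃ T : Finset R, (↑T : Set R) ⊆ p ∧ x ∈ Ideal.span ((algebraMap R C) '' (↑T : Set R)) := by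
  classical
  unfold Ideal.map at hx
  induction hx using Submodule.span_induction with
  | mem x hx =>
    obtain ⟨a, ha, rfl⟩ := hx
    exact ⟨{a}, by simpa using ha, Ideal.subset_span ⟨a, by simp, rfl⟩⟩
  | zero => exact ⟨∅, by simp, zero_mem _⟩
  | add x y _ _ hx hy =>
    obtain ⟨T₁, h₁, hx⟩ := hx
    obtain ⟨T₂, h₂, hy⟩ := hy
    refine ⟨T₁ ∪ T₂, by simpa using ⟨h₁, h₂⟩, ?_⟩
    have e1 : Ideal.span ((algebraMap R C) '' (↑T₁ : Set R)) ≤
        Ideal.span ((algebraMap R C) '' (↑(T₁ ∪ T₂) : Set R)) :=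
      Ideal.span_mono (Set.image_mono (by simp))
    have e2 : Ideal.span ((algebraMap R C) '' (↑T₂ : Set R)) ≤
        Ideal.span ((algebraMap R C) '' (↑(T₁ ∪ T₂) : Set R)) :=
      Ideal.span_mono (Set.image_mono (by simp))
    exact add_mem (e1 hx) (e2 hy)
  | smul a x _ hx =>
    obtain ⟨T, h, hx⟩ := hx
    exact ⟨T, h, Ideal.mul_mem_left _ a hx⟩

/-- If `P` is the only prime of `C` over `p`, every element of `P` becomes nilpotent modulo `pC`
after inverting an element outside `p`. -/
lemma exists_mul_pow_mem (p : Ideal R) [hp : p.IsPrime] (P : Ideal C)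
    (huniq : ∀ Q : Ideal C, Q.IsPrime → Q.comap (algebraMap R C) = p → Q = P)
    {c : C} (hc : c ∈ P) :
    ∃ (s : R) (N : ℕ) (T : Finset R), s ∉ p ∧ (↑T : Set R) ⊆ p ∧
      algebraMap R C s * c ^ N ∈ Ideal.span ((algebraMap R C) '' (↑T : Set R)) := by
  suffices h : ∃ (s : R) (N : ℕ), s ∉ p ∧ algebraMap R C s * c ^ N ∈ Ideal.map (algebraMap R C) p by
    obtain ⟨s, N, hs, hmem⟩ := h
    obtain ⟨T, hT, hx⟩ := exists_finset_of_mem_map p hmem
    exact ⟨s, N, T, hs, hT, hx⟩
  by_contra hcon
  push Not at hcon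
  let M : Submonoid C :=
    { carrier := {x | ∃ (s : R) (N : ℕ), s ∉ p ∧ x = algebraMap R C s * c ^ N}
      one_mem' := ⟨1, 0, fun h => hp.ne_top ((Ideal.eq_top_iff_one _).mpr h), by simp⟩
      mul_mem' := by
        rintro _ _ ⟨s₁, N₁, h₁, rfl⟩ ⟨s₂, N₂, h₂, rfl⟩
        refine ⟨s₁ * s₂, N₁ + N₂, fun h => (hp.mem_or_mem h).elim h₁ h₂, ?_⟩
        rw [map_mul, pow_add]; ring }
  have hdisj : Disjoint (Ideal.map (algebraMap R C) p : Set C) M := by
    rw [Set.disjoint_left]
    rintro x hx ⟨s, N, hs, rfl⟩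
    exact hcon s N hs hx
  obtain ⟨Q, hQ, hle, hQM⟩ := Ideal.exists_le_prime_disjoint _ M hdisj
  have hcomap : Q.comap (algebraMap R C) = p := by
    apply le_antisymm
    · intro a ha
      by_contra hap
      exact Set.disjoint_left.mp hQM ha ⟨a, 0, hap, by simp⟩
    · intro a ha
      exact hle (Ideal.mem_map_of_mem _ ha)
  have hQP := huniq Q hQ hcomap
  refine Set.disjoint_left.mp hQM (hQP ▸ hc : c ∈ Q) ⟨1, 1, ?_, by simp⟩
  exact fun h => hp.ne_top ((Ideal.eq_top_iff_one _).mpr h)

end

/-- **Key lemma.** Let `R → C` be finite, `P` the only prime of `C` over `p = ker evK`, with purely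
inseparable residue extension. Then on a basic locally closed subset of `Spec R` containing `p`, every
ring homomorphism to a field has at most one extension to `C`. -/
theorem exists_unique_ext {R C : Type u} [CommRing R] [CommRing C] [Algebra R C]
    [Module.Finite R C]
    {K L : Type u} [Field K] [Field L] (ι : K →+* L) (hι : ι.IsPurelyInseparable)
    (evK : R →+* K) (evL : C →+* L) (hcomm : ι.comp evK = evL.comp (algebraMap R C))
    (hgen : ∀ z : K, ∃ a b : R, evK b ≠ 0 ∧ z * evK b = evK a)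
    (huniq : ∀ Q : Ideal C, Q.IsPrime → Q.comap (algebraMap R C) = RingHom.ker evK →
      Q = RingHom.ker evL) :
    ∃ (s : R) (T : Finset R), evK s ≠ 0 ∧ (∀ a ∈ T, evK a = 0) ∧
      ∀ (Ω : Type u) [Field Ω] (χ : R →+* Ω), χ s ≠ 0 → (∀ a ∈ T, χ a = 0) →
        ∀ ψ₁ ψ₂ : C →+* Ω, ψ₁.comp (algebraMap R C) = χ → ψ₂.comp (algebraMap R C) = χ →
          ψ₁ = ψ₂ := by
  classical
  obtain ⟨q, hq⟩ := ExpChar.exists K
  have hcomm' : ∀ r, ι (evK r) = evL (algebraMap R C r) := fun r =>
    congrFun (congrArg DFunLike.coe hcomm) r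
  -- Step 1
  have step1 : ∀ t : C, ∃ (n : ℕ) (α s : R), evK s ≠ 0 ∧
      algebraMap R C s * t ^ (q ^ n) - algebraMap R C α ∈ RingHom.ker evL := by
    intro t
    letI := ι.toAlgebra
    haveI : IsPurelyInseparable K L := hι
    obtain ⟨n, z, hz⟩ := IsPurelyInseparable.pow_mem K q (evL t)
    obtain ⟨a, b, hb, hab⟩ := hgen z
    refine ⟨n, a, b, hb, ?_⟩
    rw [RingHom.mem_ker, map_sub, map_mul, map_pow, ← hz, ← hcomm', ← hcomm']
    change ι (evK b) * ι z - ι (evK a) = 0
    rw [← map_mul, ← map_sub, mul_comm, hab, sub_self, map_zero]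
  choose n α s hs hmem using step1
  have hpK : (RingHom.ker evK).IsPrime := RingHom.ker_isPrime evK
  -- Step 2
  have step2 : ∀ t : C, ∃ (s' : R) (N : ℕ) (T : Finset R), s' ∉ RingHom.ker evK ∧
      (↑T : Set R) ⊆ RingHom.ker evK ∧
      algebraMap R C s' * (algebraMap R C (s t) * t ^ (q ^ n t) - algebraMap R C (α t)) ^ N ∈
        Ideal.span ((algebraMap R C) '' (↑T : Set R)) :=
    fun t => exists_mul_pow_mem (RingHom.ker evK) (RingHom.ker evL) huniq (hmem t)
  choose s' N T hs' hT hmem' using step2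
  obtain ⟨G, hG⟩ := (Module.Finite.fg_top : (⊤ : Submodule R C).FG)
  refine ⟨∏ t ∈ G, (s t * s' t), G.biUnion T ∪ (if q = 1 then ∅ else {(q : R)}), ?_, ?_, ?_⟩
  · rw [map_prod, Finset.prod_ne_zero_iff]
    intro t _
    rw [map_mul]
    exact mul_ne_zero (hs t) (hs' t)
  · intro a ha
    rw [Finset.mem_union] at ha
    rcases ha with ha | ha
    · rw [Finset.mem_biUnion] at ha
      obtain ⟨t, _, hat⟩ := ha
      exact hT t hat
    · split_ifs at ha with h1
      · simp at ha
      · rw [Finset.mem_singleton] at ha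
        subst ha
        rw [map_natCast]
        cases hq with
        | zero => exact absurd rfl h1
        | prime hprime => exact CharP.cast_eq_zero K q
  · intro Ω _ χ hχs hχT ψ₁ ψ₂ h₁ h₂
    have h₁' : ∀ r, ψ₁ (algebraMap R C r) = χ r := fun r =>
      congrFun (congrArg DFunLike.coe h₁) r
    have h₂' : ∀ r, ψ₂ (algebraMap R C r) = χ r := fun r =>
      congrFun (congrArg DFunLike.coe h₂) r
    rw [map_prod, Finset.prod_ne_zero_iff] at hχs
    -- the key equation for one extension
    have key : ∀ (ψ : C →+* Ω), (∀ r, ψ (algebraMap R C r) = χ r) → ∀ t ∈ G,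
        χ (s t) * ψ t ^ (q ^ n t) = χ (α t) := by
      intro ψ hψ t ht
      have h3 : Ideal.span ((algebraMap R C) '' (↑(T t) : Set R)) ≤ RingHom.ker ψ := by
        rw [Ideal.span_le]
        rintro _ ⟨a, ha, rfl⟩
        rw [SetLike.mem_coe, RingHom.mem_ker, hψ]
        exact hχT a (Finset.mem_union_left _ (Finset.mem_biUnion.mpr ⟨t, ht, ha⟩))
      have h4 := h3 (hmem' t)
      rw [RingHom.mem_ker, map_mul, map_pow, hψ] at h4
      have h5 := hχs t ht
      rw [map_mul] at h5
      have h6 : ψ (algebraMap R C (s t) * t ^ (q ^ n t) - algebraMap R C (α t)) = 0 := by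
        rcases mul_eq_zero.mp h4 with h | h
        · exact absurd h (right_ne_zero_of_mul h5)
        · exact pow_eq_zero_iff (fun h0 => by
            rw [h0, pow_zero] at h; exact one_ne_zero h) |>.mp h
      rw [map_sub, map_mul, map_pow, hψ, hψ, sub_eq_zero] at h6
      exact h6
    have hgenEq : ∀ t ∈ G, ψ₁ t = ψ₂ t := by
      intro t ht
      have e1 := key ψ₁ h₁' t ht
      have e2 := key ψ₂ h₂' t ht
      have h5 := hχs t ht
      rw [map_mul] at h5
      have e3 : ψ₁ t ^ (q ^ n t) = ψ₂ t ^ (q ^ n t) :=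
        mul_left_cancel₀ (left_ne_zero_of_mul h5) (e1.trans e2.symm)
      cases hq with
      | zero => simpa using e3
      | prime hprime =>
        have hq1 : q ≠ 1 := hprime.ne_one
        have hqΩ : (q : Ω) = 0 := by
          have := hχT (q : R) (Finset.mem_union_right _ (by simp [hq1]))
          rwa [map_natCast] at this
        haveI : CharP Ω q := by
          have hdvd : ringChar Ω ∣ q := ringChar.dvd hqΩ
          rcases (Nat.dvd_prime hprime).mp hdvd with h | h
          · exact absurd h (CharP.ringChar_ne_one)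
          · exact h ▸ ringChar.charP Ω
        haveI : ExpChar Ω q := ExpChar.prime hprime
        exact iterateFrobenius_inj Ω q (n t) (by simpa [iterateFrobenius_def] using e3)
    ext c
    have hc : c ∈ Submodule.span R (↑G : Set C) := hG ▸ Submodule.mem_top
    induction hc using Submodule.span_induction with
    | mem x hx => exact hgenEq x hx
    | zero => simp
    | add x y _ _ hx hy => rw [map_add, map_add, hx, hy]
    | smul a x _ hx => rw [Algebra.smul_def, map_mul, map_mul, h₁', h₂', hx]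

end Groth.Agent.Lib.helper13.PC
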