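import Mathlib

/-!
# Compactness of the constructible topology: finite subcovers by constructible sets
-/

set_option autoImplicit false

namespace Groth.Agent.Lib.helper13.PC

open Topology

variable {X : Type*} [TopologicalSpace X]

/-- Constructible subsets of a compact space are clopen in the constructible topology. -/
lemma isOpen_constructibleTopology_of_isConstructible [CompactSpace X] {s : Set X}
    (hs : IsConstructible s) :
    IsOpen[constructibleTopology X] s ∧ IsOpen[constructibleTopology X] sᶜ := by
  induction hs using IsConstructible.empty_union_induction with
  | open_retrocompact U hUopen hUcomp =>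
    refine ⟨hUcomp.isCompact.isOpen_constructibleTopology_of_isOpen hUopen, ?_⟩
    refine IsCompact.isOpen_constructibleTopology_of_isClosed ?_ hUopen.isClosed_compl
    rw [compl_compl]
    exact hUcomp.isCompact
  | union s hs t ht hs' ht' =>
    letI := constructibleTopology X
    refine ⟨IsOpen.union hs'.1 ht'.1, ?_⟩
    rw [Set.compl_union]
    exact IsOpen.inter hs'.2 ht'.2
  | compl s hs hs' =>
    refine ⟨hs'.2, ?_⟩
    rw [compl_compl]
    exact hs'.1

/-- In a spectral space, every cover by constructible sets has a finite subcover. -/
theorem exists_finset_cover_of_isConstructible [CompactSpace X] [QuasiSober X]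
    [PrespectralSpace X] [QuasiSeparatedSpace X] {ι : Type*} (O : ι → Set X)
    (hO : ∀ i, IsConstructible (O i)) (hcov : ∀ x, ∃ i, x ∈ O i) :
    ∃ s : Finset ι, ∀ x, ∃ i ∈ s, x ∈ O i := by
  have hc : @CompactSpace X (constructibleTopology X) :=
    @Function.Surjective.compactSpace (WithConstructibleTopology X) X _ (constructibleTopology X)
      WithTopology.ofTopology (WithTopology.continuous_ofTopology _) inferInstance
      (WithTopology.ofTopology_surjective _)
  have hcu : @IsCompact X (constructibleTopology X) Set.univ := @isCompact_univ X (constructibleTopology X) hc
  obtain ⟨s, hs⟩ := @IsCompact.elim_finite_subcover X (constructibleTopology X) _ ι hcu O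
    (fun i => (isOpen_constructibleTopology_of_isConstructible (hO i)).1)
    (fun x _ => Set.mem_iUnion.mpr (hcov x))
  refine ⟨s, fun x => ?_⟩
  have := hs (Set.mem_univ x)
  simpa using this

end Groth.Agent.Lib.helper13.PC
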