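import Mathlib
import Groth.Prelude.Def_MoreMor
import Groth.Agent.Lib.Helper13.PC5
import Groth.Agent.Lib.Helper13.EL8
import Groth.Agent.Lib.Helper13.WT3
import Groth.Agent.Lib.Helper13.WT5

/-!
# The fibre integral of a weighting is constant on constructible neighbourhoods
-/

set_option autoImplicit false

namespace Groth.Agent.Lib.helper13.PC

universe u

open AlgebraicGeometry CategoryTheory Limits Topology

theorem exists_constructible_nbhd_const_integral {X Y : Scheme.{u}} (f : X ⟶ Y)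
    [LocallyQuasiFinite f] [LocallyOfFinitePresentation f] [QuasiCompact f] [QuasiSeparated f]
    [IsAffine Y] (w : X → ℤ) (hw : MoreMor.IsWeighting f w) (y : Y) :
    ∃ C : Set Y, IsConstructible C ∧ y ∈ C ∧
      ∀ y' ∈ C, MoreMor.fibreIntegral f w y' = MoreMor.fibreIntegral f w y := by
  classical
  have hfin : ∀ y : Y, (f ⁻¹' {y}).Finite := fun y => Scheme.Hom.finite_preimage_singleton f y
  have : Finite (f ⁻¹' {y}) := (hfin y).to_subtype
  let n := Nat.card (f ⁻¹' {y})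
  let eX : (f ⁻¹' {y}) ≃ Fin n := Finite.equivFin _
  let x : Fin n → X := fun i ↦ (eX.symm i).1
  have hxinj : Function.Injective x := fun i i' hii ↦ eX.symm.injective (Subtype.ext hii)
  have hxs : ∀ i, f (x i) = y := fun i ↦ (eX.symm i).2
  have hxsurj : ∀ p, f p = y → ∃ i, x i = p := fun p hp ↦ ⟨eX ⟨p, hp⟩, by simp [x]⟩
  obtain ⟨V, gV, v₀, hgV, hgv, J, hJ, Vo, vp, hgood, hPI, hvinj, hex⟩ :=
    EL.exists_etale_nbhd_purelyInseparable (f := f) y x hxs (fun i ↦ f.quasiFiniteAt (x i))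
  obtain ⟨π, hπ⟩ : ∃ π : pullback f gV ⟶ V, π = pullback.snd f gV := ⟨_, rfl⟩
  have sq : IsPullback (pullback.fst f gV) π f gV := hπ ▸ IsPullback.of_hasPullback f gV
  haveI : QuasiCompact π := hπ ▸ inferInstance
  haveI : QuasiSeparated π := hπ ▸ inferInstance
  haveI : LocallyOfFinitePresentation π := hπ ▸ inferInstance
  have hcomm : ∀ p, f (pullback.fst f gV p) = gV (π p) := by
    intro p
    rw [← Scheme.Hom.comp_apply, ← Scheme.Hom.comp_apply, sq.w]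
  let B : (Σ i, J i) → (pullback f gV).Opens := fun s ↦ Vo s.1 s.2
  have hBfin : ∀ s, IsFinite ((B s).ι ≫ π) := fun s ↦ hπ ▸ (hgood s.1 s.2).finite
  have hBpt : ∀ s, ∀ p ∈ B s, π p = v₀ → p = vp s.1 s.2 := fun s p hp hπp ↦
    (hgood s.1 s.2).uniq p hp (hπ ▸ hπp)
  have hdisj₀ : ∀ p, π p = v₀ → ∀ s s', p ∈ B s → p ∈ B s' → s = s' := by
    rintro p hπp ⟨i, j⟩ ⟨i', j'⟩ hp hp'
    have e3 : vp i j = vp i' j' := (hBpt ⟨i, j⟩ p hp hπp).symm.trans (hBpt ⟨i', j'⟩ p hp' hπp)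
    have hi : i = i' := hxinj (by rw [← (hgood i j).fst_eq, ← (hgood i' j').fst_eq, e3])
    subst hi
    have hj : j = j' := hvinj i e3
    subst hj
    rfl
  have hcov₀ : ∀ p, π p = v₀ → ∃ s, p ∈ B s := by
    intro p hπp
    obtain ⟨i, hi⟩ := hxsurj (pullback.fst f gV p) (by rw [hcomm, hπp, hgv])
    obtain ⟨j, hj⟩ := hex p i (hπ ▸ hπp) hi.symm
    exact ⟨⟨i, j⟩, by show p ∈ Vo i j; rw [hj]; exact (hgood i j).mem⟩
  -- the locally constant integrals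
  let G : (Σ i, J i) → V → ℤ := fun s ↦ MoreMor.fibreIntegral ((B s).ι ≫ π)
    (fun t ↦ w (pullback.fst f gV ((B s).ι t)))
  have hG : ∀ s, IsLocallyConstant (G s) := fun s ↦ by
    have := hw V gV (Vo s.1 s.2) (hgood s.1 s.2).finite
    rw [← hπ] at this
    exact this
  let N₂ : Set V := ⋂ s, G s ⁻¹' {G s v₀}
  have hN₂open : IsOpen N₂ := isOpen_iInter_of_finite fun s ↦ (hG s).isOpen_fiber _
  have hN₂ : v₀ ∈ N₂ := Set.mem_iInter.mpr fun s ↦ rfl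
  have := Fintype.ofFinite (Σ i, J i)
  -- the sum formula
  have hres : ∀ p : X, (f.residueFieldMap p).hom.Finite := fun p ↦
    EL.finite_residueFieldMap_of_quasiFiniteAt (f.quasiFiniteAt p)
  have hsum : ∀ v : V, (∀ p, π p = v → ∃ s, p ∈ B s) →
      (∀ p, π p = v → ∀ s s', p ∈ B s → p ∈ B s' → s = s') →
      MoreMor.fibreIntegral f w (gV v) = ∑ s, G s v := by
    intro v hcov hdisj
    obtain ⟨Ω, _, _, xb, hxb⟩ := WT.exists_geometric_point v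
    have hxb' : (xb ≫ gV) (IsLocalRing.closedPoint Ω) = gV v := by
      rw [Scheme.Hom.comp_apply, hxb]
    have e1 := WT.fibreIntegral_eq_geomIntegral_top Ω f w (xb ≫ gV) (gV v) hxb' (hfin _)
      (fun p _ ↦ hres p)
    have e2 := WT.geomIntegral_of_isPullback Ω sq ⊤ w xb
    have e3 : MoreMor.fibreIntegral f w (gV v) =
        WT.geomIntegral π Ω ((pullback.fst f gV) ⁻¹ᵁ ⊤) (fun p ↦ w (pullback.fst f gV p)) xb :=
      e1.trans e2.symm
    rw [e3, WT.geomIntegral_eq_sum π Ω _ B _ xb]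
    · refine Finset.sum_congr rfl fun s _ ↦ ?_
      haveI := hBfin s
      exact (WT.fibreIntegral_eq_geomIntegral π Ω (B s) (fun p ↦ w (pullback.fst f gV p)) xb v
        hxb).symm
    · intro s
      haveI := hBfin s
      exact WT.finite_lifts_open π Ω (B s) xb
    · intro p hp
      exact ⟨fun _ ↦ hcov p (by rw [hp, hxb]), fun _ ↦ trivial⟩
    · intro p hp
      exact hdisj p (by rw [hp, hxb])
  -- an affine open neighbourhood inside `N₂`
  obtain ⟨V₀, hV₀, hv₀V₀, hV₀N₂⟩ : ∃ V₀ : V.Opens, IsAffineOpen V₀ ∧ v₀ ∈ V₀ ∧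
      (V₀ : Set V) ⊆ N₂ := by
    obtain ⟨_, ⟨V₀, hV₀, rfl⟩, hv, hsub⟩ := V.isBasis_affineOpens.exists_subset_of_mem_open
      hN₂ hN₂open
    exact ⟨V₀, hV₀, hv, hsub⟩
  haveI : IsAffine V₀.toScheme := hV₀
  haveI : CompactSpace (π ⁻¹ᵁ V₀).toScheme :=
    (HasAffineProperty.iff_of_isAffine (P := @QuasiCompact)).mp
      (inferInstance : QuasiCompact (π ∣_ V₀))
  haveI : QuasiSeparatedSpace (π ⁻¹ᵁ V₀).toScheme :=
    (HasAffineProperty.iff_of_isAffine (P := @QuasiSeparated)).mp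
      (inferInstance : QuasiSeparated (π ∣_ V₀))
  have hπ₀ : ∀ z : (π ⁻¹ᵁ V₀).toScheme, V₀.ι ((π ∣_ V₀) z) = π ((π ⁻¹ᵁ V₀).ι z) := by
    intro z
    rw [← Scheme.Hom.comp_apply, morphismRestrict_ι, Scheme.Hom.comp_apply]
  -- the pieces in `P₀`
  let B₀ : (Σ i, J i) → Set (π ⁻¹ᵁ V₀).toScheme := fun s ↦ (π ⁻¹ᵁ V₀).ι ⁻¹' (B s : Set _)
  have hB₀c : ∀ s, IsConstructible (B₀ s) := by
    intro s
    have hopen : IsOpen (B₀ s) := (B s).2.preimage (π ⁻¹ᵁ V₀).ι.continuous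
    refine IsCompact.isConstructible ?_ hopen
    haveI := hBfin s
    have haff : IsAffineOpen (((B s).ι ≫ π) ⁻¹ᵁ V₀) := hV₀.preimage ((B s).ι ≫ π)
    have hc1 : IsCompact ((B s).ι '' ((((B s).ι ≫ π) ⁻¹ᵁ V₀ : (B s).toScheme.Opens) : Set _)) :=
      haff.isCompact.image (B s).ι.continuous
    have heq : (π ⁻¹ᵁ V₀).ι '' (B₀ s) =
        (B s).ι '' ((((B s).ι ≫ π) ⁻¹ᵁ V₀ : (B s).toScheme.Opens) : Set _) := by
      ext p
      constructor
      · rintro ⟨z, hz, rfl⟩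
        exact ⟨⟨(π ⁻¹ᵁ V₀).ι z, hz⟩, z.2, rfl⟩
      · rintro ⟨t, ht, rfl⟩
        exact ⟨⟨(B s).ι t, ht⟩, t.2, rfl⟩
    rw [(π ⁻¹ᵁ V₀).ι.isOpenEmbedding.isEmbedding.isCompact_iff, heq]
    exact hc1
  let Bad : Set (π ⁻¹ᵁ V₀).toScheme := (⋃ s, B₀ s)ᶜ ∪
    ⋃ ss : (Σ i, J i) × (Σ i, J i), if ss.1 = ss.2 then ∅ else B₀ ss.1 ∩ B₀ ss.2
  have hBad : IsConstructible Bad := by
    refine IsConstructible.union ?_ ?_
    · rw [isConstructible_compl]
      exact IsConstructible.iUnion hB₀c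
    · refine IsConstructible.iUnion fun ss ↦ ?_
      split_ifs
      · exact IsConstructible.empty
      · exact (hB₀c _).inter (hB₀c _)
  have hE : IsConstructible ((π ∣_ V₀) '' Bad)ᶜ :=
    ((π ∣_ V₀).isConstructible_image hBad).compl
  -- the étale map from `V₀` to `Y`
  obtain ⟨g₀, hg₀⟩ : ∃ g₀ : V₀.toScheme ⟶ Y, g₀ = V₀.ι ≫ gV := ⟨_, rfl⟩
  haveI : LocallyOfFinitePresentation g₀ := hg₀ ▸ inferInstance
  haveI : QuasiCompact g₀ := (HasAffineProperty.iff_of_isAffine (P := @QuasiCompact)).mpr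
    inferInstance
  have hg₀app : ∀ v', g₀ v' = gV (V₀.ι v') := by
    intro v'; rw [hg₀, Scheme.Hom.comp_apply]
  -- points of `E`
  have hEpt : ∀ v' : V₀.toScheme, v' ∈ ((π ∣_ V₀) '' Bad)ᶜ →
      (∀ p, π p = V₀.ι v' → ∃ s, p ∈ B s) ∧
      (∀ p, π p = V₀.ι v' → ∀ s s', p ∈ B s → p ∈ B s' → s = s') := by
    intro v' hv'
    have key : ∀ p, π p = V₀.ι v' → ∃ z : (π ⁻¹ᵁ V₀).toScheme, (π ⁻¹ᵁ V₀).ι z = p ∧ z ∉ Bad := by
      intro p hp
      have hpm : p ∈ π ⁻¹ᵁ V₀ := by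
        show π p ∈ V₀
        rw [hp]; exact v'.2
      refine ⟨⟨p, hpm⟩, rfl, fun hz ↦ hv' ⟨⟨p, hpm⟩, hz, ?_⟩⟩
      apply V₀.ι.injective
      rw [hπ₀]
      exact hp
    constructor
    · intro p hp
      obtain ⟨z, rfl, hz⟩ := key p hp
      have : z ∈ ⋃ s, B₀ s := by
        by_contra h
        exact hz (Or.inl h)
      obtain ⟨s, hs⟩ := Set.mem_iUnion.mp this
      exact ⟨s, hs⟩
    · intro p hp s s' hs hs'
      obtain ⟨z, rfl, hz⟩ := key p hp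
      by_contra hne
      apply hz
      refine Or.inr (Set.mem_iUnion.mpr ⟨(s, s'), ?_⟩)
      simp only [hne, if_false]
      exact ⟨hs, hs'⟩
  have hv₀E : (⟨v₀, hv₀V₀⟩ : V₀.toScheme) ∈ ((π ∣_ V₀) '' Bad)ᶜ := by
    rintro ⟨z, hz, hzv⟩
    have hπz : π ((π ⁻¹ᵁ V₀).ι z) = v₀ := by
      rw [← hπ₀, hzv]; rfl
    rcases hz with hz | hz
    · obtain ⟨s, hs⟩ := hcov₀ _ hπz
      exact hz (Set.mem_iUnion.mpr ⟨s, hs⟩)
    · obtain ⟨⟨s, s'⟩, hss⟩ := Set.mem_iUnion.mp hz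
      by_cases hne : s = s'
      · simp [hne] at hss
      · simp only [hne, if_false] at hss
        exact hne (hdisj₀ _ hπz s s' hss.1 hss.2)
  have hval₀ : MoreMor.fibreIntegral f w y = ∑ s, G s v₀ := by
    rw [← hgv]
    exact hsum v₀ hcov₀ hdisj₀
  refine ⟨g₀ '' ((π ∣_ V₀) '' Bad)ᶜ, g₀.isConstructible_image hE, ⟨_, hv₀E, ?_⟩, ?_⟩
  · rw [hg₀app]; exact hgv
  · rintro _ ⟨v', hv', rfl⟩
    obtain ⟨hc, hd⟩ := hEpt v' hv'
    rw [hg₀app, hsum _ hc hd, hval₀]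
    refine Finset.sum_congr rfl fun s _ ↦ ?_
    exact (Set.mem_iInter.mp (hV₀N₂ v'.2)) s

end Groth.Agent.Lib.helper13.PC
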