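import Mathlib
import Groth.Agent.Lib.Helper13.PC1
import Groth.Agent.Lib.Helper13.Br10

/-!
# The key fact for `Spec.map φ` with `φ` finite
-/

set_option autoImplicit false

namespace Groth.Agent.Lib.helper13.PC

universe u

open AlgebraicGeometry CategoryTheory Limits Topology

theorem exists_constructible_unique_lift_spec {R C : CommRingCat.{u}} (φ : R ⟶ C)
    (hφ : φ.hom.Finite) (u : Spec C)
    (huniq : ∀ u' : Spec C, (Spec.map φ) u' = (Spec.map φ) u → u' = u)
    (hPI : ((Spec.map φ).residueFieldMap u).hom.IsPurelyInseparable) :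
    ∃ E : Set (Spec R), IsConstructible E ∧ (Spec.map φ) u ∈ E ∧
      ∀ (Ω : Type u) [Field Ω] (xb : Spec (.of Ω) ⟶ Spec R),
        xb (IsLocalRing.closedPoint Ω) ∈ E →
        ∀ ℓ₁ ℓ₂ : Spec (.of Ω) ⟶ Spec C, ℓ₁ ≫ Spec.map φ = xb → ℓ₂ ≫ Spec.map φ = xb →
          ℓ₁ = ℓ₂ := by
  letI : Algebra R C := φ.hom.toAlgebra
  haveI : Module.Finite R C := hφ
  obtain ⟨s, T, hs, hT, hext⟩ := exists_unique_ext
    (R := R) (C := C) ((Spec.map φ).residueFieldMap u).hom hPI
    (Br.specEv R ((Spec.map φ) u)) (Br.specEv C u) (Br.specEv_naturality φ u)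
    (Br.specEv_gen R _) (by
      intro Q hQ hcomap
      rw [Br.ker_specEv] at hcomap ⊢
      have := huniq ⟨Q, hQ⟩ (PrimeSpectrum.ext hcomap)
      exact congrArg PrimeSpectrum.asIdeal this)
  refine ⟨PrimeSpectrum.zeroLocus (↑T : Set R) \ PrimeSpectrum.zeroLocus {s}, ?_, ?_, ?_⟩
  · refine .sdiff ?_ ?_
    · rw [← isConstructible_compl]
      exact (PrimeSpectrum.isRetrocompact_zeroLocus_compl (Finset.finite_toSet T)).isConstructible
        (PrimeSpectrum.isClosed_zeroLocus _).isOpen_compl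
    · rw [← isConstructible_compl]
      exact (PrimeSpectrum.isRetrocompact_zeroLocus_compl (Set.finite_singleton _)).isConstructible
        (PrimeSpectrum.isClosed_zeroLocus _).isOpen_compl
  · constructor
    · intro a ha
      have := hT a ha
      rwa [← RingHom.mem_ker, Br.ker_specEv] at this
    · intro hmem
      apply hs
      have : s ∈ ((Spec.map φ) u).asIdeal := hmem (Set.mem_singleton s)
      rwa [← Br.ker_specEv, RingHom.mem_ker] at this
  · intro Ω _ xb hxb ℓ₁ ℓ₂ h₁ h₂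
    obtain ⟨χ, rfl⟩ := Spec.map_surjective xb
    obtain ⟨ψ₁, rfl⟩ := Spec.map_surjective ℓ₁
    obtain ⟨ψ₂, rfl⟩ := Spec.map_surjective ℓ₂
    rw [← Spec.map_comp] at h₁ h₂
    have e₁ := Spec.map_injective h₁
    have e₂ := Spec.map_injective h₂
    have hmemiff : ∀ a : R, a ∈ ((Spec.map χ) (IsLocalRing.closedPoint Ω)).asIdeal ↔
        χ.hom a = 0 := by
      intro a
      change χ.hom a ∈ IsLocalRing.maximalIdeal Ω ↔ _
      rw [IsLocalRing.mem_maximalIdeal, mem_nonunits_iff, isUnit_iff_ne_zero, not_not]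
    have hχs : χ.hom s ≠ 0 := by
      intro h0
      exact hxb.2 (by
        intro a ha
        rw [Set.mem_singleton_iff] at ha
        subst ha
        exact (hmemiff _).mpr h0)
    have hχT : ∀ a ∈ T, χ.hom a = 0 := fun a ha => (hmemiff a).mp (hxb.1 ha)
    have := hext Ω χ.hom hχs hχT ψ₁.hom ψ₂.hom
      (by rw [← e₁]; rfl) (by rw [← e₂]; rfl)
    rw [show ψ₁ = ψ₂ from CommRingCat.hom_ext this]

end Groth.Agent.Lib.helper13.PC
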