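import Mathlib
import Groth.Agent.Lib.Helper13.PC2
import Groth.Agent.Lib.Helper13.EL7

/-!
# The key fact for finite morphisms of schemes
-/

set_option autoImplicit false

namespace Groth.Agent.Lib.helper13.PC

universe u

open AlgebraicGeometry CategoryTheory Limits Topology

lemma isPurelyInseparable_of_bijective {F E : Type*} [Field F] [Field E] (φ : F →+* E)
    (h : Function.Bijective φ) : φ.IsPurelyInseparable := by
  algebraize [φ]
  obtain ⟨q, hq⟩ := ExpChar.exists F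
  refine (isPurelyInseparable_iff_pow_mem F q).mpr fun x ↦ ⟨0, ?_⟩
  obtain ⟨y, rfl⟩ := h.surjective x
  exact ⟨y, by simp; rfl⟩

lemma isPurelyInseparable_residueFieldMap_of_isOpenImmersion {X Y : Scheme.{u}} (f : X ⟶ Y)
    [IsOpenImmersion f] (x : X) : (f.residueFieldMap x).hom.IsPurelyInseparable :=
  isPurelyInseparable_of_bijective _
    (ConcreteCategory.bijective_of_isIso (f.residueFieldMap x))

/-- Transport of pure inseparability of residue field maps along a commutative square. -/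
lemma isPurelyInseparable_of_comm {U₁ V₁ U₂ V₂ : Scheme.{u}} (a : U₁ ⟶ U₂) (π₁ : U₁ ⟶ V₁)
    (π₂ : U₂ ⟶ V₂) (b : V₁ ⟶ V₂) (hc : a ≫ π₂ = π₁ ≫ b) (u₁ : U₁)
    (ha : (a.residueFieldMap u₁).hom.IsPurelyInseparable)
    (h₂ : (π₂.residueFieldMap (a u₁)).hom.IsPurelyInseparable) :
    (π₁.residueFieldMap u₁).hom.IsPurelyInseparable := by
  have h1 : ((a ≫ π₂).residueFieldMap u₁).hom.IsPurelyInseparable := by
    have e : ((a ≫ π₂).residueFieldMap u₁).hom =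
        (a.residueFieldMap u₁).hom.comp (π₂.residueFieldMap (a u₁)).hom :=
      congrArg CommRingCat.Hom.hom (Scheme.residueFieldMap_comp a π₂ u₁)
    rw [e]
    exact h₂.comp ha
  have h2 : ((π₁ ≫ b).residueFieldMap u₁).hom.IsPurelyInseparable := hc ▸ h1
  have e2 : ((π₁ ≫ b).residueFieldMap u₁).hom =
      (π₁.residueFieldMap u₁).hom.comp (b.residueFieldMap (π₁ u₁)).hom :=
    congrArg CommRingCat.Hom.hom (Scheme.residueFieldMap_comp π₁ b u₁)
  rw [e2] at h2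
  exact EL.isPurelyInseparable_of_comp _ _ h2

/-- **Key fact**, affine base. -/
theorem exists_constructible_unique_lift {U V : Scheme.{u}} (π : U ⟶ V) [IsFinite π] [IsAffine V]
    (u : U) (huniq : ∀ u', π u' = π u → u' = u)
    (hPI : (π.residueFieldMap u).hom.IsPurelyInseparable) :
    ∃ E : Set V, IsConstructible E ∧ π u ∈ E ∧
      ∀ (Ω : Type u) [Field Ω] (xb : Spec (.of Ω) ⟶ V), xb (IsLocalRing.closedPoint Ω) ∈ E →
        ∀ ℓ₁ ℓ₂ : Spec (.of Ω) ⟶ U, ℓ₁ ≫ π = xb → ℓ₂ ≫ π = xb → ℓ₁ = ℓ₂ := by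
  haveI : IsAffine U := isAffine_of_isAffineHom π
  have hfin : (π.appTop).hom.Finite :=
    ((HasAffineProperty.iff_of_isAffine (P := @IsFinite)).mp ‹IsFinite π›).2
  have hnat := Scheme.isoSpec_hom_naturality π
  have hnat' := Scheme.isoSpec_inv_naturality π
  have hnatpt : ∀ z : U, (Spec.map π.appTop) (U.isoSpec.hom z) = V.isoSpec.hom (π z) := by
    intro z
    rw [← Scheme.Hom.comp_apply, hnat, Scheme.Hom.comp_apply]
  have hinvhom : ∀ z : U, U.isoSpec.inv (U.isoSpec.hom z) = z := fun z =>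
    Scheme.hom_inv_apply _ z
  have hhominv : ∀ z, U.isoSpec.hom (U.isoSpec.inv z) = z := fun z =>
    Scheme.inv_hom_apply _ z
  have hVinj : Function.Injective V.isoSpec.hom := by
    intro z z' h
    have := congrArg V.isoSpec.inv h
    rwa [Scheme.hom_inv_apply, Scheme.hom_inv_apply] at this
  obtain ⟨E₀, hE₀, hmem, hlift⟩ := exists_constructible_unique_lift_spec π.appTop hfin
    (U.isoSpec.hom u) (by
      intro u' hu'
      have h1 : V.isoSpec.hom (π (U.isoSpec.inv u')) = V.isoSpec.hom (π u) := by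
        rw [← hnatpt, ← hnatpt, hhominv, hu']
      have h2 := huniq _ (hVinj h1)
      rw [← h2, hhominv])
    (by
      refine isPurelyInseparable_of_comm U.isoSpec.inv (Spec.map π.appTop) π V.isoSpec.inv
        hnat'.symm (U.isoSpec.hom u)
        (isPurelyInseparable_residueFieldMap_of_isOpenImmersion _ _) ?_
      exact (hinvhom u).symm ▸ hPI)
  refine ⟨V.isoSpec.hom ⁻¹' E₀, V.isoSpec.hom.isConstructible_preimage hE₀, ?_, ?_⟩
  · show V.isoSpec.hom (π u) ∈ E₀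
    rw [← hnatpt]; exact hmem
  · intro Ω _ xb hxb ℓ₁ ℓ₂ h₁ h₂
    have e₁ : (ℓ₁ ≫ U.isoSpec.hom) ≫ Spec.map π.appTop = xb ≫ V.isoSpec.hom := by
      rw [Category.assoc, hnat, ← Category.assoc, h₁]
    have e₂ : (ℓ₂ ≫ U.isoSpec.hom) ≫ Spec.map π.appTop = xb ≫ V.isoSpec.hom := by
      rw [Category.assoc, hnat, ← Category.assoc, h₂]
    have := hlift Ω (xb ≫ V.isoSpec.hom) hxb _ _ e₁ e₂
    exact (cancel_mono U.isoSpec.hom).mp this

/-- **Key fact**, arbitrary base: the constructible set lives in a given affine open. -/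
theorem exists_constructible_unique_lift' {U V : Scheme.{u}} (π : U ⟶ V) [IsFinite π]
    (V₀ : V.Opens) (hV₀ : IsAffineOpen V₀) (u : U) (hu : π u ∈ V₀)
    (huniq : ∀ u', π u' = π u → u' = u)
    (hPI : (π.residueFieldMap u).hom.IsPurelyInseparable) :
    ∃ E : Set V₀, IsConstructible E ∧ (⟨π u, hu⟩ : V₀) ∈ E ∧
      ∀ (Ω : Type u) [Field Ω] (xb : Spec (.of Ω) ⟶ V)
        (h : xb (IsLocalRing.closedPoint Ω) ∈ V₀),
        (⟨xb (IsLocalRing.closedPoint Ω), h⟩ : V₀) ∈ E →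
        ∀ ℓ₁ ℓ₂ : Spec (.of Ω) ⟶ U, ℓ₁ ≫ π = xb → ℓ₂ ≫ π = xb → ℓ₁ = ℓ₂ := by
  haveI : IsAffine V₀.toScheme := hV₀
  have hsq : (π ⁻¹ᵁ V₀).ι ≫ π = (π ∣_ V₀) ≫ V₀.ι := (morphismRestrict_ι π V₀).symm
  let u₀ : (π ⁻¹ᵁ V₀).toScheme := ⟨u, hu⟩
  have hu₀ : (π ⁻¹ᵁ V₀).ι u₀ = u := rfl
  have hπ₀ : ∀ z : (π ⁻¹ᵁ V₀).toScheme, V₀.ι ((π ∣_ V₀) z) = π ((π ⁻¹ᵁ V₀).ι z) := by
    intro z
    rw [← Scheme.Hom.comp_apply, ← hsq, Scheme.Hom.comp_apply]
  obtain ⟨E, hE, hmem, hlift⟩ := exists_constructible_unique_lift (π ∣_ V₀) u₀ (by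
      intro u' hu'
      have h1 : π ((π ⁻¹ᵁ V₀).ι u') = π u := by
        rw [← hπ₀, hu', hπ₀]; rfl
      have h2 := huniq _ h1
      exact (π ⁻¹ᵁ V₀).ι.injective (h2.trans hu₀.symm))
    (isPurelyInseparable_of_comm (π ⁻¹ᵁ V₀).ι (π ∣_ V₀) π V₀.ι hsq u₀
      (isPurelyInseparable_residueFieldMap_of_isOpenImmersion _ _) hPI)
  refine ⟨E, hE, ?_, ?_⟩
  · have : (π ∣_ V₀) u₀ = ⟨π u, hu⟩ := V₀.ι.injective (by rw [hπ₀]; rfl)
    rw [← this]; exact hmem
  · intro Ω _ xb h hxbE ℓ₁ ℓ₂ h₁ h₂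
    have hpt : ∀ z : Spec (.of Ω), z = IsLocalRing.closedPoint Ω := fun z =>
      Subsingleton.elim _ _
    have hr : Set.range xb ⊆ Set.range V₀.ι := by
      rintro _ ⟨z, rfl⟩
      rw [hpt z, Scheme.Opens.range_ι]
      exact h
    have hrℓ : ∀ ℓ : Spec (.of Ω) ⟶ U, ℓ ≫ π = xb → Set.range ℓ ⊆ Set.range (π ⁻¹ᵁ V₀).ι := by
      rintro ℓ hℓ _ ⟨z, rfl⟩
      rw [hpt z, Scheme.Opens.range_ι]
      show π (ℓ (IsLocalRing.closedPoint Ω)) ∈ V₀
      rw [← Scheme.Hom.comp_apply, hℓ]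
      exact h
    let xb' := IsOpenImmersion.lift V₀.ι xb hr
    have hxb' : xb' ≫ V₀.ι = xb := IsOpenImmersion.lift_fac _ _ _
    have key : ∀ (ℓ : Spec (.of Ω) ⟶ U) (hℓ : ℓ ≫ π = xb),
        IsOpenImmersion.lift (π ⁻¹ᵁ V₀).ι ℓ (hrℓ ℓ hℓ) ≫ (π ∣_ V₀) = xb' := by
      intro ℓ hℓ
      rw [← cancel_mono V₀.ι, Category.assoc, ← hsq, ← Category.assoc,
        IsOpenImmersion.lift_fac, hℓ, hxb']
    have hxb'E : xb' (IsLocalRing.closedPoint Ω) ∈ E := by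
      have : xb' (IsLocalRing.closedPoint Ω) = ⟨xb (IsLocalRing.closedPoint Ω), h⟩ :=
        V₀.ι.injective (by rw [← Scheme.Hom.comp_apply, hxb']; rfl)
      rw [this]; exact hxbE
    have := hlift Ω xb' hxb'E _ _ (key ℓ₁ h₁) (key ℓ₂ h₂)
    have e := congrArg (· ≫ (π ⁻¹ᵁ V₀).ι) this
    simpa only [IsOpenImmersion.lift_fac] using e

end Groth.Agent.Lib.helper13.PC
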