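import Mathlib
import Groth.Prelude.Def_MoreMor
import Groth.Agent.Lib.Helper13.PC3
import Groth.Agent.Lib.Helper13.EL8
import Groth.Agent.Lib.Helper13.WT8
import Groth.Agent.Lib.Helper13.WT5

/-!
# Weightings are constant on constructible neighbourhoods
-/

set_option autoImplicit false

namespace Groth.Agent.Lib.helper13.PC

universe u

open AlgebraicGeometry CategoryTheory Limits Topology

/-- If the geometric point over `π t` has only one lift, the fibre integral at `π t` is `w' t`. -/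
lemma fibreIntegral_eq_of_unique_lift {U V : Scheme.{u}} (π : U ⟶ V) [IsFinite π] (w' : U → ℤ)
    (t : U)
    (hsub : ∀ (Ω : Type u) [Field Ω] (xb : Spec (.of Ω) ⟶ V),
      xb (IsLocalRing.closedPoint Ω) = π t →
      ∀ ℓ₁ ℓ₂ : Spec (.of Ω) ⟶ U, ℓ₁ ≫ π = xb → ℓ₂ ≫ π = xb → ℓ₁ = ℓ₂) :
    MoreMor.fibreIntegral π w' (π t) = w' t := by
  obtain ⟨Ω, _, _, xb, hxb⟩ := WT.exists_geometric_point (π t)
  have hres : ∀ p : U, (π.residueFieldMap p).hom.Finite := fun p =>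
    EL.finite_residueFieldMap_of_quasiFiniteAt (π.quasiFiniteAt p)
  unfold MoreMor.fibreIntegral
  rw [WT.fibreIntegral_eq_finsum_lifts π Ω w' xb (π t) hxb
    (Scheme.Hom.finite_preimage_singleton π (π t)) (fun p _ => hres p)]
  obtain ⟨ℓ₀, hℓ₀⟩ := WT.exists_lift_of_mem_fibre π Ω xb t hxb.symm (hres t)
  rw [finsum_eq_single (fun ℓ : {ℓ : Spec (.of Ω) ⟶ U // ℓ ≫ π = xb} =>
    w' (ℓ.1 (IsLocalRing.closedPoint Ω))) ℓ₀
    (fun ℓ hne => absurd (Subtype.ext (hsub Ω xb hxb _ _ ℓ.2 ℓ₀.2)) hne)]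
  exact congrArg w' hℓ₀

theorem exists_constructible_nbhd_const {X Y : Scheme.{u}} (f : X ⟶ Y) [LocallyQuasiFinite f]
    [LocallyOfFiniteType f] [IsAffine X]
    (w : X → ℤ) (hw : MoreMor.IsWeighting f w) (x : X) :
    ∃ O : Set X, IsConstructible O ∧ x ∈ O ∧ ∀ x' ∈ O, w x' = w x := by
  classical
  obtain ⟨V, g, v, hg, hgv, J, hJ, Vo, vp, hgood, hPI, hvinj, hex⟩ :=
    EL.exists_etale_nbhd_purelyInseparable (f := f) (f x) (fun _ : Unit => x) (fun _ => rfl)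
      (fun _ => f.quasiFiniteAt x)
  obtain ⟨w₀, hw₀1, hw₀2⟩ := Scheme.Pullback.exists_preimage_pullback (f := f) (g := g) x v
    hgv.symm
  obtain ⟨j, hj⟩ := hex w₀ () hw₀2 hw₀1
  have hG := hgood () j
  have hPIu := hPI () j
  -- the finite morphism
  obtain ⟨π, hπ⟩ : ∃ π : (Vo () j).toScheme ⟶ V, π = (Vo () j).ι ≫ pullback.snd f g := ⟨_, rfl⟩
  haveI : IsFinite π := hπ ▸ hG.finite
  let u' : (Vo () j).toScheme := ⟨vp () j, hG.mem⟩
  have hu'ι : (Vo () j).ι u' = vp () j := rfl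
  have hπapp : ∀ t, π t = pullback.snd f g ((Vo () j).ι t) := by
    intro t; rw [hπ, Scheme.Hom.comp_apply]
  have hπu' : π u' = v := by rw [hπapp, hu'ι, hG.snd_eq]
  have huniq : ∀ t, π t = π u' → t = u' := by
    intro t ht
    apply (Vo () j).ι.injective
    rw [hu'ι]
    exact hG.uniq _ t.2 (by rw [← hπapp, ht, hπu'])
  have hPIπ : (π.residueFieldMap u').hom.IsPurelyInseparable :=
    isPurelyInseparable_of_comm (Vo () j).ι π (pullback.snd f g) (𝟙 V)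
      (by rw [Category.comp_id, hπ]) u'
      (isPurelyInseparable_residueFieldMap_of_isOpenImmersion _ _) hPIu
  -- the locally constant integral
  let w' : (Vo () j).toScheme → ℤ := fun t => w (pullback.fst f g ((Vo () j).ι t))
  have hGlc : IsLocallyConstant (MoreMor.fibreIntegral π w') := by
    have := hw V g (Vo () j) hG.finite
    rw [← hπ] at this
    exact this
  -- an affine open neighbourhood of `v`
  obtain ⟨V₀, hV₀', hvV₀⟩ : ∃ V₀ : V.Opens, IsAffineOpen V₀ ∧ v ∈ V₀ := by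
    obtain ⟨_, ⟨V₀, hV₀, rfl⟩, hvV₀, -⟩ := V.isBasis_affineOpens.exists_subset_of_mem_open
      (Set.mem_univ v) isOpen_univ
    exact ⟨V₀, hV₀, hvV₀⟩
  haveI : IsAffine V₀.toScheme := hV₀'
  have hu'V₀ : π u' ∈ V₀ := by rw [hπu']; exact hvV₀
  obtain ⟨E, hE, hmemE, hliftE⟩ := exists_constructible_unique_lift' π V₀ hV₀' u' hu'V₀ huniq hPIπ
  -- the level set of the integral
  let L : Set V₀.toScheme := V₀.ι ⁻¹' (MoreMor.fibreIntegral π w' ⁻¹' {MoreMor.fibreIntegral π w' v})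
  have hLopen : IsOpen L := (hGlc.isOpen_fiber _).preimage V₀.ι.continuous
  have hLclosed : IsClosed L := (hGlc.isClosed_fiber _).preimage V₀.ι.continuous
  have hLc : IsConstructible L := hLclosed.isCompact.isConstructible hLopen
  have hE' : IsConstructible (E ∩ L) := hE.inter hLc
  -- the étale map to `X`
  let h : (π ⁻¹ᵁ V₀).toScheme ⟶ X := (π ⁻¹ᵁ V₀).ι ≫ (Vo () j).ι ≫ pullback.fst f g
  haveI : IsAffine (π ⁻¹ᵁ V₀).toScheme := isAffine_of_isAffineHom (π ∣_ V₀)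
  haveI : QuasiCompact h := (HasAffineProperty.iff_of_isAffine (P := @QuasiCompact)).mpr
    inferInstance
  have hπ₀ : ∀ z : (π ⁻¹ᵁ V₀).toScheme, V₀.ι ((π ∣_ V₀) z) = π ((π ⁻¹ᵁ V₀).ι z) := by
    intro z
    rw [← Scheme.Hom.comp_apply, morphismRestrict_ι, Scheme.Hom.comp_apply]
  have hval : ∀ t : (π ⁻¹ᵁ V₀).toScheme, (π ∣_ V₀) t ∈ E →
      MoreMor.fibreIntegral π w' (π ((π ⁻¹ᵁ V₀).ι t)) = w (h t) := by
    intro t ht
    have hmem : π ((π ⁻¹ᵁ V₀).ι t) ∈ V₀ := t.2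
    have hpt : (⟨π ((π ⁻¹ᵁ V₀).ι t), hmem⟩ : V₀.toScheme) = (π ∣_ V₀) t :=
      V₀.ι.injective (by rw [hπ₀]; rfl)
    rw [fibreIntegral_eq_of_unique_lift π w' ((π ⁻¹ᵁ V₀).ι t)]
    · rfl
    · intro Ω _ xb hxb ℓ₁ ℓ₂ h₁ h₂
      have hxbmem : xb (IsLocalRing.closedPoint Ω) ∈ V₀ := hxb ▸ hmem
      refine hliftE Ω xb hxbmem ?_ ℓ₁ ℓ₂ h₁ h₂
      have : (⟨xb (IsLocalRing.closedPoint Ω), hxbmem⟩ : V₀.toScheme) = (π ∣_ V₀) t := by
        rw [← hpt]; exact Subtype.ext hxb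
      rw [this]; exact ht
  let t₀ : (π ⁻¹ᵁ V₀).toScheme := ⟨u', hu'V₀⟩
  have ht₀ι : (π ⁻¹ᵁ V₀).ι t₀ = u' := rfl
  have ht₀E : (π ∣_ V₀) t₀ ∈ E := by
    have : (π ∣_ V₀) t₀ = ⟨π u', hu'V₀⟩ := V₀.ι.injective (by rw [hπ₀]; rfl)
    rw [this]; exact hmemE
  have hht₀ : h t₀ = x := by
    show pullback.fst f g ((Vo () j).ι ((π ⁻¹ᵁ V₀).ι t₀)) = x
    rw [ht₀ι, hu'ι, hG.fst_eq]
  have hvalx : MoreMor.fibreIntegral π w' v = w x := by
    have := hval t₀ ht₀E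
    rwa [ht₀ι, hπu', hht₀] at this
  refine ⟨h '' ((π ∣_ V₀) ⁻¹' (E ∩ L)), ?_, ?_, ?_⟩
  · exact h.isConstructible_image ((π ∣_ V₀).isConstructible_preimage hE')
  · refine ⟨t₀, ⟨ht₀E, ?_⟩, hht₀⟩
    show MoreMor.fibreIntegral π w' (V₀.ι ((π ∣_ V₀) t₀)) = MoreMor.fibreIntegral π w' v
    rw [hπ₀, ht₀ι, hπu']
  · rintro _ ⟨t, ⟨htE, htL⟩, rfl⟩
    have h1 := hval t htE
    have h2 : MoreMor.fibreIntegral π w' (V₀.ι ((π ∣_ V₀) t)) = MoreMor.fibreIntegral π w' v := htL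
    rw [hπ₀] at h2
    rw [← h1, h2, hvalx]

end Groth.Agent.Lib.helper13.PC
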