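import Mathlib
import Groth.Prelude.Def_MoreMor
import Groth.Agent.Lib.Helper13.PC4
import Groth.Agent.Lib.Helper13.PC5
import Groth.Agent.Lib.Helper13.WT6

/-!
# Restriction of weightings to opens; finite constructible partitions
-/

set_option autoImplicit false

namespace Groth.Agent.Lib.helper13.PC

universe u

open AlgebraicGeometry CategoryTheory Limits Topology

/-- The restriction of a weighting to an open subscheme is a weighting. -/
theorem isWeighting_restrict {X Y : Scheme.{u}} (f : X ⟶ Y) (w : X → ℤ)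
    (hw : MoreMor.IsWeighting f w) (X₀ : X.Opens) :
    MoreMor.IsWeighting (X₀.ι ≫ f) (fun t => w (X₀.ι t)) := by
  intro V g _ U hU
  haveI : IsOpenImmersion (WT.mapComp X₀.ι f g) :=
    MorphismProperty.of_isPullback (P := @IsOpenImmersion) (WT.isPullback_mapComp X₀.ι f g)
      inferInstance
  obtain ⟨j, hj⟩ : ∃ j : pullback (X₀.ι ≫ f) g ⟶ pullback f g, j = WT.mapComp X₀.ι f g :=
    ⟨_, rfl⟩
  haveI : IsOpenImmersion j := hj ▸ inferInstance
  have hjfst : j ≫ pullback.fst f g = pullback.fst (X₀.ι ≫ f) g ≫ X₀.ι := by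
    rw [hj, WT.mapComp_fst]
  have hjsnd : j ≫ pullback.snd f g = pullback.snd (X₀.ι ≫ f) g := by
    rw [hj, WT.mapComp_snd]
  have hcomm : (j.isoImage U).hom ≫ (j ''ᵁ U).ι ≫ pullback.snd f g =
      (U.ι ≫ pullback.snd (X₀.ι ≫ f) g) ≫ 𝟙 V := by
    rw [Category.comp_id, ← Category.assoc, Scheme.Hom.isoImage_hom_ι, Category.assoc, hjsnd]
  have hfin' : IsFinite ((j ''ᵁ U).ι ≫ pullback.snd f g) := by
    have e : (j ''ᵁ U).ι ≫ pullback.snd f g =
        (j.isoImage U).inv ≫ (U.ι ≫ pullback.snd (X₀.ι ≫ f) g) := by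
      rw [Iso.eq_inv_comp, hcomm, Category.comp_id]
    rw [e]
    haveI := hU
    infer_instance
  have hlc := hw V g (j ''ᵁ U) hfin'
  haveI := hU
  haveI := hfin'
  have hsq : IsPullback (j.isoImage U).hom (U.ι ≫ pullback.snd (X₀.ι ≫ f) g)
      ((j ''ᵁ U).ι ≫ pullback.snd f g) (𝟙 V) := IsPullback.of_horiz_isIso ⟨hcomm⟩
  have hres : ∀ {A B : Scheme.{u}} (π : A ⟶ B) [IsFinite π] (p : A),
      (π.residueFieldMap p).hom.Finite := fun π _ p =>
    EL.finite_residueFieldMap_of_quasiFiniteAt (π.quasiFiniteAt p)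
  have heq : MoreMor.fibreIntegral (U.ι ≫ pullback.snd (X₀.ι ≫ f) g)
      (fun u => (fun t => w (X₀.ι t)) (pullback.fst (X₀.ι ≫ f) g (U.ι u))) =
      MoreMor.fibreIntegral ((j ''ᵁ U).ι ≫ pullback.snd f g)
        (fun u => w (pullback.fst f g ((j ''ᵁ U).ι u))) := by
    funext v
    have h1 := WT.fibreIntegral_baseChange hsq
      (fun u => w (pullback.fst f g ((j ''ᵁ U).ι u))) v
      (Scheme.Hom.finite_preimage_singleton _ _) (hres _) (hres _)
    unfold MoreMor.fibreIntegral
    refine Eq.trans ?_ h1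
    have hfun : ∀ t : U.toScheme, w (X₀.ι (pullback.fst (X₀.ι ≫ f) g (U.ι t))) =
        w (pullback.fst f g ((j ''ᵁ U).ι ((j.isoImage U).hom t))) := by
      intro t
      congr 1
      have hmor : U.ι ≫ pullback.fst (X₀.ι ≫ f) g ≫ X₀.ι =
          (j.isoImage U).hom ≫ (j ''ᵁ U).ι ≫ pullback.fst f g := by
        rw [← Category.assoc (j.isoImage U).hom, Scheme.Hom.isoImage_hom_ι, Category.assoc,
          hjfst]
      rw [← Scheme.Hom.comp_apply, ← Scheme.Hom.comp_apply, ← Scheme.Hom.comp_apply,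
        ← Scheme.Hom.comp_apply, hmor]
    simp only [hfun]
  rw [heq]
  exact hlc

/-- On an affine source, a weighting is constant on the pieces of a finite constructible cover. -/
theorem exists_finite_constructible_cover {X Y : Scheme.{u}} (f : X ⟶ Y) [LocallyQuasiFinite f]
    [LocallyOfFiniteType f] [IsAffine X] (w : X → ℤ) (hw : MoreMor.IsWeighting f w) :
    ∃ (s : Finset X) (O : X → Set X), (∀ x, IsConstructible (O x)) ∧ (∀ x, x ∈ O x) ∧
      (∀ x, ∀ x' ∈ O x, w x' = w x) ∧ ∀ x', ∃ x ∈ s, x' ∈ O x := by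
  choose O hO hmem hconst using exists_constructible_nbhd_const f w hw
  obtain ⟨s, hs⟩ := exists_finset_cover_of_isConstructible O hO (fun x => ⟨x, hmem x⟩)
  exact ⟨s, O, hO, hmem, hconst, hs⟩

end Groth.Agent.Lib.helper13.PC
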