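import Mathlib

/-!
# Uniform bound on the number of geometric points in fibres of a quasi-finite algebra
-/

set_option autoImplicit false

namespace Groth.Agent.Lib.helper13.PC

universe u

/-- Algebra homomorphisms from a module-finite algebra to a domain: at most as many as
generators. -/
lemma card_algHom_le_of_span_eq_top {R A : Type*} [CommRing R] [CommRing A] [Algebra R A]
    (Ω : Type*) [Field Ω] [Algebra R Ω] (G : Finset A)
    (hG : Submodule.span R (↑G : Set A) = ⊤) :
    Finite (A →ₐ[R] Ω) ∧ Nat.card (A →ₐ[R] Ω) ≤ G.card := by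
  classical
  have hli := linearIndependent_toLinearMap R A Ω
  let ev : (A →ₗ[R] Ω) →ₗ[Ω] (G → Ω) :=
    { toFun := fun φ g => φ g.1
      map_add' := fun _ _ => rfl
      map_smul' := fun _ _ => rfl }
  have hev : LinearMap.ker ev = ⊥ := by
    rw [LinearMap.ker_eq_bot']
    intro φ hφ
    apply LinearMap.ext_on hG
    intro g hg
    exact congrFun hφ ⟨g, hg⟩
  have hli' := hli.map' ev hev
  haveI : Finite (A →ₐ[R] Ω) := hli'.finite
  refine ⟨inferInstance, ?_⟩
  haveI := Fintype.ofFinite (A →ₐ[R] Ω)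
  have := hli'.fintype_card_le_finrank
  rw [Module.finrank_fintype_fun_eq_card, Fintype.card_coe] at this
  rwa [Nat.card_eq_fintype_card]

variable {R B : Type u} [CommRing R] [CommRing B] [Algebra R B]

/-- **Uniform bound** on the number of extensions of a homomorphism to a field along a quasi-finite
algebra of finite type. -/
theorem exists_bound_ext [Algebra.FiniteType R B] [Algebra.QuasiFinite R B] :
    ∃ N : ℕ, ∀ (Ω : Type u) [Field Ω] (χ : R →+* Ω) (S : Finset (B →+* Ω)),
      (∀ ψ ∈ S, ψ.comp (algebraMap R B) = χ) → S.card ≤ N := by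
  classical
  have hzmt : ∀ q : PrimeSpectrum B, ∃ B' : Subalgebra R B, B'.toSubmodule.FG ∧ ∃ r : B',
      r.1 ∉ q.asIdeal ∧ Function.Bijective (Localization.awayMap B'.val.toRingHom r) := fun q =>
    Algebra.QuasiFiniteAt.exists_fg_and_exists_notMem_and_awayMap_bijective q.asIdeal
  choose B' hfg r hr hbij using hzmt
  -- module generators
  have hgen : ∀ q, ∃ G : Finset (B' q), Submodule.span R (↑G : Set (B' q)) = ⊤ := by
    intro q
    have : Module.Finite R (B' q) := ⟨(Submodule.fg_top _).mpr (hfg q)⟩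
    exact Module.Finite.fg_top
  choose G hG using hgen
  -- finitely many `r q` generate the unit ideal
  have hspan : Ideal.span (Set.range fun q => (r q).1) = ⊤ := by
    by_contra hne
    obtain ⟨m, hm, hle⟩ := Ideal.exists_le_maximal _ hne
    exact hr ⟨m, hm.isPrime⟩ (hle (Ideal.subset_span ⟨⟨m, hm.isPrime⟩, rfl⟩))
  have h1 : (1 : B) ∈ Ideal.span (Set.range fun q => (r q).1) := by rw [hspan]; trivial
  obtain ⟨T, hT, h1T⟩ := Submodule.mem_span_finite_of_mem_span h1
  have hTq : ∀ t ∈ T, ∃ q, (r q).1 = t := fun t ht => hT ht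
  choose qq hqq using hTq
  let F : Finset (PrimeSpectrum B) := T.attach.image (fun t => qq t.1 t.2)
  refine ⟨∑ q ∈ F, (G q).card, ?_⟩
  intro Ω _ χ S hS
  letI : Algebra R Ω := χ.toAlgebra
  -- each `ψ` is nonzero at some `r q`, `q ∈ F`
  have hex : ∀ ψ ∈ S, ∃ q ∈ F, ψ (r q).1 ≠ 0 := by
    intro ψ _
    by_contra hcon
    push Not at hcon
    have hle : Ideal.span (↑T : Set B) ≤ RingHom.ker ψ := by
      rw [Ideal.span_le]
      intro t ht
      have := hcon (qq t ht) (Finset.mem_image.mpr ⟨⟨t, ht⟩, Finset.mem_attach _ _, rfl⟩)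
      rw [hqq t ht] at this
      exact this
    have := hle h1T
    rw [RingHom.mem_ker, map_one] at this
    exact one_ne_zero this
  have hsub : S ⊆ F.biUnion (fun q => S.filter (fun ψ => ψ (r q).1 ≠ 0)) := by
    intro ψ hψ
    obtain ⟨q, hq, hne⟩ := hex ψ hψ
    exact Finset.mem_biUnion.mpr ⟨q, hq, Finset.mem_filter.mpr ⟨hψ, hne⟩⟩
  refine (Finset.card_le_card hsub).trans (Finset.card_biUnion_le.trans ?_)
  refine Finset.sum_le_sum fun q _ => ?_
  obtain ⟨hfin, hcard⟩ := card_algHom_le_of_span_eq_top (R := R) (A := B' q) Ω (G q) (hG q)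
  haveI := Fintype.ofFinite (B' q →ₐ[R] Ω)
  rw [Nat.card_eq_fintype_card] at hcard
  refine le_trans ?_ hcard
  -- restriction to `B' q`
  have hcomm : ∀ ψ ∈ S, ∀ a : R, ψ (algebraMap R B a) = χ a := fun ψ hψ a =>
    congrFun (congrArg DFunLike.coe (hS ψ hψ)) a
  let res : {ψ // ψ ∈ S.filter (fun ψ => ψ (r q).1 ≠ 0)} → (B' q →ₐ[R] Ω) := fun ψ =>
    { toRingHom := ψ.1.comp (B' q).val.toRingHom
      commutes' := fun a => hcomm ψ.1 (Finset.mem_filter.mp ψ.2).1 a }
  have hres : ∀ ψ (b : B' q), res ψ b = ψ.1 b.1 := fun ψ b => rfl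
  have hinj : Function.Injective res := by
    intro ψ₁ ψ₂ heq
    have h₁ := Finset.mem_filter.mp ψ₁.2
    have h₂ := Finset.mem_filter.mp ψ₂.2
    have hsurj := (Localization.awayMap_surjective_iff).mp (hbij q).2
    have hrq : ψ₁.1 (r q).1 = ψ₂.1 (r q).1 := by
      rw [← hres ψ₁, ← hres ψ₂, heq]
    apply Subtype.ext
    ext b
    obtain ⟨b', m, hb'⟩ := hsurj b
    have e1 : ψ₁.1 b'.1 = ψ₂.1 b'.1 := by rw [← hres ψ₁, ← hres ψ₂, heq]
    have hb'' : b'.1 = (r q).1 ^ m * b := hb'
    rw [hb'', map_mul, map_mul, map_pow, map_pow, hrq] at e1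
    exact mul_left_cancel₀ (pow_ne_zero m h₂.2) e1
  have := Fintype.card_le_of_injective res hinj
  rwa [Fintype.card_coe] at this

end Groth.Agent.Lib.helper13.PC
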