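import Mathlib
import Groth.Agent.Lib.Helper13.PC7

/-!
# Uniform bound on the number of lifts of geometric points along a quasi-finite morphism
-/

set_option autoImplicit false

namespace Groth.Agent.Lib.helper13.PC

universe u

open AlgebraicGeometry CategoryTheory Limits

theorem exists_bound_lifts {X Y : Scheme.{u}} (f : X ⟶ Y) [LocallyQuasiFinite f]
    [LocallyOfFiniteType f] [IsAffine X] [IsAffine Y] :
    ∃ N : ℕ, ∀ (Ω : Type u) [Field Ω] (xb : Spec (.of Ω) ⟶ Y)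
      (S : Finset (Spec (.of Ω) ⟶ X)), (∀ ℓ ∈ S, ℓ ≫ f = xb) → S.card ≤ N := by
  classical
  letI : Algebra Γ(Y, ⊤) Γ(X, ⊤) := f.appTop.hom.toAlgebra
  haveI : Algebra.FiniteType Γ(Y, ⊤) Γ(X, ⊤) :=
    (HasRingHomProperty.iff_of_isAffine (P := @LocallyOfFiniteType)).mp ‹_›
  haveI : Algebra.QuasiFinite Γ(Y, ⊤) Γ(X, ⊤) :=
    (HasRingHomProperty.iff_of_isAffine (P := @LocallyQuasiFinite)).mp ‹_›
  obtain ⟨N, hN⟩ := exists_bound_ext (R := Γ(Y, ⊤)) (B := Γ(X, ⊤))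
  refine ⟨N, fun Ω _ xb S hS => ?_⟩
  let ψ : (Spec (.of Ω) ⟶ X) → (Γ(X, ⊤) →+* Ω) := fun ℓ =>
    (Spec.preimage (ℓ ≫ X.isoSpec.hom)).hom
  have hψinj : Function.Injective ψ := by
    intro ℓ₁ ℓ₂ h
    have h' : Spec.preimage (ℓ₁ ≫ X.isoSpec.hom) = Spec.preimage (ℓ₂ ≫ X.isoSpec.hom) :=
      CommRingCat.hom_ext h
    have := congrArg Spec.map h'
    rw [Spec.map_preimage, Spec.map_preimage] at this
    exact (cancel_mono X.isoSpec.hom).mp this
  have hcard : (S.image ψ).card = S.card := Finset.card_image_of_injective _ hψinj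
  rw [← hcard]
  refine hN Ω (Spec.preimage (xb ≫ Y.isoSpec.hom)).hom (S.image ψ) ?_
  intro ψ' hψ'
  obtain ⟨ℓ, hℓ, rfl⟩ := Finset.mem_image.mp hψ'
  have hℓ' := hS ℓ hℓ
  have key : f.appTop ≫ Spec.preimage (ℓ ≫ X.isoSpec.hom) =
      Spec.preimage (xb ≫ Y.isoSpec.hom) := by
    apply Spec.map_injective
    rw [Spec.map_comp, Spec.map_preimage, Spec.map_preimage, Category.assoc,
      Scheme.isoSpec_hom_naturality, ← Category.assoc, hℓ']
  exact congrArg CommRingCat.Hom.hom key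

end Groth.Agent.Lib.helper13.PC
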