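import Mathlib
import Groth.Prelude.Def_MoreMor
import Groth.Agent.Lib.Helper13.PC6
import Groth.Agent.Lib.Helper13.PC8

/-!
# Bounds for weightings and lifts on quasi-compact sources
-/

set_option autoImplicit false

namespace Groth.Agent.Lib.helper13.PC

universe u

open AlgebraicGeometry CategoryTheory Limits Topology

lemma finite_and_card_le_of_forall_finset {α : Type*} (N : ℕ)
    (h : ∀ S : Finset α, S.card ≤ N) : Finite α ∧ Nat.card α ≤ N := by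
  have hfin : Finite α := by
    by_contra hinf
    rw [not_finite_iff_infinite] at hinf
    obtain ⟨t, -, ht⟩ := (Set.infinite_univ (α := α)).exists_subset_card_eq (N + 1)
    have := h t
    omega
  refine ⟨hfin, ?_⟩
  haveI := Fintype.ofFinite α
  rw [Nat.card_eq_fintype_card, ← Finset.card_univ]
  exact h _

/-- Lifts of geometric points along a quasi-finite morphism from an affine scheme landing in an
affine open are uniformly bounded in number. -/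
theorem exists_bound_lifts_of_range_subset {X Y : Scheme.{u}} (g : X ⟶ Y) [LocallyQuasiFinite g]
    [LocallyOfFiniteType g] [IsAffine X] (Y₀ : Y.Opens) (hY₀ : IsAffineOpen Y₀)
    (hr : Set.range g ⊆ Y₀) :
    ∃ N : ℕ, ∀ (Ω : Type u) [Field Ω] (xb : Spec (.of Ω) ⟶ Y),
      Finite {ℓ : Spec (.of Ω) ⟶ X // ℓ ≫ g = xb} ∧
      Nat.card {ℓ : Spec (.of Ω) ⟶ X // ℓ ≫ g = xb} ≤ N := by
  classical
  haveI : IsAffine Y₀.toScheme := hY₀
  have hr' : Set.range g ⊆ Set.range Y₀.ι := by rwa [Scheme.Opens.range_ι]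
  obtain ⟨g', hg'⟩ : ∃ g' : X ⟶ Y₀.toScheme, g' ≫ Y₀.ι = g :=
    ⟨IsOpenImmersion.lift Y₀.ι g hr', IsOpenImmersion.lift_fac _ _ _⟩
  haveI : LocallyQuasiFinite (g' ≫ Y₀.ι) := hg' ▸ inferInstance
  haveI : LocallyOfFiniteType (g' ≫ Y₀.ι) := hg' ▸ inferInstance
  haveI : LocallyQuasiFinite g' := LocallyQuasiFinite.of_comp g' Y₀.ι
  haveI : LocallyOfFiniteType g' := locallyOfFiniteType_of_comp g' Y₀.ι
  obtain ⟨N, hN⟩ := exists_bound_lifts g'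
  refine ⟨N, fun Ω _ xb => finite_and_card_le_of_forall_finset N fun S => ?_⟩
  rcases S.eq_empty_or_nonempty with rfl | ⟨ℓ₀, hℓ₀⟩
  · simp
  · have hpt : ∀ z : Spec (.of Ω), z = IsLocalRing.closedPoint Ω := fun z =>
      Subsingleton.elim _ _
    have hrxb : Set.range xb ⊆ Set.range Y₀.ι := by
      rintro _ ⟨z, rfl⟩
      rw [← ℓ₀.2, Scheme.Hom.comp_apply]
      exact hr' ⟨_, rfl⟩
    obtain ⟨xb', hxb'⟩ : ∃ xb' : Spec (.of Ω) ⟶ Y₀.toScheme, xb' ≫ Y₀.ι = xb :=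
      ⟨IsOpenImmersion.lift Y₀.ι xb hrxb, IsOpenImmersion.lift_fac _ _ _⟩
    have := hN Ω xb' (S.image Subtype.val) (by
      intro ℓ hℓ
      obtain ⟨ℓ', _, rfl⟩ := Finset.mem_image.mp hℓ
      rw [← cancel_mono Y₀.ι, Category.assoc, hg', hxb']
      exact ℓ'.2)
    rwa [Finset.card_image_of_injective _ Subtype.val_injective] at this

section Compact

variable {X Y : Scheme.{u}} (f : X ⟶ Y) [LocallyQuasiFinite f] [LocallyOfFiniteType f]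
  [CompactSpace X]

omit [LocallyQuasiFinite f] [LocallyOfFiniteType f] in
/-- A finite cover of a quasi-compact `X` by affine opens mapping into affine opens of `Y`. -/
lemma exists_finite_affine_cover :
    ∃ (s : Finset X) (X₀ : X → X.Opens) (Y₀ : X → Y.Opens), (∀ x, IsAffineOpen (X₀ x)) ∧
      (∀ x, IsAffineOpen (Y₀ x)) ∧ (∀ x, X₀ x ≤ f ⁻¹ᵁ Y₀ x) ∧ ∀ p : X, ∃ x ∈ s, p ∈ X₀ x := by
  have h1 : ∀ x : X, ∃ (X₀ : X.Opens) (Y₀ : Y.Opens), IsAffineOpen X₀ ∧ IsAffineOpen Y₀ ∧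
      X₀ ≤ f ⁻¹ᵁ Y₀ ∧ x ∈ X₀ := by
    intro x
    obtain ⟨_, ⟨Y₀, hY₀, rfl⟩, hy, -⟩ := Y.isBasis_affineOpens.exists_subset_of_mem_open
      (Set.mem_univ (f x)) isOpen_univ
    obtain ⟨_, ⟨X₀, hX₀, rfl⟩, hx, hle⟩ := X.isBasis_affineOpens.exists_subset_of_mem_open
      (show x ∈ ((f ⁻¹ᵁ Y₀ : X.Opens) : Set X) from hy) (f ⁻¹ᵁ Y₀).2
    exact ⟨X₀, Y₀, hX₀, hY₀, hle, hx⟩
  choose X₀ Y₀ hX₀ hY₀ hle hx using h1
  obtain ⟨s, hs⟩ := isCompact_univ.elim_finite_subcover (fun x => (X₀ x : Set X))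
    (fun x => (X₀ x).2) (fun p _ => Set.mem_iUnion.mpr ⟨p, hx p⟩)
  refine ⟨s, X₀, Y₀, hX₀, hY₀, hle, fun p => ?_⟩
  have := hs (Set.mem_univ p)
  simpa using this

/-- Lifts of geometric points are uniformly bounded in number. -/
theorem exists_bound_lifts_of_compact :
    ∃ N : ℕ, ∀ (Ω : Type u) [Field Ω] (xb : Spec (.of Ω) ⟶ Y),
      Finite {ℓ : Spec (.of Ω) ⟶ X // ℓ ≫ f = xb} ∧
      Nat.card {ℓ : Spec (.of Ω) ⟶ X // ℓ ≫ f = xb} ≤ N := by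
  classical
  obtain ⟨s, X₀, Y₀, hX₀, hY₀, hle, hcov⟩ := exists_finite_affine_cover f
  have hN : ∀ x, ∃ N : ℕ, ∀ (Ω : Type u) [Field Ω] (xb : Spec (.of Ω) ⟶ Y),
      Finite {ℓ : Spec (.of Ω) ⟶ (X₀ x).toScheme // ℓ ≫ ((X₀ x).ι ≫ f) = xb} ∧
      Nat.card {ℓ : Spec (.of Ω) ⟶ (X₀ x).toScheme // ℓ ≫ ((X₀ x).ι ≫ f) = xb} ≤ N := by
    intro x
    haveI : IsAffine (X₀ x).toScheme := hX₀ x
    refine exists_bound_lifts_of_range_subset ((X₀ x).ι ≫ f) (Y₀ x) (hY₀ x) ?_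
    rintro _ ⟨t, rfl⟩
    rw [Scheme.Hom.comp_apply]
    exact hle x t.2
  choose N hN using hN
  refine ⟨∑ x ∈ s, N x, fun Ω _ xb => ?_⟩
  have hpt : ∀ z : Spec (.of Ω), z = IsLocalRing.closedPoint Ω := fun z =>
    Subsingleton.elim _ _
  -- the map to the disjoint union of lifts to the pieces
  have hchoice : ∀ ℓ : {ℓ : Spec (.of Ω) ⟶ X // ℓ ≫ f = xb}, ∃ x : s,
      ∃ ℓ' : {ℓ' : Spec (.of Ω) ⟶ (X₀ x.1).toScheme // ℓ' ≫ ((X₀ x.1).ι ≫ f) = xb},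
        ℓ'.1 ≫ (X₀ x.1).ι = ℓ.1 := by
    intro ℓ
    obtain ⟨x, hxs, hx⟩ := hcov (ℓ.1 (IsLocalRing.closedPoint Ω))
    have hr : Set.range ℓ.1 ⊆ Set.range (X₀ x).ι := by
      rintro _ ⟨z, rfl⟩
      rw [hpt z, Scheme.Opens.range_ι]
      exact hx
    refine ⟨⟨x, hxs⟩, ⟨IsOpenImmersion.lift (X₀ x).ι ℓ.1 hr, ?_⟩, IsOpenImmersion.lift_fac _ _ _⟩
    rw [← Category.assoc, IsOpenImmersion.lift_fac]
    exact ℓ.2
  choose cx cℓ hc using hchoice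
  let Θ : {ℓ : Spec (.of Ω) ⟶ X // ℓ ≫ f = xb} →
      Σ x : s, {ℓ' : Spec (.of Ω) ⟶ (X₀ x.1).toScheme // ℓ' ≫ ((X₀ x.1).ι ≫ f) = xb} :=
    fun ℓ => ⟨cx ℓ, cℓ ℓ⟩
  have hΘ : Function.Injective Θ := by
    intro ℓ₁ ℓ₂ h
    apply Subtype.ext
    rw [← hc ℓ₁, ← hc ℓ₂]
    have h1 : cx ℓ₁ = cx ℓ₂ := congrArg Sigma.fst h
    have h2 : HEq (cℓ ℓ₁) (cℓ ℓ₂) := (Sigma.mk.inj_iff.mp h).2
    generalize cℓ ℓ₁ = a at h2
    generalize cℓ ℓ₂ = b at h2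
    generalize cx ℓ₁ = p at *
    generalize cx ℓ₂ = q at *
    subst h1
    rw [eq_of_heq h2]
  haveI : ∀ x : s, Finite {ℓ' : Spec (.of Ω) ⟶ (X₀ x.1).toScheme //
      ℓ' ≫ ((X₀ x.1).ι ≫ f) = xb} := fun x => (hN x.1 Ω xb).1
  haveI : Finite {ℓ : Spec (.of Ω) ⟶ X // ℓ ≫ f = xb} := Finite.of_injective Θ hΘ
  refine ⟨inferInstance, ?_⟩
  refine (Nat.card_le_card_of_injective Θ hΘ).trans ?_
  rw [Nat.card_sigma]
  rw [Finset.sum_coe_sort s (fun x => Nat.card {ℓ' : Spec (.of Ω) ⟶ (X₀ x).toScheme //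
      ℓ' ≫ ((X₀ x).ι ≫ f) = xb})]
  exact Finset.sum_le_sum fun x _ => (hN x Ω xb).2

/-- A weighting on a quasi-compact source is bounded. -/
theorem exists_bound_weighting_of_compact (w : X → ℤ) (hw : MoreMor.IsWeighting f w) :
    ∃ M : ℤ, ∀ x, |w x| ≤ M := by
  classical
  obtain ⟨s, X₀, Y₀, hX₀, hY₀, hle, hcov⟩ := exists_finite_affine_cover f
  have hM : ∀ x, ∃ M : ℤ, ∀ t : (X₀ x).toScheme, |w ((X₀ x).ι t)| ≤ M := by
    intro x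
    haveI : IsAffine (X₀ x).toScheme := hX₀ x
    obtain ⟨s', O, hO, hmem, hconst, hcov'⟩ :=
      exists_finite_constructible_cover ((X₀ x).ι ≫ f) (fun t => w ((X₀ x).ι t))
        (isWeighting_restrict f w hw (X₀ x))
    refine ⟨∑ t ∈ s', |w ((X₀ x).ι t)|, fun t' => ?_⟩
    obtain ⟨t, hts, ht't⟩ := hcov' t'
    rw [hconst t t' ht't]
    exact Finset.single_le_sum (f := fun t => |w ((X₀ x).ι t)|) (fun _ _ => abs_nonneg _) hts
  choose M hM using hM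
  refine ⟨∑ x ∈ s, |M x|, fun p => ?_⟩
  obtain ⟨x, hxs, hx⟩ := hcov p
  have h1 := hM x ⟨p, hx⟩
  have h2 : |w p| ≤ |M x| := le_trans h1 (le_abs_self _)
  exact h2.trans (Finset.single_le_sum (f := fun x => |M x|) (fun _ _ => abs_nonneg _) hxs)

end Compact

end Groth.Agent.Lib.helper13.PC
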