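import Mathlib
import Groth.Prelude.Def_DerSch
import Groth.Prelude.Def_DTor2
import Groth.Agent.Lib.Helper25.StalkExact
import Groth.Agent.Lib.Helper25.PushProj
import Groth.Agent.Lib.Helper23.TA11

/-!
# Stalks of complexes of O_X-modules in the derived category

* `nonempty_Q_stalk_iso x E F e`: an isomorphism `Q E ≅ Q F` in `D(O_X)` induces an isomorphism
  `Q E_x ≅ Q F_x` in `D(O_{X,x})` (the stalk functor is exact).
* `hasTorAmplitudeIn_stalk_of_hasFlatAmplitudeIn`: absolute flat amplitude `[a,b]` gives ring-level
  tor amplitude `[a,b]` of the complex of stalks at every point.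
* `stalkPushIso`, `stalkPushCxIso`: for a closed immersion `i`, `(i_*F)_{i x} ≅ F_x` over `O_{X', i x}`
  (natural; termwise and for complexes).
* `hasTorDimLE_zero_of_flat`: a flat morphism has tor dimension `≤ 0`.
-/

set_option autoImplicit false
universe u
open CategoryTheory CategoryTheory.Limits AlgebraicGeometry Opposite TopologicalSpace
attribute [local instance] HasDerivedCategory.standard

namespace Groth.Agent.Lib.helper13.StalkD

open Groth.Agent.Lib.Helper25.StalkExact DerivedCategory

variable {X : Scheme.{u}}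

/-- the complex of stalks -/
noncomputable abbrev stalkCx (x : X) : CochainComplex X.Modules ℤ ⥤ DRing.Cx (X.presheaf.stalk x) :=
  (DerSch.stalkFunctor X x).mapHomologicalComplex (ComplexShape.up ℤ)

instance (x : X) : PreservesFiniteColimits (DerSch.stalkFunctor X x) := by
  infer_instance

/-- an isomorphism in `D(O_X)` between two complexes induces an isomorphism in `D(O_{X,x})`
between the complexes of stalks -/
lemma nonempty_Q_stalk_iso (x : X) (E F : CochainComplex X.Modules ℤ)
    (e : (Q.obj E : DerivedCategory X.Modules) ≅ Q.obj F) :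
    Nonempty ((Q.obj ((stalkCx x).obj E) : DerivedCategory (ModuleCat.{u} (X.presheaf.stalk x))) ≅
      Q.obj ((stalkCx x).obj F)) :=
  ⟨((DerSch.stalkFunctor X x).mapDerivedCategoryFactors.app E).symm ≪≫
    (DerSch.stalkFunctor X x).mapDerivedCategory.mapIso e ≪≫
    (DerSch.stalkFunctor X x).mapDerivedCategoryFactors.app F⟩

open Groth.Agent.Lib.helper23.TA in
/-- absolute flat amplitude gives stalkwise tor amplitude -/
lemma hasTorAmplitudeIn_stalk_of_hasFlatAmplitudeIn (F : CochainComplex X.Modules ℤ) (a b : ℤ)
    (hF : DCoh.HasFlatAmplitudeIn a b (DCoh.toD X F)) (x : X) :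
    DRing.HasTorAmplitudeIn (X.presheaf.stalk x) a b (DRing.toD ((stalkCx x).obj F)) := by
  obtain ⟨G, hGv, hGf, ⟨e⟩⟩ := hF
  obtain ⟨e'⟩ := nonempty_Q_stalk_iso x G F e
  refine ⟨(stalkCx x).obj G, fun i hi => ?_, fun i => ?_, ⟨e'⟩⟩
  · exact (DerSch.stalkFunctor X x).map_isZero (hGv i hi)
  · exact hGf i x

section push

open Groth.Agent.Lib.Helper25.PushProj

variable {X X' : Scheme.{u}} (i : X ⟶ X')

lemma stalkPushLin_naturality {M N : X.Modules} (φ : M ⟶ N) (x : X) :
    (DerSch.stalkFunctor X' (i x)).map ((Scheme.Modules.pushforward i).map φ) ≫ stalkPushLin i N x =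
      stalkPushLin i M x ≫ (DerSch.stalkOver i x).map φ := by
  ext m
  obtain ⟨V, hxV, s, rfl⟩ := ((Scheme.Modules.pushforward i).obj M).presheaf.exists_germ_eq (x := i x) m
  change (stalkPushLin i N x).hom ((DerSch.stalkFunctor X' (i x)).map ((Scheme.Modules.pushforward i).map φ)
      (((Scheme.Modules.pushforward i).obj M).presheaf.germ V (i x) hxV s)) =
    (DerSch.stalkFunctor X x).map φ ((stalkPushLin i M x).hom
      (((Scheme.Modules.pushforward i).obj M).presheaf.germ V (i x) hxV s))
  rw [DerSch.stalkFunctor_map_germ]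
  erw [stalkPushLin_germ i N x V hxV, stalkPushLin_germ i M x V hxV s]
  erw [DerSch.stalkFunctor_map_germ]
  rfl

/-- for a closed immersion `i`, the complex of stalks of `i_* F` at `i x` is the complex of stalks of
`F` at `x`, as complexes over `O_{X', i x}` -/
noncomputable def stalkPushCxIso [IsClosedImmersion i] (F : CochainComplex X.Modules ℤ) (x : X) :
    (stalkCx (i.base x)).obj
        (((Scheme.Modules.pushforward i).mapHomologicalComplex (ComplexShape.up ℤ)).obj F) ≅
      (DerSch.stalkCxOver i x).obj F :=
  HomologicalComplex.Hom.isoOfComponents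
    (fun n => @asIso _ _ _ _ (stalkPushLin i (F.X n) x) (isIso_stalkPushLin i (F.X n) x))
    (fun n m _ => (stalkPushLin_naturality i (F.d n m) x).symm)

open Groth.Agent.Lib.helper23.TA in
/-- for a closed immersion `i`: absolute flat amplitude of `i_* F` gives tor amplitude of `F`
relative to `i` -/
lemma hasTorAmplitude_of_hasFlatAmplitudeIn_pushforward [IsClosedImmersion i]
    (F : CochainComplex X.Modules ℤ) (a b : ℤ)
    (hF : DCoh.HasFlatAmplitudeIn a b (DCoh.toD X'
      (((Scheme.Modules.pushforward i).mapHomologicalComplex (ComplexShape.up ℤ)).obj F))) :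
    DerSch.HasTorAmplitude i a b F := by
  intro x
  have h := hasTorAmplitudeIn_stalk_of_hasFlatAmplitudeIn _ a b hF (i.base x)
  exact hasTorAmplitudeIn_of_iso (Q.mapIso (stalkPushCxIso i F x)) h

end push

end Groth.Agent.Lib.helper13.StalkD
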