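import Groth.Agent.Lib.Helper13.PCStalk1
import Groth.Agent.Lib.Helper13.StalkD
import Groth.Agent.Lib.Helper25.StalkPull
import Groth.Agent.Lib.Helper25.StalkKFlat
import Groth.Agent.Lib.Helper25.FlatAmpPerfect
import Groth.Agent.Lib.Helper25.FLFLocus

/-!
# Stalkwise tor amplitude and restriction to opens; flat stalks of `opcycles` (helper13)

* `stalkCxResIso j F y : (F|_U)_y ≅ F_{j y} ⊗ O_{U,y}` for an open immersion `j : U ⟶ X`.
* `hasTorAmplitudeIn_stalk_res`: tor amplitude of the stalk passes to the restriction to an open.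
* `exactAt_stalk_mappingCone`: stalks of mapping cones.
* `flat_stalk_opcycles`: the key flatness statement.
* `freeNear_of_fp_of_free_stalk`.
-/

set_option autoImplicit false
universe u
open CategoryTheory CategoryTheory.Limits AlgebraicGeometry Opposite TopologicalSpace
attribute [local instance] HasDerivedCategory.standard

namespace Groth.Agent.Lib.helper13.PCStalk

open Groth.Agent.Lib.helper23.TA DerivedCategory Groth.Agent.Lib.helper13.StalkD
  Groth.Agent.Lib.Helper25.StalkExact Groth.Agent.Lib.Helper25.StalkSky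
  Groth.Agent.Lib.helper25.DCohRestrict Groth.Agent.Lib.helper25.IsoAbove

variable {X U : Scheme.{u}}

/-- the stalk of the restriction to an open: `(F|_U)_y ≅ F_{j y} ⊗ O_{U,y}` -/
noncomputable def stalkResIso (j : U ⟶ X) [IsOpenImmersion j] (y : U) :
    Scheme.Modules.restrictFunctor j ⋙ DerSch.stalkFunctor U y ≅
      DerSch.stalkFunctor X (j y) ⋙ ModuleCat.extendScalars.{u, u, u} (j.stalkMap y).hom :=
  Functor.isoWhiskerRight (Scheme.Modules.restrictFunctorIsoPullback j) (DerSch.stalkFunctor U y) ≪≫
    stalkPullbackIso j y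

/-- the complex of stalks of the restriction to an open -/
noncomputable def stalkCxResIso (j : U ⟶ X) [IsOpenImmersion j] (F : CochainComplex X.Modules ℤ) (y : U) :
    (stalkCx y).obj ((resCx j).obj F) ≅
      ((ModuleCat.extendScalars.{u, u, u} (j.stalkMap y).hom).mapHomologicalComplex
        (ComplexShape.up ℤ)).obj ((stalkCx (j y)).obj F) :=
  HomologicalComplex.Hom.isoOfComponents (fun n => (stalkResIso j y).app (F.X n))
    (fun n m _ => ((stalkResIso j y).hom.naturality (F.d n m)).symm)

/-- tor amplitude of the stalk passes to the restriction to an open -/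
lemma hasTorAmplitudeIn_stalk_res (j : U ⟶ X) [IsOpenImmersion j] (F : CochainComplex X.Modules ℤ) (y : U)
    (a b : ℤ)
    (h : DRing.HasTorAmplitudeIn (X.presheaf.stalk (j y)) a b (DRing.toD ((stalkCx (j y)).obj F))) :
    DRing.HasTorAmplitudeIn (U.presheaf.stalk y) a b (DRing.toD ((stalkCx y).obj ((resCx j).obj F))) := by
  have hfl : (j.stalkMap y).hom.Flat := AlgebraicGeometry.Flat.stalkMap j y
  have h1 := hasTorAmplitudeIn_extend_of_flat (j.stalkMap y).hom hfl _ a b h
  exact hasTorAmplitudeIn_of_iso (Q.mapIso (stalkCxResIso j F y)).symm h1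

variable {Y : Scheme.{u}}

/-- exactness of the cone from `IsoAbove` -/
lemma exactAt_mappingCone_of_isoAbove {P F : CochainComplex Y.Modules ℤ} (c : P ⟶ F) (m : ℤ)
    (hc : IsoAbove m (Q.map c)) (i : ℤ) (hi : m ≤ i) : (CochainComplex.mappingCone c).ExactAt i := by
  have hT := DerivedCategory.mappingCone_triangle_distinguished c
  have h1 := (isoAbove_iff_cone _ hT m).1 hc i hi
  rw [HomologicalComplex.exactAt_iff_isZero_homology]
  exact IsZero.of_iso h1 ((homologyFunctorFactors Y.Modules i).app _).symm

/-- exactness of the cone of the map of stalk complexes -/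
lemma exactAt_stalk_mappingCone {P F : CochainComplex Y.Modules ℤ} (c : P ⟶ F) (m : ℤ)
    (hc : IsoAbove m (Q.map c)) (y : Y) (i : ℤ) (hi : m ≤ i) :
    (CochainComplex.mappingCone ((stalkCx y).map c)).ExactAt i := by
  have h1 := exactAt_mappingCone_of_isoAbove c m hc i hi
  rw [HomologicalComplex.exactAt_iff_isZero_homology] at h1
  have h2 := Groth.Agent.Lib.Helper25.StalkKFlat.isZero_homology_map (DerSch.stalkFunctor Y y) _ i h1
  rw [← HomologicalComplex.exactAt_iff_isZero_homology] at h2
  exact HomologicalComplex.ExactAt.of_iso h2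
    (CochainComplex.mappingCone.mapHomologicalComplexIso c (DerSch.stalkFunctor Y y))

/-- the stalk of `opcycles` as a quotient -/
noncomputable def stalkOpcyclesIso (P : CochainComplex Y.Modules ℤ) (a : ℤ) (y : Y) :
    (DerSch.stalkFunctor Y y).obj (P.opcycles a) ≅
      ModuleCat.of (Y.presheaf.stalk y)
        ((((stalkCx y).obj P).X a) ⧸ LinearMap.range (((stalkCx y).obj P).d (a - 1) a).hom) :=
  (DerSch.stalkFunctor Y y).mapIso
      (IsColimit.coconePointUniqueUpToIso (cokernelIsCokernel _)
        (P.opcyclesIsCokernel (a - 1) a (by simp))).symm ≪≫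
    PreservesCokernel.iso (DerSch.stalkFunctor Y y) (P.d (a - 1) a) ≪≫
      ModuleCat.cokernelIsoRangeQuotient _

/-- **the key flatness statement**: `c : P ⟶ F` a chain map of bounded above complexes of flat modules, an isomorphism on
`H^i` for `i > a - 2` and an epimorphism on `H^{a-2}`; if the stalk `F_y` has tor amplitude in `[a, b]` then the stalk at
`y` of `coker (P^{a-1} → P^a)` is flat -/
theorem flat_stalk_opcycles {P F : CochainComplex Y.Modules ℤ} (c : P ⟶ F) (a b d : ℤ)
    (hPf : ∀ i : ℤ, FlatMod.IsFlat (P.X i)) (hFf : ∀ i : ℤ, FlatMod.IsFlat (F.X i))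
    (hPd : ∀ i : ℤ, d < i → IsZero (P.X i)) (hFd : ∀ i : ℤ, d < i → IsZero (F.X i))
    (hc : IsoAbove (a - 2) (Q.map c)) (y : Y)
    (hy : DRing.HasTorAmplitudeIn (Y.presheaf.stalk y) a b (DRing.toD ((stalkCx y).obj F))) :
    Module.Flat (Y.presheaf.stalk y) ((DerSch.stalkFunctor Y y).obj (P.opcycles a)) := by
  have h := flat_quotient_of_cone ((stalkCx y).map c) d
    (fun i hi => (DerSch.stalkFunctor Y y).map_isZero (hPd i hi))
    (fun i hi => (DerSch.stalkFunctor Y y).map_isZero (hFd i hi))
    (fun i => hPf i y) (fun i => hFf i y) a b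
    (fun i hi => exactAt_stalk_mappingCone c (a - 2) hc y i hi) hy
  exact Module.Flat.of_linearEquiv (stalkOpcyclesIso P a y).toLinearEquiv

open Groth.Agent.Lib.helper16.FLF Groth.Agent.Lib.helper16.CohFP in
/-- a finitely presented quasi-coherent module whose stalk at `y` is free is free of finite rank near `y` -/
theorem freeNear_of_fp_of_free_stalk (M : Y.Modules) [M.IsQuasicoherent] (hfp : CohB1.IsFP M) (y : Y)
    (hfree : Module.Free (Y.presheaf.stalk y) (M.presheaf.stalk y)) :
    Groth.Agent.Lib.helper25.FLFLocus.FreeNear M y := by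
  obtain ⟨V, hV, hyV, -⟩ := Opens.isBasis_iff_nbhd.mp Y.isBasis_affineOpens
    (show y ∈ (⊤ : Y.Opens) from trivial)
  haveI := fp_sections_of_isFinitePresentation M hfp hV
  obtain ⟨f, n, hyf, ⟨he⟩⟩ := exists_basicOpen_free_sections M hV y hyV hfree
  exact ⟨Y.basicOpen f, n, hyf, restrict_iso_freeMod_of_sections M (hV.basicOpen f) n he⟩

open Groth.Agent.Lib.helper25.FlatTrunc in
/-- the cokernel `coker (P^{a-1} → P^a)` of a strictly perfect complex whose stalk at `y` is flat is free near `y` -/
theorem freeNear_opcycles {P : CochainComplex Y.Modules ℤ} (hP : DCoh.IsStrictlyPerfect P) (a : ℤ) (y : Y)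
    (hfl : Module.Flat (Y.presheaf.stalk y) ((DerSch.stalkFunctor Y y).obj (P.opcycles a))) :
    Groth.Agent.Lib.helper25.FLFLocus.FreeNear (P.opcycles a) y := by
  have hfp : CohB1.IsFP (P.opcycles a) := isFP_opcycles hP.2 a
  haveI : (P.opcycles a).IsQuasicoherent :=
    SheafOfModules.instIsQuasicoherentOfIsFinitePresentation (R := Y.ringCatSheaf) (P.opcycles a)
  haveI := Groth.Agent.Lib.helper16.FLF.finite_stalk_of_isFinitePresentation (P.opcycles a) hfp y
  haveI : Module.Flat (Y.presheaf.stalk y) ((P.opcycles a).presheaf.stalk y) := hfl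
  exact freeNear_of_fp_of_free_stalk (P.opcycles a) hfp y Module.free_of_flat_of_isLocalRing

end Groth.Agent.Lib.helper13.PCStalk
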