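import Groth.Agent.Lib.Helper13.PCStalk2

/-!
# Pseudo-coherent + finite tor amplitude of the stalk at a point ⇒ perfect near the point (helper13)

* `truncGE_isStrictlyPerfect_and_iso'`: variant of helper25's truncation lemma with a target only *exact* below `a`.
* `exists_strictlyPerfect_local'`: a bounded above complex `F` of flat modules, exact below `a`, receiving
  `α : Q P ⟶ Q F` from a strictly perfect `P` with `IsoAbove (a-2) α`, and whose stalk at `y` has tor amplitude in `[a, b]`,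
  is quasi-isomorphic to a strictly perfect complex on a neighbourhood of `y`.
-/

set_option autoImplicit false
universe u
open CategoryTheory CategoryTheory.Limits AlgebraicGeometry Opposite TopologicalSpace
open Scheme.Modules
attribute [local instance] HasDerivedCategory.standard

namespace Groth.Agent.Lib.helper13.PCStalk

open Groth.Agent.Lib.helper23.TA DerivedCategory Groth.Agent.Lib.helper13.StalkD
  Groth.Agent.Lib.Helper25.StalkExact Groth.Agent.Lib.Helper25.StalkSky
  Groth.Agent.Lib.helper25.DCohRestrict Groth.Agent.Lib.helper25.IsoAbove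
  Groth.Agent.Lib.helper25.FlatClass Groth.Agent.Lib.helper25.FlatTrunc
  Groth.Agent.Lib.helper25.DCohPerfect Groth.Agent.Lib.helper25.DCohPC
  Groth.Agent.Lib.helper25.DCohPC2 Groth.Agent.Lib.helper25.DCohPC3
  Groth.Agent.Lib.helper25.FLFLocus

variable {Y : Scheme.{u}}

/-- variant of `truncGE_isStrictlyPerfect_and_iso` with a target which is only exact below `a` -/
theorem truncGE_isStrictlyPerfect_and_iso' {P G : CochainComplex Y.Modules ℤ}
    (hP : DCoh.IsStrictlyPerfect P) (c : P ⟶ G) (a : ℤ) (hG : ∀ i : ℤ, i < a → IsZero (G.homology i))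
    (hc : IsoAbove (a - 2) (Q.map c)) (hflf : FlatMod.IsFinLocFree (P.opcycles a)) :
    DCoh.IsStrictlyPerfect (P.truncGE a) ∧ Nonempty (Q.obj (P.truncGE a) ≅ Q.obj G) := by
  obtain ⟨⟨a₀, b₀, hab⟩, hf⟩ := hP
  refine ⟨⟨⟨a, max b₀ a, fun i hi => ?_⟩, fun i => ?_⟩, ?_⟩
  · rcases hi with hi | hi
    · exact (P.truncGE a).isZero_of_isStrictlyGE a i hi
    · exact (hab i (Or.inr (by omega))).of_iso (P.truncGEXIso a i (by omega))
  · rcases lt_trichotomy i a with hi | hi | hi
    · exact Groth.Agent.Lib.helper25.FLFKernel.isFinLocFree_of_isZero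
        ((P.truncGE a).isZero_of_isStrictlyGE a i hi)
    · subst hi
      exact Groth.Agent.Lib.helper16.FLF.isFinLocFree_of_iso (P.truncGEXIsoOpcycles i).symm hflf
    · exact Groth.Agent.Lib.helper16.FLF.isFinLocFree_of_iso (P.truncGEXIso a i hi).symm (hf i)
  · haveI : G.IsGE a := by
      rw [CochainComplex.isGE_iff]
      intro i hi
      rw [HomologicalComplex.exactAt_iff_isZero_homology]
      exact hG i hi
    have hq : QuasiIso (CochainComplex.truncGEMap c a) := by
      rw [CochainComplex.quasiIso_truncGEMap_iff]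
      intro i hi
      rw [quasiIsoAt_iff_isIso_homologyMap]
      exact ((isoAbove_Q_map_iff c (a - 2)).1 hc).1 i (by omega)
    haveI : IsIso (Q.map (CochainComplex.truncGEMap c a)) :=
      (DerivedCategory.isIso_Q_map_iff_quasiIso _ _).2 hq
    haveI : IsIso (Q.map (G.πTruncGE a)) :=
      (DerivedCategory.isIso_Q_map_iff_quasiIso _ _).2 inferInstance
    exact ⟨asIso (Q.map (CochainComplex.truncGEMap c a)) ≪≫ (asIso (Q.map (G.πTruncGE a))).symm⟩

/-- `IsoAbove` passes to the termwise restriction of a chain map -/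
lemma isoAbove_resCx_map {Z : Scheme.{u}} (j : Z ⟶ Y) [IsOpenImmersion j] {P F : CochainComplex Y.Modules ℤ}
    (c : P ⟶ F) (m : ℤ) (hc : IsoAbove m (Q.map c)) : IsoAbove m (Q.map ((resCx j).map c)) := by
  have h1 := isoAbove_restrict j hc
  have n := (restrictFunctor j).mapDerivedCategoryFactors_hom_naturality c
  have : Q.map ((resCx j).map c) = (resDQIso j P).inv ≫ ((DCoh.restrictD j).map (Q.map c) ≫ (resDQIso j F).hom) := by
    rw [Iso.eq_inv_comp]
    exact n.symm
  rw [this]
  exact (h1.comp_iso _).iso_comp _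

/-- restriction to an open commutes with `opcycles` -/
noncomputable def opcyclesResIso {Z : Scheme.{u}} (j : Z ⟶ Y) [IsOpenImmersion j] (P : CochainComplex Y.Modules ℤ)
    (a : ℤ) : ((resCx j).obj P).opcycles a ≅ (P.opcycles a).restrict j :=
  (P.sc a).mapOpcyclesIso (restrictFunctor j)

/-- exactness passes to the restriction -/
lemma isZero_homology_resCx {Z : Scheme.{u}} (j : Z ⟶ Y) [IsOpenImmersion j] (F : CochainComplex Y.Modules ℤ)
    (i : ℤ) (h : IsZero (F.homology i)) : IsZero (((resCx j).obj F).homology i) :=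
  Groth.Agent.Lib.Helper25.StalkKFlat.isZero_homology_map (restrictFunctor j) F i h

/-- **Main local statement.** -/
theorem exists_strictlyPerfect_local' {P F : CochainComplex Y.Modules ℤ}
    (hP : DCoh.IsStrictlyPerfect P) (a b d : ℤ) (hFd : ∀ i : ℤ, d < i → IsZero (F.X i))
    (hFf : ∀ i : ℤ, FlatMod.IsFlat (F.X i)) (hFa : ∀ i : ℤ, i < a → IsZero (F.homology i))
    (α : Q.obj P ⟶ Q.obj F) (hα : IsoAbove (a - 2) α) (y : Y)
    (hy : DRing.HasTorAmplitudeIn (Y.presheaf.stalk y) a b (DRing.toD ((stalkCx y).obj F))) :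
    ∃ (U : Scheme.{u}) (j : U ⟶ Y) (_ : IsOpenImmersion j), y ∈ j.opensRange ∧
      ∃ E : CochainComplex U.Modules ℤ, DCoh.IsStrictlyPerfect E ∧
        Nonempty (Q.obj E ≅ Q.obj ((resCx j).obj F)) := by
  obtain ⟨W, c, hyW, hc⟩ := exists_local_chain_map hP α y
  have hc' : IsoAbove (a - 2) (Q.map c) := by
    have h1 := isoAbove_restrict W.ι hα
    have : Q.map c = (resDQIso W.ι P).inv ≫ ((DCoh.restrictD W.ι).map α ≫ (resDQIso W.ι F).hom) := by
      rw [hc]; simp
    rw [this]
    exact (h1.comp_iso _).iso_comp _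
  have hPW := isStrictlyPerfect_res W.ι hP
  obtain ⟨⟨a₀, b₀, hab₀⟩, hf₀⟩ := hPW
  have hampW : DRing.HasTorAmplitudeIn ((W : Scheme.{u}).presheaf.stalk ⟨y, hyW⟩) a b
      (DRing.toD ((stalkCx (⟨y, hyW⟩ : (W : Scheme.{u}))).obj ((resCx W.ι).obj F))) :=
    hasTorAmplitudeIn_stalk_res W.ι F ⟨y, hyW⟩ a b hy
  have hflat := flat_stalk_opcycles c a b (max d b₀)
    (fun i => Groth.Agent.Lib.helper16.FLF.isFlat_of_isFinLocFree _ (hf₀ i))
    (fun i => isFlat_restrict (F.X i) W (hFf i))
    (fun i hi => hab₀ i (Or.inr (by omega)))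
    (fun i hi => (restrictFunctor W.ι).map_isZero (hFd i (by omega)))
    hc' ⟨y, hyW⟩ hampW
  have hfree := freeNear_opcycles (isStrictlyPerfect_res W.ι hP) a ⟨y, hyW⟩ hflat
  obtain ⟨W', hyW', hflf⟩ := flfOn_of_freeNear hfree
  have hopc : FlatMod.IsFinLocFree (((resCx W'.ι).obj ((resCx W.ι).obj P)).opcycles a) :=
    Groth.Agent.Lib.helper16.FLF.isFinLocFree_of_iso (opcyclesResIso W'.ι _ a).symm
      hflf.isFinLocFree_restrict
  obtain ⟨h1, ⟨h2⟩⟩ := truncGE_isStrictlyPerfect_and_iso'
    (isStrictlyPerfect_res W'.ι (isStrictlyPerfect_res W.ι hP)) ((resCx W'.ι).map c) a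
    (fun i hi => isZero_homology_resCx W'.ι _ i (isZero_homology_resCx W.ι F i (hFa i hi)))
    (isoAbove_resCx_map W'.ι c (a - 2) hc') hopc
  refine ⟨_, W'.ι ≫ W.ι, inferInstance, ⟨⟨⟨y, hyW⟩, hyW'⟩, rfl⟩, _, h1,
    ⟨h2 ≪≫ Q.mapIso (resCxCompIso W'.ι W.ι F).symm⟩⟩


section ring

variable {A : Type u} [CommRing A]

/-- over a ring all of whose modules have finite tor dimension, an object with bounded cohomology has finite tor
amplitude -/
theorem exists_hasTorAmplitudeIn_of_bounded
    (hA : ∀ (M : Type u) [AddCommGroup M] [Module A M], DRing.HasFiniteTorDim A M)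
    (K : Dual.D A) (c d : ℤ)
    (hcd : ∀ i : ℤ, (i < c ∨ d < i) → IsZero ((DerivedCategory.homologyFunctor _ i).obj K)) :
    ∃ a : ℤ, a ≤ c ∧ DRing.HasTorAmplitudeIn A a d K := by
  choose n hn using fun i : ℤ => hA ((DerivedCategory.homologyFunctor (ModuleCat.{u} A) i).obj K)
  let N : ℕ := (Finset.Icc c d).sup n
  refine ⟨c - N, by omega, ?_⟩
  refine hasTorAmplitudeIn_of_homology (c - N) d K c d hcd (fun i => ?_)
  by_cases hi : i < c ∨ d < i
  · exact hasTorAmplitudeIn_of_isZero _ _
      ((DerivedCategory.singleFunctor (ModuleCat.{u} A) 0).map_isZero (hcd i hi))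
  · have hi' : i ∈ Finset.Icc c d := by
      rw [Finset.mem_Icc]; omega
    have hle : n i ≤ N := Finset.le_sup (f := n) hi'
    have h1 := (torVan_iff_hasTorAmplitudeIn (n i) _).1
      ((hasTorDimLE_iff_torVan (n i) _).1 (hn i))
    exact hasTorAmplitudeIn_mono h1 (by omega) (by omega)


end ring

end Groth.Agent.Lib.helper13.PCStalk
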