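import Groth.Agent.Lib.Helper13.StalkD
import Groth.Agent.Lib.Helper25.TorAmpFlat
import Groth.Agent.Lib.Helper25.StalkKFlat
import Groth.Agent.Lib.Helper23.TA4

/-!
# Stalkwise tor amplitude gives a flat representative (absolute case)

`hasFlatAmplitudeIn_of_forall_stalk`: if at every point `x` the complex of stalks `F_x` has (ring-level) tor amplitude in
`[a, b]` over `O_{X,x}`, then `F` is isomorphic in `D(O_X)` to a complex of flat modules placed in `[a, b]`.
(No boundedness hypothesis is needed: the hypothesis forces `H^i(F) = 0` for `i > b`.)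
-/

set_option autoImplicit false
universe u
open CategoryTheory CategoryTheory.Limits AlgebraicGeometry Opposite TopologicalSpace
attribute [local instance] HasDerivedCategory.standard

namespace Groth.Agent.Lib.helper13.StalkD

open Groth.Agent.Lib.Helper25.StalkExact DerivedCategory Groth.Agent.Lib.Helper25.StalkKFlat
  Groth.Agent.Lib.Helper25.TorFlat Groth.Agent.Lib.Helper25.TorFlat2 Groth.Agent.Lib.helper23.TA

variable {X : Scheme.{u}}

/-- stalkwise tor amplitude forces the vanishing of the cohomology sheaves outside `[a, b]` -/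
lemma isZero_homology_of_forall_stalk_hasTorAmplitudeIn (F : CochainComplex X.Modules ℤ) (a b : ℤ)
    (h : ∀ x : X, DRing.HasTorAmplitudeIn (X.presheaf.stalk x) a b (DRing.toD ((stalkCx x).obj F)))
    (i : ℤ) (hi : i < a ∨ b < i) : IsZero (F.homology i) := by
  apply isZero_homology_of_forall_stalk
  intro x
  rw [← HomologicalComplex.exactAt_iff_isZero_homology]
  exact exactAt_of_hasTorAmplitudeIn _ a b (h x) i hi

/-- the cokernel of a differential of a bounded above complex of flat modules with stalkwise tor amplitude `≥ a`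
is flat -/
lemma isFlat_cokernel_of_forall_stalk (P : CochainComplex X.Modules ℤ) (a b : ℤ)
    (hPle : ∀ q : ℤ, b < q → IsZero (P.X q)) (hPflat : ∀ i : ℤ, FlatMod.IsFlat (P.X i))
    (h : ∀ x : X, DRing.HasTorAmplitudeIn (X.presheaf.stalk x) a b (DRing.toD ((stalkCx x).obj P))) :
    FlatMod.IsFlat (cokernel (P.d (a - 1) a)) := by
  intro x
  have hv : DRing.VanishesAbove ((stalkCx x).obj P) b := fun q hq =>
    (DerSch.stalkFunctor X x).map_isZero (hPle q hq)
  have hfl : DRing.TermwiseFlat ((stalkCx x).obj P) := fun i => hPflat i x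
  have htvl := tvl_of_hasTorAmplitudeIn _ b hv hfl a b (h x)
  have hq := flat_quotient_of_tvl _ hfl a htvl
  have e : (DerSch.stalkFunctor X x).obj (cokernel (P.d (a - 1) a)) ≅
      ModuleCat.of (X.presheaf.stalk x)
        ((((stalkCx x).obj P).X a) ⧸ LinearMap.range (((stalkCx x).obj P).d (a - 1) a).hom) :=
    PreservesCokernel.iso (DerSch.stalkFunctor X x) (P.d (a - 1) a) ≪≫
      ModuleCat.cokernelIsoRangeQuotient _
  exact Module.Flat.of_linearEquiv e.toLinearEquiv

/-- **stalkwise tor amplitude gives a flat representative** -/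
theorem hasFlatAmplitudeIn_of_forall_stalk (F : CochainComplex X.Modules ℤ) (a b : ℤ)
    (h : ∀ x : X, DRing.HasTorAmplitudeIn (X.presheaf.stalk x) a b (DRing.toD ((stalkCx x).obj F))) :
    DCoh.HasFlatAmplitudeIn a b (DCoh.toD X F) := by
  have hH := isZero_homology_of_forall_stalk_hasTorAmplitudeIn F a b h
  haveI : (DCoh.toD X F).IsLE b := by
    rw [DerivedCategory.isLE_iff]
    intro i hi
    exact (hH i (Or.inr hi)).of_iso ((DerivedCategory.homologyFunctorFactors X.Modules i).app F)
  obtain ⟨K, hK, ⟨e⟩⟩ := DerivedCategory.exists_iso_Q_obj_of_isLE (DCoh.toD X F) b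
  obtain ⟨P, α, hPle, hPflat, -, hα⟩ :=
    @Groth.Agent.Lib.helper13.KRes.exists_flat_resolution (ModSite.Mod X.sheaf) _ _ _
      (Groth.Agent.Lib.helper13.KRes.flatClass_isFlat (O := X.sheaf)) K b hK
  let P' : CochainComplex X.Modules ℤ := P
  let α' : P' ⟶ K := α
  haveI : QuasiIso α' := hα
  have hP'le : ∀ q : ℤ, b < q → IsZero (P'.X q) := fun q hq =>
    @CochainComplex.isZero_of_isStrictlyLE _ _ _ P b q hq hPle
  have hP'flat : ∀ i : ℤ, FlatMod.IsFlat (P'.X i) := fun i =>
    Groth.Agent.Lib.helper13.KRes.flatMod_of_isFlat _ (hPflat i)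
  let eP : DCoh.toD X P' ≅ DCoh.toD X F := asIso (DerivedCategory.Q.map α') ≪≫ e.symm
  have hP' : ∀ x : X, DRing.HasTorAmplitudeIn (X.presheaf.stalk x) a b
      (DRing.toD ((stalkCx x).obj P')) := fun x => by
    obtain ⟨e'⟩ := nonempty_Q_stalk_iso x P' F eP
    exact hasTorAmplitudeIn_of_iso e'.symm (h x)
  have hC : FlatMod.IsFlat (cokernel (P'.d (a - 1) a)) :=
    isFlat_cokernel_of_forall_stalk P' a b hP'le hP'flat hP'
  haveI : P'.IsGE a := by
    rw [CochainComplex.isGE_iff]
    intro i hi
    rw [HomologicalComplex.exactAt_iff_isZero_homology]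
    exact isZero_homology_of_forall_stalk_hasTorAmplitudeIn P' a b hP' i (Or.inl hi)
  refine ⟨P'.truncGE a, ?_, ?_, ⟨(asIso (DerivedCategory.Q.map (P'.πTruncGE a))).symm ≪≫ eP⟩⟩
  · intro i hi
    rcases hi with hi | hi
    · exact (P'.truncGE a).isZero_of_isStrictlyGE a i hi
    · rcases lt_trichotomy i a with hia | hia | hia
      · exact (P'.truncGE a).isZero_of_isStrictlyGE a i hia
      · subst hia
        haveI : Epi (P'.pOpcycles i) := inferInstance
        exact (IsZero.of_epi (P'.pOpcycles i) (hP'le i hi)).of_iso (P'.truncGEXIsoOpcycles i)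
      · exact IsZero.of_iso (hP'le i hi) (P'.truncGEXIso a i hia)
  · intro i
    rcases lt_trichotomy i a with hi | hi | hi
    · exact flatMod_of_isZero ((P'.truncGE a).isZero_of_isStrictlyGE a i hi)
    · subst hi
      have i1 : cokernel (P'.d (i - 1) i) ≅ P'.opcycles i :=
        (colimit.isColimit _).coconePointUniqueUpToIso
          (P'.opcyclesIsCokernel (i - 1) i (by simp))
      exact flatMod_of_iso (i1 ≪≫ (P'.truncGEXIsoOpcycles i).symm) hC
    · exact flatMod_of_iso (P'.truncGEXIso a i hi).symm (hP'flat i)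

end Groth.Agent.Lib.helper13.StalkD
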