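import Groth.Agent.Lib.Helper13.PCStalk3
import Groth.Agent.Lib.Helper13.StalkD3
import Groth.Agent.Lib.Helper25.PerfectTor

/-!
# Pseudo-coherent with a stalk of finite tor amplitude ⇒ perfect near the point (helper13)

`isPerfect_at_of_pseudoCoherent_of_stalk`: if `F` has bounded cohomology in `[c, d]`, is pseudo-coherent, and the
complex of stalks `F_x` has tor amplitude in `[a, b]` (`a ≤ c`) over `O_{X,x}`, then the perfectness clause of
`DCoh.IsPerfect` holds at `x`.
-/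

set_option autoImplicit false
universe u
open CategoryTheory CategoryTheory.Limits AlgebraicGeometry Opposite TopologicalSpace
open Scheme.Modules
attribute [local instance] HasDerivedCategory.standard

namespace Groth.Agent.Lib.helper13.PCStalk

open Groth.Agent.Lib.helper23.TA DerivedCategory Groth.Agent.Lib.helper13.StalkD
  Groth.Agent.Lib.Helper25.StalkExact Groth.Agent.Lib.Helper25.StalkSky
  Groth.Agent.Lib.helper25.DCohRestrict Groth.Agent.Lib.helper25.IsoAbove
  Groth.Agent.Lib.helper25.FlatClass Groth.Agent.Lib.helper25.FlatTrunc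
  Groth.Agent.Lib.helper25.DCohPerfect Groth.Agent.Lib.helper25.DCohPC
  Groth.Agent.Lib.helper25.DCohPC2 Groth.Agent.Lib.helper25.DCohPC3
  Groth.Agent.Lib.helper25.FLFLocus

variable {X : Scheme.{u}}

theorem isPerfect_at_of_pseudoCoherent_of_stalk (F : CochainComplex X.Modules ℤ) (c d : ℤ)
    [(DCoh.toD X F).IsGE c] [(DCoh.toD X F).IsLE d]
    (hpc : ∀ m : ℤ, DCoh.IsPseudoCoherentD m (DCoh.toD X F)) (x : X) (a b : ℤ) (hac : a ≤ c)
    (hx : DRing.HasTorAmplitudeIn (X.presheaf.stalk x) a b (DRing.toD ((stalkCx x).obj F))) :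
    ∃ (V : X.Opens), x ∈ V ∧ ∀ (F' : CochainComplex X.Modules ℤ),
      Nonempty (DCoh.toD X F' ≅ DCoh.toD X F) →
      ∃ E' : CochainComplex (V : Scheme.{u}).Modules ℤ, DCoh.IsStrictlyPerfect E' ∧
        Nonempty (Q.obj ((DCoh.restrictCx V).obj F') ≅ Q.obj E') := by
  -- a bounded above flat resolution of `F`
  obtain ⟨K, hK, ⟨e⟩⟩ := DerivedCategory.exists_iso_Q_obj_of_isLE (DCoh.toD X F) d
  obtain ⟨P, α, hPle, hPflat, -, hα⟩ :=
    @Groth.Agent.Lib.helper13.KRes.exists_flat_resolution (ModSite.Mod X.sheaf) _ _ _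
      (Groth.Agent.Lib.helper13.KRes.flatClass_isFlat (O := X.sheaf)) K d hK
  let P' : CochainComplex X.Modules ℤ := P
  let α' : P' ⟶ K := α
  haveI : QuasiIso α' := hα
  have hP'le : ∀ q : ℤ, d < q → IsZero (P'.X q) := fun q hq =>
    @CochainComplex.isZero_of_isStrictlyLE _ _ _ P d q hq hPle
  have hP'flat : ∀ i : ℤ, FlatMod.IsFlat (P'.X i) := fun i =>
    Groth.Agent.Lib.helper13.KRes.flatMod_of_isFlat _ (hPflat i)
  let eP : DCoh.toD X P' ≅ DCoh.toD X F := asIso (DerivedCategory.Q.map α') ≪≫ e.symm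
  -- exactness of `P'` below `a`
  have hP'a : ∀ i : ℤ, i < a → IsZero (P'.homology i) := by
    intro i hi
    have h1 : IsZero ((DerivedCategory.homologyFunctor X.Modules i).obj (DCoh.toD X F)) :=
      DerivedCategory.isZero_of_isGE (DCoh.toD X F) c i (by omega)
    exact h1.of_iso (((DerivedCategory.homologyFunctorFactors X.Modules i).app P').symm ≪≫
      (DerivedCategory.homologyFunctor X.Modules i).mapIso eP)
  -- the stalk of `P'`
  have hxP : DRing.HasTorAmplitudeIn (X.presheaf.stalk x) a b (DRing.toD ((stalkCx x).obj P')) := by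
    obtain ⟨e'⟩ := nonempty_Q_stalk_iso x P' F eP
    exact hasTorAmplitudeIn_of_iso e'.symm hx
  -- pseudo-coherence data
  obtain ⟨V, hxV, E, β, hE, hβ1, hβ2⟩ := exists_pcData (hpc (a - 2)) x
  let γ : Q.obj E ⟶ Q.obj ((resCx V.ι).obj P') :=
    β ≫ (DCoh.restrictD V.ι).map eP.inv ≫ (resDQIso V.ι P').hom
  have hγ : IsoAbove (a - 2) γ :=
    (IsoAbove.comp_iso (m := a - 2) (α := β) ⟨hβ1, hβ2⟩ _)
  obtain ⟨U, j, hj, hyj, E', hE', ⟨i1⟩⟩ := exists_strictlyPerfect_local' hE a b d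
    (fun i hi => (restrictFunctor V.ι).map_isZero (hP'le i hi))
    (fun i => isFlat_restrict (P'.X i) V (hP'flat i))
    (fun i hi => isZero_homology_resCx V.ι P' i (hP'a i hi))
    γ hγ (⟨x, hxV⟩ : (V : Scheme.{u}))
    (hasTorAmplitudeIn_stalk_res V.ι P' ⟨x, hxV⟩ a b hxP)
  obtain ⟨k⟩ := nonempty_restrictD_comp_iso j V.ι (DCoh.toD X F)
  obtain ⟨y, hy⟩ := hyj
  refine isPerfect_at_of_restrictD_iso (DCoh.toD X F) x (j ≫ V.ι) ⟨y, ?_⟩ E' hE'
    ⟨k ≪≫ (DCoh.restrictD j).mapIso ((DCoh.restrictD V.ι).mapIso eP.symm ≪≫ resDQIso V.ι P') ≪≫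
      resDQIso j _ ≪≫ i1.symm⟩
  have := congrArg (fun z : (V : Scheme.{u}) => V.ι z) hy
  exact this

end Groth.Agent.Lib.helper13.PCStalk
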