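import Mathlib

/-!
# Middle-exact pairs in pretriangulated categories, a hand five lemma (helper13)

* `MidExact a b` : `Hom(T, -)` is exact at the middle of `X ⟶ Y ⟶ Z` for all `T`.
* `CoMidExact a b` : `Hom(-, W)` is exact at the middle for all `W`.
* In a pretriangulated category these are equivalent (`MidExact.of_coMidExact`,
  `CoMidExact.of_midExact`), distinguished triangles give such pairs, left adjoints preserve
  `CoMidExact`, right adjoints preserve `MidExact`.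
* `isIso_of_five` : a five lemma in a preadditive category, with exactness in the above sense.
* `two_of_three_shift` : passage to all shifts.
-/

set_option autoImplicit false

namespace Groth.Agent.Lib.helper13.PerfInd
open CategoryTheory Limits Pretriangulated

section Basic
variable {C : Type*} [Category C] [HasZeroMorphisms C]

/-- `Hom(T, -)` is exact in the middle of `X ⟶ Y ⟶ Z` for all `T`. -/
def MidExact {X Y Z : C} (a : X ⟶ Y) (b : Y ⟶ Z) : Prop :=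
  ∀ (T : C) (x : T ⟶ Y), x ≫ b = 0 → ∃ y : T ⟶ X, y ≫ a = x

/-- `Hom(-, W)` is exact in the middle of `X ⟶ Y ⟶ Z` for all `W`. -/
def CoMidExact {X Y Z : C} (a : X ⟶ Y) (b : Y ⟶ Z) : Prop :=
  ∀ (W : C) (w : Y ⟶ W), a ≫ w = 0 → ∃ t : Z ⟶ W, b ≫ t = w

end Basic

section Adj
variable {C D : Type*} [Category C] [Category D] [HasZeroMorphisms C] [HasZeroMorphisms D]
  {Φ : C ⥤ D} {R : D ⥤ C} (adj : Φ ⊣ R)

include adj in
theorem CoMidExact.map_of_adj [R.PreservesZeroMorphisms] {X Y Z : C} {a : X ⟶ Y} {b : Y ⟶ Z}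
    (h : CoMidExact a b) : CoMidExact (Φ.map a) (Φ.map b) := by
  intro W w hw
  have h0 : a ≫ adj.homEquiv _ _ w = 0 := by
    rw [← adj.homEquiv_naturality_left, hw, Adjunction.homEquiv_unit, Functor.map_zero, comp_zero]
  obtain ⟨t, ht⟩ := h _ _ h0
  refine ⟨(adj.homEquiv _ _).symm t, ?_⟩
  rw [← adj.homEquiv_naturality_left_symm, ht, Equiv.symm_apply_apply]

include adj in
theorem MidExact.map_of_adj [Φ.PreservesZeroMorphisms] {X Y Z : D} {a : X ⟶ Y} {b : Y ⟶ Z}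
    (h : MidExact a b) : MidExact (R.map a) (R.map b) := by
  intro T x hx
  have h0 : (adj.homEquiv _ _).symm x ≫ b = 0 := by
    rw [← adj.homEquiv_naturality_right_symm, hx, Adjunction.homEquiv_counit, Functor.map_zero,
      zero_comp]
  obtain ⟨y, hy⟩ := h _ _ h0
  refine ⟨adj.homEquiv _ _ y, ?_⟩
  rw [← adj.homEquiv_naturality_right, hy, Equiv.apply_symm_apply]

end Adj

section Pretri
variable {C : Type*} [Category C] [HasZeroObject C] [HasShift C ℤ] [Preadditive C]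
  [∀ n : ℤ, (shiftFunctor C n).Additive] [Pretriangulated C]

theorem midExact_of_distinguished (T : Triangle C) (hT : T ∈ distTriang C) :
    MidExact T.mor₁ T.mor₂ := fun X x hx => by
  obtain ⟨g, hg⟩ := T.coyoneda_exact₂ hT x hx
  exact ⟨g, hg.symm⟩

theorem coMidExact_of_distinguished (T : Triangle C) (hT : T ∈ distTriang C) :
    CoMidExact T.mor₁ T.mor₂ := fun W w hw => by
  obtain ⟨g, hg⟩ := T.yoneda_exact₂ hT w hw
  exact ⟨g, hg.symm⟩

theorem MidExact.of_coMidExact {X Y Z : C} {a : X ⟶ Y} {b : Y ⟶ Z} (h : CoMidExact a b) :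
    MidExact a b := by
  intro T x hx
  obtain ⟨C', w, c, hT⟩ := distinguished_cocone_triangle a
  have h1 : a ≫ w = 0 := comp_distTriang_mor_zero₁₂ _ hT
  obtain ⟨t, ht⟩ := h _ w h1
  have h2 : x ≫ w = 0 := by rw [← ht, ← Category.assoc, hx, zero_comp]
  obtain ⟨y, hy⟩ := (Triangle.mk a w c).coyoneda_exact₂ hT x h2
  exact ⟨y, hy.symm⟩

theorem CoMidExact.of_midExact {X Y Z : C} {a : X ⟶ Y} {b : Y ⟶ Z} (h : MidExact a b) :
    CoMidExact a b := by
  intro W w hw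
  obtain ⟨C', s, c, hT⟩ := distinguished_cocone_triangle₁ b
  have h1 : s ≫ b = 0 := comp_distTriang_mor_zero₁₂ _ hT
  obtain ⟨t, ht⟩ := h _ s h1
  have h2 : s ≫ w = 0 := by rw [← ht, Category.assoc, hw, comp_zero]
  obtain ⟨y, hy⟩ := (Triangle.mk s b c).yoneda_exact₂ hT w h2
  exact ⟨y, hy.symm⟩

end Pretri

section Five
variable {D : Type*} [Category D] [Preadditive D]

/-- A five lemma with exactness tested on `Hom(T, -)`. -/
theorem isIso_of_five {F₁ F₂ F₃ F₄ F₅ G₁ G₂ G₃ G₄ G₅ : D}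
    (a : F₁ ⟶ F₂) (b : F₂ ⟶ F₃) (c : F₃ ⟶ F₄) (d : F₄ ⟶ F₅)
    (a' : G₁ ⟶ G₂) (b' : G₂ ⟶ G₃) (c' : G₃ ⟶ G₄) (d' : G₄ ⟶ G₅)
    (φ₁ : F₁ ⟶ G₁) (φ₂ : F₂ ⟶ G₂) (φ₃ : F₃ ⟶ G₃) (φ₄ : F₄ ⟶ G₄) (φ₅ : F₅ ⟶ G₅)
    (h₁ : a ≫ φ₂ = φ₁ ≫ a') (h₂ : b ≫ φ₃ = φ₂ ≫ b') (h₃ : c ≫ φ₄ = φ₃ ≫ c')
    (h₄ : d ≫ φ₅ = φ₄ ≫ d')
    (hab : a ≫ b = 0) (hcd' : c' ≫ d' = 0)
    (eF3 : MidExact b c) (eF4 : MidExact c d) (eG2 : MidExact a' b') (eG3 : MidExact b' c')
    [IsIso φ₁] [IsIso φ₂] [IsIso φ₄] [IsIso φ₅] : IsIso φ₃ := by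
  rw [isIso_iff_yoneda_map_bijective]
  intro T
  have hinj : ∀ x : T ⟶ F₃, x ≫ φ₃ = 0 → x = 0 := by
    intro x hx
    have hxc : x ≫ c = 0 := by
      rw [← cancel_mono φ₄, Category.assoc, h₃, ← Category.assoc, hx, zero_comp, zero_comp]
    obtain ⟨y, hy⟩ := eF3 T x hxc
    have hy2 : (y ≫ φ₂) ≫ b' = 0 := by
      rw [Category.assoc, ← h₂, ← Category.assoc, hy, hx]
    obtain ⟨z', hz'⟩ := eG2 T _ hy2
    have hz : (z' ≫ inv φ₁) ≫ a = y := by
      rw [← cancel_mono φ₂, Category.assoc, h₁, Category.assoc, IsIso.inv_hom_id_assoc, hz']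
    rw [← hy, ← hz, Category.assoc, hab, comp_zero]
  constructor
  · intro x₁ x₂ hx
    have : (x₁ - x₂) ≫ φ₃ = 0 := by
      rw [Preadditive.sub_comp]; exact sub_eq_zero.2 hx
    exact sub_eq_zero.1 (hinj _ this)
  · intro y'
    have hw : ((y' ≫ c') ≫ inv φ₄) ≫ d = 0 := by
      rw [← cancel_mono φ₅, Category.assoc, h₄, Category.assoc, IsIso.inv_hom_id_assoc,
        Category.assoc, hcd', comp_zero, zero_comp]
    obtain ⟨x, hx⟩ := eF4 T _ hw
    have h5 : (y' - x ≫ φ₃) ≫ c' = 0 := by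
      rw [Preadditive.sub_comp, Category.assoc, ← h₃, ← Category.assoc, hx, Category.assoc,
        IsIso.inv_hom_id, Category.comp_id, sub_self]
    obtain ⟨v', hv'⟩ := eG3 T _ h5
    refine ⟨x + (v' ≫ inv φ₂) ≫ b, ?_⟩
    change (x + (v' ≫ inv φ₂) ≫ b) ≫ φ₃ = y'
    rw [Preadditive.add_comp, Category.assoc, h₂, Category.assoc, IsIso.inv_hom_id_assoc, hv']
    abel

end Five

section Shift
variable {C : Type*} [Category C] [HasZeroObject C] [HasShift C ℤ] [Preadditive C]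
  [∀ n : ℤ, (shiftFunctor C n).Additive] [Pretriangulated C]

/-- If a property of objects, stable under isomorphisms, holds for the middle term of a
distinguished triangle as soon as it holds for the two neighbours on each side in the long
sequence, then its "all shifts" version has the two-out-of-three property. -/
theorem two_of_three_shift (Q : C → Prop) (hiso : ∀ K K' : C, (K ≅ K') → Q K → Q K')
    (H : ∀ T ∈ distTriang C, Q (T.obj₃⟦(-1 : ℤ)⟧) → Q T.obj₁ → Q T.obj₃ → Q (T.obj₁⟦(1 : ℤ)⟧) →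
      Q T.obj₂)
    (T : Triangle C) (hT : T ∈ distTriang C) (h₁ : ∀ n : ℤ, Q (T.obj₁⟦n⟧))
    (h₃ : ∀ n : ℤ, Q (T.obj₃⟦n⟧)) (n : ℤ) : Q (T.obj₂⟦n⟧) := by
  have hT' := Triangle.shift_distinguished T hT n
  refine H _ hT' ?_ (h₁ n) (h₃ n) ?_
  · exact hiso _ _ ((shiftFunctorAdd' C n (-1) (n + (-1)) rfl).app T.obj₃) (h₃ _)
  · exact hiso _ _ ((shiftFunctorAdd' C n 1 (n + 1) rfl).app T.obj₁) (h₁ _)

theorem shift_closed (Q : C → Prop) (hiso : ∀ K K' : C, (K ≅ K') → Q K → Q K') (K : C)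
    (h : ∀ n : ℤ, Q (K⟦n⟧)) (m n : ℤ) : Q ((K⟦m⟧)⟦n⟧) :=
  hiso _ _ ((shiftFunctorAdd' C m n (m + n) rfl).app K) (h _)

end Shift

end Groth.Agent.Lib.helper13.PerfInd
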