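import Mathlib
import Groth.Prelude.Def_DTen3
import Groth.Agent.Lib.Helper13.PerfInd1
import Groth.Agent.Lib.Helper23.InjAmp2

/-!
# Test objects `Q(𝟙⟦n⟧)` of `D(A)` (helper13)

* `bijective_of_midExact` : a four term "exact" sequence with vanishing outer `Hom(T, -)`.
* `tst n = Q(𝟙⟦n⟧)`, `isZero_of_tst_hom_zero`, `isIso_of_bijective_tst` : the objects `tst n`
  detect zero objects and isomorphisms of `D(A)`.
* `tst_hom_zero_of_isLE` : `Hom(tst n, Z) = 0` for `Z ∈ D^{≤ r}`, `r < -n`.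
* `isGE_of_tst_hom_zero`, `isLE_of_tst_hom_zero`.
* `hom_to_inj_zero` : `Hom(X, Q I) = 0` for `X ∈ D^{≥ c}`, `I` a bounded below complex of injectives
  vanishing above `b < c`.
-/

set_option autoImplicit false
universe u

namespace Groth.Agent.Lib.helper13.PCohEval
open CategoryTheory Limits Pretriangulated MonoidalCategory
open Groth.Agent.Lib.helper13.PerfInd
attribute [local instance] HasDerivedCategory.standard

section Abstract
variable {D : Type*} [Category D] [Preadditive D]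

theorem bijective_of_midExact {X₀ X₁ X₂ X₃ : D} (a : X₀ ⟶ X₁) (b : X₁ ⟶ X₂) (c : X₂ ⟶ X₃)
    (h1 : MidExact a b) (h2 : MidExact b c) (T : D) (h0 : ∀ x : T ⟶ X₀, x = 0)
    (h3 : ∀ x : T ⟶ X₃, x = 0) : Function.Bijective (fun x : T ⟶ X₁ => x ≫ b) := by
  constructor
  · intro x y hxy
    have : (x - y) ≫ b = 0 := by rw [Preadditive.sub_comp]; exact sub_eq_zero.2 hxy
    obtain ⟨w, hw⟩ := h1 T _ this
    rw [h0 w, zero_comp] at hw
    exact sub_eq_zero.1 hw.symm
  · intro z
    obtain ⟨x, hx⟩ := h2 T z (h3 _)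
    exact ⟨x, hx⟩

end Abstract

variable {A : Type u} [CommRing A]

/-- test objects: the unit placed in cohomological degree `-n` -/
noncomputable abbrev tst (n : ℤ) : Dual.D A := DerivedCategory.Q.obj ((𝟙_ (DRing.Cx A))⟦n⟧)

/-- comparison with the single functor form -/
noncomputable def tstIso (n i : ℤ) (h : n + i = 0) :
    (tst n : Dual.D A) ≅ (DerivedCategory.singleFunctor (ModuleCat.{u} A) i).obj
      (ModuleCat.of A (A ⧸ (⊥ : Ideal A))) :=
  (DerivedCategory.Q.commShiftIso n).app (𝟙_ (DRing.Cx A)) ≪≫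
    (shiftFunctor (Dual.D A) n).mapIso
      ((DerivedCategory.singleFunctorIsoCompQ (ModuleCat.{u} A) 0).app (𝟙_ (ModuleCat.{u} A))).symm ≪≫
    ((DerivedCategory.singleFunctors (ModuleCat.{u} A)).shiftIso n i 0 (by omega)).app
      (𝟙_ (ModuleCat.{u} A)) ≪≫
    (DerivedCategory.singleFunctor (ModuleCat.{u} A) i).mapIso
      (Submodule.quotEquivOfEqBot (⊥ : Ideal A) rfl).symm.toModuleIso

/-- `tst n ≅ (tst (n - 1))⟦1⟧` -/
noncomputable def tstShiftIso (n m : ℤ) (h : m + 1 = n) :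
    (tst n : Dual.D A) ≅ (tst m)⟦(1 : ℤ)⟧ :=
  DerivedCategory.Q.mapIso ((shiftFunctorAdd' (DRing.Cx A) m 1 n h).app (𝟙_ (DRing.Cx A))) ≪≫
    (DerivedCategory.Q.commShiftIso (1 : ℤ)).app ((𝟙_ (DRing.Cx A))⟦m⟧)

theorem isZero_homology_of_tst_hom_zero (Z : Dual.D A) (i n : ℤ) (hn : n + i = 0)
    (h : ∀ z : tst n ⟶ Z, z = 0) :
    IsZero ((DerivedCategory.homologyFunctor (ModuleCat.{u} A) i).obj Z) := by
  let Z' := DerivedCategory.Q.objPreimage Z
  let e : DerivedCategory.Q.obj Z' ≅ Z := DerivedCategory.Q.objObjPreimageIso Z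
  have hex : Z'.ExactAt i := by
    apply Groth.Agent.Lib.helper23.InjAmp.exactAt_of_subsingleton_hom
    have hf : ∀ f : (DerivedCategory.singleFunctor (ModuleCat.{u} A) i).obj
        (ModuleCat.of A (A ⧸ (⊥ : Ideal A))) ⟶ DerivedCategory.Q.obj Z', f = 0 := by
      intro f
      have h1 := h ((tstIso n i hn).hom ≫ f ≫ e.hom)
      rw [← cancel_mono e.hom, ← cancel_epi (tstIso n i hn).hom, h1, zero_comp, comp_zero]
    exact ⟨fun f g => by rw [hf f, hf g]⟩
  rw [HomologicalComplex.exactAt_iff_isZero_homology] at hex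
  exact hex.of_iso ((DerivedCategory.homologyFunctor _ i).mapIso e.symm ≪≫
    (DerivedCategory.homologyFunctorFactors _ i).app Z')

theorem isZero_of_tst_hom_zero (Z : Dual.D A) (h : ∀ (n : ℤ) (z : tst n ⟶ Z), z = 0) :
    IsZero Z := by
  have hz : ∀ i, IsZero ((DerivedCategory.homologyFunctor (ModuleCat.{u} A) i).obj Z) :=
    fun i => isZero_homology_of_tst_hom_zero Z i (-i) (by omega) (h _)
  haveI : Z.IsLE 0 := (DerivedCategory.isLE_iff Z 0).2 (fun i _ => hz i)
  haveI : Z.IsGE 1 := (DerivedCategory.isGE_iff Z 1).2 (fun i _ => hz i)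
  exact DerivedCategory.TStructure.t.isZero Z 0 1 (by omega)

theorem isGE_of_tst_hom_zero (Z : Dual.D A) (c : ℤ)
    (h : ∀ (n : ℤ), -n < c → ∀ z : tst n ⟶ Z, z = 0) : Z.IsGE c :=
  (DerivedCategory.isGE_iff Z c).2 (fun i hi =>
    isZero_homology_of_tst_hom_zero Z i (-i) (by omega) (h _ (by omega)))

theorem isLE_of_tst_hom_zero (Z : Dual.D A) (c : ℤ)
    (h : ∀ (n : ℤ), c < -n → ∀ z : tst n ⟶ Z, z = 0) : Z.IsLE c :=
  (DerivedCategory.isLE_iff Z c).2 (fun i hi =>
    isZero_homology_of_tst_hom_zero Z i (-i) (by omega) (h _ (by omega)))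

section Shift
variable {C : Type*} [Category C] [HasShift C ℤ]

theorem bijective_shift {T X Y : C} (φ : X ⟶ Y) (k : ℤ)
    (h : Function.Bijective (fun x : T ⟶ X => x ≫ φ)) :
    Function.Bijective (fun x : T⟦k⟧ ⟶ X⟦k⟧ => x ≫ φ⟦k⟧') := by
  constructor
  · intro x y hxy
    obtain ⟨x', rfl⟩ := (shiftFunctor C k).map_surjective x
    obtain ⟨y', rfl⟩ := (shiftFunctor C k).map_surjective y
    simp only [← Functor.map_comp] at hxy
    rw [h.1 ((shiftFunctor C k).map_injective hxy)]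
  · intro z
    obtain ⟨z', rfl⟩ := (shiftFunctor C k).map_surjective z
    obtain ⟨x, hx⟩ := h.2 z'
    exact ⟨x⟦k⟧', by simp only [← Functor.map_comp]; rw [← hx]⟩

end Shift

theorem isIso_of_bijective_tst {X Y : Dual.D A} (φ : X ⟶ Y)
    (h : ∀ n : ℤ, Function.Bijective (fun x : (tst n : Dual.D A) ⟶ X => x ≫ φ)) : IsIso φ := by
  obtain ⟨Z, g, δ, hT⟩ := distinguished_cocone_triangle φ
  have hZ : IsZero Z := by
    refine isZero_of_tst_hom_zero Z (fun n z => ?_)
    have hinj : Function.Injective (fun x : (tst n : Dual.D A) ⟶ X⟦(1 : ℤ)⟧ => x ≫ φ⟦(1 : ℤ)⟧') := by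
      have hb := (bijective_shift φ (1 : ℤ) (h (n - 1))).1
      intro x y hxy
      have := @hb ((tstShiftIso n (n - 1) (by omega)).inv ≫ x)
        ((tstShiftIso n (n - 1) (by omega)).inv ≫ y) (by
          simp only [Category.assoc]
          rw [show x ≫ φ⟦(1 : ℤ)⟧' = y ≫ φ⟦(1 : ℤ)⟧' from hxy])
      exact (cancel_epi _).1 this
    have h1 : z ≫ δ = 0 := by
      apply hinj
      change (z ≫ δ) ≫ φ⟦(1 : ℤ)⟧' = 0 ≫ φ⟦(1 : ℤ)⟧'
      rw [Category.assoc, zero_comp]
      have h31 : δ ≫ φ⟦(1 : ℤ)⟧' = 0 := comp_distTriang_mor_zero₃₁ _ hT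
      rw [h31, comp_zero]
    obtain ⟨y, hy'⟩ : ∃ y : (tst n : Dual.D A) ⟶ Y, z = y ≫ g :=
      Triangle.coyoneda_exact₃ _ hT z h1
    obtain ⟨x, hx⟩ := (h n).2 y
    have hx' : x ≫ φ = y := hx
    have h12 : φ ≫ g = 0 := comp_distTriang_mor_zero₁₂ _ hT
    rw [hy', ← hx', Category.assoc, h12, comp_zero]
  exact (Triangle.isZero₃_iff_isIso₁ _ hT).1 hZ

/-- `Hom(tst n, Z) = 0` for `Z ∈ D^{≤ r}`, `r < -n`. -/
theorem tst_hom_zero_of_isLE (n r : ℤ) (hr : r < -n) (Z : Dual.D A) [Z.IsLE r]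
    (z : tst n ⟶ Z) : z = 0 := by
  obtain ⟨Z', hZ', ⟨e⟩⟩ := DerivedCategory.exists_iso_Q_obj_of_isLE Z r
  let S : DRing.Cx A := (𝟙_ (DRing.Cx A))⟦n⟧
  have hSz : ∀ k : ℤ, k ≠ -n → IsZero (S.X k) := fun k hk =>
    HomologicalComplex.isZero_single_obj_X (ComplexShape.up ℤ) 0 _ (k + n) (by omega)
  haveI hSP : ∀ k, Projective (S.X k) := by
    intro k
    by_cases hk : k = -n
    · have e1 : S.X k ≅ 𝟙_ (ModuleCat.{u} A) :=
        eqToIso (by subst hk; show (𝟙_ (DRing.Cx A)).X (-n + n) = _; rw [neg_add_cancel]; rfl)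
      haveI : Projective (𝟙_ (ModuleCat.{u} A)) :=
        (IsProjective.iff_projective (R := A) A).1 inferInstance
      exact Projective.of_iso e1.symm inferInstance
    · exact (hSz k hk).projective
  haveI : S.IsStrictlyLE (-n) := by
    rw [CochainComplex.isStrictlyLE_iff]
    intro k hk
    exact hSz k (by omega)
  haveI : S.IsKProjective := CochainComplex.isKProjective_of_projective S (-n)
  have key : ∀ g : DerivedCategory.Q.obj S ⟶ DerivedCategory.Q.obj Z', g = 0 := by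
    intro g
    obtain ⟨u, hu⟩ := (CochainComplex.IsKProjective.Qh_map_bijective S
      ((HomotopyCategory.quotient _ _).obj Z')).2 g
    obtain ⟨v, rfl⟩ := (HomotopyCategory.quotient _ _).map_surjective u
    have hv : v = 0 := by
      refine HomologicalComplex.hom_ext _ _ (fun k => ?_)
      by_cases hk : k = -n
      · exact (CochainComplex.isZero_of_isStrictlyLE Z' r k (by omega)).eq_of_tgt _ _
      · exact (hSz k hk).eq_of_src _ _
    rw [← hu, hv, Functor.map_zero]
    exact Functor.map_zero _ _ _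
  have := key (z ≫ e.hom)
  rw [← cancel_mono e.hom, this, zero_comp]

/-- `Hom(X, Q I) = 0` for `X ∈ D^{≥ c}` and `I` a bounded below complex of injectives vanishing
above `b < c`. -/
theorem hom_to_inj_zero (I : DRing.Cx A) (a b : ℤ) (hz : DRing.VanishesOutside I a b)
    (hinj : DRing.TermwiseInjective I) (c : ℤ) (hc : b < c) (X : Dual.D A) [X.IsGE c]
    (f : X ⟶ DerivedCategory.Q.obj I) : f = 0 := by
  obtain ⟨X', hX', ⟨e⟩⟩ := DerivedCategory.exists_iso_Q_obj_of_isGE X c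
  haveI : ∀ n, Injective (I.X n) := fun n =>
    (Module.injective_iff_injective_object A (I.X n)).1 (hinj n)
  haveI : I.IsStrictlyGE a := by
    rw [CochainComplex.isStrictlyGE_iff]
    intro j hj
    exact hz j (Or.inl hj)
  haveI : I.IsKInjective := CochainComplex.isKInjective_of_injective I a
  have key : ∀ g : DerivedCategory.Q.obj X' ⟶ DerivedCategory.Q.obj I, g = 0 := by
    intro g
    obtain ⟨u, hu⟩ := (CochainComplex.IsKInjective.Qh_map_bijective
      ((HomotopyCategory.quotient _ _).obj X') I).2 g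
    obtain ⟨v, rfl⟩ := (HomotopyCategory.quotient _ _).map_surjective u
    have hv : v = 0 := by
      refine HomologicalComplex.hom_ext _ _ (fun k => ?_)
      by_cases hk : k < c
      · exact (CochainComplex.isZero_of_isStrictlyGE X' c k hk).eq_of_src _ _
      · exact (hz k (Or.inr (by omega))).eq_of_tgt _ _
    rw [← hu, hv, Functor.map_zero]
    exact Functor.map_zero _ _ _
  have := key (e.inv ≫ f)
  rw [← cancel_epi e.inv, this, comp_zero]

end Groth.Agent.Lib.helper13.PCohEval
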