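import Mathlib
import Groth.Prelude.Def_DRing2
import Groth.Agent.Lib.Helper13.KFlat18

/-!
# Induction principle for perfect objects of `D(A)` (helper13)

`perfect_induction`: a property of objects of `D(A)` which is stable under isomorphisms, shifts,
retracts, satisfies "two out of three" for the middle term of distinguished triangles, and holds
for `A[0]`, holds for every perfect object.
-/

set_option autoImplicit false
universe u

namespace Groth.Agent.Lib.helper13.PerfInd
open CategoryTheory Limits Pretriangulated HomologicalComplex MonoidalCategory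
attribute [local instance] HasDerivedCategory.standard

variable {A : Type u} [CommRing A]

section
variable (Q : Dual.D A → Prop)
  (hiso : ∀ K K' : Dual.D A, (K ≅ K') → Q K → Q K')
  (hshift : ∀ (K : Dual.D A) (n : ℤ), Q K → Q (K⟦n⟧))
  (htri : ∀ T ∈ distTriang (Dual.D A), Q T.obj₁ → Q T.obj₃ → Q T.obj₂)
  (hret : ∀ (K K' : Dual.D A) (i : K ⟶ K') (r : K' ⟶ K), i ≫ r = 𝟙 K → Q K' → Q K)
  (hunit : Q (DerivedCategory.Q.obj (𝟙_ (DRing.Cx A))))

include hret hunit in
theorem q_zero (Z : Dual.D A) (hZ : IsZero Z) : Q Z :=
  hret Z _ 0 0 (hZ.eq_of_src _ _) hunit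

include htri in
theorem q_biprod (X Y : Dual.D A) (hX : Q X) (hY : Q Y) : Q (X ⊞ Y) :=
  htri _ (binaryBiproductTriangle_distinguished X Y) hX hY

include hiso hunit in
theorem q_single_unit :
    Q ((DerivedCategory.singleFunctor (ModuleCat.{u} A) 0).obj (ModuleCat.of A A)) :=
  hiso _ _ (Iso.refl _) hunit

include hiso htri hret hunit in
theorem q_single_free (r : ℕ) :
    Q ((DerivedCategory.singleFunctor (ModuleCat.{u} A) 0).obj (ModuleCat.of A (Fin r → A))) := by
  induction r with
  | zero =>
    refine q_zero Q hret hunit _ (Functor.map_isZero _ ?_)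
    exact ModuleCat.isZero_of_subsingleton _
  | succ r ih =>
    let e : ModuleCat.of A (Fin (r + 1) → A) ≅ ModuleCat.of A A ⊞ ModuleCat.of A (Fin r → A) :=
      (Fin.consLinearEquiv A (fun _ : Fin (r + 1) => A)).symm.toModuleIso ≪≫
        (ModuleCat.biprodIsoProd (ModuleCat.of A A) (ModuleCat.of A (Fin r → A))).symm
    haveI : PreservesBinaryBiproducts (DerivedCategory.singleFunctor (ModuleCat.{u} A) 0) :=
      preservesBinaryBiproducts_of_preservesBiproducts _
    refine hiso _ _ (((DerivedCategory.singleFunctor (ModuleCat.{u} A) 0).mapIso e) ≪≫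
      (DerivedCategory.singleFunctor (ModuleCat.{u} A) 0).mapBiprod _ _).symm ?_
    exact q_biprod Q htri _ _ (q_single_unit Q hiso hunit) ih

include hiso htri hret hunit in
theorem q_single_proj (M : ModuleCat.{u} A) [Module.Finite A M] [Module.Projective A M] :
    Q ((DerivedCategory.singleFunctor (ModuleCat.{u} A) 0).obj M) := by
  obtain ⟨r, f, hf⟩ := Module.Finite.exists_fin' A M
  obtain ⟨g, hg⟩ := f.exists_rightInverse_of_surjective (LinearMap.range_eq_top.2 hf)
  refine hret _ _ ((DerivedCategory.singleFunctor (ModuleCat.{u} A) 0).map (ModuleCat.ofHom g))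
    ((DerivedCategory.singleFunctor (ModuleCat.{u} A) 0).map (ModuleCat.ofHom f)) ?_
    (q_single_free Q hiso htri hret hunit r)
  rw [← Functor.map_comp, ← ModuleCat.ofHom_comp, hg]
  exact (DerivedCategory.singleFunctor (ModuleCat.{u} A) 0).map_id _

include hiso hshift htri hret hunit in
theorem q_single_proj' (M : ModuleCat.{u} A) [Module.Finite A M] [Module.Projective A M]
    (q : ℤ) : Q ((DerivedCategory.singleFunctor (ModuleCat.{u} A) q).obj M) := by
  have h := hshift _ (-q) (q_single_proj Q hiso htri hret hunit M)
  exact hiso _ _ (((DerivedCategory.singleFunctors (ModuleCat.{u} A)).shiftIso (-q) q 0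
    (by omega)).app M) h

include hiso hshift htri hret hunit in
/-- induction principle for perfect objects -/
theorem perfect_induction (K : Dual.D A) (hK : DRing.IsPerfect A K) : Q K := by
  obtain ⟨E, a, b, hE, hP, ⟨e⟩⟩ := hK
  refine hiso _ _ e ?_
  let P : DRing.Cx A → Prop := fun E => DRing.TermwiseFiniteProjective E → Q (DRing.toD E)
  have key : ∀ (n : ℕ) (K : DRing.Cx A) (a : ℤ), (∀ q, q < a → IsZero (K.X q)) →
      (∀ q, a + n ≤ q → IsZero (K.X q)) → P K := by
    apply Groth.Agent.Lib.helper13.KFlat.of_bounded'' P
    · -- single degree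
      intro K q₀ hK hfp
      haveI : K.IsStrictlyGE q₀ := by
        rw [CochainComplex.isStrictlyGE_iff]
        intro i hi
        exact hK i (by omega)
      haveI : K.IsStrictlyLE q₀ := by
        rw [CochainComplex.isStrictlyLE_iff]
        intro i hi
        exact hK i (by omega)
      obtain ⟨M, ⟨e⟩⟩ := CochainComplex.exists_iso_single K q₀
      let eM : K.X q₀ ≅ M := (HomologicalComplex.eval _ _ q₀).mapIso e ≪≫
        HomologicalComplex.singleObjXSelf (ComplexShape.up ℤ) q₀ M
      haveI : Module.Finite A M := by
        haveI := (hfp q₀).1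
        exact Module.Finite.equiv eM.toLinearEquiv
      haveI : Module.Projective A M := by
        haveI := (hfp q₀).2
        exact Module.Projective.of_equiv eM.toLinearEquiv
      exact hiso _ _ (DerivedCategory.Q.mapIso e).symm
        (q_single_proj' Q hiso hshift htri hret hunit M q₀)
    · -- extensions
      intro S hS hz h1 h3 hfp
      have hSq : ∀ q, (S.map (HomologicalComplex.eval _ _ q)).ShortExact := fun q =>
        hS.map_of_exact _
      have hfp1 : DRing.TermwiseFiniteProjective S.X₁ := by
        intro q
        rcases hz q with h | h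
        · haveI : Subsingleton (S.X₁.X q) := ModuleCat.subsingleton_of_isZero h
          exact ⟨inferInstance, inferInstance⟩
        · have hi : IsIso (S.map (HomologicalComplex.eval _ _ q)).f :=
            (hSq q).isIso_f_iff.2 h
          let e1 : S.X₁.X q ≅ S.X₂.X q := @asIso _ _ _ _ _ hi
          haveI := (hfp q).1
          haveI := (hfp q).2
          exact ⟨Module.Finite.equiv e1.toLinearEquiv.symm,
            Module.Projective.of_equiv e1.toLinearEquiv.symm⟩
      have hfp3 : DRing.TermwiseFiniteProjective S.X₃ := by
        intro q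
        rcases hz q with h | h
        · have hi : IsIso (S.map (HomologicalComplex.eval _ _ q)).g :=
            (hSq q).isIso_g_iff.2 h
          let e1 : S.X₂.X q ≅ S.X₃.X q := @asIso _ _ _ _ _ hi
          haveI := (hfp q).1
          haveI := (hfp q).2
          exact ⟨Module.Finite.equiv e1.toLinearEquiv,
            Module.Projective.of_equiv e1.toLinearEquiv⟩
        · haveI : Subsingleton (S.X₃.X q) := ModuleCat.subsingleton_of_isZero h
          exact ⟨inferInstance, inferInstance⟩
      exact htri _ (DerivedCategory.triangleOfSES_distinguished hS) (h1 hfp1) (h3 hfp3)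
  have hab : ∀ q, a + ((b + 1 - a).toNat : ℤ) ≤ q → IsZero (E.X q) := by
    intro q hq
    refine hE q (Or.inr ?_)
    have := Int.self_le_toNat (b + 1 - a)
    omega
  exact key (b + 1 - a).toNat E a (fun q hq => hE q (Or.inl hq)) hab hP

end

end Groth.Agent.Lib.helper13.PerfInd
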