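import Mathlib
import Groth.Prelude.Def_DTen3
import Groth.Agent.Lib.Helper13.PerfInd1

/-!
# Formal properties of the closed structure on `D(A)` (helper13)

Bifunctoriality helpers (`tmap`), naturality of the associator, `K ⊗^L -` as a left adjoint,
middle exactness of the tensor / internal hom functors on distinguished triangles.
-/

set_option autoImplicit false
universe u

namespace Groth.Agent.Lib.helper13.PerfInd
open CategoryTheory Limits Pretriangulated MonoidalCategory Opposite DTen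
attribute [local instance] HasDerivedCategory.standard

variable {A : Type u} [CommRing A]

section Tmap
variable [HasLTen A]

/-- bifunctoriality of `LTen₂` in explicit form -/
noncomputable abbrev tmap {X X' Y Y' : Dual.D A} (f : X ⟶ X') (g : Y ⟶ Y') :
    (LTen₂ A).obj (X, Y) ⟶ (LTen₂ A).obj (X', Y') := (LTen₂ A).map (Prod.mkHom f g)

lemma tmap_comp {X X' X'' Y Y' Y'' : Dual.D A} (f : X ⟶ X') (f' : X' ⟶ X'') (g : Y ⟶ Y')
    (g' : Y' ⟶ Y'') : tmap (f ≫ f') (g ≫ g') = tmap f g ≫ tmap f' g' := by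
  dsimp only [tmap]
  rw [← Functor.map_comp]
  rfl

lemma tmap_id (X Y : Dual.D A) : tmap (𝟙 X) (𝟙 Y) = 𝟙 ((LTen₂ A).obj (X, Y)) := by
  dsimp only [tmap]
  exact (LTen₂ A).map_id (X, Y)

lemma tmap_left_right {X X' Y Y' : Dual.D A} (f : X ⟶ X') (g : Y ⟶ Y') :
    tmap f (𝟙 Y) ≫ tmap (𝟙 X') g = tmap f g := by
  rw [← tmap_comp, Category.comp_id, Category.id_comp]

lemma tmap_right_left {X X' Y Y' : Dual.D A} (f : X ⟶ X') (g : Y ⟶ Y') :
    tmap (𝟙 X) g ≫ tmap f (𝟙 Y') = tmap f g := by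
  rw [← tmap_comp, Category.comp_id, Category.id_comp]

lemma tmap_exchange {X X' Y Y' : Dual.D A} (f : X ⟶ X') (g : Y ⟶ Y') :
    tmap f (𝟙 Y) ≫ tmap (𝟙 X') g = tmap (𝟙 X) g ≫ tmap f (𝟙 Y') := by
  rw [tmap_left_right, tmap_right_left]

lemma tensorRightD_map (L : Dual.D A) {X X' : Dual.D A} (f : X ⟶ X') :
    (tensorRightD A L).map f = tmap f (𝟙 L) := rfl

lemma tensorLeftD_map (K : Dual.D A) {X X' : Dual.D A} (f : X ⟶ X') :
    ((LTen A).obj K).map f = tmap (𝟙 K) f := rfl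

end Tmap

section Assoc
variable [HasLTen A] [HasLTen₃ A] [IsSymMonoidal A]

/-- the associator as a natural isomorphism -/
noncomputable def assocNatIso : LTenL A ≅ LTenR A :=
  asIso (assocL A) ≪≫ (asIso (assocR A)).symm

lemma assocNatIso_app (a b c : Dual.D A) :
    (assocNatIso (A := A)).app (a, (b, c)) = DTen.associator a b c := rfl

lemma associator_naturality {a a' b b' c c' : Dual.D A} (f : a ⟶ a') (g : b ⟶ b') (h : c ⟶ c') :
    tmap (tmap f g) h ≫ (DTen.associator a' b' c').hom =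
      (DTen.associator a b c).hom ≫ tmap f (tmap g h) := by
  have := (assocNatIso (A := A)).hom.naturality
    (Prod.mkHom f (Prod.mkHom g h) : (a, (b, c)) ⟶ (a', (b', c')))
  rw [← assocNatIso_app, ← assocNatIso_app]
  exact this

lemma associator_inv_naturality {a a' b b' c c' : Dual.D A} (f : a ⟶ a') (g : b ⟶ b')
    (h : c ⟶ c') :
    tmap f (tmap g h) ≫ (DTen.associator a' b' c').inv =
      (DTen.associator a b c).inv ≫ tmap (tmap f g) h := by
  rw [Iso.comp_inv_eq, Category.assoc, associator_naturality, Iso.inv_hom_id_assoc]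

/-- the symmetry as a natural isomorphism `- ⊗ K ≅ K ⊗ -` -/
noncomputable def symmNatIso (K : Dual.D A) : tensorRightD A K ≅ (LTen A).obj K :=
  NatIso.ofComponents (fun X => (asIso (symm A)).app (K, X)) (by
    intro X Y f
    exact (symm A).naturality (Prod.mkHom (𝟙 K) f : (K, X) ⟶ (K, Y)))

lemma symmNatIso_hom_app (K X : Dual.D A) :
    (symmNatIso K).hom.app X = (symm A).app (K, X) := rfl

end Assoc

section Adj
variable [HasLTen A] [HasLTen₃ A] [IsSymMonoidal A] [HasRHom A]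

/-- `K ⊗^L -` is left adjoint to `RHom(K, -)` (via the symmetry). -/
noncomputable def tensorLeftAdj (K : Dual.D A) : (LTen A).obj K ⊣ RHomR A K :=
  (rhomAdj A K).ofNatIsoLeft (symmNatIso K)

instance (K : Dual.D A) : ((LTen A).obj K).IsLeftAdjoint := (tensorLeftAdj K).isLeftAdjoint

lemma coMidExact_tensorRight (Y : Dual.D A) {X₁ X₂ X₃ : Dual.D A} {a : X₁ ⟶ X₂} {b : X₂ ⟶ X₃}
    (h : CoMidExact a b) : CoMidExact (tmap a (𝟙 Y)) (tmap b (𝟙 Y)) :=
  CoMidExact.map_of_adj (rhomAdj A Y) h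

lemma coMidExact_tensorLeft (Y : Dual.D A) {X₁ X₂ X₃ : Dual.D A} {a : X₁ ⟶ X₂} {b : X₂ ⟶ X₃}
    (h : CoMidExact a b) : CoMidExact (tmap (𝟙 Y) a) (tmap (𝟙 Y) b) :=
  CoMidExact.map_of_adj (tensorLeftAdj Y) h

lemma midExact_RHomR (Y : Dual.D A) {X₁ X₂ X₃ : Dual.D A} {a : X₁ ⟶ X₂} {b : X₂ ⟶ X₃}
    (h : MidExact a b) : MidExact ((RHomR A Y).map a) ((RHomR A Y).map b) :=
  MidExact.map_of_adj (rhomAdj A Y) h

/-- `RHom(-, Z)` turns `Hom(-, W)`-exact pairs into `Hom(T, -)`-exact pairs. -/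
lemma midExact_RHomMap {P₁ P₂ P₃ : Dual.D A} {α : P₁ ⟶ P₂} {β : P₂ ⟶ P₃} (h : CoMidExact α β)
    (Z : Dual.D A) : MidExact (RHomMap β Z) (RHomMap α Z) := by
  intro T₀ x hx
  -- adjunct of `x`
  have key : ∀ {P P' : Dual.D A} (g : P' ⟶ P) (y : T₀ ⟶ (RHomR A P).obj Z),
      ((rhomAdj A P').homEquiv _ _).symm (y ≫ RHomMap g Z) =
        tmap (𝟙 T₀) g ≫ ((rhomAdj A P).homEquiv _ _).symm y := by
    intro P P' g y
    rw [Adjunction.homEquiv_counit, Adjunction.homEquiv_counit, tensorRightD_map,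
      tensorRightD_map, ← Category.comp_id (𝟙 P'), tmap_comp, Category.assoc]
    erw [RHom_map_ev g Z]
    rw [← Category.assoc, ← Category.assoc, tmap_exchange]
  have h0 : tmap (𝟙 T₀) α ≫ ((rhomAdj A P₂).homEquiv _ _).symm x = 0 := by
    rw [← key, hx, Adjunction.homEquiv_counit, Functor.map_zero, zero_comp]
  obtain ⟨t, ht⟩ := coMidExact_tensorLeft T₀ h _ _ h0
  refine ⟨(rhomAdj A P₃).homEquiv _ _ t, ?_⟩
  apply ((rhomAdj A P₂).homEquiv _ _).symm.injective
  rw [key, Equiv.symm_apply_apply, ht]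

end Adj

end Groth.Agent.Lib.helper13.PerfInd
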