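import Mathlib
import Groth.Prelude.Def_DTen3
import Groth.Agent.Lib.Helper13.PerfInd3
import Groth.Agent.Lib.Helper13.DTenA
import Groth.Agent.Lib.Helper13.KFlat9
import Groth.Agent.Lib.Helper13.RKF1

/-!
# Shifts of the unit are invertible objects of `D(A)` (helper13)

* `tensorRightCompIso U V e : (- ⊗ U) ⋙ (- ⊗ V) ≅ 𝟭` for `e : U ⊗^L V ≅ A[0]`.
* `isEquivalence_tensorRightD_of_iso`.
* `unitShiftIso m n h : Q(𝟙⟦m⟧) ⊗^L Q(𝟙⟦n⟧) ≅ A[0]` for `m + n = 0`.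
* `isEquivalence_tensorRightD_unitShift n : (- ⊗^L (A[0])⟦n⟧)` is an equivalence.
-/

set_option autoImplicit false
universe u

namespace Groth.Agent.Lib.helper13.PerfInd
open CategoryTheory Limits Pretriangulated MonoidalCategory Opposite DTen
attribute [local instance] HasDerivedCategory.standard

variable {A : Type u} [CommRing A]

section Inv
variable [HasLTen A] [HasLTen₃ A] [IsSymMonoidal A]

/-- `(X ⊗ U) ⊗ V ≅ X`, naturally in `X`, for `U ⊗ V ≅ A[0]`. -/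
noncomputable def tensorRightCompIso (U V : Dual.D A) (e : (LTen₂ A).obj (U, V) ≅ unit A) :
    tensorRightD A U ⋙ tensorRightD A V ≅ 𝟭 (Dual.D A) :=
  NatIso.ofComponents (fun X => DTen.associator X U V ≪≫ ((LTen A).obj X).mapIso e ≪≫
    DTen.rightUnitor X) (by
    intro X Y f
    have h1 := associator_naturality f (𝟙 U) (𝟙 V)
    rw [tmap_id] at h1
    have h2 : tmap f (𝟙 ((LTen₂ A).obj (U, V))) ≫ tmap (𝟙 Y) e.hom =
        tmap (𝟙 X) e.hom ≫ tmap f (𝟙 (unit A)) := tmap_exchange f e.hom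
    have h3 : tmap f (𝟙 (unit A)) ≫ (unitR A).app Y = (unitR A).app X ≫ f :=
      (unitR A).naturality f
    dsimp only [Functor.comp_map, Iso.trans_hom, Functor.mapIso_hom, Functor.id_map,
      Functor.comp_obj, Functor.id_obj]
    rw [tensorRightD_map, tensorRightD_map, tensorLeftD_map, tensorLeftD_map,
      DTen.rightUnitor_hom, DTen.rightUnitor_hom, reassoc_of% h1, reassoc_of% h2, h3]
    simp only [Category.assoc])

theorem isEquivalence_tensorRightD_of_iso (U V : Dual.D A)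
    (e₁ : (LTen₂ A).obj (U, V) ≅ unit A) (e₂ : (LTen₂ A).obj (V, U) ≅ unit A) :
    (tensorRightD A U).IsEquivalence :=
  (CategoryTheory.Equivalence.mk (tensorRightD A U) (tensorRightD A V) (tensorRightCompIso U V e₁).symm
    (tensorRightCompIso V U e₂)).isEquivalence_functor

theorem isEquivalence_tensorLeftD_of_isEquivalence (U : Dual.D A)
    [(tensorRightD A U).IsEquivalence] : ((LTen A).obj U).IsEquivalence :=
  Functor.isEquivalence_of_iso (symmNatIso U)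

end Inv

section UnitShift
open Groth.Agent.Lib.helper13.KFlat Groth.Agent.Lib.helper13.RKF

theorem isKFlatR_tensorUnit : IsKFlatR (𝟙_ (DRing.Cx A)) := by
  refine isKFlatR_of_bounded_above _ 0 ?_ ?_
  · intro i hi
    exact HomologicalComplex.isZero_single_obj_X _ _ _ _ (by omega)
  · intro i
    by_cases hi : i = 0
    · subst hi
      exact Module.Flat.of_linearEquiv
        (HomologicalComplex.singleObjXSelf (ComplexShape.up ℤ) 0
          (𝟙_ (ModuleCat.{u} A))).toLinearEquiv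
    · haveI : Subsingleton ((𝟙_ (DRing.Cx A)).X i) :=
        ModuleCat.subsingleton_of_isZero
          (HomologicalComplex.isZero_single_obj_X _ _ _ _ hi)
      infer_instance

/-- chain level: `𝟙⟦m⟧ ⊗ 𝟙⟦n⟧ ≅ 𝟙` for `m + n = 0` -/
noncomputable def unitShiftCxIso (m n : ℤ) (h : m + n = 0) :
    ((𝟙_ (DRing.Cx A))⟦m⟧ ⊗ (𝟙_ (DRing.Cx A))⟦n⟧ : DRing.Cx A) ≅ 𝟙_ (DRing.Cx A) :=
  CochainComplex.mapBifunctorShift₁Iso (𝟙_ (DRing.Cx A)) ((𝟙_ (DRing.Cx A))⟦n⟧)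
      (curriedTensor (ModuleCat.{u} A)) m ≪≫
    (shiftFunctor (DRing.Cx A) m).mapIso
      (CochainComplex.mapBifunctorShift₂Iso (𝟙_ (DRing.Cx A)) (𝟙_ (DRing.Cx A))
        (curriedTensor (ModuleCat.{u} A)) n) ≪≫
    ((shiftFunctorAdd' (DRing.Cx A) n m 0 (by omega)).app _).symm ≪≫
    (shiftFunctorZero (DRing.Cx A) ℤ).app _ ≪≫ λ_ (𝟙_ (DRing.Cx A))

variable [HasLTen A]

/-- `Q(𝟙⟦m⟧) ⊗^L Q(𝟙⟦n⟧) ≅ A[0]` for `m + n = 0` -/
noncomputable def unitShiftIso (m n : ℤ) (h : m + n = 0) :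
    (LTen₂ A).obj (DerivedCategory.Q.obj ((𝟙_ (DRing.Cx A))⟦m⟧),
      DerivedCategory.Q.obj ((𝟙_ (DRing.Cx A))⟦n⟧)) ≅ unit A :=
  haveI := Groth.Agent.Lib.helper13.DTenA.isIso_ε_right ((𝟙_ (DRing.Cx A))⟦m⟧)
    ((𝟙_ (DRing.Cx A))⟦n⟧) (isKFlatR_shift _ n isKFlatR_tensorUnit)
  asIso ((DTen.ε A).app ((𝟙_ (DRing.Cx A))⟦m⟧, (𝟙_ (DRing.Cx A))⟦n⟧)) ≪≫
    DerivedCategory.Q.mapIso (unitShiftCxIso m n h)

variable [HasLTen₃ A] [IsSymMonoidal A]

theorem isEquivalence_tensorRightD_QunitShift (n : ℤ) :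
    (tensorRightD A (DerivedCategory.Q.obj ((𝟙_ (DRing.Cx A))⟦n⟧))).IsEquivalence :=
  isEquivalence_tensorRightD_of_iso _ (DerivedCategory.Q.obj ((𝟙_ (DRing.Cx A))⟦-n⟧))
    (unitShiftIso n (-n) (by omega)) (unitShiftIso (-n) n (by omega))

end UnitShift

end Groth.Agent.Lib.helper13.PerfInd
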