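import Mathlib
import Groth.Prelude.Def_DTen3
import Groth.Agent.Lib.Helper13.PerfInd2
import Groth.Agent.Lib.Helper13.PerfInd4

/-!
# `evalTen`, `evalHom` are isomorphisms for perfect objects (helper13)
-/

set_option autoImplicit false
universe u

namespace Groth.Agent.Lib.helper13.PerfInd
open CategoryTheory Limits Pretriangulated MonoidalCategory Opposite DTen
attribute [local instance] HasDerivedCategory.standard

section Generic

theorem isIso_app_of_retract {C D : Type*} [Category C] [Category D] {F G : C ⥤ D} (φ : F ⟶ G)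
    {X Y : C} (i : X ⟶ Y) (r : Y ⟶ X) (h : i ≫ r = 𝟙 X) [IsIso (φ.app Y)] : IsIso (φ.app X) :=
  ⟨⟨G.map i ≫ inv (φ.app Y) ≫ F.map r, by
    rw [← φ.naturality_assoc i, IsIso.hom_inv_id_assoc, ← F.map_comp, h, F.map_id], by
    rw [Category.assoc, Category.assoc, φ.naturality r, IsIso.inv_hom_id_assoc, ← G.map_comp, h,
      G.map_id]⟩⟩

variable {A : Type u} [CommRing A]

/-- dévissage for perfect objects, in the form adapted to the five lemma -/
theorem perfect_of_five (Q₀ : Dual.D A → Prop)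
    (hret₀ : ∀ (K K' : Dual.D A) (i : K ⟶ K') (r : K' ⟶ K), i ≫ r = 𝟙 K → Q₀ K' → Q₀ K)
    (H : ∀ T ∈ distTriang (Dual.D A), Q₀ (T.obj₃⟦(-1 : ℤ)⟧) → Q₀ T.obj₁ → Q₀ T.obj₃ →
      Q₀ (T.obj₁⟦(1 : ℤ)⟧) → Q₀ T.obj₂)
    (hunit : ∀ n : ℤ, Q₀ ((DerivedCategory.Q.obj (𝟙_ (DRing.Cx A)))⟦n⟧))
    (K : Dual.D A) (hK : DRing.IsPerfect A K) : Q₀ K := by
  have hiso₀ : ∀ K K' : Dual.D A, (K ≅ K') → Q₀ K → Q₀ K' :=
    fun K K' e h => hret₀ K' K e.inv e.hom e.inv_hom_id h
  have := perfect_induction (fun K => ∀ n : ℤ, Q₀ (K⟦n⟧))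
    (fun K K' e h n => hiso₀ _ _ ((shiftFunctor _ n).mapIso e) (h n))
    (fun K m h n => shift_closed Q₀ hiso₀ K h m n)
    (fun T hT h1 h3 n => two_of_three_shift Q₀ hiso₀ H T hT h1 h3 n)
    (fun K K' i r hir h n => hret₀ _ _ (i⟦n⟧') (r⟦n⟧')
      (by rw [← Functor.map_comp, hir]; exact CategoryTheory.Functor.map_id _ _) (h n))
    hunit K hK 0
  exact hiso₀ _ _ ((shiftFunctorZero _ ℤ).app K) this

end Generic

variable {A : Type u} [CommRing A]
variable [HasLTen A] [HasLTen₃ A] [IsSymMonoidal A] [HasRHom A]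

section Nat

lemma adj_symm_apply {T₀ P Z : Dual.D A} (y : T₀ ⟶ (RHomR A P).obj Z) :
    ((rhomAdj A P).homEquiv _ _).symm y = tmap y (𝟙 P) ≫ ev P Z := by
  rw [Adjunction.homEquiv_counit]
  rfl

lemma adj_symm_comp_RHomMap {T₀ P P' Z : Dual.D A} (g : P' ⟶ P) (y : T₀ ⟶ (RHomR A P).obj Z) :
    ((rhomAdj A P').homEquiv _ _).symm (y ≫ RHomMap g Z) =
      tmap (𝟙 T₀) g ≫ ((rhomAdj A P).homEquiv _ _).symm y := by
  rw [adj_symm_apply, adj_symm_apply, ← Category.comp_id (𝟙 P'), tmap_comp, Category.assoc]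
  erw [RHom_map_ev g Z]
  rw [← Category.assoc, ← Category.assoc, tmap_exchange]

lemma evalTen_adj (K L M : Dual.D A) :
    ((rhomAdj A M).homEquiv _ _).symm (evalTen K L M) = evalTenAux K L M :=
  Equiv.symm_apply_apply _ _

lemma evalHom_adj (K L M : Dual.D A) :
    ((rhomAdj A ((RHomR A K).obj L)).homEquiv _ _).symm (evalHom K L M) = evalHomAux K L M :=
  Equiv.symm_apply_apply _ _

lemma RHomMap_zero (P P' Z : Dual.D A) : RHomMap (0 : P' ⟶ P) Z = 0 := by
  apply ((rhomAdj A P').homEquiv _ _).symm.injective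
  have h := adj_symm_comp_RHomMap (0 : P' ⟶ P) (𝟙 ((RHomR A P).obj Z))
  rw [Category.id_comp] at h
  rw [h, adj_symm_apply (0 : _ ⟶ (RHomR A P').obj Z)]
  have h1 : tmap (𝟙 ((RHomR A P).obj Z)) (0 : P' ⟶ P) = 0 :=
    ((LTen A).obj ((RHomR A P).obj Z)).map_zero _ _
  have h2 : tmap (0 : (RHomR A P).obj Z ⟶ (RHomR A P').obj Z) (𝟙 P') = 0 :=
    (tensorRightD A P').map_zero _ _
  rw [h1, h2, zero_comp, zero_comp]

lemma RHomMap_comp {P P' P'' : Dual.D A} (g : P' ⟶ P) (g' : P'' ⟶ P') (Z : Dual.D A) :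
    RHomMap (g' ≫ g) Z = RHomMap g Z ≫ RHomMap g' Z := by
  dsimp only [RHomMap]
  rw [op_comp, Functor.map_comp, NatTrans.comp_app]
  rfl

lemma evalTen_naturality_left {K K' : Dual.D A} (f : K ⟶ K') (L M : Dual.D A) :
    tmap f (𝟙 ((RHomR A M).obj L)) ≫ evalTen K' L M =
      evalTen K L M ≫ (RHomR A M).map (tmap f (𝟙 L)) := by
  apply ((rhomAdj A M).homEquiv _ _).symm.injective
  rw [Adjunction.homEquiv_naturality_left_symm, Adjunction.homEquiv_naturality_right_symm,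
    evalTen_adj, evalTen_adj, tensorRightD_map]
  dsimp only [evalTenAux]
  have h1 := associator_naturality f (𝟙 ((RHomR A M).obj L)) (𝟙 M)
  rw [tmap_id] at h1
  rw [reassoc_of% h1, Category.assoc, tmap_exchange]

lemma evalTen_naturality_hom {M M' : Dual.D A} (g : M' ⟶ M) (K L : Dual.D A) :
    tmap (𝟙 K) (RHomMap g L) ≫ evalTen K L M' =
      evalTen K L M ≫ RHomMap g ((LTen₂ A).obj (K, L)) := by
  apply ((rhomAdj A M').homEquiv _ _).symm.injective
  rw [adj_symm_comp_RHomMap, Adjunction.homEquiv_naturality_left_symm, evalTen_adj, evalTen_adj,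
    tensorRightD_map]
  dsimp only [evalTenAux]
  have h1 := associator_naturality (𝟙 K) (RHomMap g L) (𝟙 M')
  have h2 := associator_naturality (𝟙 K) (𝟙 ((RHomR A M).obj L)) g
  rw [tmap_id] at h2
  rw [reassoc_of% h1, reassoc_of% h2, ← tmap_comp, ← tmap_comp, Category.comp_id]
  erw [RHom_map_ev g L]

lemma symm_naturality {P P' R R' : Dual.D A} (p : P ⟶ P') (r : R ⟶ R') :
    tmap r p ≫ (symm A).app (P', R') = (symm A).app (P, R) ≫ tmap p r :=
  (symm A).naturality (Prod.mkHom p r : (P, R) ⟶ (P', R'))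

lemma evalHom_naturality {K K' : Dual.D A} (f : K ⟶ K') (L M : Dual.D A) :
    tmap (𝟙 ((RHomR A L).obj M)) f ≫ evalHom K' L M =
      evalHom K L M ≫ RHomMap (RHomMap f L) M := by
  apply ((rhomAdj A ((RHomR A K').obj L)).homEquiv _ _).symm.injective
  rw [adj_symm_comp_RHomMap, Adjunction.homEquiv_naturality_left_symm, evalHom_adj, evalHom_adj,
    tensorRightD_map]
  dsimp only [evalHomAux]
  have h1 := associator_naturality (𝟙 ((RHomR A L).obj M)) f (𝟙 ((RHomR A K').obj L))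
  have h2 := associator_naturality (𝟙 ((RHomR A L).obj M)) (𝟙 K) (RHomMap f L)
  rw [tmap_id] at h2
  rw [reassoc_of% h1, reassoc_of% h2]
  congr 1
  rw [← Category.assoc, ← Category.assoc, ← tmap_comp, ← tmap_comp, Category.comp_id]
  congr 2
  rw [← Category.assoc, ← Category.assoc, symm_naturality, symm_naturality, Category.assoc,
    Category.assoc]
  congr 1
  exact (RHom_map_ev f L).symm

end Nat

end Groth.Agent.Lib.helper13.PerfInd
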