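import Mathlib
import Groth.Prelude.Def_DTen3
import Groth.Agent.Lib.Helper13.PerfInd5

/-!
# `evalTen`, `evalHom` are isomorphisms for invertible objects (base cases) (helper13)
-/

set_option autoImplicit false
universe u

namespace Groth.Agent.Lib.helper13.PerfInd
open CategoryTheory Limits Pretriangulated MonoidalCategory Opposite DTen
attribute [local instance] HasDerivedCategory.standard

variable {A : Type u} [CommRing A]
variable [HasLTen A] [HasLTen₃ A] [IsSymMonoidal A] [HasRHom A]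

/-- reduction of the Yoneda bijectivity test to an essentially surjective family of test objects -/
theorem isIso_of_bijective_on_essImage {C : Type*} [Category C] (G : C ⥤ C) [G.EssSurj]
    {X Y : C} (f : X ⟶ Y)
    (h : ∀ T₁ : C, Function.Bijective (fun x : G.obj T₁ ⟶ X => x ≫ f)) : IsIso f := by
  rw [isIso_iff_yoneda_map_bijective]
  intro T₀
  let ι : G.obj (G.objPreimage T₀) ≅ T₀ := G.objObjPreimageIso T₀
  have hb := h (G.objPreimage T₀)
  constructor
  · intro x₁ x₂ hx
    have hx' : x₁ ≫ f = x₂ ≫ f := hx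
    have := hb.1 (a₁ := ι.hom ≫ x₁) (a₂ := ι.hom ≫ x₂) (by
      change (ι.hom ≫ x₁) ≫ f = (ι.hom ≫ x₂) ≫ f
      rw [Category.assoc, Category.assoc, hx'])
    exact (cancel_epi ι.hom).1 this
  · intro z
    obtain ⟨x, hx⟩ := hb.2 (ι.hom ≫ z)
    have hx' : x ≫ f = ι.hom ≫ z := hx
    refine ⟨ι.inv ≫ x, ?_⟩
    change (ι.inv ≫ x) ≫ f = z
    rw [Category.assoc, hx', Iso.inv_hom_id_assoc]

theorem isIso_evalTen_of_invertible_left (U L M : Dual.D A) [(tensorRightD A U).IsEquivalence] :
    IsIso (evalTen U L M) := by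
  haveI : ((LTen A).obj U).IsEquivalence := isEquivalence_tensorLeftD_of_isEquivalence U
  have key : ∀ (T₁ : Dual.D A) (y : T₁ ⟶ (RHomR A M).obj L),
      ((rhomAdj A M).homEquiv _ _).symm (tmap (𝟙 U) y ≫ evalTen U L M) =
        (DTen.associator U T₁ M).hom ≫ tmap (𝟙 U) (((rhomAdj A M).homEquiv _ _).symm y) := by
    intro T₁ y
    rw [Adjunction.homEquiv_naturality_left_symm, evalTen_adj, tensorRightD_map]
    dsimp only [evalTenAux]
    have h1 := associator_naturality (𝟙 U) y (𝟙 M)
    rw [reassoc_of% h1, ← tmap_comp, Category.comp_id, adj_symm_apply]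
  refine isIso_of_bijective_on_essImage ((LTen A).obj U) _ (fun T₁ => ⟨?_, ?_⟩)
  · intro x₁ x₂ hx
    obtain ⟨y₁, rfl⟩ := ((LTen A).obj U).map_surjective x₁
    obtain ⟨y₂, rfl⟩ := ((LTen A).obj U).map_surjective x₂
    have h := congrArg ((rhomAdj A M).homEquiv _ _).symm hx
    have h0 := (key T₁ y₁).symm.trans (h.trans (key T₁ y₂))
    rw [cancel_epi] at h0
    have h' := ((LTen A).obj U).map_injective h0
    rw [((rhomAdj A M).homEquiv _ _).symm.injective h']
  · intro z
    obtain ⟨v, hv⟩ := ((LTen A).obj U).map_surjective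
      ((DTen.associator U T₁ M).inv ≫ ((rhomAdj A M).homEquiv _ _).symm z)
    refine ⟨tmap (𝟙 U) ((rhomAdj A M).homEquiv _ _ v), ?_⟩
    apply ((rhomAdj A M).homEquiv _ _).symm.injective
    refine (key T₁ _).trans ?_
    rw [Equiv.symm_apply_apply, show tmap (𝟙 U) v = _ from hv, Iso.hom_inv_id_assoc]
    rfl

theorem isIso_evalTen_of_invertible_hom (K L U : Dual.D A) [(tensorRightD A U).IsEquivalence] :
    IsIso (evalTen K L U) := by
  haveI : (RHomR A U).IsEquivalence := (rhomAdj A U).isEquivalence_right_of_isEquivalence_left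
  haveI h1 : IsIso (ev U L) := inferInstanceAs (IsIso ((rhomAdj A U).counit.app L))
  haveI h1' : IsIso (tmap (𝟙 K) (ev U L)) :=
    inferInstanceAs (IsIso (((LTen A).obj K).map (ev U L)))
  haveI h2 : IsIso (evalTenAux K L U) := by
    dsimp only [evalTenAux]
    infer_instance
  have h3 : evalTen K L U = (rhomAdj A U).unit.app _ ≫ (RHomR A U).map (evalTenAux K L U) := by
    unfold evalTen
    exact (rhomAdj A U).homEquiv_unit _ _ _
  rw [h3]
  infer_instance

theorem isIso_evalHom_of_invertible (U L M : Dual.D A) [(tensorRightD A U).IsEquivalence] :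
    IsIso (evalHom U L M) := by
  haveI : (RHomR A U).IsEquivalence := (rhomAdj A U).isEquivalence_right_of_isEquivalence_left
  haveI h1 : IsIso (ev U L) := inferInstanceAs (IsIso ((rhomAdj A U).counit.app L))
  let σ : (LTen₂ A).obj (U, (RHomR A U).obj L) ⟶ L :=
    (symm A).app ((RHomR A U).obj L, U) ≫ ev U L
  haveI hσ : IsIso σ := by
    dsimp only [σ]
    infer_instance
  have key : ∀ (T₁ : Dual.D A) (y : T₁ ⟶ (RHomR A L).obj M),
      ((rhomAdj A ((RHomR A U).obj L)).homEquiv _ _).symm (tmap y (𝟙 U) ≫ evalHom U L M) =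
        ((DTen.associator T₁ U ((RHomR A U).obj L)).hom ≫ tmap (𝟙 T₁) σ) ≫
          ((rhomAdj A L).homEquiv _ _).symm y := by
    intro T₁ y
    rw [Adjunction.homEquiv_naturality_left_symm, evalHom_adj, tensorRightD_map]
    dsimp only [evalHomAux]
    have h1 := associator_naturality y (𝟙 U) (𝟙 ((RHomR A U).obj L))
    rw [tmap_id] at h1
    rw [reassoc_of% h1, ← Category.assoc (tmap y _), tmap_exchange, adj_symm_apply]
    simp only [Category.assoc, σ]
  haveI hτ : ∀ T₁ : Dual.D A, IsIso ((DTen.associator T₁ U ((RHomR A U).obj L)).hom ≫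
      tmap (𝟙 T₁) σ) := by
    intro T₁
    haveI : IsIso (tmap (𝟙 T₁) σ) := inferInstanceAs (IsIso (((LTen A).obj T₁).map σ))
    infer_instance
  refine isIso_of_bijective_on_essImage (tensorRightD A U) _ (fun T₁ => ⟨?_, ?_⟩)
  · intro x₁ x₂ hx
    obtain ⟨y₁, rfl⟩ := (tensorRightD A U).map_surjective x₁
    obtain ⟨y₂, rfl⟩ := (tensorRightD A U).map_surjective x₂
    have h := congrArg ((rhomAdj A ((RHomR A U).obj L)).homEquiv _ _).symm hx
    have h0 := (key T₁ y₁).symm.trans (h.trans (key T₁ y₂))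
    rw [cancel_epi] at h0
    rw [((rhomAdj A L).homEquiv _ _).symm.injective h0]
  · intro z
    refine ⟨tmap ((rhomAdj A L).homEquiv _ _ (inv ((DTen.associator T₁ U ((RHomR A U).obj L)).hom ≫
      tmap (𝟙 T₁) σ) ≫ ((rhomAdj A ((RHomR A U).obj L)).homEquiv _ _).symm z)) (𝟙 U), ?_⟩
    apply ((rhomAdj A ((RHomR A U).obj L)).homEquiv _ _).symm.injective
    refine (key T₁ _).trans ?_
    rw [Equiv.symm_apply_apply, IsIso.hom_inv_id_assoc]
    rfl

end Groth.Agent.Lib.helper13.PerfInd
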