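import Mathlib
import Groth.Prelude.Def_DTen3
import Groth.Agent.Lib.Helper13.PerfInd6

/-!
# `evalTen`, `evalHom` are isomorphisms for perfect objects (helper13)

* `isIso_evalTen_of_isPerfect_left` : `K ⊗ RHom(M, L) ≅ RHom(M, K ⊗ L)` for `K` perfect.
* `isIso_evalTen_of_isPerfect_hom` : the same for `M` perfect.
* `isIso_evalHom_of_isPerfect` : `RHom(L, M) ⊗ K ≅ RHom(RHom(K, L), M)` for `K` perfect.
-/

set_option autoImplicit false
universe u

namespace Groth.Agent.Lib.helper13.PerfInd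
open CategoryTheory Limits Pretriangulated MonoidalCategory Opposite DTen
attribute [local instance] HasDerivedCategory.standard

variable {A : Type u} [CommRing A]
variable [HasLTen A] [HasLTen₃ A] [IsSymMonoidal A] [HasRHom A]

section Zero

lemma tmap_left_zero_comp {X₁ X₂ X₃ : Dual.D A} {a : X₁ ⟶ X₂} {b : X₂ ⟶ X₃} (h : a ≫ b = 0)
    (Y : Dual.D A) : tmap a (𝟙 Y) ≫ tmap b (𝟙 Y) = 0 := by
  change (tensorRightD A Y).map a ≫ (tensorRightD A Y).map b = 0
  rw [← Functor.map_comp, h, Functor.map_zero]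

lemma tmap_right_zero_comp {X₁ X₂ X₃ : Dual.D A} {a : X₁ ⟶ X₂} {b : X₂ ⟶ X₃} (h : a ≫ b = 0)
    (Y : Dual.D A) : tmap (𝟙 Y) a ≫ tmap (𝟙 Y) b = 0 := by
  change ((LTen A).obj Y).map a ≫ ((LTen A).obj Y).map b = 0
  rw [← Functor.map_comp, h, Functor.map_zero]

lemma RHomMap_zero_comp {X₁ X₂ X₃ : Dual.D A} {a : X₁ ⟶ X₂} {b : X₂ ⟶ X₃} (h : a ≫ b = 0)
    (Z : Dual.D A) : RHomMap b Z ≫ RHomMap a Z = 0 := by
  rw [← RHomMap_comp, h, RHomMap_zero]

lemma RHomR_map_zero_comp {X₁ X₂ X₃ : Dual.D A} {a : X₁ ⟶ X₂} {b : X₂ ⟶ X₃} (h : a ≫ b = 0)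
    (Y : Dual.D A) : (RHomR A Y).map a ≫ (RHomR A Y).map b = 0 := by
  rw [← Functor.map_comp, h, Functor.map_zero]

end Zero

section Unit

theorem isEquivalence_tensorRightD_of_iso' {U U' : Dual.D A} (e : U ≅ U')
    [(tensorRightD A U).IsEquivalence] : (tensorRightD A U').IsEquivalence :=
  Functor.isEquivalence_of_iso ((LTen A).flip.mapIso e)

theorem isEquivalence_tensorRightD_unitShift (n : ℤ) :
    (tensorRightD A ((DerivedCategory.Q.obj (𝟙_ (DRing.Cx A)))⟦n⟧)).IsEquivalence := by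
  haveI := isEquivalence_tensorRightD_QunitShift (A := A) n
  have e : DerivedCategory.Q.obj ((𝟙_ (DRing.Cx A))⟦n⟧) ≅
      (DerivedCategory.Q.obj (𝟙_ (DRing.Cx A)))⟦n⟧ :=
    (DerivedCategory.Q.commShiftIso n).app (𝟙_ (DRing.Cx A))
  exact isEquivalence_tensorRightD_of_iso' e

end Unit

/-- `K ⊗^L RHom(M, L) ⟶ RHom(M, K ⊗^L L)` is an isomorphism for `K` perfect. -/
theorem isIso_evalTen_of_isPerfect_left (K L M : Dual.D A) (hK : DRing.IsPerfect A K) :
    IsIso (evalTen K L M) := by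
  let φ : tensorRightD A ((RHomR A M).obj L) ⟶ tensorRightD A L ⋙ RHomR A M :=
    { app := fun K => evalTen K L M
      naturality := fun K K' f => evalTen_naturality_left f L M }
  refine perfect_of_five (fun K => IsIso (evalTen K L M)) ?_ ?_ ?_ K hK
  · intro K K' i r hir h
    haveI : IsIso (φ.app K') := h
    exact isIso_app_of_retract φ i r hir
  · intro T hT h1 h2 h4 h5
    haveI := h1
    obtain ⟨a₀, ha₀⟩ : ∃ a₀ : T.obj₃⟦(-1 : ℤ)⟧ ⟶ T.obj₁, a₀ = T.invRotate.mor₁ := ⟨_, rfl⟩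
    haveI := h2
    haveI := h4
    haveI := h5
    have hT' := inv_rot_of_distTriang _ hT
    have hT'' := rot_of_distTriang _ hT
    have z1 : a₀ ≫ T.mor₁ = 0 := by rw [ha₀]; exact comp_distTriang_mor_zero₁₂ _ hT'
    have z2 : T.mor₂ ≫ T.mor₃ = 0 := comp_distTriang_mor_zero₂₃ _ hT
    have e' : CoMidExact a₀ T.mor₁ := by rw [ha₀]; exact coMidExact_of_distinguished _ hT'
    exact isIso_of_five
      (tmap a₀ (𝟙 _)) (tmap T.mor₁ (𝟙 _)) (tmap T.mor₂ (𝟙 _)) (tmap T.mor₃ (𝟙 _))
      ((RHomR A M).map (tmap a₀ (𝟙 L))) ((RHomR A M).map (tmap T.mor₁ (𝟙 L)))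
      ((RHomR A M).map (tmap T.mor₂ (𝟙 L))) ((RHomR A M).map (tmap T.mor₃ (𝟙 L)))
      (evalTen _ L M) (evalTen _ L M) (evalTen _ L M) (evalTen _ L M) (evalTen _ L M)
      (evalTen_naturality_left _ L M) (evalTen_naturality_left _ L M)
      (evalTen_naturality_left _ L M) (evalTen_naturality_left _ L M)
      (tmap_left_zero_comp z1 _)
      (RHomR_map_zero_comp (tmap_left_zero_comp z2 L) M)
      (MidExact.of_coMidExact (coMidExact_tensorRight _ (coMidExact_of_distinguished T hT)))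
      (MidExact.of_coMidExact (coMidExact_tensorRight _ (coMidExact_of_distinguished _ hT'')))
      (midExact_RHomR M (MidExact.of_coMidExact
        (coMidExact_tensorRight L e')))
      (midExact_RHomR M (MidExact.of_coMidExact
        (coMidExact_tensorRight L (coMidExact_of_distinguished T hT))))
  · intro n
    haveI := isEquivalence_tensorRightD_unitShift (A := A) n
    exact isIso_evalTen_of_invertible_left _ L M

/-- `K ⊗^L RHom(M, L) ⟶ RHom(M, K ⊗^L L)` is an isomorphism for `M` perfect. -/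
theorem isIso_evalTen_of_isPerfect_hom (K L M : Dual.D A) (hM : DRing.IsPerfect A M) :
    IsIso (evalTen K L M) := by
  let φ : (RHom A).flip.obj L ⋙ (LTen A).obj K ⟶ (RHom A).flip.obj ((LTen₂ A).obj (K, L)) :=
    { app := fun M => evalTen K L (unop M)
      naturality := fun M M' g => evalTen_naturality_hom g.unop K L }
  refine perfect_of_five (fun M => IsIso (evalTen K L M)) ?_ ?_ ?_ M hM
  · intro M M' i r hir h
    haveI : IsIso (φ.app (op M')) := h
    exact isIso_app_of_retract φ r.op i.op (by rw [← op_comp, hir]; rfl)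
  · intro T hT h1 h2 h4 h5
    haveI := h1
    obtain ⟨a₀, ha₀⟩ : ∃ a₀ : T.obj₃⟦(-1 : ℤ)⟧ ⟶ T.obj₁, a₀ = T.invRotate.mor₁ := ⟨_, rfl⟩
    haveI := h2
    haveI := h4
    haveI := h5
    have hT' := inv_rot_of_distTriang _ hT
    have hT'' := rot_of_distTriang _ hT
    have z1 : a₀ ≫ T.mor₁ = 0 := by rw [ha₀]; exact comp_distTriang_mor_zero₁₂ _ hT'
    have z2 : T.mor₂ ≫ T.mor₃ = 0 := comp_distTriang_mor_zero₂₃ _ hT
    have e0 := coMidExact_of_distinguished T hT
    have e' : CoMidExact a₀ T.mor₁ := by rw [ha₀]; exact coMidExact_of_distinguished _ hT'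
    have e'' := coMidExact_of_distinguished _ hT''
    exact isIso_of_five
      (tmap (𝟙 K) (RHomMap T.mor₃ L)) (tmap (𝟙 K) (RHomMap T.mor₂ L))
      (tmap (𝟙 K) (RHomMap T.mor₁ L)) (tmap (𝟙 K) (RHomMap a₀ L))
      (RHomMap T.mor₃ _) (RHomMap T.mor₂ _) (RHomMap T.mor₁ _) (RHomMap a₀ _)
      (evalTen K L _) (evalTen K L _) (evalTen K L _) (evalTen K L _) (evalTen K L _)
      (evalTen_naturality_hom _ K L) (evalTen_naturality_hom _ K L)
      (evalTen_naturality_hom _ K L) (evalTen_naturality_hom _ K L)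
      (tmap_right_zero_comp (RHomMap_zero_comp z2 L) K)
      (RHomMap_zero_comp z1 _)
      (MidExact.of_coMidExact (coMidExact_tensorLeft K
        (CoMidExact.of_midExact (midExact_RHomMap e0 L))))
      (MidExact.of_coMidExact (coMidExact_tensorLeft K
        (CoMidExact.of_midExact (midExact_RHomMap e' L))))
      (midExact_RHomMap e'' _)
      (midExact_RHomMap e0 _)
  · intro n
    haveI := isEquivalence_tensorRightD_unitShift (A := A) n
    exact isIso_evalTen_of_invertible_hom K L _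

/-- `RHom(L, M) ⊗^L K ⟶ RHom(RHom(K, L), M)` is an isomorphism for `K` perfect. -/
theorem isIso_evalHom_of_isPerfect (K L M : Dual.D A) (hK : DRing.IsPerfect A K) :
    IsIso (evalHom K L M) := by
  let φ : (LTen A).obj ((RHomR A L).obj M) ⟶
      ((RHom A).flip.obj L).rightOp ⋙ (RHom A).flip.obj M :=
    { app := fun K => evalHom K L M
      naturality := fun K K' f => evalHom_naturality f L M }
  refine perfect_of_five (fun K => IsIso (evalHom K L M)) ?_ ?_ ?_ K hK
  · intro K K' i r hir h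
    haveI : IsIso (φ.app K') := h
    exact isIso_app_of_retract φ i r hir
  · intro T hT h1 h2 h4 h5
    haveI := h1
    obtain ⟨a₀, ha₀⟩ : ∃ a₀ : T.obj₃⟦(-1 : ℤ)⟧ ⟶ T.obj₁, a₀ = T.invRotate.mor₁ := ⟨_, rfl⟩
    haveI := h2
    haveI := h4
    haveI := h5
    have hT' := inv_rot_of_distTriang _ hT
    have hT'' := rot_of_distTriang _ hT
    have z1 : a₀ ≫ T.mor₁ = 0 := by rw [ha₀]; exact comp_distTriang_mor_zero₁₂ _ hT'
    have z2 : T.mor₂ ≫ T.mor₃ = 0 := comp_distTriang_mor_zero₂₃ _ hT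
    have e0 := coMidExact_of_distinguished T hT
    have e' : CoMidExact a₀ T.mor₁ := by rw [ha₀]; exact coMidExact_of_distinguished _ hT'
    have e'' := coMidExact_of_distinguished _ hT''
    exact isIso_of_five
      (tmap (𝟙 _) a₀) (tmap (𝟙 _) T.mor₁) (tmap (𝟙 _) T.mor₂) (tmap (𝟙 _) T.mor₃)
      (RHomMap (RHomMap a₀ L) M) (RHomMap (RHomMap T.mor₁ L) M)
      (RHomMap (RHomMap T.mor₂ L) M) (RHomMap (RHomMap T.mor₃ L) M)
      (evalHom _ L M) (evalHom _ L M) (evalHom _ L M) (evalHom _ L M) (evalHom _ L M)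
      (evalHom_naturality _ L M) (evalHom_naturality _ L M)
      (evalHom_naturality _ L M) (evalHom_naturality _ L M)
      (tmap_right_zero_comp z1 _)
      (RHomMap_zero_comp (RHomMap_zero_comp z2 L) M)
      (MidExact.of_coMidExact (coMidExact_tensorLeft _ e0))
      (MidExact.of_coMidExact (coMidExact_tensorLeft _ e''))
      (midExact_RHomMap (CoMidExact.of_midExact (midExact_RHomMap e' L)) M)
      (midExact_RHomMap (CoMidExact.of_midExact (midExact_RHomMap e0 L)) M)
  · intro n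
    haveI := isEquivalence_tensorRightD_unitShift (A := A) n
    exact isIso_evalHom_of_invertible _ L M

end Groth.Agent.Lib.helper13.PerfInd
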