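import Mathlib
import Groth.Prelude.Def_DTen3
import Groth.Agent.Lib.Helper13.PerfInd7
import Groth.Agent.Lib.Helper13.PCohEval1

/-!
# Amplitude estimates for `⊗^L` and `RHom` on `D(A)` (helper13)

* `tensorTstIso L n : L ⊗^L tst n ≅ L⟦n⟧`, `tstTensorIso L n : tst n ⊗^L L ≅ L⟦n⟧`.
* `tst_hom_RHom_zero` : `Hom(tst n, RHom(X, Y)) = 0` if `Hom(X⟦n⟧, Y) = 0`.
* `isGE_RHom` : `RHom(C, V) ∈ D^{≥ r - m}` for `C ∈ D^{≤ m}`, `V ∈ D^{≥ r}`.
* `isLE_RHom` : `RHom(L, M) ∈ D^{≤ b - n}` for `L ∈ D^{≥ n}`, `M` of injective amplitude `[a, b]`.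
* `isLE_tensor` : `W ⊗^L C ∈ D^{≤ c + m}` for `W ∈ D^{≤ c}`, `C ∈ D^{≤ m}`.
-/

set_option autoImplicit false
universe u

namespace Groth.Agent.Lib.helper13.PCohEval
open CategoryTheory Limits Pretriangulated MonoidalCategory Opposite DTen
open Groth.Agent.Lib.helper13.PerfInd Groth.Agent.Lib.helper13.KFlat Groth.Agent.Lib.helper13.RKF
attribute [local instance] HasDerivedCategory.standard

variable {A : Type u} [CommRing A]

/-- chain level `X ⊗ 𝟙⟦n⟧ ≅ X⟦n⟧` -/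
noncomputable def tensorUnitShiftCxIso (X : DRing.Cx A) (n : ℤ) :
    (X ⊗ (𝟙_ (DRing.Cx A))⟦n⟧ : DRing.Cx A) ≅ X⟦n⟧ :=
  CochainComplex.mapBifunctorShift₂Iso X (𝟙_ (DRing.Cx A)) (curriedTensor (ModuleCat.{u} A)) n ≪≫
    (shiftFunctor (DRing.Cx A) n).mapIso (ρ_ X)

variable [HasLTen A]

/-- `Q X ⊗^L tst n ≅ (Q X)⟦n⟧` -/
noncomputable def tensorTstIso' (X : DRing.Cx A) (n : ℤ) :
    (LTen₂ A).obj (DerivedCategory.Q.obj X, tst n) ≅ (DerivedCategory.Q.obj X)⟦n⟧ :=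
  haveI := DTenA.isIso_ε_right X ((𝟙_ (DRing.Cx A))⟦n⟧) (isKFlatR_shift _ n isKFlatR_tensorUnit)
  asIso ((DTen.ε A).app (X, (𝟙_ (DRing.Cx A))⟦n⟧)) ≪≫
    DerivedCategory.Q.mapIso (tensorUnitShiftCxIso X n) ≪≫
    (DerivedCategory.Q.commShiftIso n).app X

/-- `L ⊗^L tst n ≅ L⟦n⟧` -/
noncomputable def tensorTstIso (L : Dual.D A) (n : ℤ) :
    (LTen₂ A).obj (L, tst n) ≅ L⟦n⟧ :=
  (LTen₂ A).mapIso (Iso.prod (DerivedCategory.Q.objObjPreimageIso L).symm (Iso.refl (tst n))) ≪≫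
    tensorTstIso' (DerivedCategory.Q.objPreimage L) n ≪≫
    (shiftFunctor (Dual.D A) n).mapIso (DerivedCategory.Q.objObjPreimageIso L)

variable [HasLTen₃ A] [IsSymMonoidal A]

/-- `tst n ⊗^L L ≅ L⟦n⟧` -/
noncomputable def tstTensorIso (L : Dual.D A) (n : ℤ) :
    (LTen₂ A).obj (tst n, L) ≅ L⟦n⟧ :=
  ((symmNatIso (tst n)).app L).symm ≪≫ tensorTstIso L n

variable [HasRHom A]

theorem tst_hom_RHom_zero (X Y : Dual.D A) (n : ℤ) (h : ∀ f : X⟦n⟧ ⟶ Y, f = 0)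
    (g : tst n ⟶ (RHomR A X).obj Y) : g = 0 := by
  have h1 : ((rhomAdj A X).homEquiv _ _).symm g = 0 := by
    have := h ((tstTensorIso X n).inv ≫ ((rhomAdj A X).homEquiv _ _).symm g)
    rw [← cancel_epi (tstTensorIso X n).inv, this, comp_zero]
  rw [← ((rhomAdj A X).homEquiv _ _).apply_symm_apply g, h1, Adjunction.homEquiv_unit,
    Functor.map_zero, comp_zero]

/-- `RHom(C, V) ∈ D^{≥ r - m}` for `C ∈ D^{≤ m}`, `V ∈ D^{≥ r}`. -/
theorem isGE_RHom (C V : Dual.D A) (m r : ℤ) [C.IsLE m] [V.IsGE r] :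
    ((RHomR A C).obj V).IsGE (r - m) := by
  refine isGE_of_tst_hom_zero _ _ (fun n hn z => tst_hom_RHom_zero C V n (fun f => ?_) z)
  haveI : (C⟦n⟧).IsLE (m - n) := DerivedCategory.TStructure.t.isLE_shift C m n (m - n) (by omega)
  exact DerivedCategory.TStructure.t.zero f (m - n) r (by omega)

/-- `RHom(L, M) ∈ D^{≤ b - n}` for `L ∈ D^{≥ n}` and `M` of injective amplitude `[a, b]`. -/
theorem isLE_RHom (L M : Dual.D A) (n₀ a b : ℤ) [L.IsGE n₀]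
    (hM : DRing.HasInjAmplitudeIn A a b M) :
    ((RHomR A L).obj M).IsLE (b - n₀) := by
  obtain ⟨I, hz, hinj, ⟨e⟩⟩ := hM
  refine isLE_of_tst_hom_zero _ _ (fun n hn z => tst_hom_RHom_zero L M n (fun f => ?_) z)
  haveI : (L⟦n⟧).IsGE (n₀ - n) :=
    DerivedCategory.TStructure.t.isGE_shift L n₀ n (n₀ - n) (by omega)
  have := hom_to_inj_zero I a b hz hinj (n₀ - n) (by omega) (L⟦n⟧) (f ≫ e.inv)
  rw [← cancel_mono e.inv, this, zero_comp]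

/-- `W ⊗^L C ∈ D^{≤ c + m}` for `W ∈ D^{≤ c}`, `C ∈ D^{≤ m}`. -/
theorem isLE_tensor (W C : Dual.D A) (c m : ℤ) [W.IsLE c] [C.IsLE m] :
    ((LTen₂ A).obj (W, C)).IsLE (c + m) := by
  refine (DerivedCategory.TStructure.t.isLE_iff_orthogonal (c + m) (c + m + 1) rfl _).2 ?_
  intro V f hV
  haveI : ((RHomR A C).obj V).IsGE (c + m + 1 - m) := isGE_RHom C V m (c + m + 1)
  have h1 : (rhomAdj A C).homEquiv W V f = 0 :=
    DerivedCategory.TStructure.t.zero _ c (c + m + 1 - m) (by omega)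
  rw [← ((rhomAdj A C).homEquiv W V).symm_apply_apply f, h1, Adjunction.homEquiv_counit,
    Functor.map_zero, zero_comp]

end Groth.Agent.Lib.helper13.PCohEval
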