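import Mathlib
import Groth.Prelude.Def_DTen3
import Groth.Agent.Lib.Helper13.PerfInd7
import Groth.Agent.Lib.Helper13.PCohEval2
import Groth.Agent.Lib.Helper13.KFlat8

/-!
# `evalHom` is an isomorphism for `K` pseudo-coherent, `L ∈ D^+`, `M` of finite injective
dimension (helper13)
-/

set_option autoImplicit false
universe u

namespace Groth.Agent.Lib.helper13.PCohEval
open CategoryTheory Limits Pretriangulated MonoidalCategory Opposite DTen
open Groth.Agent.Lib.helper13.PerfInd Groth.Agent.Lib.helper13.KFlat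
open Groth.Agent.Lib.helper25.SigmaGE
attribute [local instance] HasDerivedCategory.standard

variable {A : Type u} [CommRing A]

/-- a pseudo-coherent object is, up to an object of `D^{≤ m}`, perfect -/
theorem exists_perfect_triangle (K : Dual.D A) (hK : DRing.IsPseudoCoherent' A K) (m : ℤ) :
    ∃ T ∈ distTriang (Dual.D A), Nonempty (T.obj₂ ≅ K) ∧ DRing.IsPerfect A T.obj₁ ∧
      T.obj₃.IsLE m := by
  obtain ⟨E, b, hb, hff, ⟨e⟩⟩ := hK
  have hS := sigmaSC_shortExact E (m + 1)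
  refine ⟨_, DerivedCategory.triangleOfSES_distinguished hS, ⟨e⟩, ?_, ?_⟩
  · refine ⟨sigmaGE E (m + 1), m + 1, b, ?_, ?_, ⟨Iso.refl _⟩⟩
    · intro i hi
      by_cases h : m + 1 ≤ i
      · haveI := isIso_sigmaGEι_f E (m + 1) i h
        exact (hb i (by omega)).of_iso (asIso ((sigmaGEι E (m + 1)).f i))
      · exact isZero_sigmaGE_X E (m + 1) i (by omega)
    · intro i
      by_cases h : m + 1 ≤ i
      · haveI := isIso_sigmaGEι_f E (m + 1) i h
        let e1 : (sigmaGE E (m + 1)).X i ≅ E.X i := asIso ((sigmaGEι E (m + 1)).f i)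
        haveI := (hff i).1
        haveI := (hff i).2
        exact ⟨Module.Finite.equiv e1.toLinearEquiv.symm,
          Module.Projective.of_equiv e1.toLinearEquiv.symm⟩
      · haveI : Subsingleton ((sigmaGE E (m + 1)).X i) :=
          ModuleCat.subsingleton_of_isZero (isZero_sigmaGE_X E (m + 1) i (by omega))
        exact ⟨inferInstance, inferInstance⟩
  · haveI : (sigmaSC E (m + 1)).X₃.IsStrictlyLE m := by
      rw [CochainComplex.isStrictlyLE_iff]
      intro i hi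
      exact isZero_sigmaSC_X₃_of_le E (m + 1) i (by omega)
    change (DerivedCategory.Q.obj (sigmaSC E (m + 1)).X₃).IsLE m
    infer_instance

variable [HasLTen A] [HasLTen₃ A] [IsSymMonoidal A] [HasRHom A]

lemma RHomMap_id' (P Z : Dual.D A) : RHomMap (𝟙 P) Z = 𝟙 _ := by
  have h : (RHom A).map (𝟙 (op P)) = 𝟙 _ := CategoryTheory.Functor.map_id _ _
  change ((RHom A).map (𝟙 (op P))).app Z = _
  rw [h]
  rfl

/-- the canonical evaluation morphism `RHom(L, M) ⊗^L K ⟶ RHom(RHom(K, L), M)` is an isomorphism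
for `K` pseudo-coherent, `L ∈ D^{≥ n}`, `M` of finite injective dimension. -/
theorem isIso_evalHom_of_isPseudoCoherent (K L M : Dual.D A)
    (hK : DRing.IsPseudoCoherent' A K) (n₀ : ℤ) [L.IsGE n₀] (hM : DRing.HasFiniteInjDim A M) :
    IsIso (evalHom K L M) := by
  obtain ⟨a, b, hab⟩ := hM
  let W := (RHomR A L).obj M
  haveI hW : W.IsLE (b - n₀) := isLE_RHom L M n₀ a b hab
  -- bound for `F(C) = W ⊗ C`
  have hF : ∀ (C : Dual.D A) (m : ℤ), C.IsLE m → ((LTen₂ A).obj (W, C)).IsLE (b - n₀ + m) :=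
    fun C m hC => isLE_tensor W C (b - n₀) m
  -- bound for `G(C) = RHom(RHom(C, L), M)`
  have hG : ∀ (C : Dual.D A) (m : ℤ), C.IsLE m →
      ((RHomR A ((RHomR A C).obj L)).obj M).IsLE (b - n₀ + m) := by
    intro C m hC
    haveI : ((RHomR A C).obj L).IsGE (n₀ - m) := isGE_RHom C L m n₀
    have := isLE_RHom ((RHomR A C).obj L) M (n₀ - m) a b hab
    exact DerivedCategory.TStructure.t.isLE_of_le _ (b - (n₀ - m)) _ (by omega)
  refine isIso_of_bijective_tst _ (fun n => ?_)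
  obtain ⟨T, hT, ⟨e⟩, hP, hC⟩ := exists_perfect_triangle K hK (-n - (b - n₀) - 2)
  obtain ⟨a₀, ha₀⟩ : ∃ a₀ : T.obj₃⟦(-1 : ℤ)⟧ ⟶ T.obj₁, a₀ = T.invRotate.mor₁ := ⟨_, rfl⟩
  have hT' := inv_rot_of_distTriang _ hT
  have e0 := coMidExact_of_distinguished T hT
  have e' : CoMidExact a₀ T.mor₁ := by rw [ha₀]; exact coMidExact_of_distinguished _ hT'
  haveI hC' : (T.obj₃⟦(-1 : ℤ)⟧).IsLE (-n - (b - n₀) - 1) :=
    DerivedCategory.TStructure.t.isLE_shift T.obj₃ (-n - (b - n₀) - 2) (-1) _ (by omega)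
  -- the four vanishing statements
  have v1 : ∀ x : (tst n : Dual.D A) ⟶ (LTen₂ A).obj (W, T.obj₃⟦(-1 : ℤ)⟧), x = 0 := by
    haveI := hF _ _ hC'
    exact fun x => tst_hom_zero_of_isLE n (b - n₀ + (-n - (b - n₀) - 1)) (by omega) _ x
  have v2 : ∀ x : (tst n : Dual.D A) ⟶ (LTen₂ A).obj (W, T.obj₃), x = 0 := by
    haveI := hF _ _ hC
    exact fun x => tst_hom_zero_of_isLE n (b - n₀ + (-n - (b - n₀) - 2)) (by omega) _ x
  have v3 : ∀ x : (tst n : Dual.D A) ⟶
      (RHomR A ((RHomR A (T.obj₃⟦(-1 : ℤ)⟧)).obj L)).obj M, x = 0 := by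
    haveI := hG _ _ hC'
    exact fun x => tst_hom_zero_of_isLE n (b - n₀ + (-n - (b - n₀) - 1)) (by omega) _ x
  have v4 : ∀ x : (tst n : Dual.D A) ⟶ (RHomR A ((RHomR A T.obj₃).obj L)).obj M, x = 0 := by
    haveI := hG _ _ hC
    exact fun x => tst_hom_zero_of_isLE n (b - n₀ + (-n - (b - n₀) - 2)) (by omega) _ x
  have bF := bijective_of_midExact (tmap (𝟙 W) a₀) (tmap (𝟙 W) T.mor₁) (tmap (𝟙 W) T.mor₂)
    (MidExact.of_coMidExact (coMidExact_tensorLeft W e'))
    (MidExact.of_coMidExact (coMidExact_tensorLeft W e0)) (tst n) v1 v2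
  have bG := bijective_of_midExact (RHomMap (RHomMap a₀ L) M) (RHomMap (RHomMap T.mor₁ L) M)
    (RHomMap (RHomMap T.mor₂ L) M)
    (midExact_RHomMap (CoMidExact.of_midExact (midExact_RHomMap e' L)) M)
    (midExact_RHomMap (CoMidExact.of_midExact (midExact_RHomMap e0 L)) M) (tst n) v3 v4
  haveI : IsIso (evalHom T.obj₁ L M) := isIso_evalHom_of_isPerfect _ L M hP
  have nat1 : tmap (𝟙 W) T.mor₁ ≫ evalHom T.obj₂ L M =
      evalHom T.obj₁ L M ≫ RHomMap (RHomMap T.mor₁ L) M := evalHom_naturality T.mor₁ L M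
  -- bijectivity for `T.obj₂`
  have b2 : Function.Bijective (fun x : (tst n : Dual.D A) ⟶ (LTen₂ A).obj (W, T.obj₂) =>
      x ≫ evalHom T.obj₂ L M) := by
    constructor
    · intro x y hxy
      obtain ⟨x', rfl⟩ := bF.2 x
      obtain ⟨y', rfl⟩ := bF.2 y
      have h1 : (x' ≫ evalHom T.obj₁ L M) ≫ RHomMap (RHomMap T.mor₁ L) M =
          (y' ≫ evalHom T.obj₁ L M) ≫ RHomMap (RHomMap T.mor₁ L) M := by
        simp only [Category.assoc, ← nat1]
        simpa only [Category.assoc] using hxy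
      have h2 := bG.1 h1
      rw [(cancel_mono (evalHom T.obj₁ L M)).1 h2]
    · intro z
      obtain ⟨z', hz'⟩ := bG.2 z
      refine ⟨(z' ≫ inv (evalHom T.obj₁ L M)) ≫ tmap (𝟙 W) T.mor₁, ?_⟩
      change ((z' ≫ inv (evalHom T.obj₁ L M)) ≫ tmap (𝟙 W) T.mor₁) ≫ evalHom T.obj₂ L M = z
      rw [Category.assoc, nat1, Category.assoc, IsIso.inv_hom_id_assoc]
      exact hz'
  -- transport along `e : T.obj₂ ≅ K`
  have nat2 : tmap (𝟙 W) e.hom ≫ evalHom K L M =
      evalHom T.obj₂ L M ≫ RHomMap (RHomMap e.hom L) M := evalHom_naturality e.hom L M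
  have nat3 : tmap (𝟙 W) e.inv ≫ evalHom T.obj₂ L M =
      evalHom K L M ≫ RHomMap (RHomMap e.inv L) M := evalHom_naturality e.inv L M
  have i1 : tmap (𝟙 W) e.inv ≫ tmap (𝟙 W) e.hom = 𝟙 _ := by
    rw [← tmap_comp, Category.comp_id, e.inv_hom_id, tmap_id]
  have i3 : RHomMap (RHomMap e.inv L) M ≫ RHomMap (RHomMap e.hom L) M = 𝟙 _ := by
    rw [← RHomMap_comp, ← RHomMap_comp, e.inv_hom_id, RHomMap_id', RHomMap_id']
  constructor
  · intro x y hxy
    have hx : (x ≫ tmap (𝟙 W) e.inv) ≫ evalHom T.obj₂ L M =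
        (y ≫ tmap (𝟙 W) e.inv) ≫ evalHom T.obj₂ L M := by
      simp only [Category.assoc, nat3]
      have : x ≫ evalHom K L M = y ≫ evalHom K L M := hxy
      rw [reassoc_of% this]
    have h3 := b2.1 hx
    have h4 : (x ≫ tmap (𝟙 W) e.inv) ≫ tmap (𝟙 W) e.hom =
        (y ≫ tmap (𝟙 W) e.inv) ≫ tmap (𝟙 W) e.hom := by rw [h3]
    rw [Category.assoc, Category.assoc, i1] at h4
    erw [Category.comp_id, Category.comp_id] at h4
    exact h4
  · intro z
    obtain ⟨x, hx⟩ := b2.2 (z ≫ RHomMap (RHomMap e.inv L) M)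
    refine ⟨x ≫ tmap (𝟙 W) e.hom, ?_⟩
    change (x ≫ tmap (𝟙 W) e.hom) ≫ evalHom K L M = z
    have hx' : x ≫ evalHom T.obj₂ L M = z ≫ RHomMap (RHomMap e.inv L) M := hx
    rw [Category.assoc, nat2, reassoc_of% hx', i3, Category.comp_id]

end Groth.Agent.Lib.helper13.PCohEval
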