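import Mathlib
import Groth.Agent.Lib.Helper13.PIns3
import Groth.Agent.Lib.Helper13.KrAk4

/-!
# Normalization of an integral scheme in a finite extension of its function field

* `exists_ringEquiv_sections_aux`: sections of `Spec K` over the preimage of a nonempty open, for
  `Spec K ⟶ X` through the generic point.
* `isFinite_fromNormalization_of_field`: finiteness criterion for the normalization of `X` in a
  field extension of the function field.
* `isFinite_fromNormalization_of_finite_of_locallyOfFiniteType_field`: for `X` integral, locally of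
  finite type over a field, and a finite extension of the function field.
* `height_eq_one_of_isIntegral`: height one passes up along injective integral maps of domains.
* `ringKrullDim_stalk_eq_one_of_isIntegral`: dimension-one stalks pass up.
-/

set_option autoImplicit false
universe u

namespace Groth.Agent.Lib.helper13.PIns

open AlgebraicGeometry CategoryTheory Limits

noncomputable section

lemma exists_ringEquiv_sections_aux (X : Scheme.{u}) [IsIntegral X]
    (K : CommRingCat.{u}) (hK : IsField K) (f : X.functionField ⟶ K)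
    (U : X.Opens) [Nonempty U] :
    ∃ e : K ≃+* Γ(Spec K, (Spec.map f ≫ X.fromSpecStalk (genericPoint X)) ⁻¹ᵁ U),
      ∀ a, e (f.hom (algebraMap Γ(X, U) X.functionField a)) =
        ((Spec.map f ≫ X.fromSpecStalk (genericPoint X)).app U).hom a := by
  letI := hK.toField
  have hη : genericPoint X ∈ U :=
    ((genericPoint_spec X).mem_open_set_iff U.isOpen).mpr (by
      obtain ⟨x⟩ := ‹Nonempty U›
      exact ⟨x.1, trivial, x.2⟩)
  haveI : Unique ↥(Spec K) := inferInstanceAs (Unique (PrimeSpectrum K))
  haveI : Unique ↥(Spec X.functionField) :=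
    inferInstanceAs (Unique (PrimeSpectrum X.functionField))
  obtain ⟨g, hg⟩ : ∃ g, g = Spec.map f ≫ X.fromSpecStalk (genericPoint X) := ⟨_, rfl⟩
  rw [← hg]
  have htop : g ⁻¹ᵁ U = ⊤ := by
    ext p
    simp only [TopologicalSpace.Opens.coe_top, Set.mem_univ, iff_true]
    show g p ∈ U
    rw [hg]
    show (X.fromSpecStalk (genericPoint X)) ((Spec.map f) p) ∈ U
    have hp : (Spec.map f) p = IsLocalRing.closedPoint _ := Subsingleton.elim _ _
    rw [hp, Scheme.fromSpecStalk_closedPoint]
    exact hη
  have hiso : IsIso ((Spec K).presheaf.map (homOfLE (le_top : g ⁻¹ᵁ U ≤ ⊤)).op) := by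
    have : (homOfLE (le_top : g ⁻¹ᵁ U ≤ ⊤)) = eqToHom htop := Subsingleton.elim _ _
    rw [this, eqToHom_op, eqToHom_map]
    infer_instance
  let ψ : K ⟶ Γ(Spec K, g ⁻¹ᵁ U) :=
    (Scheme.ΓSpecIso K).inv ≫ (Spec K).presheaf.map (homOfLE (le_top : g ⁻¹ᵁ U ≤ ⊤)).op
  haveI : IsIso ψ := inferInstance
  refine ⟨(asIso ψ).commRingCatIsoToRingEquiv, ?_⟩
  intro a
  have happ : g.app U = X.presheaf.germ U (genericPoint X) hη ≫ f ≫ ψ := by
    subst hg
    rw [Scheme.Hom.comp_app, Scheme.fromSpecStalk_app hη]
    simp only [Category.assoc]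
    congr 1
    simp only [ψ]
    have h1 : (Spec X.functionField).presheaf.map
          (homOfLE (le_top : X.fromSpecStalk (genericPoint X) ⁻¹ᵁ U ≤ ⊤)).op ≫
        (Spec.map f).app (X.fromSpecStalk (genericPoint X) ⁻¹ᵁ U) =
        (Spec.map f).appTop ≫ (Spec K).presheaf.map
          (homOfLE (le_top : (Spec.map f ≫
            X.fromSpecStalk (genericPoint X)) ⁻¹ᵁ U ≤ ⊤)).op :=
      Scheme.Hom.naturality _ _
    have h2 : (Scheme.ΓSpecIso X.functionField).inv ≫ (Spec.map f).appTop =
        f ≫ (Scheme.ΓSpecIso K).inv := (Scheme.ΓSpecIso_inv_naturality f).symm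
    rw [h1]
    exact (Category.assoc _ _ _).symm.trans
      ((congrArg (fun t => t ≫ (Spec K).presheaf.map
          (homOfLE (le_top : (Spec.map f ≫
            X.fromSpecStalk (genericPoint X)) ⁻¹ᵁ U ≤ ⊤)).op) h2).trans (Category.assoc _ _ _))
  show _ = (g.app U).hom a
  rw [happ]
  rfl

/-- Finiteness criterion for the normalization of an integral scheme in a field extension of its
function field. -/
theorem isFinite_fromNormalization_of_field (X : Scheme.{u}) [IsIntegral X]
    (K : CommRingCat.{u}) (hK : IsField K) (f : X.functionField ⟶ K)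
    [QuasiCompact (Spec.map f ≫ X.fromSpecStalk (genericPoint X))]
    [QuasiSeparated (Spec.map f ≫ X.fromSpecStalk (genericPoint X))]
    (h : ∀ (U : X.Opens), IsAffineOpen U → ∀ (_ : Nonempty U),
      letI := (f.hom.comp (algebraMap Γ(X, U) X.functionField)).toAlgebra
      Module.Finite Γ(X, U) (integralClosure Γ(X, U) K)) :
    IsFinite (Spec.map f ≫ X.fromSpecStalk (genericPoint X)).fromNormalization := by
  set g := Spec.map f ≫ X.fromSpecStalk (genericPoint X) with hg
  haveI : IsAffineHom g.fromNormalization := inferInstance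
  refine { finite_app := fun U hU => ?_ }
  by_cases hne : Nonempty U
  · haveI := hne
    letI algT : Algebra Γ(X, U) Γ(Spec K, g ⁻¹ᵁ U) := (g.app U).hom.toAlgebra
    letI algK : Algebra Γ(X, U) K := (f.hom.comp (algebraMap Γ(X, U) X.functionField)).toAlgebra
    haveI h2 : Module.Finite Γ(X, U) (integralClosure Γ(X, U) K) := h U hU hne
    obtain ⟨e, he⟩ := exists_ringEquiv_sections_aux X K hK f U
    let eK : K ≃ₐ[Γ(X, U)] Γ(Spec K, g ⁻¹ᵁ U) :=
      AlgEquiv.ofRingEquiv (f := e) (fun a => he a)
    haveI h3 : Module.Finite Γ(X, U) (integralClosure Γ(X, U) Γ(Spec K, g ⁻¹ᵁ U)) :=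
      Module.Finite.equiv eK.mapIntegralClosure.toLinearEquiv
    rw [Scheme.Hom.fromNormalization_app g hU]
    have h4 : (algebraMap Γ(X, U) (integralClosure Γ(X, U) Γ(Spec K, g ⁻¹ᵁ U))).Finite :=
      RingHom.finite_algebraMap.mpr h3
    exact RingHom.Finite.comp (RingHom.Finite.of_surjective _
      (ConcreteCategory.bijective_of_isIso (g.normalizationObjIso hU).inv).2) h4
  · have hU0 : U = ⊥ := by
      ext x
      simp only [TopologicalSpace.Opens.coe_bot, Set.mem_empty_iff_false, iff_false]
      intro hx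
      exact hne ⟨⟨x, hx⟩⟩
    subst hU0
    haveI : Subsingleton Γ(g.normalization, g.fromNormalization ⁻¹ᵁ ⊥) :=
      inferInstanceAs (Subsingleton Γ(g.normalization, ⊥))
    show (g.fromNormalization.app ⊥).hom.Finite
    apply RingHom.Finite.of_surjective
    intro y
    exact ⟨0, Subsingleton.elim _ _⟩

/-- Height one passes up along an injective integral extension of domains. -/
theorem height_eq_one_of_isIntegral {A B : Type*} [CommRing A] [CommRing B] [IsDomain B]
    [Algebra A B] [Algebra.IsIntegral A B] (hinj : Function.Injective (algebraMap A B))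
    (P : Ideal B) [P.IsPrime] (hp : (P.comap (algebraMap A B)).height = 1) : P.height = 1 := by
  haveI : IsDomain A := hinj.isDomain (algebraMap A B)
  apply le_antisymm
  · have : P.height ≤ ((1 : ℕ) : ℕ∞) := by
      rw [Ideal.height_le_iff]
      intro Q hQ hQP
      rw [Nat.cast_one, ENat.lt_one_iff_eq_zero, Ideal.height_eq_zero_iff_eq_bot]
      apply Ideal.eq_bot_of_comap_eq_bot (R := A)
      rw [← Ideal.height_eq_zero_iff_eq_bot, ← ENat.lt_one_iff_eq_zero, ← hp]
      obtain ⟨x, hxP, hxQ⟩ := Set.exists_of_ssubset hQP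
      have hlt : Q.comap (algebraMap A B) < P.comap (algebraMap A B) :=
        Ideal.comap_lt_comap_of_integral_mem_sdiff hQP.le ⟨hxP, hxQ⟩
          (Algebra.IsIntegral.isIntegral x)
      haveI : (P.comap (algebraMap A B)).FiniteHeight :=
        (Ideal.finiteHeight_iff _).mpr (Or.inr (by rw [hp]; exact ENat.one_ne_top))
      exact Ideal.height_strict_mono_of_isPrime_of_isPrime hlt
    simpa using this
  · rw [Order.one_le_iff_pos, pos_iff_ne_zero, Ne, Ideal.height_eq_zero_iff_eq_bot]
    rintro rfl
    have h0 : (⊥ : Ideal B).comap (algebraMap A B) = ⊥ := by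
      rw [Ideal.comap_bot_of_injective _ hinj]
    rw [h0, Ideal.height_bot] at hp
    exact zero_ne_one hp

open Groth.Agent.Lib.helper13.UCA Groth.Agent.Lib.helper13.KrAk in
/-- Dimension-one stalks pass up along a morphism that is injective and integral on an affine
chart with domain coordinate ring upstairs. -/
theorem ringKrullDim_stalk_eq_one_of_isIntegral {X' X : Scheme.{u}} (ν : X' ⟶ X) (U : X.Opens)
    (hU : IsAffineOpen U) (hV : IsAffineOpen (ν ⁻¹ᵁ U)) [IsDomain Γ(X', ν ⁻¹ᵁ U)]
    (hinj : Function.Injective (ν.app U).hom) (hint : (ν.app U).hom.IsIntegral)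
    (x' : X') (hx' : ν x' ∈ U) (hdim : ringKrullDim (X.presheaf.stalk (ν x')) = 1) :
    ringKrullDim (X'.presheaf.stalk x') = 1 := by
  have hxV : x' ∈ ν ⁻¹ᵁ U := hx'
  letI : Algebra Γ(X, U) (X.presheaf.stalk (ν x')) :=
    TopCat.Presheaf.algebra_section_stalk X.presheaf (⟨ν x', hx'⟩ : U)
  haveI := hU.isLocalization_stalk ⟨ν x', hx'⟩
  letI : Algebra Γ(X', ν ⁻¹ᵁ U) (X'.presheaf.stalk x') :=
    TopCat.Presheaf.algebra_section_stalk X'.presheaf (⟨x', hxV⟩ : (ν ⁻¹ᵁ U : X'.Opens))
  haveI := hV.isLocalization_stalk ⟨x', hxV⟩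
  rw [IsLocalization.AtPrime.ringKrullDim_eq_height
    (hU.primeIdealOf ⟨ν x', hx'⟩).asIdeal (X.presheaf.stalk (ν x'))] at hdim
  rw [IsLocalization.AtPrime.ringKrullDim_eq_height
    (hV.primeIdealOf ⟨x', hxV⟩).asIdeal (X'.presheaf.stalk x')]
  have hp1 : (hU.primeIdealOf ⟨ν x', hx'⟩).asIdeal.height = 1 := by exact_mod_cast hdim
  letI : Algebra Γ(X, U) Γ(X', ν ⁻¹ᵁ U) := (ν.app U).hom.toAlgebra
  haveI : Algebra.IsIntegral Γ(X, U) Γ(X', ν ⁻¹ᵁ U) := ⟨hint⟩
  have hcomap : (hV.primeIdealOf ⟨x', hxV⟩).asIdeal.comap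
      (algebraMap Γ(X, U) Γ(X', ν ⁻¹ᵁ U)) = (hU.primeIdealOf ⟨ν x', hx'⟩).asIdeal := by
    rw [← primeAt_eq_primeIdealOf hV x' hxV, ← primeAt_eq_primeIdealOf hU (ν x') hx']
    have := comap_primeAt ν U (ν ⁻¹ᵁ U) le_rfl x' hxV
    rw [← this, RingHom.algebraMap_toAlgebra, Scheme.Hom.app_eq_appLE]
  have h1 : (hV.primeIdealOf ⟨x', hxV⟩).asIdeal.height = 1 := by
    apply height_eq_one_of_isIntegral (A := Γ(X, U)) hinj
    rw [hcomap]; exact hp1
  rw [h1]; rfl

/-- Closed-point dimension statement for the normalization of an integral scheme in a field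
extension of its function field: a point of the normalization over a point with one-dimensional
local ring has one-dimensional local ring, provided the normalization is finite. -/
theorem ringKrullDim_stalk_normalization_eq_one (X : Scheme.{u}) [IsIntegral X]
    (K : CommRingCat.{u}) (hK : IsField K) (f : X.functionField ⟶ K)
    [QuasiCompact (Spec.map f ≫ X.fromSpecStalk (genericPoint X))]
    [QuasiSeparated (Spec.map f ≫ X.fromSpecStalk (genericPoint X))]
    (hfin : IsFinite (Spec.map f ≫ X.fromSpecStalk (genericPoint X)).fromNormalization)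
    (x' : (Spec.map f ≫ X.fromSpecStalk (genericPoint X)).normalization)
    (hdim : ringKrullDim (X.presheaf.stalk
      ((Spec.map f ≫ X.fromSpecStalk (genericPoint X)).fromNormalization x')) = 1) :
    ringKrullDim ((Spec.map f ≫ X.fromSpecStalk (genericPoint X)).normalization.presheaf.stalk x')
      = 1 := by
  letI := hK.toField
  set g := Spec.map f ≫ X.fromSpecStalk (genericPoint X) with hg
  obtain ⟨U, hU, hxU, -⟩ := exists_isAffineOpen_mem_and_subset (X := X)
    (x := g.fromNormalization x') (U := ⊤) trivial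
  haveI : IsAffineHom g.fromNormalization := inferInstance
  have hV : IsAffineOpen (g.fromNormalization ⁻¹ᵁ U) := hU.preimage g.fromNormalization
  haveI hne : Nonempty U := ⟨⟨_, hxU⟩⟩
  letI algT : Algebra Γ(X, U) Γ(Spec K, g ⁻¹ᵁ U) := (g.app U).hom.toAlgebra
  obtain ⟨e, he⟩ := exists_ringEquiv_sections_aux X K hK f U
  haveI : IsDomain Γ(Spec K, g ⁻¹ᵁ U) := e.symm.toMulEquiv.isDomain K
  haveI : IsDomain Γ(g.normalization, g.fromNormalization ⁻¹ᵁ U) :=
    (g.normalizationObjIso hU).commRingCatIsoToRingEquiv.toMulEquiv.isDomain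
      (integralClosure Γ(X, U) Γ(Spec K, g ⁻¹ᵁ U))
  haveI := functionField_isFractionRing_of_isAffineOpen X U hU
  have hinjA : Function.Injective (algebraMap Γ(X, U) Γ(Spec K, g ⁻¹ᵁ U)) := by
    intro a b hab
    have h1 : (g.app U).hom a = (g.app U).hom b := hab
    rw [← he, ← he] at h1
    exact IsFractionRing.injective Γ(X, U) X.functionField (f.hom.injective (e.injective h1))
  have hinj : Function.Injective (g.fromNormalization.app U).hom := by
    rw [Scheme.Hom.fromNormalization_app g hU]
    intro a b hab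
    have h1 : (g.normalizationObjIso hU).inv.hom (algebraMap Γ(X, U) _ a) =
        (g.normalizationObjIso hU).inv.hom (algebraMap Γ(X, U) _ b) := hab
    have h2 := (ConcreteCategory.bijective_of_isIso (g.normalizationObjIso hU).inv).1 h1
    exact hinjA (congrArg Subtype.val h2)
  have hint : (g.fromNormalization.app U).hom.IsIntegral :=
    RingHom.IsIntegral.of_finite (hfin.finite_app U hU)
  exact ringKrullDim_stalk_eq_one_of_isIntegral g.fromNormalization U hU hV hinj hint x' hxU hdim

end

end Groth.Agent.Lib.helper13.PIns
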