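import Mathlib

/-! Parity decomposition of `R[x,y]` over `R[x²,y²]` in characteristic 2 (helper13). -/

set_option autoImplicit false
universe u

namespace Groth.Agent.Lib.helper13.Par2

open MvPolynomial

variable {R : Type u} [CommRing R]

theorem two_eq_zero [CharP R 2] : (2 : MvPolynomial (Fin 2) R) = 0 := by
  have : ((2 : ℕ) : MvPolynomial (Fin 2) R) = 0 := CharP.cast_eq_zero _ 2
  exact_mod_cast this

theorem two_eq_zero3 [CharP R 2] : (2 : MvPolynomial (Fin 3) R) = 0 := by
  have : ((2 : ℕ) : MvPolynomial (Fin 3) R) = 0 := CharP.cast_eq_zero _ 2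
  exact_mod_cast this

/-- every derivation kills `expand 2 q` in characteristic 2 -/
theorem deriv_expand [CharP R 2] (D : Derivation R (MvPolynomial (Fin 2) R) (MvPolynomial (Fin 2) R))
    (q : MvPolynomial (Fin 2) R) : D (expand 2 q) = 0 := by
  induction q using MvPolynomial.induction_on with
  | C a => simp
  | add p q hp hq => simp [hp, hq]
  | mul_X p i hp =>
    rw [map_mul, expand_X, Derivation.leibniz, hp, Derivation.leibniz_pow]
    have h2 := two_eq_zero (R := R)
    simp only [smul_zero, add_zero, smul_eq_mul, nsmul_eq_mul]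
    have : ((2 : ℕ) : MvPolynomial (Fin 2) R) = 0 := by exact_mod_cast h2
    rw [this]; ring

theorem exists_decomp (p : MvPolynomial (Fin 2) R) : ∃ a b c d : MvPolynomial (Fin 2) R,
    p = expand 2 a + X 0 * expand 2 b + X 1 * expand 2 c + X 0 * X 1 * expand 2 d := by
  induction p using MvPolynomial.induction_on with
  | C r => exact ⟨C r, 0, 0, 0, by simp⟩
  | add p q hp hq =>
    obtain ⟨a, b, c, d, rfl⟩ := hp
    obtain ⟨a', b', c', d', rfl⟩ := hq
    exact ⟨a + a', b + b', c + c', d + d', by simp only [map_add]; ring⟩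
  | mul_X p i hp =>
    obtain ⟨a, b, c, d, rfl⟩ := hp
    fin_cases i
    · exact ⟨X 0 * b, a, X 0 * d, c, by simp only [map_mul, expand_X, Fin.zero_eta]; ring⟩
    · exact ⟨X 1 * c, X 1 * d, a, b, by simp only [map_mul, expand_X, Fin.mk_one]; ring⟩

theorem pderiv0_form [CharP R 2] (a b c d : MvPolynomial (Fin 2) R) :
    pderiv (0 : Fin 2) (expand 2 a + X 0 * expand 2 b + X 1 * expand 2 c + X 0 * X 1 * expand 2 d)
      = expand 2 b + X 1 * expand 2 d := by
  simp only [map_add, Derivation.leibniz, deriv_expand, pderiv_X_self,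
    pderiv_X_of_ne (show (1 : Fin 2) ≠ 0 by decide), smul_eq_mul]
  ring

theorem pderiv1_form [CharP R 2] (a b c d : MvPolynomial (Fin 2) R) :
    pderiv (1 : Fin 2) (expand 2 a + X 0 * expand 2 b + X 1 * expand 2 c + X 0 * X 1 * expand 2 d)
      = expand 2 c + X 0 * expand 2 d := by
  simp only [map_add, Derivation.leibniz, deriv_expand, pderiv_X_self,
    pderiv_X_of_ne (show (0 : Fin 2) ≠ 1 by decide), smul_eq_mul]
  ring

theorem indep [CharP R 2] (a b c d : MvPolynomial (Fin 2) R)
    (h : expand 2 a + X 0 * expand 2 b + X 1 * expand 2 c + X 0 * X 1 * expand 2 d = 0) :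
    a = 0 ∧ b = 0 ∧ c = 0 ∧ d = 0 := by
  have e0 : ∀ q : MvPolynomial (Fin 2) R, expand 2 q = 0 → q = 0 := fun q hq =>
    (expand_eq_zero (by norm_num)).mp hq
  have hx := congrArg (pderiv (0 : Fin 2)) h
  rw [pderiv0_form, map_zero] at hx
  have hy := congrArg (pderiv (1 : Fin 2)) h
  rw [pderiv1_form, map_zero] at hy
  have hxy := congrArg (pderiv (1 : Fin 2)) hx
  have := pderiv1_form (R := R) 0 0 b d
  simp only [map_zero, mul_zero, zero_add, add_zero] at this
  rw [show expand 2 b + X 1 * expand 2 d = expand 2 b + X 1 * expand 2 d from rfl] at hxy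
  have hd' : pderiv (1 : Fin 2) (expand 2 b + X 1 * expand 2 d) = expand 2 d := by
    simp only [map_add, Derivation.leibniz, deriv_expand, pderiv_X_self, smul_eq_mul]
    ring
  rw [hd', map_zero] at hxy
  have hd : d = 0 := e0 d hxy
  subst hd
  simp only [map_zero, mul_zero, add_zero] at hx hy h
  have hb : b = 0 := e0 b hx
  have hc : c = 0 := e0 c hy
  subst hb hc
  simp only [map_zero, mul_zero, add_zero] at h
  exact ⟨e0 a h, rfl, rfl, rfl⟩

/-! ### the map `ψ = aeval ![x², y², w]` -/

theorem aeval_rename_castSucc (w q : MvPolynomial (Fin 2) R) :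
    aeval (![X 0 ^ 2, X 1 ^ 2, w] : Fin 3 → MvPolynomial (Fin 2) R) (rename Fin.castSucc q)
      = expand 2 q := by
  rw [aeval_rename]
  have : (aeval ((![X 0 ^ 2, X 1 ^ 2, w] : Fin 3 → MvPolynomial (Fin 2) R) ∘ Fin.castSucc)) =
      expand 2 := by
    apply MvPolynomial.algHom_ext
    intro i
    fin_cases i <;> simp
  rw [this]

theorem aeval_X2 (w : MvPolynomial (Fin 2) R) :
    aeval (![X 0 ^ 2, X 1 ^ 2, w] : Fin 3 → MvPolynomial (Fin 2) R)
      (X 2 : MvPolynomial (Fin 3) R) = w := by
  simp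

/-- reduction modulo a polynomial monic of degree 2 in the last variable -/
theorem reduce (G0 : MvPolynomial (Fin 2) R) (q : MvPolynomial (Fin 3) R) :
    ∃ q0 q1 : MvPolynomial (Fin 2) R,
      q - (rename Fin.castSucc q0 + rename Fin.castSucc q1 * X 2) ∈
        Ideal.span {(X 2 ^ 2 + rename Fin.castSucc G0 : MvPolynomial (Fin 3) R)} := by
  induction q using MvPolynomial.induction_on with
  | C r => exact ⟨C r, 0, by simp⟩
  | add p q hp hq =>
    obtain ⟨p0, p1, hp⟩ := hp
    obtain ⟨q0, q1, hq⟩ := hq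
    refine ⟨p0 + q0, p1 + q1, ?_⟩
    have := add_mem hp hq
    convert this using 1
    simp only [map_add]; ring
  | mul_X p i hp =>
    obtain ⟨p0, p1, hp⟩ := hp
    fin_cases i
    · refine ⟨p0 * X 0, p1 * X 0, ?_⟩
      have := Ideal.mul_mem_right (X 0) _ hp
      convert this using 1
      simp only [map_mul, rename_X, Fin.zero_eta, Fin.castSucc_zero]; ring
    · refine ⟨p0 * X 1, p1 * X 1, ?_⟩
      have := Ideal.mul_mem_right (X 1) _ hp
      convert this using 1
      simp only [map_mul, rename_X, Fin.mk_one, Fin.castSucc_one]; ring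
    · refine ⟨-(p1 * G0), p0, ?_⟩
      have := add_mem (Ideal.mul_mem_right (X 2) _ hp)
        (Ideal.mul_mem_left _ (rename Fin.castSucc p1)
          (Ideal.subset_span (Set.mem_singleton _)))
      convert this using 1
      simp only [map_mul, map_neg, Fin.reduceFinMk]; ring

/-- The kernel of `ψ = aeval ![x², y², w]` for `w` with regular odd-odd part. -/
theorem ker_eq_span [CharP R 2] (w0 w1 w2 w3 G0 : MvPolynomial (Fin 2) R)
    (hw3 : ∀ q, q * w3 = 0 → q = 0)
    (hG : (expand 2 w0 + X 0 * expand 2 w1 + X 1 * expand 2 w2 + X 0 * X 1 * expand 2 w3) ^ 2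
      = expand 2 G0) :
    RingHom.ker (aeval (R := R) (S₁ := MvPolynomial (Fin 2) R)
      ![X 0 ^ 2, X 1 ^ 2,
        expand 2 w0 + X 0 * expand 2 w1 + X 1 * expand 2 w2 + X 0 * X 1 * expand 2 w3]) =
      Ideal.span {(X 2 ^ 2 + rename Fin.castSucc G0 : MvPolynomial (Fin 3) R)} := by
  set w := expand 2 w0 + X 0 * expand 2 w1 + X 1 * expand 2 w2 + X 0 * X 1 * expand 2 w3 with hw
  have hF : (X 2 ^ 2 + rename Fin.castSucc G0 : MvPolynomial (Fin 3) R) ∈
      RingHom.ker (aeval (R := R) (S₁ := MvPolynomial (Fin 2) R) ![X 0 ^ 2, X 1 ^ 2, w]) := by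
    rw [RingHom.mem_ker, map_add, map_pow, aeval_X2, aeval_rename_castSucc]
    linear_combination hG + expand 2 G0 * two_eq_zero (R := R)
  apply le_antisymm
  · intro q hq
    obtain ⟨q0, q1, hred⟩ := reduce G0 q
    have h1 : q - (rename Fin.castSucc q0 + rename Fin.castSucc q1 * X 2) ∈
        RingHom.ker (aeval (R := R) (S₁ := MvPolynomial (Fin 2) R) ![X 0 ^ 2, X 1 ^ 2, w]) :=
      (Ideal.span_le.mpr (Set.singleton_subset_iff.mpr hF)) hred
    rw [RingHom.mem_ker] at hq h1
    rw [map_sub, hq, zero_sub, neg_eq_zero, map_add, map_mul, aeval_X2, aeval_rename_castSucc,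
      aeval_rename_castSucc] at h1
    have h2 : expand 2 (q0 + q1 * w0) + X 0 * expand 2 (q1 * w1) + X 1 * expand 2 (q1 * w2)
        + X 0 * X 1 * expand 2 (q1 * w3) = 0 := by
      rw [← h1, hw]; simp only [map_add, map_mul]; ring
    obtain ⟨ha, -, -, hd⟩ := indep _ _ _ _ h2
    have hq1 : q1 = 0 := hw3 q1 hd
    subst hq1
    simp only [zero_mul, add_zero] at ha
    subst ha
    simpa using hred
  · exact Ideal.span_le.mpr (Set.singleton_subset_iff.mpr hF)

/-! ### the derivation `D` with `D x = e α + x e t`, `D y = e β + y e t` -/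

theorem D_form [CharP R 2] (α β t a b c d : MvPolynomial (Fin 2) R) :
    mkDerivation R (![expand 2 α + X 0 * expand 2 t, expand 2 β + X 1 * expand 2 t] :
        Fin 2 → MvPolynomial (Fin 2) R)
      (expand 2 a + X 0 * expand 2 b + X 1 * expand 2 c + X 0 * X 1 * expand 2 d) =
    expand 2 (b * α + c * β) + X 0 * expand 2 (b * t + d * β) + X 1 * expand 2 (c * t + d * α) := by
  have h2 := two_eq_zero (R := R)
  simp only [map_add, Derivation.leibniz, deriv_expand, mkDerivation_X, smul_eq_mul, map_mul]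
  simp only [Matrix.cons_val_zero, Matrix.cons_val_one]
  linear_combination (X 0 * X 1 * expand 2 d * expand 2 t) * h2

theorem D_eq_zero [CharP R 2] (α β t a b c d : MvPolynomial (Fin 2) R)
    (h : mkDerivation R (![expand 2 α + X 0 * expand 2 t, expand 2 β + X 1 * expand 2 t] :
        Fin 2 → MvPolynomial (Fin 2) R)
      (expand 2 a + X 0 * expand 2 b + X 1 * expand 2 c + X 0 * X 1 * expand 2 d) = 0) :
    b * t + d * β = 0 ∧ c * t + d * α = 0 := by
  rw [D_form] at h
  have h' : expand 2 (b * α + c * β) + X 0 * expand 2 (b * t + d * β)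
      + X 1 * expand 2 (c * t + d * α) + X 0 * X 1 * expand 2 0 = 0 := by
    rw [map_zero, mul_zero, add_zero]; exact h
  obtain ⟨-, h1, h2, -⟩ := indep _ _ _ _ h'
  exact ⟨h1, h2⟩

/-- `D` kills `w = x e β + y e α + x y e t` -/
theorem D_w [CharP R 2] (α β t : MvPolynomial (Fin 2) R) :
    mkDerivation R (![expand 2 α + X 0 * expand 2 t, expand 2 β + X 1 * expand 2 t] :
        Fin 2 → MvPolynomial (Fin 2) R)
      (X 0 * expand 2 β + X 1 * expand 2 α + X 0 * X 1 * expand 2 t) = 0 := by
  have h2 := two_eq_zero (R := R)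
  have := D_form α β t 0 β α t
  simp only [map_zero, zero_add] at this
  rw [this]
  simp only [map_add, map_mul]
  linear_combination (expand 2 α * expand 2 β + X 0 * expand 2 β * expand 2 t
    + X 1 * expand 2 α * expand 2 t) * h2

theorem D_aeval [CharP R 2] (D : Derivation R (MvPolynomial (Fin 2) R) (MvPolynomial (Fin 2) R))
    (w : MvPolynomial (Fin 2) R) (hw : D w = 0) (q : MvPolynomial (Fin 3) R) :
    D (aeval (![X 0 ^ 2, X 1 ^ 2, w] : Fin 3 → MvPolynomial (Fin 2) R) q) = 0 := by
  induction q using MvPolynomial.induction_on with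
  | C r => simp
  | add p q hp hq => rw [map_add, map_add, hp, hq, add_zero]
  | mul_X p i hp =>
    rw [map_mul, Derivation.leibniz, hp, smul_zero, add_zero, aeval_X]
    have h0 : D (X 0 ^ 2) = 0 := by
      have := deriv_expand D (X 0); rwa [expand_X] at this
    have h1 : D (X 1 ^ 2) = 0 := by
      have := deriv_expand D (X 1); rwa [expand_X] at this
    fin_cases i <;> simp [h0, h1, hw]

theorem expand_mem_adjoin (s : Set (MvPolynomial (Fin 2) R))
    (h0 : (X 0 ^ 2 : MvPolynomial (Fin 2) R) ∈ s) (h1 : (X 1 ^ 2 : MvPolynomial (Fin 2) R) ∈ s)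
    (q : MvPolynomial (Fin 2) R) : expand 2 q ∈ Algebra.adjoin R s := by
  induction q using MvPolynomial.induction_on with
  | C r => rw [expand_C]; exact Subalgebra.algebraMap_mem _ r
  | add p q hp hq => rw [map_add]; exact add_mem hp hq
  | mul_X p i hp =>
    rw [map_mul, expand_X]
    refine mul_mem hp ?_
    fin_cases i
    · exact Algebra.subset_adjoin h0
    · exact Algebra.subset_adjoin h1

end Groth.Agent.Lib.helper13.Par2
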