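import Mathlib
import Groth.Prelude.Def_KSix
import Groth.Agent.Lib.Helper13.PerfAmp
import Groth.Agent.Lib.Helper13.RestrKFlat1
import Groth.Agent.Lib.Helper13.LpullQCoh
import Groth.Agent.Lib.Helper25.TorAmpFlat
import Groth.Agent.Lib.Helper25.LpullPerfect

set_option autoImplicit false
universe u
open CategoryTheory CategoryTheory.Limits AlgebraicGeometry TopologicalSpace Opposite
open Scheme.Modules

attribute [local instance] HasDerivedCategory.standard

/-!
# Perfect amplitude `[m, n]` ⟺ `(m-1)`-pseudo-coherent and flat amplitude `[m, n]` (helper13; = S4275)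
-/

namespace Groth.Agent.Lib.helper13.PerfAmp2

open Groth.Agent.Lib.helper25.DCohRestrict Groth.Agent.Lib.helper25.DCohHomology
  Groth.Agent.Lib.helper13.RestrKFlat Groth.Agent.Lib.Helper25.LTensorDCoh
  Groth.Agent.Lib.Helper25.TensorRightQisAll Groth.Agent.Lib.Helper25.LpullAdapted
  Groth.Agent.Lib.Helper25.LpullPerfect

variable {X : Scheme.{u}}

/-- restriction to an open commutes with termwise `- ⊗ G` -/
noncomputable def resTensorRightCxIso (V : X.Opens) (G : X.Modules) (P : CochainComplex X.Modules ℤ) :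
    (DCoh.restrictCx V).obj (((DCoh.tensorRightMod G).mapHomologicalComplex (ComplexShape.up ℤ)).obj P) ≅
      ((DCoh.tensorRightMod ((restrictFunctor V.ι).obj G)).mapHomologicalComplex (ComplexShape.up ℤ)).obj
        ((DCoh.restrictCx V).obj P) :=
  HomologicalComplex.Hom.isoOfComponents (fun j => resTensorBiIso V.ι (P.X j) G)
    (fun i j _ => (resTensorBiIso_hom_naturality_left V.ι (P.d i j) G).symm)

open DerivedCategory in
/-- perfect amplitude gives tor amplitude (derived tensor form) -/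
theorem hasTorAmplitudeIn_of_hasPerfectAmplitudeIn (E : DCoh.D X) (m n : ℤ)
    (h : KSix.HasPerfectAmplitudeIn m n E) : DCoh.HasTorAmplitudeIn m n E := by
  intro G _ i hi
  obtain ⟨P, hP, ⟨eP⟩⟩ := Groth.Agent.Lib.helper13.LpullQCoh.exists_P₀_rep E
  obtain ⟨t⟩ := nonempty_LTensorMod_iso G (tensorRightQis G) P hP.1
  set T := ((DCoh.tensorRightMod G).mapHomologicalComplex (ComplexShape.up ℤ)).obj P with hT
  have e1 : DCoh.HD ((DCoh.LTensorMod G).obj E) i ≅ T.homology i :=
    (homologyFunctor _ i).mapIso ((DCoh.LTensorMod G).mapIso eP.symm ≪≫ t) ≪≫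
      (homologyFunctorFactors _ i).app T
  refine IsZero.of_iso ?_ e1
  choose V hxV hV using h
  refine isZero_of_cover (T.homology i) V ?_ (fun x => ?_)
  · rw [eq_top_iff]
    intro x _
    exact Opens.mem_iSup.mpr ⟨x, hxV x⟩
  obtain ⟨S, hSv, hSf, ⟨eS⟩⟩ := hV x P ⟨eP⟩
  refine IsZero.of_iso ?_ (homologyResIso (V x).ι T i).symm
  refine IsZero.of_iso ?_ ((HomologicalComplex.homologyFunctor _ _ i).mapIso
    (resTensorRightCxIso (V x) G P))
  set G' := (restrictFunctor (V x).ι).obj G with hG'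
  haveI : DCoh.HasLTensorMod G' := hasLTensorMod G' (tensorRightQis G')
  obtain ⟨t'⟩ := nonempty_LTensorMod_iso G' (tensorRightQis G') ((DCoh.restrictCx (V x)).obj P)
    (P₀_restrict (V x) P hP).1
  refine IsZero.of_iso ?_ (((homologyFunctorFactors _ i).app _).symm ≪≫
    (homologyFunctor _ i).mapIso t'.symm)
  exact isZero_HD_LTensorMod_of_hasFlatAmplitudeIn G' (tensorRightQis G') m n _
    ⟨S, hSv, fun j => Groth.Agent.Lib.helper16.FLF.isFlat_of_isFinLocFree _ (hSf j), ⟨eS.symm⟩⟩ i hi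

/-- perfect amplitude implies perfect -/
lemma isPerfect_of_hasPerfectAmplitudeIn (E : DCoh.D X) (m n : ℤ)
    (h : KSix.HasPerfectAmplitudeIn m n E) : DCoh.IsPerfect E := by
  intro x
  obtain ⟨V, hxV, hV⟩ := h x
  refine ⟨V, hxV, fun F hF => ?_⟩
  obtain ⟨S, hSv, hSf, eS⟩ := hV F hF
  exact ⟨S, ⟨⟨m, n, hSv⟩, hSf⟩, eS⟩

/-- **perfect amplitude `[m, n]` ⟺ `(m-1)`-pseudo-coherent and flat amplitude `[m, n]`** -/
theorem main (X : Scheme.{u}) (E : DCoh.D X) (m n : ℤ) (hmn : m ≤ n) :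
    KSix.HasPerfectAmplitudeIn m n E ↔
      DCoh.IsPseudoCoherentD (m - 1) E ∧ DCoh.HasFlatAmplitudeIn m n E := by
  constructor
  · intro h
    exact ⟨Groth.Agent.Lib.helper25.PerfectTor.isPseudoCoherentD_of_isPerfect
      (isPerfect_of_hasPerfectAmplitudeIn E m n h) (m - 1),
      (Groth.Agent.Lib.Helper25.TorAmpFlat.hasTorAmplitudeIn_iff_hasFlatAmplitudeIn E m n hmn).1
        (hasTorAmplitudeIn_of_hasPerfectAmplitudeIn E m n h)⟩
  · rintro ⟨h1, h2⟩
    exact Groth.Agent.Lib.helper13.PerfAmp.hasPerfectAmplitudeIn_of_flat_of_pc E m n h2 h1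

end Groth.Agent.Lib.helper13.PerfAmp2
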