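import Mathlib
import Groth.Agent.Lib.Helper13.PIns1

/-!
# Polynomial rings over N-1 / N-2 domains: the common core (helper13)

`R` a domain with fraction field `K`, `F` a fraction field of `R[X]`.

* `ιK : K →+* F`, `jK : K[X] →+* F` (injective, `jK_map`).
* for `ρ : R →+* R₁`, `incl : R₁ →+* K`, `N : ℕ`: `θ ρ N : R[X] →+* R₁[X]` (`C r ↦ C (ρ r)`,
  `X ↦ X^N`) and `jj incl : R₁[X] →+* F`; `θ_finite` (`ρ` finite, `0 < N`).
* `finite_of_embedding`: the skeleton finiteness argument.
* `finite_integralClosure_core`: the core lemma.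
-/

set_option autoImplicit false
universe u
open Polynomial

namespace Groth.Agent.Lib.helper13.PolyN2

section jK
variable (R K F : Type*) [CommRing R] [IsDomain R] [Field K] [Algebra R K] [IsFractionRing R K]
  [Field F] [Algebra R[X] F] [IsFractionRing R[X] F]

theorem injective_C_F : Function.Injective ((algebraMap R[X] F).comp (C : R →+* R[X])) :=
  (IsFractionRing.injective R[X] F).comp C_injective

/-- `K → F`. -/
noncomputable def ιK : K →+* F := IsFractionRing.lift (injective_C_F R F)

theorem ιK_algebraMap (r : R) : ιK R K F (algebraMap R K r) = algebraMap R[X] F (C r) :=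
  IsFractionRing.lift_algebraMap (injective_C_F R F) r

/-- `K[X] → F`. -/
noncomputable def jK : K[X] →+* F := eval₂RingHom (ιK R K F) (algebraMap R[X] F X)

theorem jK_C (c : K) : jK R K F (C c) = ιK R K F c := by
  simp [jK]

theorem jK_X : jK R K F X = algebraMap R[X] F X := by
  simp [jK]

theorem jK_comp_map : (jK R K F).comp (mapRingHom (algebraMap R K)) = algebraMap R[X] F := by
  apply Polynomial.ringHom_ext
  · intro r
    simp only [RingHom.comp_apply, coe_mapRingHom, map_C, jK_C, ιK_algebraMap]
  · simp only [RingHom.comp_apply, coe_mapRingHom, map_X, jK_X]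

theorem jK_map (p : R[X]) : jK R K F (p.map (algebraMap R K)) = algebraMap R[X] F p :=
  congrArg (fun f => f p) (jK_comp_map R K F)

theorem jK_injective : Function.Injective (jK R K F) := by
  rw [injective_iff_map_eq_zero]
  intro g hg
  obtain ⟨b, hb, hbg⟩ := IsLocalization.integerNormalization_spec (nonZeroDivisors R) g
  have h1 : jK R K F ((IsLocalization.integerNormalization (nonZeroDivisors R) g).map
      (algebraMap R K)) = 0 := by
    rw [hbg, Algebra.smul_def, map_mul, hg, mul_zero]
  rw [jK_map] at h1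
  have h2 : IsLocalization.integerNormalization (nonZeroDivisors R) g = 0 :=
    (IsFractionRing.injective R[X] F) (h1.trans (map_zero _).symm)
  exact (IsFractionRing.integerNormalization_eq_zero_iff (A := R) (K := K)).mp h2

end jK

section core
variable {R K F R₁ : Type*} [CommRing R] [IsDomain R] [Field K] [Algebra R K] [IsFractionRing R K]
  [Field F] [Algebra R[X] F] [IsFractionRing R[X] F] [CommRing R₁]
  (ρ : R →+* R₁) (incl : R₁ →+* K) (N : ℕ)

/-- `R[X] → R₁[X]`, `C r ↦ C (ρ r)`, `X ↦ X^N`. -/
noncomputable def θ : R[X] →+* R₁[X] := eval₂RingHom ((C : R₁ →+* R₁[X]).comp ρ) (X ^ N)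

theorem θ_C (r : R) : θ ρ N (C r) = C (ρ r) := by simp [θ]

theorem θ_X : θ ρ N X = X ^ N := by simp [θ]

variable (F) in
/-- `R₁[X] → F`. -/
noncomputable def jj : R₁[X] →+* F := (jK R K F).comp (mapRingHom incl)

theorem jj_injective (hincl : Function.Injective incl) : Function.Injective (jj (R := R) F incl) :=
  (jK_injective R K F).comp (map_injective _ hincl)

theorem jj_C (c : R₁) : jj (R := R) F incl (C c) = ιK R K F (incl c) := by
  simp [jj, jK_C]

theorem jj_X : jj (R := R) F incl X = algebraMap R[X] F X := by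
  simp [jj, jK_X]

/-- `θ` is finite when `ρ` is. -/
theorem θ_finite (hρ : ρ.Finite) (hN : 0 < N) : (θ ρ N).Finite := by
  classical
  letI algρ : Algebra R R₁ := ρ.toAlgebra
  haveI : Module.Finite R R₁ := hρ
  obtain ⟨s, hs⟩ := (Module.Finite.fg_top : (⊤ : Submodule R R₁).FG)
  letI algθ : Algebra R[X] R₁[X] := (θ ρ N).toAlgebra
  show Module.Finite R[X] R₁[X]
  let G : Set R₁[X] := insert X ((fun g : R₁ => (C g : R₁[X])) '' (s : Set R₁))
  have hGfin : G.Finite := (s.finite_toSet.image _).insert _
  have hint : ∀ g ∈ G, IsIntegral R[X] g := by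
    rintro g (rfl | ⟨g₁, -, rfl⟩)
    · refine ⟨X ^ N - C (X : R[X]), monic_X_pow_sub_C _ hN.ne', ?_⟩
      simp only [eval₂_sub, eval₂_pow, eval₂_X, eval₂_C]
      rw [RingHom.algebraMap_toAlgebra, θ_X, sub_self]
    · obtain ⟨m, hm, hm0⟩ := (Algebra.IsIntegral.isIntegral (R := R) g₁ : IsIntegral R g₁)
      refine ⟨m.map (C : R →+* R[X]), hm.map _, ?_⟩
      rw [eval₂_map]
      have h1 : (algebraMap R[X] R₁[X]).comp (C : R →+* R[X]) =
          (C : R₁ →+* R₁[X]).comp (algebraMap R R₁) := by
        ext r
        simp only [RingHom.comp_apply, RingHom.algebraMap_toAlgebra, θ_C]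
      rw [h1, ← hom_eval₂, hm0, map_zero]
  have hCmem : ∀ c : R₁, (C c : R₁[X]) ∈ Algebra.adjoin R[X] G := by
    intro c
    have hc : c ∈ Submodule.span R (s : Set R₁) := hs ▸ Submodule.mem_top
    induction hc using Submodule.span_induction with
    | mem x hx => exact Algebra.subset_adjoin (Set.mem_insert_of_mem _ ⟨x, hx, rfl⟩)
    | zero => rw [map_zero]; exact Subalgebra.zero_mem _
    | add x y _ _ hx hy => rw [map_add]; exact Subalgebra.add_mem _ hx hy
    | smul r x _ hx =>
      have : (C (r • x) : R₁[X]) = algebraMap R[X] R₁[X] (C r) * C x := by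
        rw [RingHom.algebraMap_toAlgebra, θ_C, ← map_mul, Algebra.smul_def,
          RingHom.algebraMap_toAlgebra]
      rw [this]
      exact Subalgebra.mul_mem _ (Subalgebra.algebraMap_mem _ _) hx
  have hadj : Algebra.adjoin R[X] G = ⊤ := by
    rw [eq_top_iff]
    rintro t -
    induction t using Polynomial.induction_on' with
    | add p q hp hq => exact Subalgebra.add_mem _ hp hq
    | monomial n c =>
      rw [← C_mul_X_pow_eq_monomial]
      exact Subalgebra.mul_mem _ (hCmem c)
        (Subalgebra.pow_mem _ (Algebra.subset_adjoin (Set.mem_insert _ _)) n)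
  have hfg := fg_adjoin_of_finite hGfin hint
  rw [hadj] at hfg
  exact ⟨by rwa [Algebra.top_toSubmodule] at hfg⟩

end core

/-- The skeleton finiteness argument. -/
theorem finite_of_embedding {P L F T : Type*} [CommRing P] [IsNoetherianRing P] [CommRing L]
    [Algebra P L] [CommRing F] [CommRing T] (B : Subalgebra P L) (θ' : P →+* T) (hθ : θ'.Finite)
    (j : T →+* F) (hj : Function.Injective j) (φ : L →+* F) (hφ : Function.Injective φ)
    (hcomp : φ.comp (algebraMap P L) = j.comp θ')
    (hex : ∀ x ∈ B, ∃ d : T, j d = φ x) : Module.Finite P B := by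
  classical
  have hex' : ∀ x : B, ∃ d : T, j d = φ x.1 := fun x => hex x.1 x.2
  choose ψ hψ using hex'
  letI : Algebra P T := θ'.toAlgebra
  haveI : Module.Finite P T := hθ
  haveI : IsNoetherian P T := isNoetherian_of_isNoetherianRing_of_finite _ _
  let ψl : B →ₗ[P] T :=
    { toFun := ψ
      map_add' := fun x y => by
        apply hj
        rw [map_add, hψ, hψ, hψ]
        exact map_add φ x.1 y.1
      map_smul' := fun p x => by
        apply hj
        rw [RingHom.id_apply, hψ]
        have h0 : p • ψ x = θ' p * ψ x := by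
          rw [Algebra.smul_def, RingHom.algebraMap_toAlgebra]
        rw [h0, map_mul, hψ]
        have h1 : ((p • x : B) : L) = algebraMap P L p * x.1 := by
          rw [← Algebra.smul_def]; rfl
        rw [h1, map_mul]
        congr 1
        exact congrArg (fun f => f p) hcomp }
  refine Module.Finite.of_injective ψl ?_
  intro x y hxy
  have h1 : ψ x = ψ y := hxy
  have h2 : φ x.1 = φ y.1 := by rw [← hψ, ← hψ, h1]
  exact Subtype.ext (hφ h2)

section coreLemma
variable {R K F R₁ : Type u} [CommRing R] [IsDomain R] [IsNoetherianRing R] [Field K] [Algebra R K]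
  [IsFractionRing R K]
  [Field F] [Algebra R[X] F] [IsFractionRing R[X] F] [CommRing R₁] [IsDomain R₁]
  [IsIntegrallyClosed R₁]

/-- The core lemma. -/
theorem finite_integralClosure_core (ρ : R →+* R₁) (hρ : ρ.Finite) (incl : R₁ →+* K)
    (hincl : Function.Injective incl) (N : ℕ) (hN : 0 < N)
    (L : Type u) [Field L] [Algebra R[X] L] (φ : L →+* F)
    (hcomp : φ.comp (algebraMap R[X] L) = (jj (R := R) F incl).comp (θ ρ N))
    (hφF : ∀ x : L, ∃ z : FractionRing R₁[X],
      (IsFractionRing.lift (jj_injective (R := R) (F := F) incl hincl) :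
        FractionRing R₁[X] →+* F) z = φ x) :
    Module.Finite R[X] (integralClosure R[X] L) := by
  refine finite_of_embedding (integralClosure R[X] L) (θ ρ N) (θ_finite ρ N hρ hN)
    (jj (R := R) F incl) (jj_injective incl hincl) φ φ.injective hcomp ?_
  intro x hx
  apply PIns.mem_range_of_isIntegralElem (jj (R := R) F incl) (jj_injective incl hincl)
  · exact hφF x
  · obtain ⟨p, hp, hpx⟩ := hx
    refine ⟨p.map (θ ρ N), hp.map _, ?_⟩
    rw [eval₂_map, ← hcomp, ← hom_eval₂, hpx, map_zero]

end coreLemma

end Groth.Agent.Lib.helper13.PolyN2
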