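import Mathlib
import Groth.Agent.Lib.Helper13.PolyN2a
import Groth.Agent.Lib.Helper13.PIns2

/-!
# Polynomial rings over N-1 / N-2 Noetherian domains (helper13)

* `isN1_polynomial`: `R` Noetherian N-1 domain ⇒ `R[X]` N-1.
* `finite_integralClosure_polynomial_of_isPurelyInseparable`: `R` Noetherian N-2 domain, `L` a
  finite purely inseparable extension of `Frac R[X]` ⇒ the integral closure of `R[X]` in `L` is
  finite.
-/

set_option autoImplicit false
universe u
open Polynomial

namespace Groth.Agent.Lib.helper13.PolyN2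

/-- Generic: `hcomp` implies `hφF` for fraction-field elements. -/
theorem exists_lift_eq_of_comp {P T F : Type*} [CommRing P] [IsDomain P] [CommRing T] [IsDomain T]
    [Field F] [Algebra P F] [IsFractionRing P F] (θ' : P →+* T) (j : T →+* F)
    (hj : Function.Injective j) (E : P → F) (hE : ∀ p, j (θ' p) = E p)
    (u v : P) :
    ∃ z : FractionRing T, (IsFractionRing.lift hj : FractionRing T →+* F) z = E u / E v := by
  refine ⟨algebraMap T (FractionRing T) (θ' u) / algebraMap T (FractionRing T) (θ' v), ?_⟩
  rw [map_div₀, IsFractionRing.lift_algebraMap, IsFractionRing.lift_algebraMap, hE, hE]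

theorem isN1_polynomial (R : Type u) [CommRing R] [IsDomain R] [IsNoetherianRing R]
    (hR : CAlg.IsN1 R) : CAlg.IsN1 R[X] := by
  haveI hfin : Module.Finite R (integralClosure R (FractionRing R)) := hR
  haveI : IsIntegrallyClosed (integralClosure R (FractionRing R)) :=
    integralClosure.isIntegrallyClosedOfFiniteExtension (FractionRing R)
  have hρ : (algebraMap R (integralClosure R (FractionRing R))).Finite :=
    RingHom.finite_algebraMap.mpr hfin
  have hincl : Function.Injective
      (algebraMap (integralClosure R (FractionRing R)) (FractionRing R)) :=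
    Subtype.val_injective
  have hcomp : (RingHom.id (FractionRing R[X])).comp (algebraMap R[X] (FractionRing R[X])) =
      (jj (R := R) (FractionRing R[X])
        (algebraMap (integralClosure R (FractionRing R)) (FractionRing R))).comp
        (θ (algebraMap R (integralClosure R (FractionRing R))) 1) := by
    apply Polynomial.ringHom_ext
    · intro r
      simp only [RingHom.comp_apply, RingHom.id_apply, θ_C, jj_C]
      rw [← IsScalarTower.algebraMap_apply R (integralClosure R (FractionRing R)) (FractionRing R),
        ιK_algebraMap]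
    · simp only [RingHom.comp_apply, RingHom.id_apply, θ_X, pow_one, jj_X]
  show Module.Finite R[X] (integralClosure R[X] (FractionRing R[X]))
  refine finite_integralClosure_core (algebraMap R (integralClosure R (FractionRing R))) hρ
    (algebraMap (integralClosure R (FractionRing R)) (FractionRing R)) hincl 1 one_pos
    (FractionRing R[X]) (RingHom.id _) hcomp ?_
  intro x
  obtain ⟨u, v, -, rfl⟩ := IsFractionRing.div_surjective (A := R[X]) x
  exact exists_lift_eq_of_comp _ _ (jj_injective _ hincl) (algebraMap R[X] (FractionRing R[X]))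
    (fun p => (congrArg (fun f => f p) hcomp).symm) u v

/-- Lemma A': an N-2 domain and a finite field extension `σ : K → K₁` of its fraction field give a
normal domain `R₁` finite over `R` containing all `R`-integral elements of `K₁`. -/
theorem exists_subring_of_isN2 {R : Type u} [CommRing R] [IsDomain R] (hR : CAlg.IsN2 R)
    (K : Type u) [Field K] [Algebra R K] [IsFractionRing R K] (K₁ : Type u) [Field K₁]
    (σ : K →+* K₁) (hσ : σ.Finite) :
    ∃ (R₁ : Type u) (_ : CommRing R₁) (_ : IsDomain R₁) (_ : IsIntegrallyClosed R₁)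
      (ρ : R →+* R₁) (incl₁ : R₁ →+* K₁), Function.Injective incl₁ ∧ ρ.Finite ∧
      (∀ r, incl₁ (ρ r) = σ (algebraMap R K r)) ∧
      (∀ y : K₁, (σ.comp (algebraMap R K)).IsIntegralElem y → ∃ d, incl₁ d = y) := by
  letI : Algebra K K₁ := σ.toAlgebra
  letI : Algebra R K₁ := (σ.comp (algebraMap R K)).toAlgebra
  haveI : IsScalarTower R K K₁ := IsScalarTower.of_algebraMap_eq (fun _ => rfl)
  haveI : FiniteDimensional K K₁ := hσ
  haveI hfin : Module.Finite R (integralClosure R K₁) :=
    PIns.IsN2.finite_integralClosure hR K K₁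
  haveI : IsIntegrallyClosed (integralClosure R K₁) :=
    integralClosure.isIntegrallyClosedOfFiniteExtension K
  exact ⟨integralClosure R K₁, inferInstance, inferInstance, inferInstance, algebraMap R _,
    algebraMap _ K₁, Subtype.val_injective, RingHom.finite_algebraMap.mpr hfin, fun r => rfl,
    fun y hy => ⟨⟨y, hy⟩, rfl⟩⟩

theorem frobk_finite (k : Type u) [Field k] (q : ℕ) [ExpChar k q] (n : ℕ) (S : Finset k) :
    (PIns.frobk k q n S).Finite := by
  have h1 : PIns.frobk k q n S = (algebraMap (PIns.k0 k q n) (PIns.k1 k q n S)).comp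
      (iterateFrobenius k q n).rangeRestrictField := by
    ext x; rfl
  rw [h1]
  refine RingHom.Finite.comp ?_
    (RingHom.Finite.of_surjective _ (RingHom.rangeRestrictField_bijective _).2)
  rw [RingHom.finite_algebraMap]
  haveI : Finite (S : Set k) := S.finite_toSet
  exact IntermediateField.finiteDimensional_adjoin (fun x _ => PIns.isIntegral_k0 k q n x)

set_option maxHeartbeats 1000000 in
/-- `R` Noetherian N-2 domain, `L` finite purely inseparable over `Frac R[X]`: the integral closure
of `R[X]` in `L` is a finite module. -/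
theorem finite_integralClosure_polynomial_of_isPurelyInseparable
    {R : Type u} [CommRing R] [IsDomain R] [IsNoetherianRing R] (hR : CAlg.IsN2 R)
    (L : Type u) [Field L] [Algebra R[X] L] [Algebra (FractionRing R[X]) L]
    [IsScalarTower R[X] (FractionRing R[X]) L] [FiniteDimensional (FractionRing R[X]) L]
    [IsPurelyInseparable (FractionRing R[X]) L] :
    Module.Finite R[X] (integralClosure R[X] L) := by
  classical
  obtain ⟨q, hq⟩ := ExpChar.exists R
  haveI : ExpChar (FractionRing R) q :=
    expChar_of_injective_algebraMap (IsFractionRing.injective R (FractionRing R)) q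
  haveI : ExpChar R[X] q := expChar_of_injective_ringHom (C_injective (R := R)) q
  haveI : ExpChar (FractionRing R[X]) q :=
    expChar_of_injective_algebraMap (IsFractionRing.injective R[X] (FractionRing R[X])) q
  obtain ⟨n, hn⟩ : ∃ n, n = IsPurelyInseparable.exponent (FractionRing R[X]) L := ⟨_, rfl⟩
  obtain ⟨φ, hφdef⟩ : ∃ φ : L →+* FractionRing R[X],
      φ = IsPurelyInseparable.iterateFrobenius (FractionRing R[X]) L q hn.ge := ⟨_, rfl⟩
  have hφK : ∀ y : FractionRing R[X], φ (algebraMap (FractionRing R[X]) L y) = y ^ q ^ n := by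
    intro y
    rw [hφdef]
    exact IsPurelyInseparable.iterateFrobenius_algebraMap L q hn.ge y
  -- a basis and fractions
  let b := Module.finBasis (FractionRing R[X]) L
  have hfrac : ∀ i, ∃ a c : R[X],
      algebraMap R[X] (FractionRing R[X]) a / algebraMap R[X] (FractionRing R[X]) c = φ (b i) := by
    intro i
    obtain ⟨a, c, -, h⟩ := IsFractionRing.div_surjective (A := R[X]) (φ (b i))
    exact ⟨a, c, h⟩
  choose a c hac using hfrac
  let S : Finset (FractionRing R) := Finset.univ.biUnion
    (fun i => ((a i).coeffs ∪ (c i).coeffs).image (algebraMap R (FractionRing R)))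
  have hN : 0 < q ^ n := expChar_pow_pos (FractionRing R) q n
  -- the ring `R₁`
  obtain ⟨R₁, _, _, _, ρ, incl₁, hincl₁, hρ, hρσ, hint⟩ :=
    exists_subring_of_isN2 hR (FractionRing R) (PIns.k1 (FractionRing R) q n S)
      (PIns.frobk (FractionRing R) q n S) (frobk_finite (FractionRing R) q n S)
  obtain ⟨incl, hincldef⟩ : ∃ incl : R₁ →+* FractionRing R,
      incl = (algebraMap (PIns.k1 (FractionRing R) q n S) (FractionRing R)).comp incl₁ := ⟨_, rfl⟩
  have hincl : Function.Injective incl := by
    rw [hincldef]
    exact (algebraMap (PIns.k1 (FractionRing R) q n S) (FractionRing R)).injective.comp hincl₁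
  have hinclρ : ∀ r : R, incl (ρ r) = (algebraMap R (FractionRing R) r) ^ q ^ n := by
    intro r
    rw [hincldef, RingHom.comp_apply, hρσ]
    exact PIns.coe_frobk (FractionRing R) q n S _
  -- the key identity `j (θ p) = p ^ q ^ n`
  have hjθ' : (jj (R := R) (FractionRing R[X]) incl).comp (θ ρ (q ^ n)) =
      (iterateFrobenius (FractionRing R[X]) q n).comp (algebraMap R[X] (FractionRing R[X])) := by
    apply Polynomial.ringHom_ext
    · intro r
      simp only [RingHom.comp_apply, θ_C, jj_C, iterateFrobenius_def]
      rw [hinclρ, map_pow, ιK_algebraMap]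
    · simp only [RingHom.comp_apply, θ_X, map_pow, jj_X, iterateFrobenius_def]
  have hjθ : ∀ p : R[X], jj (R := R) (FractionRing R[X]) incl (θ ρ (q ^ n) p) =
      (algebraMap R[X] (FractionRing R[X]) p) ^ q ^ n := by
    intro p
    have := congrArg (fun f => f p) hjθ'
    simpa [iterateFrobenius_def] using this
  have hcomp : φ.comp (algebraMap R[X] L) =
      (jj (R := R) (FractionRing R[X]) incl).comp (θ ρ (q ^ n)) := by
    ext p
    · simp only [RingHom.comp_apply]
      rw [IsScalarTower.algebraMap_apply R[X] (FractionRing R[X]) L, hφK, hjθ]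
    · simp only [RingHom.comp_apply]
      rw [IsScalarTower.algebraMap_apply R[X] (FractionRing R[X]) L, hφK, hjθ]
  -- elements of `S` come from `R₁`
  have hmemS : ∀ r : R, algebraMap R (FractionRing R) r ∈ S →
      ∃ d : R₁, incl d = algebraMap R (FractionRing R) r := by
    intro r hr
    have hr1 : algebraMap R (FractionRing R) r ∈ PIns.k1 (FractionRing R) q n S :=
      IntermediateField.subset_adjoin _ _ hr
    obtain ⟨d, hd⟩ := hint ⟨_, hr1⟩ (by
      refine ⟨X ^ (q ^ n) - C r, monic_X_pow_sub_C _ hN.ne', ?_⟩
      simp only [eval₂_sub, eval₂_pow, eval₂_X, eval₂_C, RingHom.comp_apply]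
      rw [sub_eq_zero]
      apply Subtype.ext
      rw [PIns.coe_frobk]
      rfl)
    refine ⟨d, ?_⟩
    rw [hincldef, RingHom.comp_apply, hd]
    rfl
  have hpolyS : ∀ p : R[X], (∀ m, p.coeff m ≠ 0 → algebraMap R (FractionRing R) (p.coeff m) ∈ S) →
      ∃ r : R₁[X], jj (R := R) (FractionRing R[X]) incl r =
        algebraMap R[X] (FractionRing R[X]) p := by
    intro p hp
    have : p.map (algebraMap R (FractionRing R)) ∈ lifts incl := by
      rw [lifts_iff_coeff_lifts]
      intro m
      rw [coeff_map]
      by_cases h0 : p.coeff m = 0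
      · exact ⟨0, by rw [h0, map_zero, map_zero]⟩
      · obtain ⟨d, hd⟩ := hmemS _ (hp m h0)
        exact ⟨d, hd⟩
    obtain ⟨r, hr⟩ := (mem_lifts _).mp this
    refine ⟨r, ?_⟩
    rw [jj, RingHom.comp_apply, coe_mapRingHom, hr, jK_map]
  -- the subfield `F₁`
  have hj := jj_injective (R := R) (F := FractionRing R[X]) incl hincl
  obtain ⟨F₁, hF₁⟩ : ∃ F₁ : Subfield (FractionRing R[X]), F₁ =
      (IsFractionRing.lift hj : FractionRing R₁[X] →+* _).fieldRange := ⟨_, rfl⟩
  have hjF : ∀ r, jj (R := R) (FractionRing R[X]) incl r ∈ F₁ := by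
    intro r
    rw [hF₁]
    exact ⟨algebraMap _ _ r, IsFractionRing.lift_algebraMap hj r⟩
  have hKF : ∀ y : FractionRing R[X], y ^ q ^ n ∈ F₁ := by
    intro y
    obtain ⟨u, v, -, rfl⟩ := IsFractionRing.div_surjective (A := R[X]) y
    rw [div_pow, ← hjθ, ← hjθ]
    exact F₁.div_mem (hjF _) (hjF _)
  have hbF : ∀ i, φ (b i) ∈ F₁ := by
    intro i
    rw [← hac i]
    have ha : ∀ m, (a i).coeff m ≠ 0 → algebraMap R (FractionRing R) ((a i).coeff m) ∈ S := by
      intro m hm
      simp only [S, Finset.mem_biUnion, Finset.mem_univ, true_and, Finset.mem_image,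
        Finset.mem_union]
      exact ⟨i, _, Or.inl (coeff_mem_coeffs hm), rfl⟩
    have hc : ∀ m, (c i).coeff m ≠ 0 → algebraMap R (FractionRing R) ((c i).coeff m) ∈ S := by
      intro m hm
      simp only [S, Finset.mem_biUnion, Finset.mem_univ, true_and, Finset.mem_image,
        Finset.mem_union]
      exact ⟨i, _, Or.inr (coeff_mem_coeffs hm), rfl⟩
    obtain ⟨ra, hra⟩ := hpolyS (a i) ha
    obtain ⟨rc, hrc⟩ := hpolyS (c i) hc
    rw [← hra, ← hrc]
    exact F₁.div_mem (hjF _) (hjF _)
  have hφF : ∀ x : L, φ x ∈ F₁ := by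
    intro x
    rw [← b.sum_repr x, map_sum]
    refine F₁.sum_mem (fun i _ => ?_)
    rw [Algebra.smul_def, map_mul, hφK]
    exact F₁.mul_mem (hKF _) (hbF i)
  refine finite_integralClosure_core ρ hρ incl hincl (q ^ n) hN L φ hcomp ?_
  intro x
  have := hφF x
  rw [hF₁] at this
  exact this

end Groth.Agent.Lib.helper13.PolyN2
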