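import Mathlib

/-!
# Descent of universal closedness / separatedness along finite jointly surjective families

(helper13) Finite-family versions of helper8's `ProperDescent` lemmas.
-/

set_option autoImplicit false
universe u

open CategoryTheory CategoryTheory.Limits AlgebraicGeometry

namespace Groth.Agent.Lib.helper13

variable {W S : Scheme.{u}}

/-- If `c i : T i ⟶ W` is a finite jointly surjective family and every `c i ≫ u` is universally
closed, then `u` is universally closed. -/
theorem universallyClosed_of_family (u : W ⟶ S) {ι : Type*} [Finite ι] (T : ι → Scheme.{u})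
    (c : ∀ i, T i ⟶ W) (hsurj : ∀ w : W, ∃ i, ∃ t : T i, (c i) t = w)
    [∀ i, UniversallyClosed (c i ≫ u)] : UniversallyClosed u := by
  rw [universallyClosed_eq]
  intro W' S' i₁ i₂ f' hpb
  -- `f'` is a closed map
  intro C hC
  have hmap : ∀ i, IsClosedMap (pullback.snd (c i) i₁ ≫ f').base := by
    intro i
    have hleft : IsPullback (pullback.snd (c i) i₁) (pullback.fst (c i) i₁) i₁ (c i) :=
      (IsPullback.of_hasPullback (c i) i₁).flip
    have hpaste : IsPullback (pullback.snd (c i) i₁ ≫ f') (pullback.fst (c i) i₁) i₂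
        (c i ≫ u) := hleft.paste_horiz hpb
    have : UniversallyClosed (pullback.snd (c i) i₁ ≫ f') :=
      MorphismProperty.of_isPullback hpaste.flip inferInstance
    exact (pullback.snd (c i) i₁ ≫ f').isClosedMap
  have hcover : f' '' C = ⋃ i, (pullback.snd (c i) i₁ ≫ f') ''
      ((pullback.snd (c i) i₁) ⁻¹' C) := by
    ext s
    simp only [Set.mem_image, Set.mem_iUnion, Set.mem_preimage]
    constructor
    · rintro ⟨w', hw', rfl⟩
      obtain ⟨i, t, ht⟩ := hsurj (i₁ w')
      obtain ⟨p, -, hp2⟩ := Scheme.Pullback.exists_preimage_pullback (f := c i) (g := i₁) t w' ht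
      exact ⟨i, p, by rw [hp2]; exact hw', by rw [Scheme.Hom.comp_apply, hp2]⟩
    · rintro ⟨i, p, hp, rfl⟩
      exact ⟨_, hp, by rw [Scheme.Hom.comp_apply]⟩
  rw [hcover]
  exact isClosed_iUnion_of_finite fun i =>
    hmap i _ (hC.preimage (pullback.snd (c i) i₁).continuous)

/-- If `c i : T i ⟶ W` is a finite jointly surjective family of universally closed morphisms and
every `c i ≫ u` is separated, then `u` is separated. -/
theorem isSeparated_of_family (u : W ⟶ S) {ι : Type*} [Finite ι] (T : ι → Scheme.{u})
    (c : ∀ i, T i ⟶ W) (hsurj : ∀ w : W, ∃ i, ∃ t : T i, (c i) t = w)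
    [∀ i, UniversallyClosed (c i)] [∀ i, IsSeparated (c i ≫ u)] : IsSeparated u := by
  let m : ∀ i, pullback (c i ≫ u) (c i ≫ u) ⟶ pullback u u := fun i =>
    pullback.map (c i ≫ u) (c i ≫ u) u u (c i) (c i) (𝟙 S) ((Category.comp_id _).trans rfl)
      ((Category.comp_id _).trans rfl)
  have hm : ∀ i, UniversallyClosed (m i) := fun i =>
    MorphismProperty.pullbackMap (P := @UniversallyClosed) (f := c i ≫ u) (g := c i ≫ u)
      (f' := u) (g' := u) (i₁ := c i) (i₂ := c i) inferInstance inferInstance rfl rfl
  have hcomm : ∀ i, pullback.diagonal (c i ≫ u) ≫ m i = c i ≫ pullback.diagonal u := by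
    intro i
    apply pullback.hom_ext
    · simp only [m, Category.assoc, pullback.lift_fst, pullback.map, pullback.diagonal_fst,
        Category.comp_id]
      rw [← Category.assoc, pullback.diagonal_fst, Category.id_comp]
    · simp only [m, Category.assoc, pullback.lift_snd, pullback.map, pullback.diagonal_snd,
        Category.comp_id]
      rw [← Category.assoc, pullback.diagonal_snd, Category.id_comp]
  have hr : Set.range (pullback.diagonal u) =
      ⋃ i, (m i) '' Set.range (pullback.diagonal (c i ≫ u)) := by
    ext z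
    simp only [Set.mem_range, Set.mem_iUnion, Set.mem_image]
    constructor
    · rintro ⟨w, rfl⟩
      obtain ⟨i, t, rfl⟩ := hsurj w
      refine ⟨i, _, ⟨t, rfl⟩, ?_⟩
      rw [← Scheme.Hom.comp_apply, hcomm i, Scheme.Hom.comp_apply]
    · rintro ⟨i, _, ⟨t, rfl⟩, rfl⟩
      refine ⟨c i t, ?_⟩
      rw [← Scheme.Hom.comp_apply, ← hcomm i, Scheme.Hom.comp_apply]
  have hcl : IsClosed (Set.range (pullback.diagonal u)) := by
    rw [hr]
    exact isClosed_iUnion_of_finite fun i =>
      (m i).isClosedMap _ (pullback.diagonal (c i ≫ u)).isClosedEmbedding.isClosed_range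
  exact ⟨IsClosedImmersion.of_isPreimmersion _ hcl⟩

end Groth.Agent.Lib.helper13
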