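import Mathlib

/-!
# helper13: maps from projective modules to flat modules which are injective on closed fibres
are universally injective
-/

set_option autoImplicit false
universe u
open TensorProduct

namespace Groth.Agent.Lib.helper13.PureSp

section LinAlg

variable {k : Type*} [Field k] {ι κ : Type*} [Fintype ι] [Fintype κ] [DecidableEq ι]
  [DecidableEq κ]

/-- a matrix over a field with injective `vecMul` has a right inverse -/
lemma exists_right_inverse_of_vecMul_injective (a : Matrix ι κ k)
    (h : ∀ c : ι → k, Matrix.vecMul c a = 0 → c = 0) : ∃ ρ : Matrix κ ι k, a * ρ = 1 := by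
  have hker : LinearMap.ker (Matrix.toLin' a.transpose) = ⊥ := by
    rw [LinearMap.ker_eq_bot']
    intro c hc
    apply h c
    rw [Matrix.toLin'_apply, Matrix.mulVec_transpose] at hc
    exact hc
  obtain ⟨g, hg⟩ := (Matrix.toLin' a.transpose).exists_leftInverse_of_injective hker
  have h1 : LinearMap.toMatrix' (g ∘ₗ Matrix.toLin' a.transpose) = 1 := by
    rw [hg, LinearMap.toMatrix'_id]
  rw [LinearMap.toMatrix'_comp, LinearMap.toMatrix'_toLin'] at h1
  refine ⟨(LinearMap.toMatrix' g).transpose, ?_⟩
  rw [← Matrix.transpose_inj, Matrix.transpose_mul, Matrix.transpose_transpose,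
    Matrix.transpose_one]
  exact h1

end LinAlg

variable {A : Type u} [CommRing A]

section Core

variable {M : Type u} [AddCommGroup M] [Module A M] [Module.Flat A M]
  {ι : Type*} [Fintype ι] (n : ι → M)

/-- **core lemma**: a finite family of elements of a flat module which is linearly independent modulo
every maximal ideal is "universally linearly independent". -/
theorem eq_zero_of_sum_tmul_eq_zero
    (hn : ∀ (m : Ideal A) [m.IsMaximal] (c : ι → A ⧸ m),
      ∑ i, c i ⊗ₜ[A] n i = 0 → c = 0)
    {Q : Type u} [AddCommGroup Q] [Module A Q] (q : ι → Q)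
    (hq : ∑ i, q i ⊗ₜ[A] n i = 0) : q = 0 := by
  classical
  obtain ⟨k, a, y, hay, haq⟩ :=
    TensorProduct.vanishesTrivially_of_sum_tmul_eq_zero_of_rTensor_injective A
      (Module.Flat.rTensor_preserves_injective_linearMap _ (Submodule.injective_subtype _)) hq
  set Q' : Submodule A Q := Submodule.span A (Set.range q) with hQ'
  have hqQ' : ∀ i, q i ∈ Q' := fun i => Submodule.subset_span ⟨i, rfl⟩
  have hfg : Q'.FG := Submodule.fg_span (Set.finite_range q)
  -- `Q' ≤ m • Q'` for every maximal ideal `m`
  have key : ∀ (m : Ideal A) [m.IsMaximal], Q' ≤ m • Q' := by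
    intro m _
    letI : Field (A ⧸ m) := Ideal.Quotient.field m
    let abar : Matrix ι (Fin k) (A ⧸ m) := fun i j => Ideal.Quotient.mk m (a i j)
    have hinj : ∀ c : ι → A ⧸ m, Matrix.vecMul c abar = 0 → c = 0 := by
      intro c hc
      apply hn m c
      calc ∑ i, c i ⊗ₜ[A] n i = ∑ i, ∑ j, (a i j • c i) ⊗ₜ[A] y j := by
            refine Finset.sum_congr rfl (fun i _ => ?_)
            rw [hay i, TensorProduct.tmul_sum]
            refine Finset.sum_congr rfl (fun j _ => ?_)
            rw [TensorProduct.tmul_smul, TensorProduct.smul_tmul']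
        _ = ∑ j, (∑ i, a i j • c i) ⊗ₜ[A] y j := by
            rw [Finset.sum_comm]
            refine Finset.sum_congr rfl (fun j _ => ?_)
            rw [TensorProduct.sum_tmul]
        _ = 0 := by
            refine Finset.sum_eq_zero (fun j _ => ?_)
            have : ∑ i, a i j • c i = Matrix.vecMul c abar j := by
              simp only [Matrix.vecMul, dotProduct, abar]
              refine Finset.sum_congr rfl (fun i _ => ?_)
              rw [Algebra.smul_def, mul_comm]
              rfl
            rw [this, hc, Pi.zero_apply, TensorProduct.zero_tmul]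
    obtain ⟨ρ, hρ⟩ := exists_right_inverse_of_vecMul_injective abar hinj
    have hsurj : ∀ x : A ⧸ m, ∃ r : A, Ideal.Quotient.mk m r = x := Ideal.Quotient.mk_surjective
    choose r hr using fun (j : Fin k) (i : ι) => hsurj (ρ j i)
    have hmem : ∀ i i' : ι, (if i = i' then (1 : A) else 0) - ∑ j, a i j * r j i' ∈ m := by
      intro i i'
      rw [← Ideal.Quotient.eq_zero_iff_mem, map_sub, map_sum]
      have h1 : (abar * ρ) i i' = (1 : Matrix ι ι (A ⧸ m)) i i' := by rw [hρ]
      rw [Matrix.mul_apply, Matrix.one_apply] at h1
      simp only [map_mul, hr]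
      rw [h1]
      split_ifs <;> simp
    rw [hQ', Submodule.span_le]
    rintro _ ⟨i', rfl⟩
    have hdecomp : q i' = ∑ i, ((if i = i' then (1 : A) else 0) - ∑ j, a i j * r j i') • q i := by
      have h2 : ∑ i, (∑ j, a i j * r j i') • q i = 0 := by
        calc ∑ i, (∑ j, a i j * r j i') • q i = ∑ i, ∑ j, r j i' • (a i j • q i) := by
              refine Finset.sum_congr rfl (fun i _ => ?_)
              rw [Finset.sum_smul]
              refine Finset.sum_congr rfl (fun j _ => ?_)
              rw [smul_smul, mul_comm]
          _ = ∑ j, r j i' • ∑ i, a i j • q i := by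
              rw [Finset.sum_comm]
              refine Finset.sum_congr rfl (fun j _ => ?_)
              rw [Finset.smul_sum]
          _ = 0 := by
              refine Finset.sum_eq_zero (fun j _ => ?_)
              rw [haq j, smul_zero]
      simp only [sub_smul, Finset.sum_sub_distrib, h2, sub_zero, ite_smul, one_smul, zero_smul,
        Finset.sum_ite_eq', Finset.mem_univ, if_true]
    rw [hdecomp]
    exact Submodule.sum_mem _ (fun i _ => Submodule.smul_mem_smul (hmem i i') (hqQ' i))
  -- Nakayama
  have hbot : Q' = ⊥ := by
    by_contra hne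
    have hann : Q'.annihilator ≠ ⊤ := by
      rwa [Ne, Submodule.annihilator_eq_top_iff]
    obtain ⟨m, hm, hle⟩ := Ideal.exists_le_maximal _ hann
    obtain ⟨r, hr1, hr2⟩ :=
      Submodule.exists_sub_one_mem_and_smul_eq_zero_of_fg_of_le_smul m Q' hfg (key m)
    have hrm : r ∈ m := hle (Submodule.mem_annihilator.2 hr2)
    exact hm.ne_top ((Ideal.eq_top_iff_one m).2 (by
      have := m.sub_mem hrm hr1
      simpa using this))
  funext i
  have := hqQ' i
  rw [hbot, Submodule.mem_bot] at this
  exact this

end Core


section Free

variable {M : Type u} [AddCommGroup M] [Module A M] [Module.Flat A M] {ι : Type u}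

/-- a map from a free module to a flat module which is injective modulo every maximal ideal is
universally injective -/
theorem lTensor_injective_of_free (v : (ι →₀ A) →ₗ[A] M)
    (hv : ∀ (m : Ideal A) [m.IsMaximal], Function.Injective (v.lTensor (A ⧸ m)))
    (Q : Type u) [AddCommGroup Q] [Module A Q] : Function.Injective (v.lTensor Q) := by
  classical
  rw [injective_iff_map_eq_zero]
  intro z hz
  let e := TensorProduct.finsuppScalarRight A A Q ι
  set f : ι →₀ Q := e z with hf
  have hz' : z = ∑ i : f.support, f i ⊗ₜ[A] Finsupp.single (i : ι) (1 : A) := by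
    have h1 : z = e.symm f := by rw [hf, LinearEquiv.symm_apply_apply]
    rw [h1]
    conv_lhs => rw [← Finsupp.sum_single f]
    rw [Finsupp.sum, map_sum, ← Finset.sum_coe_sort]
    refine Finset.sum_congr rfl (fun i _ => ?_)
    exact TensorProduct.finsuppScalarRight_symm_apply_single _ _
  have hq : (fun i : f.support => f i) = 0 := by
    refine eq_zero_of_sum_tmul_eq_zero (A := A) (fun i : f.support => v (Finsupp.single (i : ι) 1))
      ?_ _ ?_
    · intro m _ c hc
      have h2 : (v.lTensor (A ⧸ m))
          (∑ i : f.support, c i ⊗ₜ[A] Finsupp.single (i : ι) (1 : A)) = 0 := by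
        rw [map_sum]
        simpa using hc
      have h3 := (injective_iff_map_eq_zero _).1 (hv m) _ h2
      funext i
      have h4 := congrArg (fun w => (TensorProduct.finsuppScalarRight A A (A ⧸ m) ι w) (i : ι)) h3
      simp only [map_sum, map_zero, Finsupp.coe_zero, Pi.zero_apply] at h4
      rw [Finsupp.finset_sum_apply] at h4
      have h5 : ∀ j : f.support, (TensorProduct.finsuppScalarRight A A (A ⧸ m) ι
          (c j ⊗ₜ[A] Finsupp.single (j : ι) (1 : A))) (i : ι) = if j = i then c j else 0 := by
        intro j
        rw [TensorProduct.finsuppScalarRight_apply_tmul, Finsupp.sum_single_index (by simp),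
          one_smul, Finsupp.single_apply]
        by_cases hji : j = i
        · rw [if_pos hji, if_pos (congrArg Subtype.val hji)]
        · rw [if_neg hji, if_neg (fun h => hji (Subtype.ext h))]
      simp only [h5, Finset.sum_ite_eq', Finset.mem_univ, if_true] at h4
      exact h4
    · have := hz
      rw [hz', map_sum] at this
      simpa using this
  rw [hz']
  refine Finset.sum_eq_zero (fun i _ => ?_)
  have := congrFun hq i
  simp only [Pi.zero_apply] at this
  rw [this, TensorProduct.zero_tmul]

end Free

section Projective

/-- a product of two flat modules is flat (cf. helper23 `TA.flat_prod`) -/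
theorem flat_prod (M N : Type u) [AddCommGroup M] [Module A M] [AddCommGroup N] [Module A N]
    [Module.Flat A M] [Module.Flat A N] : Module.Flat A (M × N) := by
  rw [Module.Flat.iff_rTensor_preserves_injective_linearMap]
  intro K K' _ _ _ _ i hi
  have h1 := Module.Flat.rTensor_preserves_injective_linearMap (M := M) i hi
  have h2 := Module.Flat.rTensor_preserves_injective_linearMap (M := N) i hi
  have hc : (TensorProduct.prodRight A A K' M N).toLinearMap ∘ₗ (i.rTensor (M × N)) =
      (LinearMap.prodMap (i.rTensor M) (i.rTensor N)) ∘ₗ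
        (TensorProduct.prodRight A A K M N).toLinearMap := by
    apply TensorProduct.ext'
    intro k m
    simp
  have h3 : Function.Injective ((TensorProduct.prodRight A A K' M N).toLinearMap ∘ₗ
      (i.rTensor (M × N))) := by
    rw [hc]
    exact (Function.Injective.prodMap h1 h2).comp (TensorProduct.prodRight A A K M N).injective
  exact Function.Injective.of_comp h3

variable {P M : Type u} [AddCommGroup P] [Module A P] [Module.Projective A P]
  [AddCommGroup M] [Module A M] [Module.Flat A M]

/-- a map from a projective module to a flat module which is injective modulo every maximal ideal is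
universally injective -/
theorem lTensor_injective_of_projective (v : P →ₗ[A] M)
    (hv : ∀ (m : Ideal A) [m.IsMaximal], Function.Injective (v.lTensor (A ⧸ m)))
    (Q : Type u) [AddCommGroup Q] [Module A Q] : Function.Injective (v.lTensor Q) := by
  obtain ⟨s, hs⟩ := (Module.projective_def' (R := A) (P := P)).1 inferInstance
  set π : (P →₀ A) →ₗ[A] P := Finsupp.linearCombination A id with hπ
  have hπs : ∀ p, π (s p) = p := fun p => LinearMap.congr_fun hs p
  let v' : (P →₀ A) →ₗ[A] M × (P →₀ A) := (v ∘ₗ π).prod (LinearMap.id - s ∘ₗ π)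
  have hv' : ∀ (m : Ideal A) [m.IsMaximal], Function.Injective (v'.lTensor (A ⧸ m)) := by
    intro m _
    rw [injective_iff_map_eq_zero]
    intro ζ hζ
    have h1 : ((LinearMap.fst A M (P →₀ A)) ∘ₗ v').lTensor (A ⧸ m) ζ = 0 := by
      rw [LinearMap.lTensor_comp, LinearMap.comp_apply, hζ, map_zero]
    have h2 : ((LinearMap.snd A M (P →₀ A)) ∘ₗ v').lTensor (A ⧸ m) ζ = 0 := by
      rw [LinearMap.lTensor_comp, LinearMap.comp_apply, hζ, map_zero]
    have e1 : (LinearMap.fst A M (P →₀ A)) ∘ₗ v' = v ∘ₗ π := LinearMap.fst_prod _ _
    have e2 : (LinearMap.snd A M (P →₀ A)) ∘ₗ v' = LinearMap.id - s ∘ₗ π :=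
      LinearMap.snd_prod _ _
    rw [e1, LinearMap.lTensor_comp, LinearMap.comp_apply] at h1
    have h3 : π.lTensor (A ⧸ m) ζ = 0 := (injective_iff_map_eq_zero _).1 (hv m) _ h1
    rw [e2, LinearMap.lTensor_sub, LinearMap.sub_apply, LinearMap.lTensor_id, LinearMap.id_apply,
      LinearMap.lTensor_comp, LinearMap.comp_apply, h3, map_zero, sub_zero] at h2
    exact h2
  haveI : Module.Flat A (M × (P →₀ A)) := flat_prod M (P →₀ A)
  have hfree := lTensor_injective_of_free v' hv' Q
  rw [injective_iff_map_eq_zero]
  intro z hz
  have e3 : v' ∘ₗ s = LinearMap.inl A M (P →₀ A) ∘ₗ v := by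
    ext p
    · simp [v', hπs]
    · simp [v', hπs]
  have h4 : v'.lTensor Q (s.lTensor Q z) = 0 := by
    rw [← LinearMap.comp_apply, ← LinearMap.lTensor_comp, e3, LinearMap.lTensor_comp,
      LinearMap.comp_apply, hz, map_zero]
  have h5 : s.lTensor Q z = 0 := (injective_iff_map_eq_zero _).1 hfree _ h4
  have h6 : π.lTensor Q (s.lTensor Q z) = z := by
    rw [← LinearMap.comp_apply, ← LinearMap.lTensor_comp, hs, LinearMap.lTensor_id,
      LinearMap.id_apply]
  rw [← h6, h5, map_zero]

end Projective

end Groth.Agent.Lib.helper13.PureSp
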