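import Mathlib
import Groth.Agent.Lib.Helper13.PureSp1

/-!
# helper13: content ideals and universal injectivity for a module which is a directed union of
pure projective submodules
-/

set_option autoImplicit false
universe u
open TensorProduct

namespace Groth.Agent.Lib.helper13.PureSp

variable {A : Type u} [CommRing A]

section Quot

variable {N : Type u} [AddCommGroup N] [Module A N]

lemma one_tmul_eq_zero_iff (J : Ideal A) (x : N) :
    (1 : A ⧸ J) ⊗ₜ[A] x = 0 ↔ x ∈ J • (⊤ : Submodule A N) := by
  rw [← (TensorProduct.quotTensorEquivQuotSMul N J).map_eq_zero_iff,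
    TensorProduct.quotTensorEquivQuotSMul_mk_one_tmul, Submodule.Quotient.mk_eq_zero]

end Quot

section Content

variable {P : Type u} [AddCommGroup P] [Module A P] [Module.Projective A P]

/-- elements of a projective module have content ideals -/
lemma exists_content_of_projective (p : P) : ∃ I : Ideal A, p ∈ I • (⊤ : Submodule A P) ∧
    ∀ J : Ideal A, p ∈ J • (⊤ : Submodule A P) → I ≤ J := by
  obtain ⟨s, hs⟩ := (Module.projective_def' (R := A) (P := P)).1 inferInstance
  have hπs : ∀ p, Finsupp.linearCombination A id (s p) = p := fun p => LinearMap.congr_fun hs p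
  refine ⟨Ideal.span (Set.range (s p)), ?_, ?_⟩
  · have hp : Finsupp.linearCombination A id (s p) ∈
        Ideal.span (Set.range (s p)) • (⊤ : Submodule A P) := by
      rw [Finsupp.linearCombination_apply, Finsupp.sum]
      refine Submodule.sum_mem _ (fun x _ => ?_)
      exact Submodule.smul_mem_smul (Ideal.subset_span ⟨x, rfl⟩) Submodule.mem_top
    rwa [hπs p] at hp
  · intro J hJ
    rw [Ideal.span_le]
    rintro _ ⟨x, rfl⟩
    have : ∀ y ∈ J • (⊤ : Submodule A P), (s y) x ∈ J := by
      intro y hy
      refine Submodule.smul_induction_on hy ?_ ?_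
      · intro r hr n _
        rw [map_smul, Finsupp.smul_apply, smul_eq_mul]
        exact J.mul_mem_right _ hr
      · intro y₁ y₂ h₁ h₂
        rw [map_add, Finsupp.add_apply]
        exact J.add_mem h₁ h₂
    exact this p hJ

end Content

section Directed

variable {N' N : Type u} [AddCommGroup N'] [Module A N'] [Module.Projective A N']
  [AddCommGroup N] [Module A N] {T : Type*} (gt : T → N' →ₗ[A] N)
  (hpure : ∀ t (Q : Type u) [AddCommGroup Q] [Module A Q], Function.Injective ((gt t).lTensor Q))
  (hcover : ∀ x : N, ∃ (t : T) (n' : N'), x = gt t n')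

include hpure hcover in
/-- content ideals exist in a union of pure projective submodules -/
theorem exists_content_of_cover (x : N) : ∃ I : Ideal A, x ∈ I • (⊤ : Submodule A N) ∧
    ∀ J : Ideal A, x ∈ J • (⊤ : Submodule A N) → I ≤ J := by
  obtain ⟨t, n', rfl⟩ := hcover x
  obtain ⟨I, hI1, hI2⟩ := exists_content_of_projective (A := A) n'
  refine ⟨I, ?_, ?_⟩
  · have : (I • (⊤ : Submodule A N')).map (gt t) ≤ I • (⊤ : Submodule A N) := by
      rw [Submodule.map_smul'']
      exact Submodule.smul_mono le_rfl le_top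
    exact this ⟨n', hI1, rfl⟩
  · intro J hJ
    apply hI2
    rw [← one_tmul_eq_zero_iff] at hJ ⊢
    apply hpure t (A ⧸ J)
    rw [map_zero, LinearMap.lTensor_tmul]
    exact hJ

variable (hdir : ∀ t₁ t₂ : T, ∃ (t : T) (μ₁ μ₂ : N' →ₗ[A] N'),
    gt t₁ = gt t ∘ₗ μ₁ ∧ gt t₂ = gt t ∘ₗ μ₂)

include hcover hdir in
lemma exists_lift_tensor [Nonempty T] (Q : Type u) [AddCommGroup Q] [Module A Q] (z : Q ⊗[A] N) :
    ∃ (t : T) (z' : Q ⊗[A] N'), z = (gt t).lTensor Q z' := by
  induction z using TensorProduct.induction_on with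
  | zero => exact ⟨Classical.arbitrary T, 0, by simp⟩
  | tmul q x =>
    obtain ⟨t, n', rfl⟩ := hcover x
    exact ⟨t, q ⊗ₜ n', by simp⟩
  | add z₁ z₂ h₁ h₂ =>
    obtain ⟨t₁, z₁', rfl⟩ := h₁
    obtain ⟨t₂, z₂', rfl⟩ := h₂
    obtain ⟨t, μ₁, μ₂, e₁, e₂⟩ := hdir t₁ t₂
    refine ⟨t, μ₁.lTensor Q z₁' + μ₂.lTensor Q z₂', ?_⟩
    rw [map_add, ← LinearMap.comp_apply, ← LinearMap.comp_apply, ← LinearMap.lTensor_comp,
      ← LinearMap.lTensor_comp, ← e₁, ← e₂]

variable {M : Type u} [AddCommGroup M] [Module A M] [Module.Flat A M]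

include hpure hcover hdir in
/-- a map from a directed union of pure projective submodules to a flat module which is injective
modulo every maximal ideal is universally injective -/
theorem lTensor_injective_of_cover [Nonempty T] (u : N →ₗ[A] M)
    (hu : ∀ (m : Ideal A) [m.IsMaximal], Function.Injective (u.lTensor (A ⧸ m)))
    (Q : Type u) [AddCommGroup Q] [Module A Q] : Function.Injective (u.lTensor Q) := by
  rw [injective_iff_map_eq_zero]
  intro z hz
  obtain ⟨t, z', rfl⟩ := exists_lift_tensor gt hcover hdir Q z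
  have h1 : Function.Injective ((u ∘ₗ gt t).lTensor Q) := by
    refine lTensor_injective_of_projective _ (fun m _ => ?_) Q
    rw [LinearMap.lTensor_comp, LinearMap.coe_comp]
    exact (hu m).comp (hpure t (A ⧸ m))
  have h2 : (u ∘ₗ gt t).lTensor Q z' = 0 := by
    rw [LinearMap.lTensor_comp, LinearMap.comp_apply, hz]
  rw [(injective_iff_map_eq_zero _).1 h1 z' h2, map_zero]

end Directed

end Groth.Agent.Lib.helper13.PureSp
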