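import Mathlib
import Groth.Prelude
import Groth.Agent.Lib.Helper13.PureSp2

/-!
# helper13: modules with a pure spreadout: content ideals and universal injectivity (S1293)
-/

set_option autoImplicit false
universe u
open TensorProduct

namespace Groth.Agent.Lib.helper13.PureSp

variable {A B : Type u} [CommRing A] [CommRing B] [Algebra A B] (T : Submonoid B)
  (N : Type u) [AddCommGroup N] [Module (Localization T) N] [Module A N]
  [IsScalarTower A (Localization T) N]

section Data

variable {T N}
variable {C : Type u} [CommRing C] [Algebra B C] [Algebra C (Localization T)]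
  [IsScalarTower B C (Localization T)] [Module C N] [IsScalarTower C (Localization T) N]
  {N' : Type u} [AddCommGroup N'] [Module C N'] (g : N' →ₗ[C] N)

lemma mk_mul_algebraMap (t s : T) :
    Localization.mk (1 : B) (t * s) * algebraMap B (Localization T) s = Localization.mk 1 t := by
  rw [← Localization.mk_one_eq_algebraMap, Localization.mk_mul, Localization.mk_eq_mk_iff,
    Localization.r_iff_exists]
  refine ⟨1, ?_⟩
  simp only [OneMemClass.coe_one, one_mul, mul_one, Submonoid.coe_mul]

lemma map_algebraMap_smul (b : B) (n' : N') :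
    g (algebraMap B C b • n') = algebraMap B (Localization T) b • g n' := by
  rw [g.map_smul, IsScalarTower.algebraMap_apply B C (Localization T)]
  exact (algebraMap_smul (Localization T) (algebraMap B C b) (g n')).symm

lemma key1 (t s : T) (n' : N') :
    Localization.mk (1 : B) (t * s) • g (algebraMap B C (s : B) • n') =
      Localization.mk (1 : B) t • g n' := by
  rw [map_algebraMap_smul (T := T) g, smul_smul, mk_mul_algebraMap]

lemma key2 (t s : T) (n' : N') :
    Localization.mk (1 : B) (t * s) • g (algebraMap B C (t : B) • n') =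
      Localization.mk (1 : B) s • g n' := by
  rw [mul_comm t s]
  exact key1 g s t n'

/-- every element of the base change is of the form `t⁻¹ • g n'` -/
lemma exists_eq_mk_smul (hbc : IsBaseChange (Localization T) g) (x : N) :
    ∃ (t : T) (n' : N'), x = Localization.mk (1 : B) t • g n' := by
  refine hbc.inductionOn x (fun x => ∃ (t : T) (n' : N'), x = Localization.mk (1 : B) t • g n')
    ⟨1, 0, by simp⟩ (fun m => ⟨1, m, by rw [Localization.mk_one, one_smul]⟩) ?_ ?_
  · rintro ℓ _ ⟨t, n', rfl⟩
    induction ℓ using Localization.induction_on with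
    | H y =>
      obtain ⟨b, t₁⟩ := y
      refine ⟨t₁ * t, algebraMap B C b • n', ?_⟩
      rw [map_algebraMap_smul (T := T) g, smul_smul, smul_smul, Localization.mk_mul,
        ← Localization.mk_one_eq_algebraMap, Localization.mk_mul]
      simp
  · rintro _ _ ⟨t₁, n₁, rfl⟩ ⟨t₂, n₂, rfl⟩
    refine ⟨t₁ * t₂, algebraMap B C (t₂ : B) • n₁ + algebraMap B C (t₁ : B) • n₂, ?_⟩
    rw [map_add, smul_add, key1, key2]

end Data

/-- **S1293** -/
theorem content_and_univInj_of_hasPureSpreadout (h : FlatCA.HasPureSpreadout A B T N) :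
    (∀ x : N, ∃ I : Ideal A, x ∈ I • (⊤ : Submodule A N) ∧
      ∀ J : Ideal A, x ∈ J • (⊤ : Submodule A N) → I ≤ J) ∧
    ∀ (M : Type u) [AddCommGroup M] [Module A M] [Module.Flat A M] (u : N →ₗ[A] M),
      (∀ (m : Ideal A) [m.IsMaximal], Function.Injective (u.lTensor (A ⧸ m))) →
        FlatCA.UnivInj A u := by
  obtain ⟨C, _, _, _, _, _, _, _, _, _, _, N', _, _, _, _, g, -, -, hbc, hproj, hpure⟩ := h
  let σ : T → N →ₗ[A] N := fun t =>
    (LinearMap.lsmul (Localization T) N (Localization.mk (1 : B) t)).restrictScalars A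
  let τ : T → N →ₗ[A] N := fun t =>
    (LinearMap.lsmul (Localization T) N (algebraMap B (Localization T) (t : B))).restrictScalars A
  have hτσ : ∀ t, τ t ∘ₗ σ t = LinearMap.id := by
    intro t
    ext x
    simp only [σ, τ, LinearMap.comp_apply, LinearMap.restrictScalars_apply, LinearMap.lsmul_apply,
      LinearMap.id_apply, smul_smul]
    rw [mul_comm]
    have := mk_mul_algebraMap (T := T) 1 t
    rw [one_mul, Localization.mk_one] at this
    rw [this, one_smul]
  let gt : T → N' →ₗ[A] N := fun t => σ t ∘ₗ g.restrictScalars A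
  have hgt : ∀ t n', gt t n' = Localization.mk (1 : B) t • g n' := fun t n' => rfl
  have hp : ∀ t (Q : Type u) [AddCommGroup Q] [Module A Q],
      Function.Injective ((gt t).lTensor Q) := by
    intro t Q _ _
    rw [LinearMap.lTensor_comp, LinearMap.coe_comp]
    refine Function.Injective.comp ?_ (hpure Q)
    have : Function.LeftInverse ((τ t).lTensor Q) ((σ t).lTensor Q) := by
      intro z
      rw [← LinearMap.comp_apply, ← LinearMap.lTensor_comp, hτσ, LinearMap.lTensor_id,
        LinearMap.id_apply]
    exact this.injective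
  have hcover : ∀ x : N, ∃ (t : T) (n' : N'), x = gt t n' := fun x =>
    exists_eq_mk_smul g hbc x
  let μ : T → N' →ₗ[A] N' := fun t =>
    (LinearMap.lsmul C N' (algebraMap B C (t : B))).restrictScalars A
  have hdir : ∀ t₁ t₂ : T, ∃ (t : T) (μ₁ μ₂ : N' →ₗ[A] N'),
      gt t₁ = gt t ∘ₗ μ₁ ∧ gt t₂ = gt t ∘ₗ μ₂ := by
    intro t₁ t₂
    refine ⟨t₁ * t₂, μ t₂, μ t₁, ?_, ?_⟩
    · ext n'
      exact (key1 g t₁ t₂ n').symm
    · ext n'
      exact (key2 g t₁ t₂ n').symm
  haveI : Nonempty T := ⟨1⟩
  refine ⟨fun x => exists_content_of_cover gt hp hcover x, ?_⟩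
  intro M _ _ _ u hu Q _ _
  exact lTensor_injective_of_cover gt hp hcover hdir u hu Q

end Groth.Agent.Lib.helper13.PureSp
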