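import Mathlib
import Groth.Agent.Lib.Helper13.PushPerf1
import Groth.Agent.Lib.Helper13.PerfSpread2
import Groth.Agent.Lib.Helper25.ExtendPCMain
import Groth.Agent.Lib.Helper25.TildePC

/-!
# helper13: `f_* O_X` perfect for `f` affine, `X → S` flat, `Y → S` smooth, `f_* O_X` pseudo-coherent

* `nonempty_restrictD_push_iso`: `(i_* O_Z)|_{Spec Γ(U)} ≅ (Γ(i⁻¹U) as a Γ(U)-module)~` in `D`, for `U` affine.
* `npc_of_isPseudoCoherentD_push`: pseudo-coherence of `i_* O_Z` in `D(O_X)` gives pseudo-coherence of the modules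
  `Γ(Z, i⁻¹ U)` over `Γ(X, U)`.
* `isPerfect_push_of_flat_of_smooth` (S7872).
-/

set_option autoImplicit false
universe u
open CategoryTheory CategoryTheory.Limits AlgebraicGeometry TopologicalSpace Opposite
open Scheme.Modules

attribute [local instance] HasDerivedCategory.standard

namespace Groth.Agent.Lib.helper13.PushPerf

open Groth.Agent.Lib.helper3.PerfHomLoc Groth.Agent.Lib.helper3.PCHomLoc
open Groth.Agent.Lib.helper23.PCohCore Groth.Agent.Lib.helper23.DRingPC Groth.Agent.Lib.helper23.TA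
open Groth.Agent.Lib.helper13.PerfSpread Groth.Agent.Lib.helper13.TDSm
open DerivedCategory

section Iso

variable {Z X : Scheme.{u}} (i : Z ⟶ X)

/-- `(i_* O_Z)` restricted to `Spec Γ(U)` is the tilde of `Γ(i⁻¹ U)`, in degree `0` of the derived category -/
lemma nonempty_restrictD_push_iso (U : X.Opens) [IsAffine (U : Scheme.{u})]
    [IsAffine ((i ⁻¹ᵁ U : Z.Opens) : Scheme.{u})] :
    Nonempty ((DCoh.restrictD ((U : Scheme.{u}).isoSpec.inv ≫ U.ι)).obj
        (DCoh.inD X ((pushforward i).obj (Coh.structureModule Z))) ≅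
      DCoh.inD (Spec (CommRingCat.of ↑Γ((U : Scheme.{u}), ⊤)))
        ((tilde.functor (CommRingCat.of ↑Γ((U : Scheme.{u}), ⊤))).obj (Sf (i ∣_ U).appTop.hom))) := by
  obtain ⟨θ⟩ := Groth.Agent.Lib.helper25.DCohPerfect.nonempty_restrictD_comp_iso
    (U : Scheme.{u}).isoSpec.inv U.ι (DCoh.inD X ((pushforward i).obj (Coh.structureModule Z)))
  have hsq : ((i ⁻¹ᵁ U : Z.Opens) : Scheme.{u}).isoSpec.inv ≫ (i ∣_ U) =
      Spec.map (i ∣_ U).appTop ≫ (U : Scheme.{u}).isoSpec.inv :=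
    (Scheme.isoSpec_inv_naturality (i ∣_ U)).symm
  refine ⟨θ ≪≫ (DCoh.restrictD (U : Scheme.{u}).isoSpec.inv).mapIso
      (((restrictFunctor U.ι).mapDerivedCategorySingleFunctor 0).app _ ≪≫
        (DerivedCategory.singleFunctor _ 0).mapIso
          (Groth.Agent.Lib.helper11.PullUnit.restrictPushforwardIso i U (Coh.structureModule Z) ≪≫
            (pushforward (i ∣_ U)).mapIso (restrictUnitIso (i ⁻¹ᵁ U).ι))) ≪≫
    ((restrictFunctor (U : Scheme.{u}).isoSpec.inv).mapDerivedCategorySingleFunctor 0).app _ ≪≫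
    (DerivedCategory.singleFunctor _ 0).mapIso
      ((Groth.Agent.Lib.Helper25.IsoBC.bcIso ((i ⁻¹ᵁ U : Z.Opens) : Scheme.{u}).isoSpec.inv
          (U : Scheme.{u}).isoSpec.inv (i ∣_ U) (Spec.map (i ∣_ U).appTop) hsq).app
            (Coh.structureModule _) ≪≫
        (pushforward (Spec.map (i ∣_ U).appTop)).mapIso
          (restrictUnitIso ((i ⁻¹ᵁ U : Z.Opens) : Scheme.{u}).isoSpec.inv) ≪≫
        (Groth.Agent.Lib.Helper25.TildePush.tildePushIso (CommRingCat.ofHom (i ∣_ U).appTop.hom)).app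
          (ModuleCat.of _ _))⟩

lemma npc_appLE_congr {U U₁ : X.Opens} {V V₁ : Z.Opens} (hU : U₁ = U) (hV : V₁ = V)
    (e : V ≤ i ⁻¹ᵁ U) (e₁ : V₁ ≤ i ⁻¹ᵁ U₁) (m : ℤ)
    (h : NPC (FF ↑Γ(X, U₁)) m
      ((DerivedCategory.singleFunctor (ModuleCat.{u} ↑Γ(X, U₁)) 0).obj
        (Sf (i.appLE U₁ V₁ e₁).hom))) :
    NPC (FF ↑Γ(X, U)) m
      ((DerivedCategory.singleFunctor (ModuleCat.{u} ↑Γ(X, U)) 0).obj (Sf (i.appLE U V e).hom)) := by
  subst hU
  subst hV
  exact h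

/-- pseudo-coherence of `i_* O_Z` gives pseudo-coherence of `Γ(Z, i⁻¹ U)` over `Γ(X, U)` -/
theorem npc_of_isPseudoCoherentD_push [IsAffineHom i]
    (hpc : ∀ m : ℤ, DCoh.IsPseudoCoherentD m
      (DCoh.inD X ((pushforward i).obj (Coh.structureModule Z))))
    (U : X.Opens) (hU : IsAffineOpen U) (m : ℤ) :
    NPC (FF ↑Γ(X, U)) m
      ((DerivedCategory.singleFunctor (ModuleCat.{u} ↑Γ(X, U)) 0).obj (Sf (i.app U).hom)) := by
  haveI : IsAffine (U : Scheme.{u}) := hU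
  haveI : IsAffine ((i ⁻¹ᵁ U : Z.Opens) : Scheme.{u}) := hU.preimage i
  haveI := Groth.Agent.S9498.preservesFiniteLimits_tilde (CommRingCat.of ↑Γ((U : Scheme.{u}), ⊤))
  haveI := Groth.Agent.S9498.preservesFiniteColimits_tilde (CommRingCat.of ↑Γ((U : Scheme.{u}), ⊤))
  obtain ⟨θ⟩ := nonempty_restrictD_push_iso i U
  have h1 := Groth.Agent.Lib.Helper25.ExtendPCMain.isPseudoCoherentD_restrictD_of_isOpenImmersion
    ((U : Scheme.{u}).isoSpec.inv ≫ U.ι) (hpc m)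
  have h2 : DCoh.IsPseudoCoherentD m ((DCoh.tildeD (CommRingCat.of ↑Γ((U : Scheme.{u}), ⊤))).obj
      ((DerivedCategory.singleFunctor (ModuleCat.{u} ↑Γ((U : Scheme.{u}), ⊤)) 0).obj
        (Sf (i ∣_ U).appTop.hom))) :=
    Groth.Agent.Lib.helper25.DCohPC3.isPseudoCoherentD_of_iso
      (θ ≪≫ (((tilde.functor (CommRingCat.of ↑Γ((U : Scheme.{u}), ⊤))).mapDerivedCategorySingleFunctor
        0).app _).symm) h1
  have h3 := (isPseudoCoherent_iff_npc _ m _).1
    ((Groth.Agent.Lib.Helper25.TildePC.isPseudoCoherentD_tildeD_iff _ _ m).1 h2)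
  have h0 : (i ∣_ U).appTop = i.appLE (U.ι ''ᵁ ⊤) ((i ⁻¹ᵁ U).ι ''ᵁ ⊤) _ :=
    morphismRestrict_app' i U ⊤
  rw [h0] at h3
  have h4 := npc_appLE_congr i (U := U) (V := i ⁻¹ᵁ U) U.ι_image_top (i ⁻¹ᵁ U).ι_image_top
      le_rfl _ m h3
  rwa [Scheme.Hom.appLE_eq_app] at h4

end Iso

section Main

variable {X Y S : Scheme.{u}}

/-- **S7872** -/
theorem isPerfect_push_of_flat_of_smooth (f : X ⟶ Y) (g : Y ⟶ S)
    [IsAffineHom f] [Smooth g] [Flat (f ≫ g)]
    (hpc : ∀ m : ℤ, DCoh.IsPseudoCoherentD m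
      (DCoh.inD Y ((pushforward f).obj (Coh.structureModule X)))) :
    DCoh.IsPerfect (DCoh.inD Y ((pushforward f).obj (Coh.structureModule X))) := by
  refine isPerfect_push_structureModule f fun y => ?_
  obtain ⟨W, hW, U, hU, hyU, e, hsm⟩ := Smooth.exists_isStandardSmooth g y
  refine ⟨U, hU, hyU, ?_⟩
  have hV : IsAffineOpen (f ⁻¹ᵁ U) := hU.preimage f
  -- the relative dimension
  letI a1 : Algebra Γ(S, W) Γ(Y, U) := (g.appLE W U e).hom.toAlgebra
  have hsm' : Algebra.IsStandardSmooth Γ(S, W) Γ(Y, U) := hsm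
  obtain ⟨ι, σ, hσ, hι, ⟨P⟩⟩ := hsm'.out
  haveI := hσ
  haveI := hι
  haveI : Algebra.IsStandardSmoothOfRelativeDimension P.dimension Γ(S, W) Γ(Y, U) :=
    P.isStandardSmoothOfRelativeDimension rfl
  have htd : TD Γ(S, W) Γ(Y, U) P.dimension := td_of_isStandardSmoothOfRelativeDimension _ _ _
  -- flatness of the composite
  have e' : f ⁻¹ᵁ U ≤ (f ≫ g) ⁻¹ᵁ W := fun x hx => e hx
  have hfl : ((f ≫ g).appLE W (f ⁻¹ᵁ U) e').hom.Flat := Flat.flat_appLE (f ≫ g) hW hV e'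
  have hcomp : ((f ≫ g).appLE W (f ⁻¹ᵁ U) e').hom = (f.app U).hom.comp (g.appLE W U e).hom := by
    rw [← CommRingCat.hom_comp, Scheme.Hom.app_eq_appLE, Scheme.Hom.appLE_comp_appLE]
  rw [hcomp] at hfl
  have h1 : FTDLE ((f.app U).hom.comp (g.appLE W U e).hom) 0 := ftdle_of_flat _ hfl
  have h2 : DRing.HasTorAmplitudeIn Γ(S, W) (-((0 : ℕ) : ℤ)) 0
      ((DerivedCategory.singleFunctor (ModuleCat.{u} Γ(S, W)) 0).obj
        ((ModuleCat.restrictScalars.{u} (g.appLE W U e).hom).obj (Sf (f.app U).hom))) :=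
    hasTorAmplitudeIn_of_iso ((DerivedCategory.singleFunctor _ 0).mapIso
      (restrictCompIso (g.appLE W U e).hom (f.app U).hom (ModuleCat.of _ _)).symm) h1
  have h3 := td_apply (g.appLE W U e).hom htd 0 (Sf (f.app U).hom) h2
  exact isPerfect_of_npc_of_hasTorAmplitudeIn _ _ 0
    (fun m => npc_of_isPseudoCoherentD_push f hpc U hU m) h3

end Main

end Groth.Agent.Lib.helper13.PushPerf
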