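import Groth.Prelude.Def_QuadGrp
import Mathlib
import Groth.Agent.Lib.Helper13.McCoy
import Groth.Agent.Lib.Helper13.HalfDisc

/-!
# Reflections in quadratic modules and the generic reflection (helper13)
-/

set_option autoImplicit false

universe u

namespace Groth.Agent.Lib.helper13.QuadReflect

open QuadraticMap TensorProduct

section General

variable {A : Type*} [CommRing A] {N : Type*} [AddCommGroup N] [Module A N]
  (Qf : QuadraticForm A N)

theorem refl_aux (x : N) (u : A) (hu : u * Qf x = 1) : (u • polarBilin Qf x) x = 2 := by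
  rw [LinearMap.smul_apply, polarBilin_apply_apply, polar_self, smul_eq_mul, two_smul]
  linear_combination 2 * hu

/-- The reflection in a vector `x` with `Q x` invertible (`u` its inverse). -/
noncomputable def refl (x : N) (u : A) (hu : u * Qf x = 1) : N ≃ₗ[A] N :=
  Module.reflection (refl_aux Qf x u hu)

theorem refl_apply (x : N) (u : A) (hu : u * Qf x = 1) (y : N) :
    refl Qf x u hu y = y - (u * polar Qf x y) • x := by
  rw [refl, Module.reflection_apply, LinearMap.smul_apply, polarBilin_apply_apply, smul_eq_mul]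

theorem refl_isometry (x : N) (u : A) (hu : u * Qf x = 1) (y : N) :
    Qf (refl Qf x u hu y) = Qf y := by
  rw [refl_apply, sub_eq_add_neg, ← neg_smul, QuadraticMap.map_add (⇑Qf), QuadraticMap.map_smul,
    polar_smul_right, polar_comm Qf y x, smul_eq_mul, smul_eq_mul]
  linear_combination (u * polar Qf x y ^ 2) * hu

end General


section BaseChange

variable {R : Type u} [CommRing R] {n : ℕ} (Q : QuadraticForm R (Fin n → R))
  (A : Type u) [CommRing A] [Algebra R A]

/-- The vector of `A ⊗ Rⁿ` with coordinates `a`. -/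
noncomputable def vec (a : Fin n → A) : A ⊗[R] (Fin n → R) :=
  ∑ l, a l ⊗ₜ[R] (Pi.single l 1 : Fin n → R)

/-- The quadratic form as a polynomial in the coordinates. -/
noncomputable def qPoly : MvPolynomial (Fin n) R :=
  ∑ l, ∑ k, MvPolynomial.C (QuadGrp.bilinLift Q (Pi.single l 1) (Pi.single k 1)) *
    MvPolynomial.X l * MvPolynomial.X k

theorem bcf_vec (a : Fin n → A) :
    QuadGrp.baseChangeForm A Q (vec A a) = MvPolynomial.aeval a (qPoly Q) := by
  rw [QuadGrp.baseChangeForm, LinearMap.compQuadraticMap_apply, QuadGrp.baseChange,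
    LinearMap.BilinMap.toQuadraticMap_apply, vec]
  simp only [map_sum, LinearMap.sum_apply, LinearMap.BilinMap.baseChange_tmul, qPoly, map_mul,
    MvPolynomial.aeval_C, MvPolynomial.aeval_X]
  rw [Finset.sum_comm]
  refine Finset.sum_congr rfl fun l _ => Finset.sum_congr rfl fun k _ => ?_
  simp [Algebra.smul_def]
  ring

theorem eval_qPoly (v : Fin n → R) : MvPolynomial.eval v (qPoly Q) = Q v := by
  conv_rhs => rw [← QuadGrp.bilinLift_spec Q, LinearMap.BilinMap.toQuadraticMap_apply,
    HalfDisc.eq_sum_single v]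
  simp only [qPoly, map_sum, map_mul, MvPolynomial.eval_C, MvPolynomial.eval_X,
    LinearMap.sum_apply, map_smul, LinearMap.smul_apply, smul_eq_mul, Finset.mul_sum]
  rw [Finset.sum_comm]
  refine Finset.sum_congr rfl fun l _ => Finset.sum_congr rfl fun k _ => ?_
  ring

end BaseChange


section BaseChange2

variable {R : Type u} [CommRing R] {n : ℕ} (Q : QuadraticForm R (Fin n → R))
  (A : Type u) [CommRing A] [Algebra R A]

theorem bcf_tmul (a : A) (x : Fin n → R) :
    QuadGrp.baseChangeForm A Q (a ⊗ₜ[R] x) = (a * a) * algebraMap R A (Q x) := by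
  rw [QuadGrp.baseChangeForm, LinearMap.compQuadraticMap_apply, QuadGrp.baseChange_tmul]
  simp [Algebra.smul_def, mul_comm]

theorem polar_bcf (x y : Fin n → R) :
    polar (QuadGrp.baseChangeForm A Q) ((1 : A) ⊗ₜ[R] x) ((1 : A) ⊗ₜ[R] y) =
      algebraMap R A (polar Q x y) := by
  rw [polar, ← TensorProduct.tmul_add, bcf_tmul, bcf_tmul, bcf_tmul, polar]
  simp

theorem polar_vec_tmul (a : Fin n → A) (w : Fin n → R) :
    polar (QuadGrp.baseChangeForm A Q) (vec A a) ((1 : A) ⊗ₜ[R] w) =
      ∑ l, a l * algebraMap R A (polar Q (Pi.single l 1) w) := by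
  rw [vec]
  change polarBilin _ _ _ = _
  rw [map_sum, LinearMap.sum_apply]
  refine Finset.sum_congr rfl fun l _ => ?_
  rw [show a l ⊗ₜ[R] (Pi.single l 1 : Fin n → R) =
    a l • ((1 : A) ⊗ₜ[R] (Pi.single l 1 : Fin n → R)) by
      rw [TensorProduct.smul_tmul', smul_eq_mul, mul_one]]
  rw [map_smul, LinearMap.smul_apply, polarBilin_apply_apply, polar_bcf, smul_eq_mul]

/-- The `i`-th coordinate functional on `A ⊗ Rⁿ`. -/
noncomputable def coord (i : Fin n) : A ⊗[R] (Fin n → R) →ₗ[A] A :=
  (AlgebraTensorModule.rid R A A).toLinearMap ∘ₗ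
    (LinearMap.baseChange (R := R) A
      (LinearMap.proj (R := R) (φ := fun _ : Fin n => R) i : (Fin n → R) →ₗ[R] R))

theorem coord_tmul (i : Fin n) (a : A) (v : Fin n → R) :
    coord A i (a ⊗ₜ[R] v) = a * algebraMap R A (v i) := by
  simp [coord, Algebra.smul_def, mul_comm]

theorem coord_vec (i : Fin n) (a : Fin n → A) :
    coord (R := R) A i (vec (R := R) A a) = a i := by
  rw [vec, map_sum]
  simp only [coord_tmul, Pi.single_apply]
  rw [Finset.sum_eq_single i]
  · simp
  · intro l _ hne
    rw [if_neg hne.symm, map_zero, mul_zero]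
  · simp

/-- Membership in the points of the orthogonal group through the `A`-valued form. -/
theorem mem_orth_of_bcf (h : (A ⊗[R] (Fin n → R)) ≃ₗ[A] (A ⊗[R] (Fin n → R)))
    (hh : ∀ v, QuadGrp.baseChangeForm A Q (h v) = QuadGrp.baseChangeForm A Q v) :
    h ∈ QuadGrp.orth Q A := by
  intro v
  have := hh v
  rw [QuadGrp.baseChangeForm, LinearMap.compQuadraticMap_apply, LinearMap.compQuadraticMap_apply]
    at this
  exact (AlgebraTensorModule.rid R A A).injective this

end BaseChange2

end Groth.Agent.Lib.helper13.QuadReflect
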