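import Groth.Prelude.Def_QuadGrp
import Mathlib
import Groth.Agent.Lib.Helper13.QuadReflect

/-!
# The functorial centre of the orthogonal group via the generic reflection (helper13)
-/

set_option autoImplicit false

universe u

namespace Groth.Agent.Lib.helper13.QuadCentre

open QuadraticMap TensorProduct MvPolynomial
open Groth.Agent.Lib.helper13 Groth.Agent.Lib.helper13.QuadReflect

variable {R : Type u} [CommRing R] {n : ℕ} (Q : QuadraticForm R (Fin n → R))

/-- The linear form `v ↦ polar Q v w` as a polynomial. -/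
noncomputable def linL (w : Fin n → R) : MvPolynomial (Fin n) R :=
  ∑ l, X l * C (polar Q (Pi.single l 1) w)

theorem eval_linL (v w : Fin n → R) : eval v (linL Q w) = polar Q v w := by
  conv_rhs => rw [HalfDisc.eq_sum_single v]
  change _ = polarBilin Q _ _
  simp only [linL, map_sum, map_mul, eval_X, eval_C, LinearMap.sum_apply, map_smul,
    LinearMap.smul_apply, smul_eq_mul, polarBilin_apply_apply]

/-- The `i`-th coordinate of `g v` as a polynomial in `v`. -/
noncomputable def linY (g : (Fin n → R) →ₗ[R] (Fin n → R)) (i : Fin n) : MvPolynomial (Fin n) R :=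
  ∑ l, X l * C (g (Pi.single l 1) i)

theorem eval_linY (g : (Fin n → R) →ₗ[R] (Fin n → R)) (i : Fin n) (v : Fin n → R) :
    eval v (linY g i) = g v i := by
  conv_rhs => rw [HalfDisc.eq_sum_single v]
  simp only [linY, map_sum, map_mul, eval_X, eval_C, map_smul, Finset.sum_apply, Pi.smul_apply,
    smul_eq_mul]

theorem qPoly_mem_nonZeroDivisors (htop : HalfDisc.polarIdeal Q = ⊤) :
    qPoly Q ∈ nonZeroDivisors (MvPolynomial (Fin n) R) := by
  rw [mem_nonZeroDivisors_iff_right]
  intro a ha
  by_contra hne
  obtain ⟨c, hc, hcF⟩ := McCoy.mccoy_family_fin {qPoly Q} a hne (by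
    intro f hf
    rw [Set.mem_singleton_iff] at hf
    rw [hf, mul_comm]; exact ha)
  apply hc
  apply HalfDisc.eq_zero_of_mul_polar Q htop
  have h1 : ∀ v, c * Q v = 0 := fun v => by
    have := congrArg (eval v) (hcF _ rfl)
    simpa [eval_qPoly, smul_eval] using this
  intro i j
  rw [polar]
  linear_combination h1 (Pi.single i 1 + Pi.single j 1) - h1 (Pi.single i 1) - h1 (Pi.single j 1)


section Generic

/-- The coordinate ring of the open subscheme `Q ≠ 0` of affine space. -/
noncomputable abbrev GenA : Type u := Localization.Away (qPoly Q)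

/-- The generic vector. -/
noncomputable def genX : GenA Q ⊗[R] (Fin n → R) :=
  vec (R := R) (GenA Q) (fun l => algebraMap (MvPolynomial (Fin n) R) (GenA Q) (X l))

theorem bcf_genX : QuadGrp.baseChangeForm (GenA Q) Q (genX Q) =
    algebraMap (MvPolynomial (Fin n) R) (GenA Q) (qPoly Q) := by
  rw [genX, bcf_vec]
  have := MvPolynomial.aeval_algebraMap_apply (R := R) (A := MvPolynomial (Fin n) R)
    (B := GenA Q) (X : Fin n → MvPolynomial (Fin n) R) (qPoly Q)
  rw [aeval_X_left, AlgHom.id_apply] at this
  exact this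

/-- The inverse of the value of the form at the generic vector. -/
noncomputable def genU : GenA Q := IsLocalization.Away.invSelf (qPoly Q)

theorem genU_mul : genU Q * QuadGrp.baseChangeForm (GenA Q) Q (genX Q) = 1 := by
  rw [bcf_genX, mul_comm]
  exact IsLocalization.Away.mul_invSelf (qPoly Q)

/-- The generic reflection. -/
noncomputable def genRefl : (GenA Q ⊗[R] (Fin n → R)) ≃ₗ[GenA Q] (GenA Q ⊗[R] (Fin n → R)) :=
  refl (QuadGrp.baseChangeForm (GenA Q) Q) (genX Q) (genU Q) (genU_mul Q)

theorem genRefl_mem_orth : genRefl Q ∈ QuadGrp.orth Q (GenA Q) :=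
  mem_orth_of_bcf Q (GenA Q) _ (fun v => refl_isometry _ _ _ _ v)

end Generic


section Main

theorem algebraMap_injective (htop : HalfDisc.polarIdeal Q = ⊤) :
    Function.Injective (algebraMap (MvPolynomial (Fin n) R) (GenA Q)) :=
  IsLocalization.injective (GenA Q) (M := Submonoid.powers (qPoly Q))
    ((Submonoid.powers_le).mpr (qPoly_mem_nonZeroDivisors Q htop))

theorem algebraMap_C (r : R) :
    algebraMap (MvPolynomial (Fin n) R) (GenA Q) (C r) = algebraMap R (GenA Q) r := by
  rw [← MvPolynomial.algebraMap_eq, ← IsScalarTower.algebraMap_apply]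

theorem polar_genX (w : Fin n → R) :
    polar (QuadGrp.baseChangeForm (GenA Q) Q) (genX Q) ((1 : GenA Q) ⊗ₜ[R] w) =
      algebraMap (MvPolynomial (Fin n) R) (GenA Q) (linL Q w) := by
  rw [genX, polar_vec_tmul, linL, map_sum]
  refine Finset.sum_congr rfl fun l _ => ?_
  rw [map_mul, algebraMap_C]

theorem coord_baseChange_genX (g : (Fin n → R) ≃ₗ[R] (Fin n → R)) (i : Fin n) :
    coord (R := R) (GenA Q) i (g.baseChange R (GenA Q) (Fin n → R) (Fin n → R) (genX Q)) =
      algebraMap (MvPolynomial (Fin n) R) (GenA Q) (linY g.toLinearMap i) := by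
  rw [genX, vec, map_sum, map_sum, linY, map_sum]
  refine Finset.sum_congr rfl fun l _ => ?_
  rw [LinearEquiv.baseChange_tmul, coord_tmul, map_mul, algebraMap_C]
  rfl

theorem key_identity (g : (Fin n → R) ≃ₗ[R] (Fin n → R))
    (hcomm : g.baseChange R (GenA Q) (Fin n → R) (Fin n → R) * genRefl Q =
      genRefl Q * g.baseChange R (GenA Q) (Fin n → R) (Fin n → R))
    (w : Fin n → R) (i : Fin n) :
    algebraMap (MvPolynomial (Fin n) R) (GenA Q) (linL Q w * linY g.toLinearMap i) =
      algebraMap (MvPolynomial (Fin n) R) (GenA Q) (linL Q (g w) * X i) := by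
  have h := congrArg (fun e => coord (R := R) (GenA Q) i (e ((1 : GenA Q) ⊗ₜ[R] w))) hcomm
  simp only [LinearEquiv.mul_apply, genRefl, refl_apply, map_sub, map_smul,
    LinearEquiv.baseChange_tmul, coord_baseChange_genX, polar_genX, smul_eq_mul] at h
  rw [genX, coord_vec] at h
  have hu : algebraMap (MvPolynomial (Fin n) R) (GenA Q) (qPoly Q) * genU Q = 1 :=
    IsLocalization.Away.mul_invSelf (qPoly Q)
  rw [map_mul, map_mul]
  linear_combination (-(algebraMap (MvPolynomial (Fin n) R) (GenA Q) (qPoly Q))) * h -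
    (algebraMap (MvPolynomial (Fin n) R) (GenA Q) (linL Q w) *
        algebraMap (MvPolynomial (Fin n) R) (GenA Q) (linY g.toLinearMap i) -
      algebraMap (MvPolynomial (Fin n) R) (GenA Q) (linL Q (g w)) *
        algebraMap (MvPolynomial (Fin n) R) (GenA Q) (X i)) * hu

end Main


section Final

theorem coord_rel (htop : HalfDisc.polarIdeal Q = ⊤) (g : (Fin n → R) ≃ₗ[R] (Fin n → R))
    (hcomm : g.baseChange R (GenA Q) (Fin n → R) (Fin n → R) * genRefl Q =
      genRefl Q * g.baseChange R (GenA Q) (Fin n → R) (Fin n → R))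
    (v : Fin n → R) (i j : Fin n) : g v i * v j = g v j * v i := by
  have hk : ∀ (w : Fin n → R) (i : Fin n),
      linL Q w * linY g.toLinearMap i = linL Q (g w) * X i :=
    fun w i => algebraMap_injective Q htop (key_identity Q g hcomm w i)
  have ha0 : linY g.toLinearMap i * X j - linY g.toLinearMap j * X i = 0 := by
    by_contra ha
    obtain ⟨c, hc, hcF⟩ := McCoy.mccoy_family_fin
      (Set.range (fun k : Fin n => linL Q (Pi.single k 1))) _ ha (by
        rintro _ ⟨k, rfl⟩
        linear_combination X j * hk (Pi.single k 1) i - X i * hk (Pi.single k 1) j)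
    apply hc
    apply HalfDisc.eq_zero_of_mul_polar Q htop
    intro l k
    have := congrArg (eval (Pi.single l 1)) (hcF _ ⟨k, rfl⟩)
    simpa [smul_eval, eval_linL] using this
  have := congrArg (eval v) ha0
  simp only [map_sub, map_mul, eval_linY, eval_X, map_zero, LinearEquiv.coe_coe] at this
  linear_combination this

theorem scalar_of_comm_genRefl (hn : 2 ≤ n) (htop : HalfDisc.polarIdeal Q = ⊤)
    (g : (Fin n → R) ≃ₗ[R] (Fin n → R)) (hg : ∀ v, Q (g v) = Q v)
    (hcomm : g.baseChange R (GenA Q) (Fin n → R) (Fin n → R) * genRefl Q =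
      genRefl Q * g.baseChange R (GenA Q) (Fin n → R) (Fin n → R)) :
    ∃ c : R, c * c = 1 ∧ ∀ v, g v = c • v := by
  classical
  have rel := coord_rel Q htop g hcomm
  let e : Fin n → (Fin n → R) := fun k => Pi.single k 1
  let d : Fin n → R := fun k => (g (e k)) k
  have hoff : ∀ i j : Fin n, i ≠ j → (g (e j)) i = 0 := by
    intro i j hij
    have := rel (e j) i j
    simpa [e, hij] using this
  have hdiag : ∀ k, g (e k) = d k • e k := by
    intro k
    ext j
    by_cases hjk : j = k
    · subst hjk; simp [d, e]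
    · rw [hoff j k hjk]; simp [e, hjk]
  have hdeq : ∀ i j : Fin n, d i = d j := by
    intro i j
    by_cases hij : i = j
    · rw [hij]
    · have := rel (e i + e j) i j
      rw [map_add, hdiag, hdiag] at this
      simpa [e, hij, Ne.symm hij] using this
  have h0 : 0 < n := by omega
  set c := d ⟨0, h0⟩ with hc
  have hgc : ∀ v, g v = c • v := by
    intro v
    have hlin : g.toLinearMap = c • LinearMap.id := by
      apply (Pi.basisFun R (Fin n)).ext
      intro k
      simp only [Pi.basisFun_apply, LinearEquiv.coe_coe, LinearMap.smul_apply, LinearMap.id_coe,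
        id_eq]
      rw [show (Pi.single k (1 : R) : Fin n → R) = e k from rfl, hdiag k, hdeq k ⟨0, h0⟩]
    exact LinearMap.congr_fun hlin v
  refine ⟨c, ?_, hgc⟩
  have h1 : ∀ v, (c * c - 1) * Q v = 0 := by
    intro v
    have := hg v
    rw [hgc, QuadraticMap.map_smul, smul_eq_mul] at this
    linear_combination this
  have h2 := HalfDisc.eq_zero_of_mul_polar Q htop (c * c - 1) (by
    intro i j
    rw [polar]
    linear_combination h1 (Pi.single i 1 + Pi.single j 1) - h1 (Pi.single i 1) -
      h1 (Pi.single j 1))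
  linear_combination h2

end Final

end Groth.Agent.Lib.helper13.QuadCentre
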