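import Mathlib

/-!
# Infinitesimal isometries of a quadratic form (helper13)

For a quadratic form `Q` on an `A`-module `N`, a square-zero element `ε : A` and `a b : N`, the map
`v ↦ v + ε • (B(b,v) a − B(a,v) b)` is an isometry of `Q`; the automorphism it induces on the Clifford algebra is
conjugation by the even unit `1 + ε • ι a * ι b`.
-/

set_option autoImplicit false

namespace Groth.Agent.Lib.helper13

open QuadraticMap

section
variable {A : Type*} [CommRing A] {N : Type*} [AddCommGroup N] [Module A N]
  (Q : QuadraticForm A N)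

/-- `v ↦ B(b,v) a − B(a,v) b`. -/
noncomputable def infX (a b : N) : N →ₗ[A] N :=
  (polarBilin Q b).smulRight a - (polarBilin Q a).smulRight b

theorem infX_apply (a b v : N) :
    infX Q a b v = polar Q b v • a - polar Q a v • b := by
  simp [infX]

theorem polar_infX (a b v : N) : polar Q v (infX Q a b v) = 0 := by
  rw [infX_apply, polar_sub_right, polar_smul_right, polar_smul_right, polar_comm Q v a,
    polar_comm Q v b, smul_eq_mul, smul_eq_mul]
  ring

/-- The infinitesimal isometry `1 + ε X_{a,b}` as a linear equivalence. -/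
noncomputable def infIso (ε : A) (hε : ε * ε = 0) (a b : N) : N ≃ₗ[A] N :=
  LinearEquiv.ofLinearMap (LinearMap.id + ε • infX Q a b) (LinearMap.id - ε • infX Q a b)
    (by
      ext v
      simp only [LinearMap.coe_comp, Function.comp_apply, LinearMap.sub_apply, LinearMap.id_coe,
        id_eq, LinearMap.smul_apply, LinearMap.add_apply, map_sub, map_smul]
      rw [smul_add, smul_smul, hε, zero_smul]
      abel)
    (by
      ext v
      simp only [LinearMap.coe_comp, Function.comp_apply, LinearMap.sub_apply, LinearMap.id_coe,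
        id_eq, LinearMap.smul_apply, LinearMap.add_apply, map_add, map_smul]
      rw [smul_sub, smul_smul, hε, zero_smul]
      abel)

theorem infIso_apply (ε : A) (hε : ε * ε = 0) (a b v : N) :
    infIso Q ε hε a b v = v + ε • infX Q a b v := rfl

theorem infIso_isometry (ε : A) (hε : ε * ε = 0) (a b v : N) :
    Q (infIso Q ε hε a b v) = Q v := by
  rw [infIso_apply, QuadraticMap.map_add Q v, QuadraticMap.map_smul, polar_smul_right, polar_infX,
    hε]
  simp

end

section Clifford
open CliffordAlgebra
variable {A : Type*} [CommRing A] {N : Type*} [AddCommGroup N] [Module A N]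
  (Q : QuadraticForm A N)

theorem ι_infX (a b v : N) :
    ι Q (infX Q a b v) = ι Q a * ι Q b * ι Q v - ι Q v * (ι Q a * ι Q b) := by
  rw [infX_apply, map_sub, map_smul, map_smul]
  have h1 : ι Q b * ι Q v = algebraMap A _ (polar Q b v) - ι Q v * ι Q b := by
    rw [← ι_mul_ι_add_swap]; abel
  have h2 : ι Q a * ι Q v = algebraMap A _ (polar Q a v) - ι Q v * ι Q a := by
    rw [← ι_mul_ι_add_swap]; abel
  rw [mul_assoc (ι Q a), h1, mul_sub, ← mul_assoc (ι Q a) (ι Q v), h2, sub_mul,
    Algebra.smul_def, Algebra.smul_def, ← Algebra.commutes (polar Q b v) (ι Q a)]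
  simp only [mul_assoc]
  abel

/-- The even unit `1 + ε • ι a * ι b`. -/
noncomputable def infU (ε : A) (a b : N) : CliffordAlgebra Q := 1 + ε • (ι Q a * ι Q b)

theorem infU_mem_even (ε : A) (a b : N) : infU Q ε a b ∈ evenOdd Q 0 :=
  Submodule.add_mem _ (SetLike.one_mem_graded _)
    (Submodule.smul_mem _ _ (ι_mul_ι_mem_evenOdd_zero Q a b))

theorem infU_mul_inv (ε : A) (hε : ε * ε = 0) (a b : N) :
    infU Q ε a b * (1 - ε • (ι Q a * ι Q b)) = 1 := by
  rw [infU]
  have : (ε • (ι Q a * ι Q b)) * (ε • (ι Q a * ι Q b)) = 0 := by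
    rw [smul_mul_smul_comm, hε, zero_smul]
  generalize ε • (ι Q a * ι Q b) = x at this
  rw [add_mul, mul_sub, mul_sub, one_mul, one_mul, mul_one, this]
  abel

/-- The isometry `infIso` as a bundled isometry. -/
noncomputable def infIsometry (ε : A) (hε : ε * ε = 0) (a b : N) : Q →qᵢ Q :=
  { (infIso Q ε hε a b).toLinearMap with map_app' := infIso_isometry Q ε hε a b }

theorem map_infIsometry_mul (ε : A) (hε : ε * ε = 0) (a b : N) (z : CliffordAlgebra Q) :
    CliffordAlgebra.map (infIsometry Q ε hε a b) z * infU Q ε a b = infU Q ε a b * z := by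
  induction z using CliffordAlgebra.induction with
  | algebraMap r =>
    rw [AlgHom.commutes, Algebra.commutes]
  | ι v =>
    rw [map_apply_ι]
    show ι Q (infIso Q ε hε a b v) * infU Q ε a b = infU Q ε a b * ι Q v
    rw [infIso_apply, map_add, map_smul, ι_infX, infU]
    have h0 : ∀ x y : CliffordAlgebra Q, (ε • x) * (ε • y) = 0 := by
      intro x y
      rw [smul_mul_smul_comm, hε, zero_smul]
    rw [add_mul, mul_add, mul_add, h0, mul_one, mul_one, add_mul, one_mul, add_zero]
    rw [mul_smul_comm, smul_mul_assoc, smul_sub]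
    abel
  | mul z₁ z₂ h₁ h₂ =>
    rw [map_mul, mul_assoc, h₂, ← mul_assoc, h₁, mul_assoc]
  | add z₁ z₂ h₁ h₂ =>
    rw [map_add, add_mul, mul_add, h₁, h₂]

/-- The induced Clifford automorphism fixes everything that commutes with the even unit `infU`. -/
theorem map_infIsometry_eq_self (ε : A) (hε : ε * ε = 0) (a b : N) (z : CliffordAlgebra Q)
    (hz : infU Q ε a b * z = z * infU Q ε a b) :
    CliffordAlgebra.map (infIsometry Q ε hε a b) z = z := by
  have h := map_infIsometry_mul Q ε hε a b z
  rw [hz] at h
  have := congrArg (· * (1 - ε • (ι Q a * ι Q b))) h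
  simpa only [mul_assoc, infU_mul_inv Q ε hε a b, mul_one] using this

end Clifford

end Groth.Agent.Lib.helper13
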