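import Groth.Prelude.Def_QuadGrp
import Mathlib
import Groth.Agent.Lib.Helper13.QuadReflect
import Groth.Agent.Lib.Helper13.QuadInfinitesimal

/-!
# Determinants of reflections and of infinitesimal isometries (helper13)
-/

set_option autoImplicit false

universe u

namespace Groth.Agent.Lib.helper13.QuadDet

open QuadraticMap TensorProduct
open Groth.Agent.Lib.helper13 Groth.Agent.Lib.helper13.QuadReflect

section RankOne

variable {A : Type*} [CommRing A] {N : Type*} [AddCommGroup N] [Module A N]
  {ι : Type*} [Fintype ι] [DecidableEq ι]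

/-- The determinant of a rank-one perturbation of the identity. -/
theorem det_id_add_smulRight (b : Module.Basis ι A N) (f : N →ₗ[A] A) (x : N) :
    LinearMap.det (LinearMap.id + f.smulRight x) = 1 + f x := by
  rw [← LinearMap.det_toMatrix b]
  have hM : LinearMap.toMatrix b b (LinearMap.id + f.smulRight x) =
      1 + Matrix.replicateCol Unit (b.repr x) * Matrix.replicateRow Unit (fun j => f (b j)) := by
    ext i j
    simp [LinearMap.toMatrix_apply, Matrix.one_apply, Finsupp.single_apply, mul_comm, eq_comm,
      Matrix.mul_apply]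
  rw [hM, Matrix.det_one_add_replicateCol_mul_replicateRow]
  congr 1
  calc (fun j => f (b j)) ⬝ᵥ (b.repr x) = ∑ j, f ((b.repr x j) • b j) := by
        simp [dotProduct, mul_comm]
    _ = f (∑ j, b.repr x j • b j) := (map_sum f _ _).symm
    _ = f x := by rw [b.sum_repr]

theorem det_neg_of_basis (b : Module.Basis ι A N) (φ : N →ₗ[A] N) :
    LinearMap.det (-φ) = (-1) ^ Fintype.card ι * LinearMap.det φ := by
  rw [← LinearMap.det_toMatrix b, map_neg, Matrix.det_neg, LinearMap.det_toMatrix]

variable (Qf : QuadraticForm A N)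

theorem det_refl (b : Module.Basis ι A N) (x : N) (u : A) (hu : u * Qf x = 1) :
    LinearMap.det ((refl Qf x u hu : N ≃ₗ[A] N) : N →ₗ[A] N) = -1 := by
  have h1 : ((refl Qf x u hu : N ≃ₗ[A] N) : N →ₗ[A] N) =
      LinearMap.id + (-(u • polarBilin Qf x)).smulRight x := by
    ext y
    simp only [LinearEquiv.coe_coe, refl_apply, LinearMap.add_apply, LinearMap.id_coe, id_eq,
      LinearMap.smulRight_apply, LinearMap.neg_apply, LinearMap.smul_apply,
      polarBilin_apply_apply, smul_eq_mul, neg_smul]
    abel
  rw [h1, det_id_add_smulRight b, LinearMap.neg_apply, refl_aux Qf x u hu]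
  norm_num

theorem det_infIso (b : Module.Basis ι A N) (ε : A) (hε : ε * ε = 0) (a c : N) :
    LinearMap.det ((infIso Qf ε hε a c : N ≃ₗ[A] N) : N →ₗ[A] N) = 1 := by
  have h1 : ((infIso Qf ε hε a c : N ≃ₗ[A] N) : N →ₗ[A] N) =
      (LinearMap.id + (ε • polarBilin Qf c).smulRight a) ∘ₗ
        (LinearMap.id + (-(ε • polarBilin Qf a)).smulRight c) := by
    ext v
    simp only [LinearEquiv.coe_coe, infIso_apply, infX_apply, LinearMap.comp_apply,
      LinearMap.add_apply, LinearMap.id_coe, id_eq, LinearMap.smulRight_apply,
      LinearMap.neg_apply, LinearMap.smul_apply, polarBilin_apply_apply, smul_eq_mul, neg_smul,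
      polar_add_right, polar_neg_right, polar_smul_right]
    have : ε * (polar Qf c v + -(ε * polar Qf a v * polar Qf c c)) = ε * polar Qf c v := by
      linear_combination (-(polar Qf a v * polar Qf c c)) * hε
    rw [this, smul_sub, smul_smul, smul_smul]
    abel
  rw [h1]
  erw [LinearMap.det_comp]
  rw [det_id_add_smulRight b, det_id_add_smulRight b]
  simp only [LinearMap.smul_apply, LinearMap.neg_apply, polarBilin_apply_apply, smul_eq_mul]
  rw [polar_comm Qf c a]
  linear_combination (-(polar Qf a c * polar Qf a c)) * hε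

end RankOne

end Groth.Agent.Lib.helper13.QuadDet
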