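/-
Helper library (helper13): extension of rational maps into proper schemes over points whose local
ring is a valuation ring (EGA II 7.3.5–7.3.7 style), and gluing of such extensions.
-/
import Mathlib
import Groth.Agent.Lib.Helper15.Regular

set_option autoImplicit false

namespace Groth.Agent.Lib.helper13.RatExt

universe u

open AlgebraicGeometry CategoryTheory Limits TopologicalSpace Opposite

/-- A regular local ring of dimension at most one is a domain and a valuation ring. -/
theorem valuationRing_of_isRegularLocalRing (A : Type u) [CommRing A] [IsRegularLocalRing A]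
    (h : ringKrullDim A ≤ 1) : ∃ _ : IsDomain A, ValuationRing A := by
  haveI : IsDomain A := Groth.Agent.Lib.helper15.isDomain_of_isRegularLocalRing A
  refine ⟨inferInstance, ?_⟩
  by_cases hF : IsField A
  · have hpre : PreValuationRing A := by
      refine ⟨fun a b => ?_⟩
      by_cases ha : a = 0
      · exact ⟨0, Or.inr (by rw [ha, mul_zero])⟩
      · obtain ⟨c, hc⟩ := hF.mul_inv_cancel ha
        exact ⟨c * b, Or.inl (by rw [← mul_assoc, hc, one_mul])⟩
    exact { toPreValuationRing := hpre }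
  · have h1 := IsRegularLocalRing.spanFinrank_maximalIdeal (R := A)
    have hfg : (IsLocalRing.maximalIdeal A).FG := IsNoetherian.noetherian _
    have hne : IsLocalRing.maximalIdeal A ≠ ⊥ :=
      IsLocalRing.isField_iff_maximalIdeal_eq.not.mp hF
    have h2 : (IsLocalRing.maximalIdeal A).spanFinrank ≤ 1 := by
      rw [← h1] at h
      exact_mod_cast h
    have h3 : (IsLocalRing.maximalIdeal A).spanFinrank ≠ 0 := by
      rw [Ne, Submodule.spanFinrank_eq_zero_iff_eq_bot hfg]
      exact hne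
    have h4 : (IsLocalRing.maximalIdeal A).spanFinrank = 1 := by omega
    have h5 := ((Submodule.spanFinrank_eq_one_iff _).mp h4).1
    exact ((IsDiscreteValuationRing.TFAE A hF).out 4 1).mp h5

/-- **Extension over a valuation point.** Let `Y` be an integral locally Noetherian `S`-scheme, `X`
proper over `S`, `g` an `S`-morphism to `X` from a nonempty open subscheme `jV : V' ⟶ Y` and `y` a
point of `Y` whose local ring is a valuation ring. Then there are an open neighbourhood `U` of `y`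
and an `S`-morphism `f : U ⟶ X` agreeing with `g` on `U ∩ V'`. -/
theorem exists_extension_of_valuationRing {S X Y V' : Scheme.{u}} [IsIntegral Y]
    [IsLocallyNoetherian Y] (p : X ⟶ S) [IsProper p] (q : Y ⟶ S) (jV : V' ⟶ Y)
    [IsOpenImmersion jV] [Nonempty V'] (g : V' ⟶ X) (hg : g ≫ p = jV ≫ q) (y : Y)
    [ValuationRing (Y.presheaf.stalk y)] :
    ∃ (U : Y.Opens) (f : (U : Scheme.{u}) ⟶ X), y ∈ U ∧ f ≫ p = U.ι ≫ q ∧
      pullback.fst U.ι jV ≫ f = pullback.snd U.ι jV ≫ g := by
  classical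
  obtain ⟨η, hη⟩ : ∃ η : Y, η = genericPoint Y := ⟨_, rfl⟩
  have hopen : IsOpen (Set.range jV) := jV.isOpenEmbedding.isOpen_range
  have hηV : genericPoint Y ∈ Set.range jV :=
    ((genericPoint_spec Y).mem_open_set_iff hopen).mpr
      ⟨jV (Classical.arbitrary V'), trivial, ⟨_, rfl⟩⟩
  have hrange : Set.range (Y.fromSpecStalk (genericPoint Y)) ⊆ Set.range jV := by
    rw [Scheme.range_fromSpecStalk]
    intro z hz
    exact hz.mem_open hopen hηV
  let cV : Spec (Y.presheaf.stalk (genericPoint Y)) ⟶ V' :=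
    IsOpenImmersion.lift jV (Y.fromSpecStalk (genericPoint Y)) hrange
  have hcV : cV ≫ jV = Y.fromSpecStalk (genericPoint Y) := IsOpenImmersion.lift_fac _ _ _
  have halg : CommRingCat.ofHom (algebraMap (Y.presheaf.stalk y) Y.functionField) =
      Y.presheaf.stalkSpecializes (genericPoint_specializes y) := rfl
  have hsq : CommSq (cV ≫ g : Spec (CommRingCat.of Y.functionField) ⟶ X)
      (Spec.map (CommRingCat.ofHom (algebraMap (Y.presheaf.stalk y) Y.functionField))) p
      (Y.fromSpecStalk y ≫ q) := by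
    refine ⟨?_⟩
    rw [Category.assoc, hg, ← Category.assoc, hcV, ← Category.assoc]
    congr 1
    rw [halg, Scheme.SpecMap_stalkSpecializes_fromSpecStalk]
  haveI hdom : IsDomain (Y.presheaf.stalk y) := inferInstance
  let Sq : ValuativeCommSq p :=
    { R := Y.presheaf.stalk y
      K := Y.functionField
      domain := hdom
      i₁ := cV ≫ g
      i₂ := Y.fromSpecStalk y ≫ q
      commSq := hsq }
  have hex : ValuativeCriterion.Existence p := by
    have h1 : UniversallyClosed p := inferInstance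
    rw [UniversallyClosed.eq_valuativeCriterion] at h1
    exact h1.1
  obtain ⟨l, hl1, hl2⟩ := (hex Sq).exists_lift
  change Spec.map (CommRingCat.ofHom (algebraMap (Y.presheaf.stalk y) Y.functionField)) ≫ l =
    cV ≫ g at hl1
  change l ≫ p = Y.fromSpecStalk y ≫ q at hl2
  obtain ⟨U, hyU, f, hlf, hfp⟩ := spread_out_of_isGermInjective' q p l hl2
  refine ⟨U, f, hyU, hfp, ?_⟩
  have hηU : genericPoint Y ∈ U :=
    ((genericPoint_spec Y).mem_open_set_iff U.2).mpr ⟨y, trivial, hyU⟩
  let cK : Spec (Y.presheaf.stalk (genericPoint Y)) ⟶ pullback U.ι jV :=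
    pullback.lift (U.fromSpecStalkOfMem (genericPoint Y) hηU) cV
      (by rw [Scheme.Opens.fromSpecStalkOfMem_ι, hcV])
  haveI : Nonempty ↥(pullback U.ι jV) := ⟨cK (IsLocalRing.closedPoint _)⟩
  let π : pullback U.ι jV ⟶ Y := pullback.fst U.ι jV ≫ U.ι
  haveI : IsIntegral (pullback U.ι jV) := isIntegral_of_isOpenImmersion π
  -- equality after `cK`
  have h1 : cK ≫ pullback.fst U.ι jV ≫ f = cK ≫ pullback.snd U.ι jV ≫ g := by
    rw [pullback.lift_fst_assoc, pullback.lift_snd_assoc, ← hl1, hlf, ← Category.assoc]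
    congr 1
    rw [← cancel_mono U.ι, Category.assoc, Scheme.Opens.fromSpecStalkOfMem_ι,
      Scheme.Opens.fromSpecStalkOfMem_ι, halg, Scheme.SpecMap_stalkSpecializes_fromSpecStalk]
  -- the generic point of the pullback
  have hπη : π (genericPoint ↥(pullback U.ι jV)) = genericPoint Y :=
    genericPoint_eq_of_isOpenImmersion π
  have h2 : (pullback U.ι jV).fromSpecStalk (genericPoint ↥(pullback U.ι jV)) =
      Spec.map (Y.presheaf.stalkSpecializes (specializes_of_eq hπη) ≫
        π.stalkMap (genericPoint ↥(pullback U.ι jV))) ≫ cK := by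
    rw [← cancel_mono π, ← Scheme.SpecMap_stalkMap_fromSpecStalk, Category.assoc]
    have h3 : cK ≫ π = Y.fromSpecStalk (genericPoint Y) := by
      simp only [cK, π, pullback.lift_fst_assoc, Scheme.Opens.fromSpecStalkOfMem_ι]
    rw [h3, Spec.map_comp, Category.assoc, Scheme.SpecMap_stalkSpecializes_fromSpecStalk]
  have h4 : (pullback U.ι jV).fromSpecStalk (genericPoint ↥(pullback U.ι jV)) ≫
      pullback.fst U.ι jV ≫ f =
      (pullback U.ι jV).fromSpecStalk (genericPoint ↥(pullback U.ι jV)) ≫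
        pullback.snd U.ι jV ≫ g := by
    rw [h2, Category.assoc, Category.assoc, h1]
  obtain ⟨N, hN, hNeq⟩ := spread_out_unique_of_isGermInjective' _ _ h4
  haveI : IsDominant N.ι := by
    refine ⟨?_⟩
    rw [DenseRange, Scheme.Opens.range_ι]
    exact N.2.dense ⟨_, hN⟩
  refine ext_of_isDominant_of_isSeparated p ?_ N.ι hNeq
  rw [Category.assoc, Category.assoc, hfp, hg, pullback.condition_assoc]

/-- A local extension datum of the rational map `g : V ⟶ X`: an open subscheme `j : T ⟶ Y`, an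
`S`-morphism `f : T ⟶ X` which agrees with `g` on `T ∩ V`. -/
structure Piece {S X Y : Scheme.{u}} (p : X ⟶ S) (q : Y ⟶ S) (V : Y.Opens)
    (g : (V : Scheme.{u}) ⟶ X) where
  /-- the open subscheme -/
  T : Scheme.{u}
  /-- the open immersion -/
  j : T ⟶ Y
  hj : IsOpenImmersion j
  /-- the morphism -/
  f : T ⟶ X
  hover : f ≫ p = j ≫ q
  hagree : pullback.fst j V.ι ≫ f = pullback.snd j V.ι ≫ g

/-- The rational map itself as an extension datum. -/
noncomputable def Piece.self {S X Y : Scheme.{u}} (p : X ⟶ S) (q : Y ⟶ S) (V : Y.Opens)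
    (g : (V : Scheme.{u}) ⟶ X) (hg : g ≫ p = V.ι ≫ q) : Piece p q V g where
  T := V
  j := V.ι
  hj := inferInstance
  f := g
  hover := hg
  hagree := by
    have : pullback.fst V.ι V.ι = pullback.snd V.ι V.ι := by
      rw [← cancel_mono V.ι]; exact pullback.condition
    rw [this]

/-- Two extension data agree on the overlap, when `Y` is reduced, `V` is dense and `X` is
separated over `S`. -/
theorem Piece.compat {S X Y : Scheme.{u}} {p : X ⟶ S} [IsSeparated p] {q : Y ⟶ S} [IsReduced Y]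
    {V : Y.Opens} (hV : Dense (V : Set Y)) {g : (V : Scheme.{u}) ⟶ X}
    (P₁ P₂ : Piece p q V g) {P : Scheme.{u}} (a₁ : P ⟶ P₁.T) (a₂ : P ⟶ P₂.T)
    (h : a₁ ≫ P₁.j = a₂ ≫ P₂.j) [IsOpenImmersion (a₁ ≫ P₁.j)] :
    a₁ ≫ P₁.f = a₂ ≫ P₂.f := by
  haveI := P₁.hj
  haveI := P₂.hj
  set π : P ⟶ Y := a₁ ≫ P₁.j with hπ
  haveI : IsReduced P := isReduced_of_isOpenImmersion π
  -- the dense open `π⁻¹ V`
  haveI : IsDominant (π ⁻¹ᵁ V).ι := by
    refine ⟨?_⟩
    rw [DenseRange, Scheme.Opens.range_ι]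
    exact hV.preimage π.isOpenEmbedding.isOpenMap
  have hc : (π ⁻¹ᵁ V).ι ≫ π = (π ∣_ V) ≫ V.ι := (morphismRestrict_ι π V).symm
  have e₁ : (π ⁻¹ᵁ V).ι ≫ a₁ ≫ P₁.f = (π ∣_ V) ≫ g := by
    have h1 : (π ⁻¹ᵁ V).ι ≫ a₁ =
        pullback.lift ((π ⁻¹ᵁ V).ι ≫ a₁) (π ∣_ V) (by rw [Category.assoc, ← hπ, ← hc]) ≫
          pullback.fst P₁.j V.ι := (pullback.lift_fst _ _ _).symm
    rw [← Category.assoc, h1, Category.assoc, P₁.hagree, pullback.lift_snd_assoc]
  have e₂ : (π ⁻¹ᵁ V).ι ≫ a₂ ≫ P₂.f = (π ∣_ V) ≫ g := by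
    have h1 : (π ⁻¹ᵁ V).ι ≫ a₂ =
        pullback.lift ((π ⁻¹ᵁ V).ι ≫ a₂) (π ∣_ V) (by rw [Category.assoc, ← h, ← hc]) ≫
          pullback.fst P₂.j V.ι := (pullback.lift_fst _ _ _).symm
    rw [← Category.assoc, h1, Category.assoc, P₂.hagree, pullback.lift_snd_assoc]
  refine ext_of_isDominant_of_isSeparated p ?_ (π ⁻¹ᵁ V).ι (e₁.trans e₂.symm)
  rw [Category.assoc, Category.assoc, P₁.hover, P₂.hover, ← Category.assoc, ← Category.assoc,
    ← hπ, ← h]

/-- **Gluing extension data.** A family of extension data glues to an `S`-morphism on the union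
of the open subschemes. -/
theorem exists_glue {S X Y : Scheme.{u}} {p : X ⟶ S} [IsSeparated p] {q : Y ⟶ S} [IsReduced Y]
    {V : Y.Opens} (hV : Dense (V : Set Y)) {g : (V : Scheme.{u}) ⟶ X} {I : Type u}
    (Q : I → Piece p q V g) (U : Y.Opens) (hU : (U : Set Y) = ⋃ i, Set.range (Q i).j) :
    ∃ g' : (U : Scheme.{u}) ⟶ X, g' ≫ p = U.ι ≫ q ∧
      ∀ (i : I) (k : (Q i).T ⟶ U), k ≫ U.ι = (Q i).j → k ≫ g' = (Q i).f := by
  classical
  have hk : ∀ i, Set.range (Q i).j ⊆ Set.range U.ι := by
    intro i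
    rw [Scheme.Opens.range_ι, hU]
    exact Set.subset_iUnion (fun i => Set.range (Q i).j) i
  let k : ∀ i, (Q i).T ⟶ U := fun i => IsOpenImmersion.lift U.ι (Q i).j (hk i)
  have hkfac : ∀ i, k i ≫ U.ι = (Q i).j := fun i => IsOpenImmersion.lift_fac _ _ _
  haveI hkopen : ∀ i, IsOpenImmersion (k i) := fun i => by
    haveI := (Q i).hj
    haveI : IsOpenImmersion (k i ≫ U.ι) := by rw [hkfac]; infer_instance
    exact IsOpenImmersion.of_comp (k i) U.ι
  have hcov : ∀ x : U.toScheme, ∃ i y, k i y = x := by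
    intro x
    have hx : U.ι x ∈ Set.range U.ι := ⟨x, rfl⟩
    rw [Scheme.Opens.range_ι, hU] at hx
    obtain ⟨i, t, ht⟩ := Set.mem_iUnion.mp hx
    refine ⟨i, t, ?_⟩
    apply U.ι.injective
    rw [← Scheme.Hom.comp_apply, hkfac, ht]
  let 𝒰 : U.toScheme.OpenCover := Scheme.Cover.mkOfCovers I (fun i => (Q i).T) k hcov hkopen
  have hcompat : ∀ i j : I, pullback.fst (k i) (k j) ≫ (Q i).f =
      pullback.snd (k i) (k j) ≫ (Q j).f := by
    intro i j
    haveI := (Q i).hj
    have h1 : pullback.fst (k i) (k j) ≫ (Q i).j =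
        pullback.snd (k i) (k j) ≫ (Q j).j := by
      rw [← hkfac, ← hkfac]
      exact pullback.condition_assoc _
    exact Piece.compat hV (Q i) (Q j) _ _ h1
  refine ⟨𝒰.glueMorphisms (fun i => (Q i).f) hcompat, ?_, ?_⟩
  · refine 𝒰.hom_ext _ _ (fun (i : I) => ?_)
    rw [Scheme.Cover.ι_glueMorphisms_assoc]
    show (Q i).f ≫ p = k i ≫ U.ι ≫ q
    rw [(Q i).hover, ← hkfac i, Category.assoc]
  · intro i k' hk'
    have : k' = 𝒰.f i := by
      rw [← cancel_mono U.ι, hk']
      exact (hkfac i).symm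
    rw [this]
    exact 𝒰.ι_glueMorphisms _ _ i

/-- Valuation rings are stable under ring isomorphisms. -/
theorem valuationRing_of_ringEquiv {A B : Type*} [CommRing A] [IsDomain A] [ValuationRing A]
    [CommRing B] [IsDomain B] (e : A ≃+* B) : ValuationRing B := by
  have hpre : PreValuationRing B := by
    refine ⟨fun a b => ?_⟩
    obtain ⟨c, hc⟩ := ValuationRing.cond (e.symm a) (e.symm b)
    refine ⟨e c, ?_⟩
    rcases hc with hc | hc
    · left
      have := congrArg e hc
      rwa [map_mul, e.apply_symm_apply, e.apply_symm_apply] at this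
    · right
      have := congrArg e hc
      rwa [map_mul, e.apply_symm_apply, e.apply_symm_apply] at this
  exact { toPreValuationRing := hpre }

/-- **Extension datum at a valuation point.** Let `Y` be a locally Noetherian `S`-scheme, `X` proper
over `S`, `g : V ⟶ X` an `S`-morphism on a dense open `V` and `y` a point of `Y` whose local ring
is a valuation ring (and a domain). Then there is an extension datum around `y`. -/
theorem exists_piece {S X Y : Scheme.{u}} (p : X ⟶ S) [IsProper p] (q : Y ⟶ S)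
    [IsLocallyNoetherian Y] (V : Y.Opens) (hV : Dense (V : Set Y)) (g : (V : Scheme.{u}) ⟶ X)
    (hg : g ≫ p = V.ι ≫ q) (y : Y) (hdom : IsDomain (Y.presheaf.stalk y))
    (hval : ValuationRing (Y.presheaf.stalk y)) :
    ∃ Q : Piece p q V g, y ∈ Set.range Q.j := by
  classical
  obtain ⟨W, hyW, hW, hinj⟩ := Y.exists_germ_injective y
  haveI : IsDomain Γ(Y, W) := hinj.isDomain (Y.presheaf.germ W y hyW).hom
  haveI : IsAffine W.toScheme := hW
  haveI : Nonempty W.toScheme := ⟨⟨y, hyW⟩⟩
  haveI : IsDomain Γ(W.toScheme, ⊤) :=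
    (W.topIso.commRingCatIsoToRingEquiv.toMulEquiv).isDomain _
  haveI : IsIntegral W.toScheme := isIntegral_of_isAffine_of_isDomain _
  haveI : IsLocallyNoetherian W.toScheme := isLocallyNoetherian_of_isOpenImmersion W.ι
  -- the stalk at `y` in `W`
  let yW : W.toScheme := ⟨y, hyW⟩
  haveI : ValuationRing (W.toScheme.presheaf.stalk yW) :=
    valuationRing_of_ringEquiv (W.stalkIso yW).symm.commRingCatIsoToRingEquiv
  -- `V ∩ W` is nonempty
  obtain ⟨v, hvW, hvV⟩ := hV.inter_open_nonempty W W.2 ⟨y, hyW⟩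
  haveI : Nonempty ↥(pullback W.ι V.ι) := by
    let c : (W ⊓ V).toScheme ⟶ pullback W.ι V.ι :=
      pullback.lift (Y.homOfLE inf_le_left) (Y.homOfLE inf_le_right) (by simp)
    exact ⟨c ⟨v, hvW, hvV⟩⟩
  have hgW : (pullback.snd W.ι V.ι ≫ g) ≫ p = pullback.fst W.ι V.ι ≫ W.ι ≫ q := by
    rw [Category.assoc, hg, pullback.condition_assoc]
  obtain ⟨U', f', hyU', hf'p, hf'g⟩ := exists_extension_of_valuationRing p (W.ι ≫ q)
    (pullback.fst W.ι V.ι) (pullback.snd W.ι V.ι ≫ g) hgW yW
  refine ⟨{ T := U'.toScheme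
            j := U'.ι ≫ W.ι
            hj := inferInstance
            f := f'
            hover := by rw [hf'p, Category.assoc]
            hagree := ?_ }, ⟨⟨yW, hyU'⟩, rfl⟩⟩
  let θ : pullback (U'.ι ≫ W.ι) V.ι ⟶ pullback U'.ι (pullback.fst W.ι V.ι) :=
    pullback.lift (pullback.fst _ _)
      (pullback.lift (pullback.fst _ _ ≫ U'.ι) (pullback.snd _ _)
        (by rw [Category.assoc, pullback.condition]))
      (by rw [pullback.lift_fst])
  have h1 : pullback.fst (U'.ι ≫ W.ι) V.ι = θ ≫ pullback.fst U'.ι (pullback.fst W.ι V.ι) :=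
    (pullback.lift_fst _ _ _).symm
  rw [h1, Category.assoc, hf'g, pullback.lift_snd_assoc, pullback.lift_snd_assoc]

end Groth.Agent.Lib.helper13.RatExt
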