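import Mathlib
import Groth.Agent.Lib.Helper13.TorLow4
import Groth.Agent.Lib.Helper13.TorLow7

/-!
# Relative flat representatives over a flat ring map (helper13)

* `exists_relFlat_rep`: for `A → B` flat and `K ∈ D(B)` whose restriction to `A` has tor amplitude in
  `[a, b]`, `K` is represented by a complex of `B`-modules vanishing outside `[a, b]` whose terms are
  flat over `A`.
-/

set_option autoImplicit false
universe u
open CategoryTheory CategoryTheory.Limits

attribute [local instance] HasDerivedCategory.standard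

namespace Groth.Agent.Lib.helper13.RelPerfAff

open Groth.Agent.Lib.helper23.TA Groth.Agent.Lib.helper13.TorLow

variable {A B : Type u} [CommRing A] [CommRing B] [Algebra A B]

/-- for `A → B` flat and `K ∈ D(B)` whose restriction to `A` has tor amplitude in `[a, b]`, `K` is
represented by a complex of `B`-modules vanishing outside `[a, b]` with `A`-flat terms -/
theorem exists_relFlat_rep [Module.Flat A B] (K : Dual.D B) (a b : ℤ)
    (h : DRing.HasTorAmplitudeIn A a b ((DRing.restrictD (algebraMap A B)).obj K)) :
    ∃ G : DRing.Cx B, DRing.VanishesOutside G a b ∧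
      (∀ i : ℤ, Module.Flat A ((ModuleCat.restrictScalars.{u} (algebraMap A B)).obj (G.X i))) ∧
      Nonempty (DRing.toD G ≅ K) := by
  set res := ModuleCat.restrictScalars.{u} (algebraMap A B) with hres
  have eK : DerivedCategory.Q.obj (DerivedCategory.Q.objPreimage K) ≅ K :=
    DerivedCategory.Q.objObjPreimageIso K
  set K₀ : DRing.Cx B := DerivedCategory.Q.objPreimage K with hK₀
  have h1 : DRing.HasTorAmplitudeIn A a b (DerivedCategory.Q.obj
      ((res.mapHomologicalComplex (ComplexShape.up ℤ)).obj K₀)) :=
    hasTorAmplitudeIn_of_iso ((DRing.restrictD (algebraMap A B)).mapIso eK.symm ≪≫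
      restrictDQIso K₀) h
  have hexact : ∀ (M : DRing.Cx B) (i : ℤ),
      ((res.mapHomologicalComplex (ComplexShape.up ℤ)).obj M).ExactAt i → M.ExactAt i :=
    fun M i hM => (ShortComplex.exact_map_iff_of_faithful (M.sc i) res).1 hM
  have hb : ∀ i : ℤ, b < i → K₀.ExactAt i := fun i hi =>
    hexact K₀ i (exactAt_of_hasTorAmplitudeIn _ a b h1 i (Or.inr hi))
  obtain ⟨P, u, hP, hPb, hu⟩ := exists_projective_resolution_map K₀ b hb
  have hPfl : DRing.TermwiseFlat P := fun i => flat_of_projective_obj _ (hP i)
  have hRb : DRing.VanishesAbove ((res.mapHomologicalComplex (ComplexShape.up ℤ)).obj P) b :=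
    fun i hi => res.map_isZero (hPb i hi)
  have hRfl : DRing.TermwiseFlat ((res.mapHomologicalComplex (ComplexShape.up ℤ)).obj P) := by
    intro i
    haveI := hPfl i
    letI : Module A (P.X i) := Module.compHom (P.X i) (algebraMap A B)
    haveI : IsScalarTower A B (P.X i) := IsScalarTower.of_algebraMap_smul (fun r x => rfl)
    exact (Module.Flat.trans A B (P.X i) : Module.Flat A (P.X i))
  have eR : DerivedCategory.Q.obj ((res.mapHomologicalComplex (ComplexShape.up ℤ)).obj P) ≅
      DerivedCategory.Q.obj ((res.mapHomologicalComplex (ComplexShape.up ℤ)).obj K₀) :=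
    (restrictDQIso P).symm ≪≫ (DRing.restrictD (algebraMap A B)).mapIso
      (asIso (DerivedCategory.Q.map u)) ≪≫ restrictDQIso K₀
  have htvl := tvl_of_rep h1 _ b hRb hRfl eR
  have hexP : ∀ i : ℤ, i < a → P.ExactAt i := fun i hi =>
    hexact P i (exactAt_of_tvl _ a htvl i hi)
  have hopR := flat_opcycles_of_rep h1 _ b hRb hRfl eR
  have eop : ((res.mapHomologicalComplex (ComplexShape.up ℤ)).obj P).opcycles a ≅
      res.obj (P.opcycles a) := (P.sc a).mapOpcyclesIso res
  have hop : Module.Flat A (res.obj (P.opcycles a)) := (FlatP A).prop_of_iso eop hopR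
  haveI : P.IsGE a := (CochainComplex.isGE_iff P a).2 hexP
  haveI : IsIso (DerivedCategory.Q.map (P.πTruncGE a)) :=
    (DerivedCategory.isIso_Q_map_iff_quasiIso _ _).2 inferInstance
  refine ⟨P.truncGE a, ?_, ?_, ⟨(asIso (DerivedCategory.Q.map (P.πTruncGE a))).symm ≪≫
    asIso (DerivedCategory.Q.map u) ≪≫ eK⟩⟩
  · intro i hi
    rcases lt_trichotomy i a with hi' | rfl | hi'
    · exact CochainComplex.isZero_of_isStrictlyGE _ a i hi'
    · have h0 : IsZero (P.X i) := hPb i (hi.elim (fun h => absurd h (lt_irrefl _)) id)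
      haveI : Epi (P.pOpcycles i) := inferInstance
      exact (IsZero.of_epi (P.pOpcycles i) h0).of_iso (P.truncGEXIsoOpcycles i)
    · exact (hPb i (hi.elim (fun h => absurd h (by omega)) id)).of_iso (P.truncGEXIso a i hi')
  · intro i
    rcases lt_trichotomy i a with hi | rfl | hi
    · exact flatP_of_isZero _ (res.map_isZero (CochainComplex.isZero_of_isStrictlyGE _ a i hi))
    · exact (FlatP A).prop_of_iso (res.mapIso (P.truncGEXIsoOpcycles i)).symm hop
    · exact (FlatP A).prop_of_iso (res.mapIso (P.truncGEXIso a i hi)).symm (hRfl i)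

end Groth.Agent.Lib.helper13.RelPerfAff
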