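import Mathlib
import Groth.Prelude.Def_DCoh3
import Groth.Agent.Lib.Helper13.TildeLpull
import Groth.Agent.Lib.Helper13.RelPerfAff1
import Groth.Agent.Lib.Helper17.FlatOver2
import Groth.Agent.Lib.Helper17.FlatOver4
import Groth.Agent.Lib.Helper17.FlatOver7
import Groth.Agent.Lib.Helper25.DCohRestrict

/-!
# `M~` is locally of finite relative tor dimension when `M|_R` has finite tor amplitude (helper13)
-/

set_option autoImplicit false
universe u
open CategoryTheory CategoryTheory.Limits AlgebraicGeometry
open Scheme.Modules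

attribute [local instance] HasDerivedCategory.standard

namespace Groth.Agent.Lib.helper13.RelPerfAff

open Groth.Agent.Lib.helper25.DCohRestrict

variable (R A : Type u) [CommRing R] [CommRing A] [Algebra R A]

/-- the restriction to an open `V` of `N~`, `N` flat over `R`, is flat over `Spec R` -/
lemma isFlatOver_restrict_tilde (N : ModuleCat.{u} A)
    (hN : Module.Flat R ((ModuleCat.restrictScalars.{u} (algebraMap R A)).obj N))
    (V : (Spec (CommRingCat.of A)).Opens) :
    FlatMod.IsFlatOver (V.ι ≫ Spec.map (CommRingCat.ofHom (algebraMap R A)))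
      ((restrictFunctor V.ι).obj (tilde N)) := by
  letI : Module R N := Module.compHom N (algebraMap R A)
  haveI : IsScalarTower R A N := IsScalarTower.of_algebraMap_smul (fun r x => rfl)
  haveI : Module.Flat R N := hN
  have h1 : FlatMod.IsFlatOver (Spec.map (CommRingCat.ofHom (algebraMap R A)))
      (tilde (ModuleCat.of A N)) :=
    (Groth.Agent.Lib.helper17.FlatOver2.tilde_isFlatOver_iff R A N).2 inferInstance
  have h2 := Groth.Agent.Lib.helper17.FlatOver4.isFlatOver_pullback_of_flat V.ι
    (Spec.map (CommRingCat.ofHom (algebraMap R A))) (tilde (ModuleCat.of A N)) h1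
  exact (Groth.Agent.Lib.helper17.FlatOver7.isFlatOver_iff_of_iso _
    ((restrictFunctorIsoPullback V.ι).app (tilde N))).2 h2

variable [Module.Flat R A] [PreservesFiniteLimits (tilde.functor (CommRingCat.of A))]

/-- if `M|_R` has tor amplitude in `[a, b]` then `M~` is locally of finite tor dimension relative to
`Spec R` -/
theorem locHasFiniteRelTorDim_tildeD (M : Dual.D A) (a b : ℤ)
    (h : DRing.HasTorAmplitudeIn R a b ((DRing.restrictD (algebraMap R A)).obj M)) :
    DCoh.LocHasFiniteRelTorDim (Spec.map (CommRingCat.ofHom (algebraMap R A)))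
      ((DCoh.tildeD (CommRingCat.of A)).obj M) := by
  obtain ⟨G, hGv, hGf, ⟨eG⟩⟩ := exists_relFlat_rep M a b h
  set E' : CochainComplex (Spec (CommRingCat.of A)).Modules ℤ :=
    ((tilde.functor (CommRingCat.of A)).mapHomologicalComplex (ComplexShape.up ℤ)).obj G with hE'
  have eE : DCoh.toD (Spec (CommRingCat.of A)) E' ≅ (DCoh.tildeD (CommRingCat.of A)).obj M :=
    ((tilde.functor (CommRingCat.of A)).mapDerivedCategoryFactors.app G).symm ≪≫
      (DCoh.tildeD (CommRingCat.of A)).mapIso eG
  intro x
  refine ⟨⊤, a, b, trivial, fun F' hF' => ?_⟩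
  obtain ⟨eF'⟩ := hF'
  obtain ⟨e⟩ := nonempty_Q_res_iso (⊤ : (Spec (CommRingCat.of A)).Opens).ι
    (A := E') (B := F') ⟨eE ≪≫ eF'.symm⟩
  refine ⟨(DCoh.restrictCx ⊤).obj E', fun i hi => ?_, fun i => ?_, ⟨e⟩⟩
  · exact (restrictFunctor _).map_isZero ((tilde.functor (CommRingCat.of A)).map_isZero (hGv i hi))
  · exact isFlatOver_restrict_tilde R A (G.X i) (hGf i) ⊤

end Groth.Agent.Lib.helper13.RelPerfAff
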