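import Mathlib
import Groth.Agent.Lib.Helper13.TorLow3
import Groth.Agent.Lib.Helper13.LTenCx2

/-!
# Tor amplitude of tensor products under restriction of scalars (helper13)

* `exactAt_tensor_of_lt`, `exactAt_tensor_of_gt`: for `E` K-flat vanishing below `a` (above `b`) and
  `G` exact below `c` (above `d`), `E ⊗ G` is exact below `a + c` (above `b + d`).
* `hasTorAmplitudeIn_res_tensor`: `A → B`, `E` a complex of flat `B`-modules in `[a, b]`, `P` a
  complex of `B`-modules whose restriction to `A` has tor amplitude in `[c, d]`; then the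
  restriction of `E ⊗_B P` to `A` has tor amplitude in `[a + c, b + d]`.
-/

set_option autoImplicit false
universe u
open CategoryTheory Limits HomologicalComplex MonoidalCategory

attribute [local instance] HasDerivedCategory.standard

namespace Groth.Agent.Lib.helper13.TorLow

open Groth.Agent.Lib.helper13.KFlat Groth.Agent.Lib.helper13.LTenCx
  Groth.Agent.Lib.helper23.TA Groth.Agent.Lib.helper13.ExtKFlat

variable {B : Type u} [CommRing B]

/-- `E` K-flat vanishing below `a`, `G` exact below `c`: `E ⊗ G` is exact below `a + c` -/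
theorem exactAt_tensor_of_lt (E G : DRing.Cx B) (hE : IsKFlatR E) (a c : ℤ)
    (hEa : ∀ p : ℤ, p < a → IsZero (E.X p)) (hG : ∀ q : ℤ, q < c → G.ExactAt q) (n : ℤ)
    (hn : n < a + c) : (E ⊗ G).ExactAt n := by
  haveI : G.IsGE c := (CochainComplex.isGE_iff G c).2 hG
  haveI : QuasiIso (E ◁ G.πTruncGE c) := quasiIso_whiskerLeft_of_isKFlatR' E hE _
  rw [exactAt_iff_of_quasiIso (E ◁ G.πTruncGE c) n]
  refine HomologicalComplex.ExactAt.of_isZero (isZero_sigma _ (fun ⟨⟨p, q⟩, hpq⟩ => ?_))
  have hpq' : p + q = n := hpq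
  by_cases hp : p < a
  · exact isZero_tensor_left (hEa p hp) _
  · exact isZero_tensor_right _ (CochainComplex.isZero_of_isStrictlyGE _ c q (by omega))

/-- `E` K-flat vanishing above `b`, `G` exact above `d`: `E ⊗ G` is exact above `b + d` -/
theorem exactAt_tensor_of_gt (E G : DRing.Cx B) (hE : IsKFlatR E) (b d : ℤ)
    (hEb : ∀ p : ℤ, b < p → IsZero (E.X p)) (hG : ∀ q : ℤ, d < q → G.ExactAt q) (n : ℤ)
    (hn : b + d < n) : (E ⊗ G).ExactAt n := by
  haveI : G.IsLE d := (CochainComplex.isLE_iff G d).2 hG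
  haveI : QuasiIso (E ◁ G.ιTruncLE d) := quasiIso_whiskerLeft_of_isKFlatR' E hE _
  rw [← exactAt_iff_of_quasiIso (E ◁ G.ιTruncLE d) n]
  refine HomologicalComplex.ExactAt.of_isZero (isZero_sigma _ (fun ⟨⟨p, q⟩, hpq⟩ => ?_))
  have hpq' : p + q = n := hpq
  by_cases hp : b < p
  · exact isZero_tensor_left (hEb p hp) _
  · exact isZero_tensor_right _ (CochainComplex.isZero_of_isStrictlyLE _ d q (by omega))

variable {A : Type u} [CommRing A] (φ : A →+* B)

/-- `E` a complex of flat `B`-modules in `[a, b]`, `P` a complex of `B`-modules whose restriction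
to `A` has tor amplitude in `[c, d]`: the restriction of `E ⊗_B P` to `A` has tor amplitude in
`[a + c, b + d]` -/
theorem hasTorAmplitudeIn_res_tensor (E P : DRing.Cx B) (a b c d : ℤ)
    (hEV : DRing.VanishesOutside E a b) (hEfl : DRing.TermwiseFlat E)
    (hP : DRing.HasTorAmplitudeIn A c d (DRing.toD ((resCx φ).obj P))) :
    DRing.HasTorAmplitudeIn A (a + c) (b + d) (DRing.toD ((resCx φ).obj (E ⊗ P))) := by
  have hE : IsKFlatR E := isKFlatR_of_bounded_above E b (fun i hi => hEV i (Or.inr hi)) hEfl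
  have hres : ∀ (M : DRing.Cx B) (i : ℤ), ((resCx φ).obj M).ExactAt i ↔ M.ExactAt i := by
    intro M i
    rw [exactAt_iff_isZero_homology, exactAt_iff_isZero_homology]
    exact isZero_homology_map_iff (ModuleCat.restrictScalars.{u} φ) M i
  refine hasTorAmplitudeIn_of_exactAt_tensor _ (a + c) (b + d) ?_ ?_
  · intro i hi
    rw [hres]
    exact exactAt_tensor_of_gt E P hE b d (fun p hp => hEV p (Or.inr hp))
      (fun q hq => (hres P q).1 (exactAt_of_hasTorAmplitudeIn _ c d hP q (Or.inr hq))) i hi
  · intro N F f hF hf j hj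
    haveI : QuasiIso f := hf
    rw [exactAt_res_tensor_iff]
    refine exactAt_of_iso (α_ E P ((extCx φ).obj F)).symm j ?_
    refine exactAt_tensor_of_lt E _ hE a c (fun p hp => hEV p (Or.inl hp)) (fun q hq => ?_) j hj
    rw [← exactAt_res_tensor_iff]
    exact exactAt_tensor_of_hasTorAmplitudeIn _ c d hP F _ hF f
      (fun q hq => HomologicalComplex.isZero_single_obj_X (ComplexShape.up ℤ) 0 N q hq) q hq

end Groth.Agent.Lib.helper13.TorLow
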