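import Mathlib
import Groth.Agent.Lib.Helper13.TorLow7
import Groth.Agent.Lib.Helper13.TorLow5
import Groth.Agent.Lib.Helper13.TorLow1
import Groth.Agent.Lib.Helper13.RKF1
import Groth.Agent.Lib.Helper13.DTenC

/-!
# Tor amplitude of a derived base change along a map of finite tor dimension (helper13)

`φ : A →+* B`, `ψ : B →+* C` with `C` of tor amplitude `[-m, 0]` over `B`; `P` a K-flat complex of
`B`-modules whose restriction to `A` has tor amplitude in `[c, d]`.

* `exactAt_extCx_iff_single_tensor`: `C ⊗_B M` is exact at `j` iff `C[0] ⊗ M` is.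
* `hasTorAmplitudeIn_res_ext_of_torDim`: `(C ⊗_B P)|_A` has tor amplitude in `[c - m, d]`.
-/

set_option autoImplicit false
universe u
open CategoryTheory Limits HomologicalComplex MonoidalCategory

attribute [local instance] HasDerivedCategory.standard

namespace Groth.Agent.Lib.helper13.TorLow

open Groth.Agent.Lib.helper13.KFlat Groth.Agent.Lib.helper13.LTenCx
  Groth.Agent.Lib.helper23.TA Groth.Agent.Lib.helper13.ExtKFlat
  Groth.Agent.Lib.helper13.RKF Groth.Agent.Lib.helper13.DTenA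

variable {A B C : Type u} [CommRing A] [CommRing B] [CommRing C] (φ : A →+* B) (ψ : B →+* C)

/-- `C ⊗_B M` is exact at `j` iff `C[0] ⊗ M` is -/
lemma exactAt_extCx_iff_single_tensor (M : DRing.Cx B) (j : ℤ) :
    ((extCx ψ).obj M).ExactAt j ↔
      (((CochainComplex.singleFunctor (ModuleCat.{u} B) 0).obj (AR ψ)) ⊗ M).ExactAt j := by
  rw [← exactAt_resCx_iff ψ, exactAt_single_tensor_iff]
  have e : (resCx ψ).obj ((extCx ψ).obj M) ≅
      ((tensorLeft (AR ψ)).mapHomologicalComplex (ComplexShape.up ℤ)).obj M :=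
    (NatIso.mapHomologicalComplex (extResIso ψ) (ComplexShape.up ℤ)).app M
  exact ⟨exactAt_of_iso e j, exactAt_of_iso e.symm j⟩

/-- `(C ⊗_B P)|_A` has tor amplitude in `[c - m, d]` when `P` is K-flat over `B`, `P|_A` has tor
amplitude in `[c, d]` and `C` has tor amplitude in `[-m, 0]` over `B` -/
theorem hasTorAmplitudeIn_res_ext_of_torDim (χ : A →+* C) (hχ : χ = ψ.comp φ) (m : ℕ)
    (hC : DRing.HasTorAmplitudeIn B (-(m : ℤ)) 0
      (DRing.toD ((CochainComplex.singleFunctor (ModuleCat.{u} B) 0).obj (AR ψ))))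
    (P : DRing.Cx B) (hP : IsKFlatR P) (c d : ℤ)
    (h : DRing.HasTorAmplitudeIn A c d (DRing.toD ((resCx φ).obj P))) :
    DRing.HasTorAmplitudeIn A (c - m) d (DRing.toD ((resCx χ).obj ((extCx ψ).obj P))) := by
  subst hχ
  obtain ⟨E, hEV, hEfl, ⟨eE⟩⟩ := hC
  have hE : IsKFlatR E := isKFlatR_of_bounded_above E 0 (fun i hi => hEV i (Or.inr hi)) hEfl
  have key : ∀ (M : DRing.Cx B), IsKFlatR M → ∀ j : ℤ,
      ((extCx ψ).obj M).ExactAt j ↔ (E ⊗ M).ExactAt j := by
    intro M hM j
    rw [exactAt_extCx_iff_single_tensor]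
    obtain ⟨i1⟩ := nonempty_iso_of_inverts DerivedCategory.Q (W B) (DRing.tensorCxQ B M)
      (isInvertedBy_tensorCxQ M hM) eE
    exact (exactAt_iff_of_iso_Q i1 j).symm
  have hPex : ∀ q : ℤ, d < q → P.ExactAt q := fun q hq =>
    (exactAt_resCx_iff φ P q).1 (exactAt_of_hasTorAmplitudeIn _ c d h q (Or.inr hq))
  refine hasTorAmplitudeIn_of_exactAt_tensor _ (c - m) d ?_ ?_
  · intro i hi
    rw [exactAt_resCx_iff, key P hP]
    exact exactAt_tensor_of_gt E P hE 0 d (fun p hp => hEV p (Or.inr hp)) hPex i (by omega)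
  · intro N F f hF hf j hj
    haveI : QuasiIso f := hf
    rw [exactAt_res_tensor_iff]
    refine exactAt_of_iso (extTenExtIso' φ ψ P F) j ?_
    have hM : IsKFlatR (P ⊗ (extCx φ).obj F) :=
      isKFlatR_tensor _ _ hP (isKFlatR_extCx φ F hF)
    rw [key _ hM]
    refine exactAt_tensor_of_lt E _ hE (-(m : ℤ)) c (fun p hp => hEV p (Or.inl hp))
      (fun q hq => ?_) j (by omega)
    rw [← exactAt_res_tensor_iff]
    exact exactAt_tensor_of_hasTorAmplitudeIn _ c d h F _ hF f
      (fun q hq => HomologicalComplex.isZero_single_obj_X (ComplexShape.up ℤ) 0 N q hq) q hq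

end Groth.Agent.Lib.helper13.TorLow
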