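import Mathlib
import Groth.Agent.Lib.Helper13.TorLow8

/-!
# Tor amplitude of `(C ⊗_B P) ⊗_C L` over `A` (helper13)

`φ : A →+* B`, `ψ : B →+* C`, `χ = ψ ∘ φ`.

* `resCompIso`: `K|_A ≅ (K|_B)|_A` for complexes of `C`-modules.
* `nonempty_Q_res_iso`: restriction of scalars preserves isomorphisms in the derived category.
* `hasTorAmplitudeIn_res_ext_tensor`: `P` K-flat over `B` with `P|_A` of tor amplitude `[c, d]`, `L` a
  complex of `C`-modules with `L|_B` of tor amplitude `[a, b]`; then `((C ⊗_B P) ⊗_C L)|_A` has tor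
  amplitude in `[a + c, b + d]`.
-/

set_option autoImplicit false
universe u
open CategoryTheory Limits HomologicalComplex MonoidalCategory

attribute [local instance] HasDerivedCategory.standard

namespace Groth.Agent.Lib.helper13.TorLow

open Groth.Agent.Lib.helper13.KFlat Groth.Agent.Lib.helper13.LTenCx
  Groth.Agent.Lib.helper23.TA Groth.Agent.Lib.helper13.ExtKFlat
  Groth.Agent.Lib.helper13.RKF Groth.Agent.Lib.helper13.DTenA DerivedCategory

variable {A B C : Type u} [CommRing A] [CommRing B] [CommRing C] (φ : A →+* B) (ψ : B →+* C)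

/-- `K|_A ≅ (K|_B)|_A` -/
noncomputable def resCompIso (χ : A →+* C) (hχ : χ = ψ.comp φ) (K : DRing.Cx C) :
    (resCx χ).obj K ≅ (resCx φ).obj ((resCx ψ).obj K) :=
  HomologicalComplex.Hom.isoOfComponents
    (fun i => (ModuleCat.restrictScalarsComp'.{u} φ ψ χ hχ).app (K.X i))
    (fun i j _ => ((ModuleCat.restrictScalarsComp'.{u} φ ψ χ hχ).hom.naturality (K.d i j)).symm)

/-- restriction of scalars preserves isomorphisms in the derived category between complexes -/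
lemma nonempty_Q_res_iso {S T : Type u} [CommRing S] [CommRing T] (χ : S →+* T)
    (K₁ K₂ : DRing.Cx T) (e : (Q.obj K₁ : Dual.D T) ≅ Q.obj K₂) :
    Nonempty ((Q.obj ((resCx χ).obj K₁) : Dual.D S) ≅ Q.obj ((resCx χ).obj K₂)) :=
  ⟨((ModuleCat.restrictScalars.{u} χ).mapDerivedCategoryFactors.app K₁).symm ≪≫
    (ModuleCat.restrictScalars.{u} χ).mapDerivedCategory.mapIso e ≪≫
    (ModuleCat.restrictScalars.{u} χ).mapDerivedCategoryFactors.app K₂⟩

/-- `((C ⊗_B P) ⊗_C L)|_A` has tor amplitude in `[a + c, b + d]` -/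
theorem hasTorAmplitudeIn_res_ext_tensor (χ : A →+* C) (hχ : χ = ψ.comp φ)
    (P : DRing.Cx B) (hP : IsKFlatR P) (L : DRing.Cx C) (a b c d : ℤ)
    (hL : DRing.HasTorAmplitudeIn B a b (DRing.toD ((resCx ψ).obj L)))
    (hPA : DRing.HasTorAmplitudeIn A c d (DRing.toD ((resCx φ).obj P))) :
    DRing.HasTorAmplitudeIn A (a + c) (b + d)
      (DRing.toD ((resCx χ).obj (((extCx ψ).obj P) ⊗ L))) := by
  obtain ⟨E, hEV, hEfl, ⟨eE⟩⟩ := hL
  have h0 := hasTorAmplitudeIn_res_tensor φ E P a b c d hEV hEfl hPA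
  -- `Q(E ⊗ P) ≅ Q(L|_B ⊗ P)`
  obtain ⟨i1⟩ := nonempty_iso_of_inverts DerivedCategory.Q (W B) (DRing.tensorCxQ B P)
    (isInvertedBy_tensorCxQ P hP) eE
  have i1' : (Q.obj (E ⊗ P) : Dual.D B) ≅ Q.obj (((resCx ψ).obj L) ⊗ P) := i1
  obtain ⟨i2⟩ := nonempty_Q_res_iso φ _ _ i1'
  have h1 := hasTorAmplitudeIn_of_iso i2 h0
  -- `(L|_B ⊗ P)|_A ≅ ((ext P) ⊗ L)|_A`
  have i3 : (resCx χ).obj (((extCx ψ).obj P) ⊗ L) ≅
      (resCx φ).obj (((resCx ψ).obj L) ⊗ P) :=
    (resCx χ).mapIso (DTen.braidCx ((extCx ψ).obj P) L) ≪≫ resCompIso φ ψ χ hχ _ ≪≫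
      (resCx φ).mapIso (resTenExtIso ψ L P)
  exact hasTorAmplitudeIn_of_iso (Q.mapIso i3.symm) h1

end Groth.Agent.Lib.helper13.TorLow
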