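import Mathlib
import Groth.Prelude.Def_DCoh3
import Groth.Prelude.Def_DerSch
import Groth.Agent.Lib.Helper13.TorLow7
import Groth.Agent.Lib.Helper13.TorLow9
import Groth.Agent.Lib.Helper13.StalkD
import Groth.Agent.Lib.Helper13.PCStalk2
import Groth.Agent.Lib.Helper17.FlatOver4

/-!
# From local relative flat representatives to stalkwise relative tor amplitude (helper13)

* `hasTorAmplitudeIn_res_of_res_ext_bijective`: for `l : A →+* B` bijective, tor amplitude over `R` of
  `(B ⊗_A K)|_R` gives tor amplitude of `K|_R`.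
* `hasTorAmplitudeAt_of_hasRelFlatAmplitudeIn_restrict`: if `F|_V` is isomorphic in `D(O_V)` to a complex
  vanishing outside `[a, b]` with terms flat over `S`, then the complex of stalks of `F` at every point of
  `V` has tor amplitude in `[a, b]` over the local ring of `S`.
-/

set_option autoImplicit false
universe u
open CategoryTheory CategoryTheory.Limits AlgebraicGeometry Opposite TopologicalSpace
open Scheme.Modules

attribute [local instance] HasDerivedCategory.standard

namespace Groth.Agent.Lib.helper13.RelPerfAff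

open Groth.Agent.Lib.helper23.TA Groth.Agent.Lib.helper13.TorLow DerivedCategory
  Groth.Agent.Lib.helper13.StalkD Groth.Agent.Lib.helper13.ExtKFlat

section Ring

variable {R A B : Type u} [CommRing R] [CommRing A] [CommRing B]

/-- for `l : A →+* B` bijective, tor amplitude over `R` of `(B ⊗_A K)|_R` gives tor amplitude of
`K|_R` -/
theorem hasTorAmplitudeIn_res_of_res_ext_bijective (φ : R →+* A) (l : A →+* B)
    (hl : Function.Bijective l) (K : DRing.Cx A) (a b : ℤ)
    (h : DRing.HasTorAmplitudeIn R a b (DRing.toD ((resCx (l.comp φ)).obj ((extCx l).obj K)))) :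
    DRing.HasTorAmplitudeIn R a b (DRing.toD ((resCx φ).obj K)) := by
  letI := l.toAlgebra
  have hal : algebraMap A B = l := rfl
  haveI : Module.FaithfullyFlat A B :=
    Module.FaithfullyFlat.of_linearEquiv A A
      (LinearEquiv.ofBijective (Algebra.linearMap A B) hl).symm
  refine hasTorAmplitudeIn_res_of_forall_res_ext φ (ι := Unit) (B := fun _ => B) (fun _ => l)
    (fun _ => ?_) (fun M hM => ?_) K a b (fun _ => h)
  · rw [← hal, RingHom.flat_algebraMap_iff]
    infer_instance
  · haveI := (Groth.Agent.Lib.helper23.ExtSc.subsingleton_extend_iff (B := B) M).1 (hM ())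
    exact Module.FaithfullyFlat.lTensor_reflects_triviality A B M

end Ring

section Sch

variable {X S : Scheme.{u}} (f : X ⟶ S)

/-- if `F|_V` is isomorphic in `D(O_V)` to a complex vanishing outside `[a, b]` with terms flat over
`S`, then the complex of stalks of `F` at every point of `V` has tor amplitude in `[a, b]` over the
local ring of `S` -/
theorem hasTorAmplitudeAt_of_hasRelFlatAmplitudeIn_restrict (F : CochainComplex X.Modules ℤ)
    (V : X.Opens) (a b : ℤ)
    (h : DCoh.HasRelFlatAmplitudeIn (V.ι ≫ f) a b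
      (DerivedCategory.Q.obj ((DCoh.restrictCx V).obj F)))
    (y : (V : Scheme.{u})) : DerSch.HasTorAmplitudeAt f a b F (V.ι.base y) := by
  obtain ⟨G, hGv, hGf, ⟨e⟩⟩ := h
  set j : (V : Scheme.{u}) ⟶ X := V.ι with hj
  set ψ := (f.stalkMap (j.base y)).hom with hψ
  set l := (j.stalkMap y).hom with hl
  have hbij : Function.Bijective l := ConcreteCategory.bijective_of_isIso (j.stalkMap y)
  obtain ⟨e1⟩ := nonempty_Q_stalk_iso y G ((DCoh.restrictCx V).obj F) e
  obtain ⟨e2⟩ := nonempty_Q_res_iso (l.comp ψ) _ _ e1
  -- the complex of stalks of `G` over the local ring of `S`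
  have h1 : DRing.HasTorAmplitudeIn (S.presheaf.stalk (f.base (j.base y))) a b
      (DRing.toD ((resCx (l.comp ψ)).obj ((stalkCx y).obj G))) := by
    refine ⟨(resCx (l.comp ψ)).obj ((stalkCx y).obj G), fun i hi => ?_, fun i => ?_, ⟨Iso.refl _⟩⟩
    · exact (ModuleCat.restrictScalars.{u} (l.comp ψ)).map_isZero
        ((DerSch.stalkFunctor _ y).map_isZero (hGv i hi))
    · exact (Groth.Agent.Lib.helper17.FlatOver4.isFlatOverAt_comp_iff j f (G.X i) y).1 (hGf i y)
  have h2 := hasTorAmplitudeIn_of_iso e2 h1
  obtain ⟨e3⟩ := nonempty_Q_res_iso (l.comp ψ) _ _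
    (Q.mapIso (Groth.Agent.Lib.helper13.PCStalk.stalkCxResIso j F y))
  have h3 := hasTorAmplitudeIn_of_iso e3 h2
  exact hasTorAmplitudeIn_res_of_res_ext_bijective ψ l hbij _ a b h3

end Sch

end Groth.Agent.Lib.helper13.RelPerfAff
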