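import Mathlib
import Groth.Agent.S7259
import Groth.Prelude.Def_DualSh
import Groth.Agent.Lib.Helper13.RelPerfAff2
import Groth.Agent.Lib.Helper13.RelPerfAff3
import Groth.Agent.Lib.Helper25.TildePC
import Groth.Agent.Lib.Helper23.DRingPC9

/-!
# Relative perfectness of `M~` on `Spec A` over `Spec R` (helper13)

* `hasFiniteTorDimCx_of_locHasFiniteRelTorDim`: if `M~` is locally of finite tor dimension relative to
  `Spec R` then `M|_R` has finite tor dimension (no flatness needed).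
* `locHasFiniteRelTorDim_tildeD_iff` (`A` flat over `R`).
* `relPerfect_tildeD_iff` (= S7264).
-/

set_option autoImplicit false
universe u
open CategoryTheory CategoryTheory.Limits AlgebraicGeometry
open Scheme.Modules

attribute [local instance] HasDerivedCategory.standard

namespace Groth.Agent.Lib.helper13.RelPerfAff

open Groth.Agent.Lib.helper25.DCohRestrict Groth.Agent.Lib.helper23.TA

variable (R A : Type u) [CommRing R] [CommRing A] [Algebra R A]
  [PreservesFiniteLimits (tilde.functor (CommRingCat.of A))]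

/-- if `M~` is locally of finite tor dimension relative to `Spec R` then `M|_R` has finite tor
dimension -/
theorem hasFiniteTorDimCx_of_locHasFiniteRelTorDim (M : Dual.D A)
    (h : DCoh.LocHasFiniteRelTorDim (Spec.map (CommRingCat.ofHom (algebraMap R A)))
      ((DCoh.tildeD (CommRingCat.of A)).obj M)) :
    DRing.HasFiniteTorDimCx R ((DRing.restrictD (algebraMap R A)).obj M) := by
  classical
  obtain ⟨F, ⟨eF⟩⟩ := exists_rep ((DCoh.tildeD (CommRingCat.of A)).obj M)
  choose V a b hx hrel using h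
  have hcov : (Set.univ : Set (Spec (CommRingCat.of A))) ⊆
      ⋃ x : Spec (CommRingCat.of A), ((V x : (Spec (CommRingCat.of A)).Opens) : Set _) :=
    fun y _ => Set.mem_iUnion.2 ⟨y, hx y⟩
  obtain ⟨t, ht⟩ := (isCompact_univ (X := Spec (CommRingCat.of A))).elim_finite_subcover
    (ι := Spec (CommRingCat.of A))
    (fun x => ((V x : (Spec (CommRingCat.of A)).Opens) : Set (Spec (CommRingCat.of A))))
    (fun x => (V x).isOpen) hcov
  obtain ⟨a₀, ha₀⟩ : ∃ a₀ : ℤ, ∀ x ∈ t, a₀ ≤ a x := by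
    obtain ⟨m, hm⟩ := (t.image a).bddBelow
    exact ⟨m, fun x hxt => hm (Finset.mem_coe.2 (Finset.mem_image_of_mem a hxt))⟩
  obtain ⟨b₀, hb₀⟩ : ∃ b₀ : ℤ, ∀ x ∈ t, b x ≤ b₀ := by
    obtain ⟨m, hm⟩ := (t.image b).bddAbove
    exact ⟨m, fun x hxt => hm (Finset.mem_coe.2 (Finset.mem_image_of_mem b hxt))⟩
  refine ⟨a₀, b₀, (Groth.Agent.S7259.result (algebraMap R A) M F ⟨eF⟩ a₀ b₀).1 (fun y => ?_)⟩
  obtain ⟨x, hxt, hy⟩ : ∃ x ∈ t, y ∈ (V x : Set _) := by
    have := ht (Set.mem_univ y)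
    simpa only [Set.mem_iUnion, exists_prop] using this
  have h1 := hasTorAmplitudeAt_of_hasRelFlatAmplitudeIn_restrict
    (Spec.map (CommRingCat.ofHom (algebraMap R A))) F (V x) (a x) (b x) (hrel x F ⟨eF⟩) ⟨y, hy⟩
  exact hasTorAmplitudeIn_mono h1 (ha₀ x hxt) (hb₀ x hxt)

variable [Module.Flat R A]

theorem locHasFiniteRelTorDim_tildeD_iff (M : Dual.D A) :
    DCoh.LocHasFiniteRelTorDim (Spec.map (CommRingCat.ofHom (algebraMap R A)))
        ((DCoh.tildeD (CommRingCat.of A)).obj M) ↔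
      DRing.HasFiniteTorDimCx R ((DRing.restrictD (algebraMap R A)).obj M) :=
  ⟨hasFiniteTorDimCx_of_locHasFiniteRelTorDim R A M,
    fun ⟨a, b, hab⟩ => locHasFiniteRelTorDim_tildeD R A M a b hab⟩

/-- `M~` is `Spec R`-perfect iff `M` is `R`-perfect -/
theorem relPerfect_tildeD_iff (M : Dual.D A) :
    ((∀ m : ℤ, DCoh.IsPseudoCoherentD m ((DCoh.tildeD (CommRingCat.of A)).obj M)) ∧
      DCoh.LocHasFiniteRelTorDim (Spec.map (CommRingCat.ofHom (algebraMap R A)))
        ((DCoh.tildeD (CommRingCat.of A)).obj M)) ↔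
    Dual2.IsRelPerfect R A M := by
  have h1 : (∀ m : ℤ, DCoh.IsPseudoCoherentD m ((DCoh.tildeD (CommRingCat.of A)).obj M)) ↔
      DRing.IsPseudoCoherent' A M := by
    rw [Groth.Agent.Lib.helper23.DRingPC.isPseudoCoherent'_iff_npc]
    exact forall_congr' fun m =>
      (Groth.Agent.Lib.Helper25.TildePC.isPseudoCoherentD_tildeD_iff A M m).trans
        (Groth.Agent.Lib.helper23.DRingPC.isPseudoCoherent_iff_npc A m M)
  unfold Dual2.IsRelPerfect
  rw [h1, locHasFiniteRelTorDim_tildeD_iff]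

end Groth.Agent.Lib.helper13.RelPerfAff
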