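import Mathlib
import Groth.Agent.Lib.Helper13.TorLow9
import Groth.Agent.Lib.Helper13.PCStalk1

/-!
# Tor amplitude, part 10 (helper13)

* `exactAt_tensor_of_hasTorAmplitudeIn_iso`: if `Y` has tor amplitude in `[a, b]`, `G` is K-flat and
  isomorphic in `D(A)` to a complex concentrated in degree `0`, then `Y ⊗ G` is exact outside
  `[a, b]`.
* `extResCounitIso`, `hasTorAmplitudeIn_of_res_bijective`: tor amplitude over `A'` can be tested
  after restriction along a bijective ring map `A →+* A'`.
-/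

set_option autoImplicit false
universe u
open CategoryTheory Limits HomologicalComplex MonoidalCategory

attribute [local instance] HasDerivedCategory.standard

namespace Groth.Agent.Lib.helper13.TorLow

open Groth.Agent.Lib.helper13.KFlat Groth.Agent.Lib.helper13.LTenCx
  Groth.Agent.Lib.helper23.TA Groth.Agent.Lib.helper13.ExtKFlat
  Groth.Agent.Lib.helper13.RKF Groth.Agent.Lib.helper13.DTenA DerivedCategory

section
variable {A : Type u} [CommRing A]

theorem exactAt_tensor_of_hasTorAmplitudeIn_iso (Y : DRing.Cx A) (a b : ℤ)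
    (hY : DRing.HasTorAmplitudeIn A a b (DRing.toD Y)) (G S : DRing.Cx A) (hG : IsKFlatR G)
    (e' : (Q.obj G : Dual.D A) ≅ Q.obj S) (hS : ∀ q, q ≠ 0 → IsZero (S.X q)) (j : ℤ)
    (hj : j < a ∨ b < j) : (Y ⊗ G).ExactAt j := by
  obtain ⟨E, hV, hfl, ⟨e⟩⟩ := hY
  have hE : IsKFlatR E :=
    isKFlatR_of_bounded_above E b (fun i hi => hV i (Or.inr hi)) hfl
  obtain ⟨i1⟩ := nonempty_iso_of_inverts DerivedCategory.Q (W A) (DRing.tensorCxQ A G)
    (isInvertedBy_tensorCxQ G hG) e
  have i1' : DerivedCategory.Q.obj (E ⊗ G) ≅ DerivedCategory.Q.obj (Y ⊗ G) := i1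
  rw [← exactAt_iff_of_iso_Q i1' j]
  obtain ⟨i2⟩ := nonempty_iso_of_inverts DerivedCategory.Q (W A) (tensorLeft E ⋙ DerivedCategory.Q)
    (isInvertedBy_tensorLeftQ E hE) e'
  have i2' : DerivedCategory.Q.obj (E ⊗ G) ≅ DerivedCategory.Q.obj (E ⊗ S) := i2
  rw [exactAt_iff_of_iso_Q i2' j, exactAt_tensor_single_iff E S hS j]
  exact HomologicalComplex.ExactAt.of_isZero ((tensorRight (S.X 0)).map_isZero (hV j hj))

end

section Bij
variable {A A' : Type u} [CommRing A] [CommRing A'] (σ : A →+* A') (hσ : Function.Bijective σ)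

include hσ in
lemma isEquivalence_restrictScalars_of_bijective :
    (ModuleCat.restrictScalars.{u} σ).IsEquivalence :=
  inferInstanceAs (ModuleCat.restrictScalars.{u} (RingEquiv.ofBijective σ hσ).toRingHom).IsEquivalence

include hσ in
/-- for bijective `σ`, `A' ⊗_A (N|_A) ≅ N` -/
noncomputable def extResCounitIso (N : DRing.Cx A') :
    (extCx σ).obj ((resCx σ).obj N) ≅ N :=
  haveI := isEquivalence_restrictScalars_of_bijective σ hσ
  haveI : IsIso (ModuleCat.extendRestrictScalarsAdj.{u, u, u} σ).counit := inferInstance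
  (NatIso.mapHomologicalComplex (asIso (ModuleCat.extendRestrictScalarsAdj.{u, u, u} σ).counit)
    (ComplexShape.up ℤ)).app N

include hσ in
theorem hasTorAmplitudeIn_of_res_bijective (N : DRing.Cx A') (a b : ℤ)
    (h : DRing.HasTorAmplitudeIn A a b (DRing.toD ((resCx σ).obj N))) :
    DRing.HasTorAmplitudeIn A' a b (DRing.toD N) := by
  have hfl : σ.Flat := by
    letI := σ.toAlgebra
    have : Module.Flat A A' :=
      Module.Flat.of_linearEquiv (LinearEquiv.ofBijective (Algebra.linearMap A A') hσ).symm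
    exact this
  have h1 := Groth.Agent.Lib.helper13.PCStalk.hasTorAmplitudeIn_extend_of_flat σ hfl _ a b h
  exact hasTorAmplitudeIn_of_iso (Q.mapIso (extResCounitIso σ hσ N)) h1

end Bij

end Groth.Agent.Lib.helper13.TorLow
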