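import Mathlib
import Groth.Prelude.Def_DCoh3
import Groth.Prelude.Def_DerSch
import Groth.Agent.Lib.Helper13.TorLow7
import Groth.Agent.Lib.Helper13.TorLow9
import Groth.Agent.Lib.Helper13.TorLow10
import Groth.Agent.Lib.Helper13.StalkD
import Groth.Agent.Lib.Helper13.PCStalk2
import Groth.Agent.Lib.Helper25.DCohRestrict

/-!
# Transfer of stalkwise relative tor amplitude along open immersions (helper13)

* `hasTorAmplitudeAt_of_Q_iso`: `HasTorAmplitudeAt` only depends on the class in the derived category.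
* `hasTorAmplitudeAt_res_of_openImmersions`: for a commutative square `g ≫ f = f' ≫ b` with `g`, `b` open
  immersions, `HasTorAmplitudeAt f a b F (g y)` gives `HasTorAmplitudeAt f' a b (g^* F) y`.
-/

set_option autoImplicit false
universe u
open CategoryTheory CategoryTheory.Limits AlgebraicGeometry Opposite TopologicalSpace
open Scheme.Modules

attribute [local instance] HasDerivedCategory.standard

namespace Groth.Agent.Lib.helper13.RelPerfAff

open Groth.Agent.Lib.helper23.TA Groth.Agent.Lib.helper13.TorLow DerivedCategory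
  Groth.Agent.Lib.helper13.StalkD Groth.Agent.Lib.helper13.ExtKFlat
  Groth.Agent.Lib.helper25.DCohRestrict

variable {X S : Scheme.{u}}

/-- `HasTorAmplitudeAt` only depends on the class in the derived category -/
theorem hasTorAmplitudeAt_of_Q_iso (f : X ⟶ S) (F₁ F₂ : CochainComplex X.Modules ℤ)
    (e : (Q.obj F₁ : DerivedCategory X.Modules) ≅ Q.obj F₂) (a b : ℤ) (x : X)
    (h : DerSch.HasTorAmplitudeAt f a b F₁ x) : DerSch.HasTorAmplitudeAt f a b F₂ x := by
  obtain ⟨e1⟩ := nonempty_Q_stalk_iso x F₁ F₂ e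
  obtain ⟨e2⟩ := nonempty_Q_res_iso (f.stalkMap x).hom _ _ e1
  have h' : DRing.HasTorAmplitudeIn (S.presheaf.stalk (f.base x)) a b
      (DRing.toD ((resCx (f.stalkMap x).hom).obj ((stalkCx x).obj F₁))) := h
  exact hasTorAmplitudeIn_of_iso e2 h'

variable {X' S' : Scheme.{u}}

/-- transfer of stalkwise relative tor amplitude along open immersions of the source and of the base -/
theorem hasTorAmplitudeAt_res_of_openImmersions (f : X ⟶ S) (f' : X' ⟶ S') (g : X' ⟶ X) (b : S' ⟶ S)
    [IsOpenImmersion g] [IsOpenImmersion b] (w : g ≫ f = f' ≫ b)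
    (F : CochainComplex X.Modules ℤ) (m n : ℤ) (y : X')
    (h : DerSch.HasTorAmplitudeAt f m n F (g.base y)) :
    DerSch.HasTorAmplitudeAt f' m n ((resCx g).obj F) y := by
  let N : DRing.Cx (X'.presheaf.stalk y) := (stalkCx y).obj ((resCx g).obj F)
  have h0 : DRing.HasTorAmplitudeIn (S.presheaf.stalk (f.base (g.base y))) m n
      (DRing.toD ((resCx (f.stalkMap (g.base y)).hom).obj ((stalkCx (g.base y)).obj F))) := h
  have hfl : (g.stalkMap y).hom.Flat := AlgebraicGeometry.Flat.stalkMap g y
  have h1 := hasTorAmplitudeIn_res_ext_of_flat (f.stalkMap (g.base y)).hom (g.stalkMap y).hom hfl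
    _ m n h0
  have hcomp : ((g ≫ f).stalkMap y).hom = (g.stalkMap y).hom.comp (f.stalkMap (g.base y)).hom := by
    rw [Scheme.Hom.stalkMap_comp]
    rfl
  have h2 : DRing.HasTorAmplitudeIn (S.presheaf.stalk ((g ≫ f).base y)) m n
      (DRing.toD ((resCx ((g ≫ f).stalkMap y).hom).obj N)) := by
    rw [hcomp]
    obtain ⟨e5⟩ := nonempty_Q_res_iso ((g.stalkMap y).hom.comp (f.stalkMap (g.base y)).hom) _ _
      (Q.mapIso (Groth.Agent.Lib.helper13.PCStalk.stalkCxResIso g F y))
    exact hasTorAmplitudeIn_of_iso e5.symm h1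
  have h3 : DRing.HasTorAmplitudeIn (S.presheaf.stalk ((f' ≫ b).base y)) m n
      (DRing.toD ((resCx ((f' ≫ b).stalkMap y).hom).obj N)) := w ▸ h2
  have hcomp' : ((f' ≫ b).stalkMap y).hom =
      (f'.stalkMap y).hom.comp (b.stalkMap (f'.base y)).hom := by
    rw [Scheme.Hom.stalkMap_comp]
    rfl
  have hbij : Function.Bijective (b.stalkMap (f'.base y)).hom :=
    ConcreteCategory.bijective_of_isIso (b.stalkMap (f'.base y))
  have h4 : DRing.HasTorAmplitudeIn (S.presheaf.stalk (b.base (f'.base y))) m n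
      (DRing.toD ((resCx (b.stalkMap (f'.base y)).hom).obj
        ((resCx (f'.stalkMap y).hom).obj N))) := by
    rw [hcomp'] at h3
    exact hasTorAmplitudeIn_of_iso (Q.mapIso (resCompIso _ _ _ rfl N)) h3
  exact hasTorAmplitudeIn_of_res_bijective _ hbij _ m n h4

end Groth.Agent.Lib.helper13.RelPerfAff
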