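import Mathlib
import Groth.Agent.Lib.Helper13.RelPerfAff4
import Groth.Agent.Lib.Helper13.RelPerfAff5
import Groth.Agent.Lib.Helper25.ExtendPCMain
import Groth.Agent.Lib.Helper25.DCohPerfect

/-!
# An `S`-perfect object is algebraically perfect on every affine chart pair (helper13)
-/

set_option autoImplicit false
universe u
open CategoryTheory CategoryTheory.Limits AlgebraicGeometry Opposite TopologicalSpace
open Scheme.Modules

attribute [local instance] HasDerivedCategory.standard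

namespace Groth.Agent.Lib.helper13.RelPerfAff

open Groth.Agent.Lib.helper23.TA DerivedCategory
  Groth.Agent.Lib.helper25.DCohRestrict Groth.Agent.Lib.helper25.DCohPC3

variable {X S : Scheme.{u}} (f : X ⟶ S)

/-- an `S`-perfect object is algebraically perfect on every affine chart pair -/
theorem isRelPerfect_of_relPerfect (E : DCoh.D X) (hpc : ∀ m : ℤ, DCoh.IsPseudoCoherentD m E)
    (hloc : DCoh.LocHasFiniteRelTorDim f E)
    (U : X.Opens) (hU : IsAffineOpen U) (V : S.Opens) (hV : IsAffineOpen V) (hUV : U ≤ f ⁻¹ᵁ V)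
    [PreservesFiniteLimits (tilde.functor Γ(X, U))]
    (M : DerivedCategory (ModuleCat.{u} Γ(X, U)))
    (e : (DCoh.restrictD hU.isoSpec.inv).obj ((DCoh.restrictD U.ι).obj E) ≅
      (DCoh.tildeD Γ(X, U)).obj M) :
    @Dual2.IsRelPerfect Γ(S, V) Γ(X, U) _ _ (f.appLE V U hUV).hom.toAlgebra M := by
  classical
  letI : Algebra Γ(S, V) Γ(X, U) := (f.appLE V U hUV).hom.toAlgebra
  haveI : PreservesFiniteLimits (tilde.functor (CommRingCat.of Γ(X, U))) :=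
    inferInstanceAs (PreservesFiniteLimits (tilde.functor Γ(X, U)))
  set a : Spec Γ(X, U) ⟶ (U : Scheme.{u}) := hU.isoSpec.inv with ha
  set g : Spec Γ(X, U) ⟶ X := a ≫ U.ι with hg
  set f' : Spec Γ(X, U) ⟶ Spec Γ(S, V) :=
    Spec.map (CommRingCat.ofHom (algebraMap Γ(S, V) Γ(X, U))) with hf'
  have w : g ≫ f = f' ≫ hV.fromSpec := (IsAffineOpen.SpecMap_appLE_fromSpec f hV hU hUV).symm
  -- pseudo-coherence
  have hpcM : ∀ m : ℤ, DCoh.IsPseudoCoherentD m ((DCoh.tildeD Γ(X, U)).obj M) := fun m =>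
    isPseudoCoherentD_of_iso e
      (Groth.Agent.Lib.Helper25.ExtendPCMain.isPseudoCoherentD_restrictD_of_isOpenImmersion a
        (Groth.Agent.Lib.Helper25.ExtendPCMain.isPseudoCoherentD_restrictD_of_isOpenImmersion U.ι
          (hpc m)))
  have hpc' : DRing.IsPseudoCoherent' Γ(X, U) M := by
    rw [Groth.Agent.Lib.helper23.DRingPC.isPseudoCoherent'_iff_npc]
    intro m
    exact (Groth.Agent.Lib.helper23.DRingPC.isPseudoCoherent_iff_npc _ m M).1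
      ((Groth.Agent.Lib.Helper25.TildePC.isPseudoCoherentD_tildeD_iff _ M m).1 (hpcM m))
  refine ⟨hpc', ?_⟩
  -- tor dimension
  obtain ⟨F', ⟨eF'⟩⟩ := exists_rep E
  set F'' : CochainComplex (Spec Γ(X, U)).Modules ℤ := (resCx a).obj ((resCx U.ι).obj F') with hF''
  have eF'' : DCoh.toD _ F'' ≅ (DCoh.tildeD Γ(X, U)).obj M :=
    (resDQIso a _).symm ≪≫ (DCoh.restrictD a).mapIso ((resDQIso U.ι F').symm ≪≫
      (DCoh.restrictD U.ι).mapIso eF') ≪≫ e
  have hpt : ∀ y : Spec Γ(X, U), ∃ (W : (Spec Γ(X, U)).Opens) (a₀ b₀ : ℤ), y ∈ W ∧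
      ∀ y' : Spec Γ(X, U), y' ∈ W → DerSch.HasTorAmplitudeAt f' a₀ b₀ F'' y' := by
    intro y
    obtain ⟨Vx, a₀, b₀, hxV, hrel⟩ := hloc (g.base y)
    refine ⟨g ⁻¹ᵁ Vx, a₀, b₀, hxV, fun y' hy' => ?_⟩
    have h1 := hasTorAmplitudeAt_of_hasRelFlatAmplitudeIn_restrict f F' Vx a₀ b₀
      (hrel F' ⟨eF'⟩) ⟨g.base y', hy'⟩
    have h2 := hasTorAmplitudeAt_res_of_openImmersions f f' g hV.fromSpec w F' a₀ b₀ y' h1
    exact hasTorAmplitudeAt_of_Q_iso f' _ _ (Q.mapIso (resCxCompIso a U.ι F')) a₀ b₀ y' h2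
  choose W a₀ b₀ hyW hW using hpt
  have hcov : (Set.univ : Set (Spec Γ(X, U))) ⊆
      ⋃ y : Spec Γ(X, U), ((W y : (Spec Γ(X, U)).Opens) : Set _) :=
    fun y _ => Set.mem_iUnion.2 ⟨y, hyW y⟩
  obtain ⟨t, ht⟩ := (isCompact_univ (X := Spec Γ(X, U))).elim_finite_subcover
    (ι := Spec Γ(X, U))
    (fun y => ((W y : (Spec Γ(X, U)).Opens) : Set (Spec Γ(X, U))))
    (fun y => (W y).isOpen) hcov
  obtain ⟨a₁, ha₁⟩ : ∃ a₁ : ℤ, ∀ y ∈ t, a₁ ≤ a₀ y := by
    obtain ⟨m, hm⟩ := (t.image a₀).bddBelow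
    exact ⟨m, fun y hyt => hm (Finset.mem_coe.2 (Finset.mem_image_of_mem a₀ hyt))⟩
  obtain ⟨b₁, hb₁⟩ : ∃ b₁ : ℤ, ∀ y ∈ t, b₀ y ≤ b₁ := by
    obtain ⟨m, hm⟩ := (t.image b₀).bddAbove
    exact ⟨m, fun y hyt => hm (Finset.mem_coe.2 (Finset.mem_image_of_mem b₀ hyt))⟩
  refine ⟨a₁, b₁, (Groth.Agent.S7259.result (algebraMap Γ(S, V) Γ(X, U)) M F'' ⟨eF''⟩ a₁ b₁).1
    (fun y' => ?_)⟩
  obtain ⟨y, hyt, hy'⟩ : ∃ y ∈ t, y' ∈ (W y : Set _) := by
    have := ht (Set.mem_univ y')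
    simpa only [Set.mem_iUnion, exists_prop] using this
  exact hasTorAmplitudeIn_mono (hW y y' hy') (ha₁ y hyt) (hb₁ y hyt)

end Groth.Agent.Lib.helper13.RelPerfAff
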