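import Mathlib
import Groth.Agent.Lib.Helper13.RelPerfAff6
import Groth.Agent.Lib.Helper25.RGZ4
import Groth.Agent.Lib.Helper25.RestrictDNat
import Groth.Agent.Lib.Helper25.DCohPC4
import Groth.Agent.Lib.Helper11.LimFlatPt
import Groth.Agent.S0997

/-!
# Algebraic perfectness on affine chart pairs of a cover gives `S`-perfectness (helper13)
-/

set_option autoImplicit false
universe u
open CategoryTheory CategoryTheory.Limits AlgebraicGeometry Opposite TopologicalSpace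
open Scheme.Modules

attribute [local instance] HasDerivedCategory.standard

namespace Groth.Agent.Lib.helper13.RelPerfAff

open Groth.Agent.Lib.helper23.TA DerivedCategory
  Groth.Agent.Lib.helper25.DCohRestrict Groth.Agent.Lib.helper25.DCohPC3

variable {X S : Scheme.{u}} (f : X ⟶ S)

/-- algebraic perfectness on an affine chart pair `(U, V)` gives pseudo-coherence and a bounded
`S`-flat representative over `U` -/
theorem local_of_isRelPerfect [Flat f] (E : DCoh.D X) (hE : DCoh.IsQCohD E)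
    (U : X.Opens) (hU : IsAffineOpen U) (V : S.Opens) (hV : IsAffineOpen V) (hUV : U ≤ f ⁻¹ᵁ V)
    [PreservesFiniteLimits (tilde.functor Γ(X, U))]
    (h : ∀ M : DerivedCategory (ModuleCat.{u} Γ(X, U)),
      Nonempty ((DCoh.restrictD hU.isoSpec.inv).obj ((DCoh.restrictD U.ι).obj E) ≅
          (DCoh.tildeD Γ(X, U)).obj M) →
        @Dual2.IsRelPerfect Γ(S, V) Γ(X, U) _ _ (f.appLE V U hUV).hom.toAlgebra M) :
    (∀ m : ℤ, DCoh.IsPseudoCoherentD m ((DCoh.restrictD U.ι).obj E)) ∧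
      ∃ a₀ b₀ : ℤ, DCoh.HasRelFlatAmplitudeIn (U.ι ≫ f) a₀ b₀ ((DCoh.restrictD U.ι).obj E) := by
  classical
  letI : Algebra Γ(S, V) Γ(X, U) := (f.appLE V U hUV).hom.toAlgebra
  haveI : PreservesFiniteLimits (tilde.functor (CommRingCat.of Γ(X, U))) :=
    inferInstanceAs (PreservesFiniteLimits (tilde.functor Γ(X, U)))
  haveI : Module.Flat Γ(S, V) Γ(X, U) :=
    HasRingHomProperty.appLE (P := @Flat) f inferInstance ⟨V, hV⟩ ⟨U, hU⟩ hUV
  set a : Spec Γ(X, U) ⟶ (U : Scheme.{u}) := hU.isoSpec.inv with ha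
  haveI : IsIso a := inferInstanceAs (IsIso hU.isoSpec.inv)
  set K : DCoh.D (U : Scheme.{u}) := (DCoh.restrictD U.ι).obj E with hK
  set f' : Spec Γ(X, U) ⟶ Spec Γ(S, V) :=
    Spec.map (CommRingCat.ofHom (algebraMap Γ(S, V) Γ(X, U))) with hf'
  have w : (a ≫ U.ι) ≫ f = f' ≫ hV.fromSpec :=
    (IsAffineOpen.SpecMap_appLE_fromSpec f hV hU hUV).symm
  have hq : DCoh.IsQCohD ((DCoh.restrictD a).obj K) :=
    Groth.Agent.Lib.Helper25.RGZ4.isQCohD_restrictD a _
      (Groth.Agent.Lib.Helper25.RGZ4.isQCohD_restrictD U.ι E hE)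
  obtain ⟨M, ⟨eM⟩⟩ := ((Groth.Agent.S0997.result Γ(X, U)).2.2 _).1 hq
  obtain ⟨hpc', a₀, b₀, htor⟩ := h M ⟨eM.symm⟩
  -- transport back along the isomorphism `a`
  have eback : (DCoh.restrictD (inv a)).obj ((DCoh.restrictD a).obj K) ≅ K :=
    ((Groth.Agent.Lib.Helper25.RestrictDNat.equivOfIso a).unitIso.app K).symm
  refine ⟨fun m => ?_, a₀, b₀, ?_⟩
  · have h1 : DCoh.IsPseudoCoherentD m ((DCoh.tildeD Γ(X, U)).obj M) := by
      rw [Groth.Agent.Lib.helper23.DRingPC.isPseudoCoherent'_iff_npc] at hpc'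
      exact (Groth.Agent.Lib.Helper25.TildePC.isPseudoCoherentD_tildeD_iff _ M m).2
        ((Groth.Agent.Lib.helper23.DRingPC.isPseudoCoherent_iff_npc _ m M).2 (hpc' m))
    have h2 := isPseudoCoherentD_of_iso eM h1
    exact isPseudoCoherentD_of_iso eback
      (Groth.Agent.Lib.Helper25.ExtendPCMain.isPseudoCoherentD_restrictD_of_isOpenImmersion
        (inv a) h2)
  · obtain ⟨G, hGv, hGf, ⟨eG⟩⟩ := exists_relFlat_rep M a₀ b₀ htor
    set E'' : CochainComplex (Spec Γ(X, U)).Modules ℤ :=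
      ((tilde.functor (CommRingCat.of Γ(X, U))).mapHomologicalComplex (ComplexShape.up ℤ)).obj G
      with hE''
    have eE'' : DCoh.toD _ E'' ≅ (DCoh.tildeD Γ(X, U)).obj M :=
      ((tilde.functor (CommRingCat.of Γ(X, U))).mapDerivedCategoryFactors.app G).symm ≪≫
        (DCoh.tildeD (CommRingCat.of Γ(X, U))).mapIso eG
    refine ⟨(resCx (inv a)).obj E'', fun i hi => ?_, fun i => ?_,
      ⟨(resDQIso (inv a) E'').symm ≪≫ (DCoh.restrictD (inv a)).mapIso (eE'' ≪≫ eM) ≪≫ eback⟩⟩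
    · exact (restrictFunctor _).map_isZero
        ((tilde.functor (CommRingCat.of Γ(X, U))).map_isZero (hGv i hi))
    · set N := G.X i with hN
      letI : Module Γ(S, V) N := Module.compHom N (algebraMap Γ(S, V) Γ(X, U))
      haveI : IsScalarTower Γ(S, V) Γ(X, U) N := IsScalarTower.of_algebraMap_smul (fun r x => rfl)
      haveI : Module.Flat Γ(S, V) N := hGf i
      have hfl1 : FlatMod.IsFlatOver f' (tilde (ModuleCat.of Γ(X, U) N)) :=
        (Groth.Agent.Lib.helper17.FlatOver2.tilde_isFlatOver_iff Γ(S, V) Γ(X, U) N).2 inferInstance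
      have hfl2 : FlatMod.IsFlatOver (f' ≫ hV.fromSpec) (tilde (ModuleCat.of Γ(X, U) N)) :=
        fun y => (Groth.Agent.Lib.helper11.LimFlatPt.isFlatOverAt_comp_openImmersion_iff f'
          hV.fromSpec _ y).2 (hfl1 y)
      have hfl3 := Groth.Agent.Lib.helper17.FlatOver4.isFlatOver_pullback_of_flat (inv a)
        (f' ≫ hV.fromSpec) (tilde (ModuleCat.of Γ(X, U) N)) hfl2
      have heq : inv a ≫ (f' ≫ hV.fromSpec) = U.ι ≫ f := by
        rw [← w, Category.assoc, IsIso.inv_hom_id_assoc]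
      have hfl4 := (Groth.Agent.Lib.helper17.FlatOver7.isFlatOver_congr heq _).1 hfl3
      exact (Groth.Agent.Lib.helper17.FlatOver7.isFlatOver_iff_of_iso _
        ((restrictFunctorIsoPullback (inv a)).app (tilde N))).2 hfl4

/-- `S`-perfectness is local on the source, in the form: pseudo-coherence and a bounded `S`-flat
representative over the members of an open cover -/
theorem relPerfect_of_cover (E : DCoh.D X)
    (h : ∀ x : X, ∃ U : X.Opens, x ∈ U ∧
      (∀ m : ℤ, DCoh.IsPseudoCoherentD m ((DCoh.restrictD U.ι).obj E)) ∧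
      ∃ a₀ b₀ : ℤ, DCoh.HasRelFlatAmplitudeIn (U.ι ≫ f) a₀ b₀ ((DCoh.restrictD U.ι).obj E)) :
    (∀ m : ℤ, DCoh.IsPseudoCoherentD m E) ∧ DCoh.LocHasFiniteRelTorDim f E := by
  refine ⟨fun m => ?_, fun x => ?_⟩
  · refine Groth.Agent.Lib.helper25.DCohPC4.isPseudoCoherentD_of_restrict (fun x => ?_)
    obtain ⟨U, hxU, hpc, -⟩ := h x
    exact ⟨U, hxU, hpc m⟩
  · obtain ⟨U, hxU, -, a₀, b₀, G, hGv, hGf, ⟨eG⟩⟩ := h x
    exact ⟨U, a₀, b₀, hxU, fun F' ⟨eF'⟩ => ⟨G, hGv, hGf,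
      ⟨eG ≪≫ (DCoh.restrictD U.ι).mapIso eF'.symm ≪≫ resDQIso U.ι F'⟩⟩⟩

end Groth.Agent.Lib.helper13.RelPerfAff
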