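import Mathlib
import Groth.Agent.Lib.Helper13.RelPerfAff7
import Groth.Agent.S7074
import Groth.Agent.S9827
import Groth.Agent.Lib.Helper25.RpushPCUnbdd
import Groth.Agent.Lib.Helper16.QCohPullback2
import Groth.Agent.Lib.Helper25.FLFLocus

/-!
# `S`-perfect objects are locally bounded complexes of finitely presented `S`-flat modules (helper13)
-/

set_option autoImplicit false
universe u
open CategoryTheory CategoryTheory.Limits AlgebraicGeometry Opposite TopologicalSpace
open Scheme.Modules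

attribute [local instance] HasDerivedCategory.standard

namespace Groth.Agent.Lib.helper13.RelPerfAff

open Groth.Agent.Lib.helper23.TA DerivedCategory
  Groth.Agent.Lib.helper25.DCohRestrict Groth.Agent.Lib.helper25.DCohPC3

/-- restriction along an open immersion preserves finite presentation -/
theorem isFP_restrictFunctor {Y' Y : Scheme.{u}} (j : Y' ⟶ Y) [IsOpenImmersion j] (F : Y.Modules)
    (hF : CohB1.IsFP F) : CohB1.IsFP ((restrictFunctor j).obj F) :=
  Groth.Agent.Lib.helper25.FLFLocus.isFP_of_iso ((restrictFunctorIsoPullback j).app F).symm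
    (Groth.Agent.Lib.helper16.QCohPullback2.isFinitePresentation_pullback j F hF)

/-- restriction along an open immersion preserves flatness over the base -/
theorem isFlatOver_restrictFunctor {Y' Y S : Scheme.{u}} (j : Y' ⟶ Y) [IsOpenImmersion j]
    (g : Y ⟶ S) (F : Y.Modules) [F.IsQuasicoherent] (hF : FlatMod.IsFlatOver g F) :
    FlatMod.IsFlatOver (j ≫ g) ((restrictFunctor j).obj F) :=
  (Groth.Agent.Lib.helper17.FlatOver7.isFlatOver_iff_of_iso _
    ((restrictFunctorIsoPullback j).app F)).2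
    (Groth.Agent.Lib.helper17.FlatOver4.isFlatOver_pullback_of_flat j g F hF)

variable {X S : Scheme.{u}} (f : X ⟶ S)

/-- an `S`-perfect object is, over a small affine open around any point, a bounded complex of
finitely presented `S`-flat modules -/
theorem local_fp_of_relPerfect [Flat f] [LocallyOfFinitePresentation f] (E : DCoh.D X)
    (hpc : ∀ m : ℤ, DCoh.IsPseudoCoherentD m E) (hloc : DCoh.LocHasFiniteRelTorDim f E)
    (U : X.Opens) (hU : IsAffineOpen U) (V : S.Opens) (hV : IsAffineOpen V) (hUV : U ≤ f ⁻¹ᵁ V)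
    [PreservesFiniteLimits (tilde.functor Γ(X, U))] :
    ∃ (G : CochainComplex (U : Scheme.{u}).Modules ℤ) (a b : ℤ), DCoh.VanishesOutside G a b ∧
      (∀ i : ℤ, CohB1.IsFP (G.X i) ∧ FlatMod.IsFlatOver (U.ι ≫ f) (G.X i)) ∧
      Nonempty (DCoh.toD _ G ≅ (DCoh.restrictD U.ι).obj E) := by
  classical
  letI : Algebra Γ(S, V) Γ(X, U) := (f.appLE V U hUV).hom.toAlgebra
  haveI : PreservesFiniteLimits (tilde.functor (CommRingCat.of Γ(X, U))) :=
    inferInstanceAs (PreservesFiniteLimits (tilde.functor Γ(X, U)))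
  haveI : Module.Flat Γ(S, V) Γ(X, U) :=
    HasRingHomProperty.appLE (P := @Flat) f inferInstance ⟨V, hV⟩ ⟨U, hU⟩ hUV
  haveI : Algebra.FinitePresentation Γ(S, V) Γ(X, U) :=
    HasRingHomProperty.appLE (P := @LocallyOfFinitePresentation) f inferInstance ⟨V, hV⟩ ⟨U, hU⟩ hUV
  have hE : DCoh.IsQCohD E :=
    Groth.Agent.Lib.Helper25.RpushPCUnbdd.isQCohD_of_isPseudoCoherentD E hpc
  set a : Spec Γ(X, U) ⟶ (U : Scheme.{u}) := hU.isoSpec.inv with ha
  haveI : IsIso a := inferInstanceAs (IsIso hU.isoSpec.inv)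
  set K : DCoh.D (U : Scheme.{u}) := (DCoh.restrictD U.ι).obj E with hK
  set f' : Spec Γ(X, U) ⟶ Spec Γ(S, V) :=
    Spec.map (CommRingCat.ofHom (algebraMap Γ(S, V) Γ(X, U))) with hf'
  have w : (a ≫ U.ι) ≫ f = f' ≫ hV.fromSpec :=
    (IsAffineOpen.SpecMap_appLE_fromSpec f hV hU hUV).symm
  have hq : DCoh.IsQCohD ((DCoh.restrictD a).obj K) :=
    Groth.Agent.Lib.Helper25.RGZ4.isQCohD_restrictD a _
      (Groth.Agent.Lib.Helper25.RGZ4.isQCohD_restrictD U.ι E hE)
  obtain ⟨M, ⟨eM⟩⟩ := ((Groth.Agent.S0997.result Γ(X, U)).2.2 _).1 hq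
  have hrel := isRelPerfect_of_relPerfect f E hpc hloc U hU V hV hUV M eM.symm
  obtain ⟨G, a₀, b₀, hGv, hGt, ⟨eG⟩⟩ := (Groth.Agent.S7074.result Γ(S, V) Γ(X, U) M).1 hrel
  have eback : (DCoh.restrictD (inv a)).obj ((DCoh.restrictD a).obj K) ≅ K :=
    ((Groth.Agent.Lib.Helper25.RestrictDNat.equivOfIso a).unitIso.app K).symm
  set E'' : CochainComplex (Spec Γ(X, U)).Modules ℤ :=
    ((tilde.functor (CommRingCat.of Γ(X, U))).mapHomologicalComplex (ComplexShape.up ℤ)).obj G
    with hE''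
  have eE'' : DCoh.toD _ E'' ≅ (DCoh.tildeD Γ(X, U)).obj M :=
    ((tilde.functor (CommRingCat.of Γ(X, U))).mapDerivedCategoryFactors.app G).symm ≪≫
      (DCoh.tildeD (CommRingCat.of Γ(X, U))).mapIso eG
  refine ⟨(resCx (inv a)).obj E'', a₀, b₀, fun i hi => ?_, fun i => ⟨?_, ?_⟩,
    ⟨(resDQIso (inv a) E'').symm ≪≫ (DCoh.restrictD (inv a)).mapIso (eE'' ≪≫ eM) ≪≫ eback⟩⟩
  · exact (restrictFunctor _).map_isZero
      ((tilde.functor (CommRingCat.of Γ(X, U))).map_isZero (hGv i hi))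
  · haveI := (hGt i).1
    exact isFP_restrictFunctor (inv a) _
      ((Groth.Agent.S9827.result (CommRingCat.of Γ(X, U)) (G.X i)).2 inferInstance)
  · set N := G.X i with hN
    letI : Module Γ(S, V) N := Module.compHom N (algebraMap Γ(S, V) Γ(X, U))
    haveI : IsScalarTower Γ(S, V) Γ(X, U) N := IsScalarTower.of_algebraMap_smul (fun r x => rfl)
    haveI : Module.Flat Γ(S, V) N := (hGt i).2
    have hfl1 : FlatMod.IsFlatOver f' (tilde (ModuleCat.of Γ(X, U) N)) :=
      (Groth.Agent.Lib.helper17.FlatOver2.tilde_isFlatOver_iff Γ(S, V) Γ(X, U) N).2 inferInstance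
    have hfl2 : FlatMod.IsFlatOver (f' ≫ hV.fromSpec) (tilde (ModuleCat.of Γ(X, U) N)) :=
      fun y => (Groth.Agent.Lib.helper11.LimFlatPt.isFlatOverAt_comp_openImmersion_iff f'
        hV.fromSpec _ y).2 (hfl1 y)
    have hfl3 := isFlatOver_restrictFunctor (inv a) (f' ≫ hV.fromSpec)
      (tilde (ModuleCat.of Γ(X, U) N)) hfl2
    have heq : inv a ≫ (f' ≫ hV.fromSpec) = U.ι ≫ f := by
      rw [← w, Category.assoc, IsIso.inv_hom_id_assoc]
    exact (Groth.Agent.Lib.helper17.FlatOver7.isFlatOver_congr heq _).1 hfl3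

end Groth.Agent.Lib.helper13.RelPerfAff
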