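import Mathlib
import Groth.Agent.Lib.Helper13.RelPerfAff8


/-!
# Bounded complexes of finitely presented `S`-flat modules are pseudo-coherent (helper13)
-/
set_option autoImplicit false
universe u
open CategoryTheory CategoryTheory.Limits AlgebraicGeometry Opposite TopologicalSpace
open Scheme.Modules

attribute [local instance] HasDerivedCategory.standard

namespace Groth.Agent.Lib.helper13.RelPerfAff

open Groth.Agent.Lib.helper23.TA DerivedCategory
  Groth.Agent.Lib.helper25.DCohRestrict Groth.Agent.Lib.helper25.DCohPC3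

instance instAdditiveΓ (R : CommRingCat.{u}) : (moduleSpecΓFunctor (R := R)).Additive :=
  (tilde.adjunction (R := R)).right_adjoint_additive

theorem isIso_fromTildeΓNatTrans_app (R : CommRingCat.{u}) (M : (Spec R).Modules)
    [M.IsQuasicoherent] : IsIso ((fromTildeΓNatTrans (R := R)).app M) :=
  inferInstanceAs (IsIso M.fromTildeΓ)

/-- a complex of quasi-coherent modules on `Spec R` is the tilde of its complex of global sections -/
noncomputable def cxTildeΓIso (R : CommRingCat.{u}) (K : CochainComplex (Spec R).Modules ℤ)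
    (hK : ∀ i : ℤ, (K.X i).IsQuasicoherent) :
    ((tilde.functor R).mapHomologicalComplex (ComplexShape.up ℤ)).obj
      (((moduleSpecΓFunctor (R := R)).mapHomologicalComplex (ComplexShape.up ℤ)).obj K) ≅ K :=
  HomologicalComplex.Hom.isoOfComponents
    (fun i => @asIso _ _ _ _ ((fromTildeΓNatTrans (R := R)).app (K.X i))
      (@isIso_fromTildeΓNatTrans_app R (K.X i) (hK i)))
    (fun i j _ => by
      exact ((fromTildeΓNatTrans (R := R)).naturality (K.d i j)).symm)

/-- on an affine scheme `Spec R` with `A → R` flat of finite presentation, a bounded complex of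
finitely presented modules which are flat over `A` is pseudo-coherent -/
theorem pc_of_fp_flat_spec (A : Type u) [CommRing A] (R : CommRingCat.{u}) [Algebra A R]
    [Module.Flat A R] [Algebra.FinitePresentation A R]
    [PreservesFiniteLimits (tilde.functor R)]
    (G : CochainComplex (Spec R).Modules ℤ) (a b : ℤ)
    (hGv : DCoh.VanishesOutside G a b)
    (hG : ∀ i : ℤ, CohB1.IsFP (G.X i) ∧
      FlatMod.IsFlatOver (Spec.map (CommRingCat.ofHom (algebraMap A R))) (G.X i)) (m : ℤ) :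
    DCoh.IsPseudoCoherentD m (DCoh.toD _ G) := by
  have hq : ∀ i, (G.X i).IsQuasicoherent := fun i => by
    haveI := (hG i).1
    infer_instance
  set ΓG : DRing.Cx R :=
    ((moduleSpecΓFunctor (R := R)).mapHomologicalComplex (ComplexShape.up ℤ)).obj G with hΓG
  have eG : ((tilde.functor R).mapHomologicalComplex (ComplexShape.up ℤ)).obj ΓG ≅
      G := cxTildeΓIso R G hq
  have hrel : Dual2.IsRelPerfect A R (DRing.toD ΓG) := by
    refine (Groth.Agent.S7074.result A R _).2
      ⟨ΓG, a, b, fun i hi => ?_, fun i => ⟨?_, ?_⟩, ⟨Iso.refl _⟩⟩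
    · exact (moduleSpecΓFunctor (R := R)).map_isZero (hGv i hi)
    · have e : tilde (ΓG.X i) ≅ G.X i := (HomologicalComplex.eval _ _ i).mapIso eG
      exact (Groth.Agent.S9827.result R (ΓG.X i)).1
        (Groth.Agent.Lib.helper25.FLFLocus.isFP_of_iso e.symm (hG i).1)
    · have e : tilde (ΓG.X i) ≅ G.X i := (HomologicalComplex.eval _ _ i).mapIso eG
      have h1 := (Groth.Agent.Lib.helper17.FlatOver7.isFlatOver_iff_of_iso _ e).2 (hG i).2
      exact (Groth.Agent.Lib.helper17.FlatOver2.tilde_isFlatOver_iff'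
        (CommRingCat.ofHom (algebraMap A R)) (ΓG.X i)).1 h1
  have hpc' := hrel.1
  rw [Groth.Agent.Lib.helper23.DRingPC.isPseudoCoherent'_iff_npc] at hpc'
  have h1 : DCoh.IsPseudoCoherentD m ((DCoh.tildeD R).obj (DRing.toD ΓG)) :=
    (Groth.Agent.Lib.Helper25.TildePC.isPseudoCoherentD_tildeD_iff _ _ m).2
      ((Groth.Agent.Lib.helper23.DRingPC.isPseudoCoherent_iff_npc _ m _).2 (hpc' m))
  exact isPseudoCoherentD_of_iso
    (((tilde.functor R).mapDerivedCategoryFactors.app ΓG) ≪≫ Q.mapIso eG) h1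

/-- for `g : Y ⟶ S` flat and locally of finite presentation, a bounded complex of finitely presented
`O_Y`-modules which are flat over `S` is pseudo-coherent -/
theorem pc_of_fp_flat {Y S : Scheme.{u}} (g : Y ⟶ S) [Flat g] [LocallyOfFinitePresentation g]
    [∀ R : CommRingCat.{u}, PreservesFiniteLimits (tilde.functor R)]
    (G : CochainComplex Y.Modules ℤ) (a b : ℤ) (hGv : DCoh.VanishesOutside G a b)
    (hG : ∀ i : ℤ, CohB1.IsFP (G.X i) ∧ FlatMod.IsFlatOver g (G.X i)) (m : ℤ) :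
    DCoh.IsPseudoCoherentD m (DCoh.toD _ G) := by
  classical
  refine Groth.Agent.Lib.helper25.DCohPC4.isPseudoCoherentD_of_restrict (fun y => ?_)
  obtain ⟨V, hV, hgyV⟩ : ∃ V : S.Opens, IsAffineOpen V ∧ g y ∈ V := by
    obtain ⟨V, hV, hgyV, -⟩ :=
      TopologicalSpace.Opens.isBasis_iff_nbhd.1 S.isBasis_affineOpens
        (show g y ∈ (⊤ : S.Opens) from trivial)
    exact ⟨V, hV, hgyV⟩
  obtain ⟨U, hU, hyU, hUV⟩ : ∃ U : Y.Opens, IsAffineOpen U ∧ y ∈ U ∧ U ≤ g ⁻¹ᵁ V := by
    obtain ⟨U, hU, hyU, hUV⟩ :=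
      TopologicalSpace.Opens.isBasis_iff_nbhd.1 Y.isBasis_affineOpens
        (show y ∈ (g ⁻¹ᵁ V : Y.Opens) from hgyV)
    exact ⟨U, hU, hyU, hUV⟩
  refine ⟨U, hyU, ?_⟩
  letI : Algebra Γ(S, V) Γ(Y, U) := (g.appLE V U hUV).hom.toAlgebra
  haveI : Module.Flat Γ(S, V) Γ(Y, U) :=
    HasRingHomProperty.appLE (P := @Flat) g inferInstance ⟨V, hV⟩ ⟨U, hU⟩ hUV
  haveI : Algebra.FinitePresentation Γ(S, V) Γ(Y, U) :=
    HasRingHomProperty.appLE (P := @LocallyOfFinitePresentation) g inferInstance ⟨V, hV⟩ ⟨U, hU⟩ hUV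
  set a' : Spec Γ(Y, U) ⟶ (U : Scheme.{u}) := hU.isoSpec.inv with ha'
  haveI : IsIso a' := inferInstanceAs (IsIso hU.isoSpec.inv)
  set f' : Spec Γ(Y, U) ⟶ Spec Γ(S, V) :=
    Spec.map (CommRingCat.ofHom (algebraMap Γ(S, V) Γ(Y, U))) with hf'
  have w : (a' ≫ U.ι) ≫ g = f' ≫ hV.fromSpec :=
    (IsAffineOpen.SpecMap_appLE_fromSpec g hV hU hUV).symm
  set G₁ : CochainComplex (U : Scheme.{u}).Modules ℤ := (resCx U.ι).obj G with hG₁
  set G₂ : CochainComplex (Spec Γ(Y, U)).Modules ℤ := (resCx a').obj G₁ with hG₂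
  have hG₂t : ∀ i : ℤ, CohB1.IsFP (G₂.X i) ∧ FlatMod.IsFlatOver f' (G₂.X i) := fun i => by
    refine ⟨isFP_restrictFunctor a' _ (isFP_restrictFunctor U.ι _ (hG i).1), ?_⟩
    haveI : (G.X i).IsQuasicoherent := by
      haveI := (hG i).1
      infer_instance
    have h1 := isFlatOver_restrictFunctor U.ι g (G.X i) (hG i).2
    haveI : ((restrictFunctor U.ι).obj (G.X i)).IsQuasicoherent :=
      Scheme.Modules.isQuasicoherent_restrictFunctor U.ι (G.X i)
    have h2 := isFlatOver_restrictFunctor a' (U.ι ≫ g) _ h1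
    have h3 := (Groth.Agent.Lib.helper17.FlatOver7.isFlatOver_congr
      (show a' ≫ U.ι ≫ g = f' ≫ hV.fromSpec by rw [← Category.assoc, w]) _).1 h2
    exact fun z => (Groth.Agent.Lib.helper11.LimFlatPt.isFlatOverAt_comp_openImmersion_iff f'
      hV.fromSpec _ z).1 (h3 z)
  have hG₂v : DCoh.VanishesOutside G₂ a b := fun i hi =>
    (restrictFunctor a').map_isZero ((restrictFunctor U.ι).map_isZero (hGv i hi))
  have hpc2 := pc_of_fp_flat_spec Γ(S, V) Γ(Y, U) G₂ a b hG₂v hG₂t m
  have e1 : (DCoh.restrictD U.ι).obj (DCoh.toD _ G) ≅ DCoh.toD _ G₁ := resDQIso U.ι G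
  have e2 : (DCoh.restrictD a').obj (DCoh.toD _ G₁) ≅ DCoh.toD _ G₂ := resDQIso a' G₁
  have eback : (DCoh.restrictD (inv a')).obj ((DCoh.restrictD a').obj (DCoh.toD _ G₁)) ≅
      DCoh.toD _ G₁ :=
    ((Groth.Agent.Lib.Helper25.RestrictDNat.equivOfIso a').unitIso.app _).symm
  have h3 : DCoh.IsPseudoCoherentD m ((DCoh.restrictD a').obj (DCoh.toD _ G₁)) :=
    isPseudoCoherentD_of_iso e2.symm hpc2
  have h4 : DCoh.IsPseudoCoherentD m (DCoh.toD _ G₁) :=
    isPseudoCoherentD_of_iso eback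
      (Groth.Agent.Lib.Helper25.ExtendPCMain.isPseudoCoherentD_restrictD_of_isOpenImmersion
        (inv a') h3)
  exact isPseudoCoherentD_of_iso e1.symm h4

end Groth.Agent.Lib.helper13.RelPerfAff
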