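import Mathlib
import Groth.Prelude.Def_DCoh4
import Groth.Agent.Lib.Lead.SerreFin2
import Groth.Agent.Lib.Helper16.FLFTensor
import Groth.Agent.Lib.Helper16.FLF5

/-!
# The tensor product of strictly perfect complexes is strictly perfect (helper13)

* `isZero_sigma`, `sigmaIsoOfSupport`: coproducts of families with finite support.
* `isFinLocFree_sigma_of_finite_support`.
* `isStrictlyPerfect_tensor`.
-/

set_option autoImplicit false
universe u
open CategoryTheory CategoryTheory.Limits AlgebraicGeometry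

namespace Groth.Agent.Lib.helper13.RestrKFlat

section Cat

variable {C : Type*} [Category C] [HasZeroMorphisms C]

lemma isZero_sigma {J : Type*} (f : J → C) [HasCoproduct f] (h : ∀ j, IsZero (f j)) :
    IsZero (∐ f) := by
  rw [IsZero.iff_id_eq_zero]
  apply Sigma.hom_ext
  intro j
  exact (h j).eq_of_src _ _

/-- a coproduct of a family supported on a finite set is the coproduct over that finite set -/
noncomputable def sigmaIsoOfSupport {J : Type*} [DecidableEq J] (f : J → C) [HasCoproduct f]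
    (S : Finset J) [HasCoproduct (fun s : S => f s.1)]
    (h : ∀ j, j ∉ S → IsZero (f j)) : ∐ f ≅ ∐ (fun s : S => f s.1) where
  hom := Sigma.desc (fun j => if hj : j ∈ S then Sigma.ι (fun s : S => f s.1) ⟨j, hj⟩ else 0)
  inv := Sigma.desc (fun s => Sigma.ι f s.1)
  hom_inv_id := by
    apply Sigma.hom_ext
    intro j
    by_cases hj : j ∈ S
    · simp [hj]
    · exact (h j hj).eq_of_src _ _
  inv_hom_id := by
    apply Sigma.hom_ext
    intro s
    simp [s.2]

end Cat

variable {X : Scheme.{u}}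

open Groth.Agent.Lib.Lead.SerreFin Groth.Agent.Lib.helper16.FLF in
theorem isFinLocFree_sigma_of_finite_support {J : Type*} (f : J → X.Modules) [HasCoproduct f]
    (hfin : Set.Finite {j | ¬ IsZero (f j)}) (hf : ∀ j, FlatMod.IsFinLocFree (f j)) :
    FlatMod.IsFinLocFree (∐ f) := by
  classical
  let S : Finset J := hfin.toFinset
  have hS : ∀ j, j ∉ S → IsZero (f j) := by
    intro j hj
    by_contra hz
    exact hj (hfin.mem_toFinset.2 hz)
  let e : Fin (Fintype.card S) ≃ S := (Fintype.equivFin S).symm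
  have h1 : FlatMod.IsFinLocFree (∐ (fun i : Fin (Fintype.card S) => f (e i).1)) :=
    isFinLocFree_sigma _ (fun i => hf _)
  have h2 : FlatMod.IsFinLocFree (∐ (fun s : S => f s.1)) :=
    isFinLocFree_of_iso (Sigma.reindex e (fun s : S => f s.1)) h1
  exact isFinLocFree_of_iso (sigmaIsoOfSupport f S hS).symm h2

lemma isZero_tensorBi_left {M : X.Modules} (hM : IsZero M) (N : X.Modules) :
    IsZero (((DCoh.tensorBi (X := X)).obj M).obj N) :=
  ((DCoh.tensorBi (X := X)).map_isZero hM).obj N

lemma isZero_tensorBi_right (M : X.Modules) {N : X.Modules} (hN : IsZero N) :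
    IsZero (((DCoh.tensorBi (X := X)).obj M).obj N) :=
  ((DCoh.tensorBi (X := X)).obj M).map_isZero hN

/-- The tensor product of strictly perfect complexes is strictly perfect. -/
theorem isStrictlyPerfect_tensor {E₁ E₂ : CochainComplex X.Modules ℤ}
    (h₁ : DCoh.IsStrictlyPerfect E₁) (h₂ : DCoh.IsStrictlyPerfect E₂) :
    DCoh.IsStrictlyPerfect (((DCoh.tensorCx (X := X)).obj E₁).obj E₂) := by
  obtain ⟨⟨a₁, b₁, hab₁⟩, hf₁⟩ := h₁
  obtain ⟨⟨a₂, b₂, hab₂⟩, hf₂⟩ := h₂
  refine ⟨⟨a₁ + a₂, b₁ + b₂, fun n hn => ?_⟩, fun n => ?_⟩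
  · refine isZero_sigma _ (fun ⟨⟨p, q⟩, hpq⟩ => ?_)
    have hpq' : p + q = n := hpq
    by_cases hp : p < a₁ ∨ b₁ < p
    · exact isZero_tensorBi_left (hab₁ p hp) _
    · refine isZero_tensorBi_right _ (hab₂ q ?_)
      omega
  · refine isFinLocFree_sigma_of_finite_support _ ?_ (fun ⟨⟨p, q⟩, hpq⟩ =>
      Groth.Agent.Lib.helper16.FLFTensor.isFinLocFree_tensor (hf₁ p) (hf₂ q))
    have hinj : Function.Injective
        (fun j : (ComplexShape.π (ComplexShape.up ℤ) (ComplexShape.up ℤ) (ComplexShape.up ℤ)) ⁻¹'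
          {n} => j.1.1) := by
      rintro ⟨⟨p, q⟩, hpq⟩ ⟨⟨p', q'⟩, hpq'⟩ (h : p = p')
      have e1 : p + q = n := hpq
      have e2 : p' + q' = n := hpq'
      subst h
      have : q = q' := by omega
      subst this
      rfl
    refine ((Set.finite_Icc a₁ b₁).preimage (Set.injOn_of_injective hinj)).subset ?_
    rintro ⟨⟨p, q⟩, hpq⟩ hz
    simp only [Set.mem_preimage, Set.mem_Icc]
    by_contra hp
    exact hz (isZero_tensorBi_left (hab₁ p (by omega)) _)

end Groth.Agent.Lib.helper13.RestrKFlat
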