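import Mathlib
import Groth.Prelude.Def_DTen6

/-!
# The unit of extension/restriction of scalars is monoidal, on complexes (helper13)

For `φ : R →+* R'` and complexes `P, P'` of `R`-modules:
`(unitCx P ⊗ unitCx P') ≫ resTenCx (ext P) (ext P') = unitCx (P ⊗ P') ≫ res (extTenCxIso P P').hom`
(`unitCx_tensor`), from the module-level identity `unit_tensor` and the summand formulas of the
prelude. Also `ι_tensorHom` (summand formula for the tensor product of two chain maps).
-/

set_option autoImplicit false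
universe u
open CategoryTheory Limits MonoidalCategory HomologicalComplex

namespace Groth.Agent.Lib.helper13.RhomBC
open DTen
variable {R R' : Type u} [CommRing R] [CommRing R'] (φ : R →+* R')

lemma ι_tensorHom {K K' L L' : DRing.Cx R} (f : K ⟶ L) (g : K' ⟶ L')
    (p q n : ℤ) (h : p + q = n) :
    ιTensorObj K K' p q n h ≫ (f ⊗ₘ g).f n = (f.f p ⊗ₘ g.f q) ≫ ιTensorObj L L' p q n h := by
  change ιMapBifunctor K K' (curriedTensor (ModuleCat.{u} R)) (ComplexShape.up ℤ) p q n h ≫
    (mapBifunctorMap f g (curriedTensor (ModuleCat.{u} R)) (ComplexShape.up ℤ)).f n = _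
  rw [ι_mapBifunctorMap]
  simp [MonoidalCategory.tensorHom_def]

lemma unit_tensor (X Y : ModuleCat.{u} R) :
    ((ModuleCat.extendRestrictScalarsAdj.{u, u, u} φ).unit.app X ⊗ₘ
      (ModuleCat.extendRestrictScalarsAdj.{u, u, u} φ).unit.app Y) ≫
      resTen₀app φ ((extM φ).obj X) ((extM φ).obj Y) =
    (ModuleCat.extendRestrictScalarsAdj.{u, u, u} φ).unit.app (X ⊗ Y) ≫
      (resM φ).map (Functor.OplaxMonoidal.δ (extM φ) X Y) := by
  ext : 1
  refine TensorProduct.ext' (fun x y => ?_)
  rfl

/-- The unit `P ⟶ res (ext P)` is monoidal on complexes. -/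
theorem unitCx_tensor (P P' : DRing.Cx R) :
    ((unitCx φ).app P ⊗ₘ (unitCx φ).app P') ≫
      resTenCx φ ((extCx φ).obj P) ((extCx φ).obj P') =
    (unitCx φ).app (P ⊗ P') ≫ (resCx φ).map (extTenCxIso φ P P').hom := by
  refine HomologicalComplex.hom_ext _ _ (fun n => ?_)
  refine HomologicalComplex.mapBifunctor.hom_ext (fun p q h => ?_)
  have h1 := ι_tensorHom ((unitCx φ).app P) ((unitCx φ).app P') p q n h
  have h2 := ι_resTenCx φ ((extCx φ).obj P) ((extCx φ).obj P') p q n h
  have hu := (ModuleCat.extendRestrictScalarsAdj.{u, u, u} φ).unit.naturality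
    (HomologicalComplex.ιTensorObj P P' p q n h)
  have hm := map_ι_extTenCxIso_hom φ P P' p q n h
  have h3 := unit_tensor φ (P.X p) (P'.X q)
  have hm' : (resM φ).map ((extM φ).map (ιTensorObj P P' p q n h)) ≫
      (resM φ).map ((extTenCxIso φ P P').hom.f n) =
      (resM φ).map (Functor.OplaxMonoidal.δ (extM φ) (P.X p) (P'.X q)) ≫
      (resM φ).map (ιTensorObj ((extCx φ).obj P) ((extCx φ).obj P') p q n h) :=
    (((resM φ).map_comp _ _).symm.trans (congrArg (fun z => (resM φ).map z) hm)).trans
      ((resM φ).map_comp _ _)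
  rw [HomologicalComplex.comp_f, HomologicalComplex.comp_f]
  refine (Category.assoc _ _ _).symm.trans ?_
  refine (congrArg (fun z => z ≫ (resTenCx φ ((extCx φ).obj P) ((extCx φ).obj P')).f n) h1).trans ?_
  refine (Category.assoc _ _ _).trans ?_
  refine (congrArg (fun z => (((unitCx φ).app P).f p ⊗ₘ ((unitCx φ).app P').f q) ≫ z) h2).trans ?_
  refine (Category.assoc _ _ _).symm.trans ?_
  refine (congrArg (fun z => z ≫
    (resM φ).map (ιTensorObj ((extCx φ).obj P) ((extCx φ).obj P') p q n h)) h3).trans ?_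
  refine (Category.assoc _ _ _).trans ?_
  refine (congrArg (fun z => (ModuleCat.extendRestrictScalarsAdj.{u, u, u} φ).unit.app
    (P.X p ⊗ P'.X q) ≫ z) hm'.symm).trans ?_
  refine (Category.assoc _ _ _).symm.trans ?_
  refine (congrArg (fun z => z ≫ (resM φ).map ((extTenCxIso φ P P').hom.f n)) hu.symm).trans ?_
  exact Category.assoc _ _ _

end Groth.Agent.Lib.helper13.RhomBC
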