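import Mathlib
import Groth.Prelude.Def_DTen6
import Groth.Agent.Lib.Helper13.RhomBC1
import Groth.Agent.Lib.Helper13.DTenC
import Groth.Agent.Lib.Helper13.ExtKFlat

/-!
# Derived base change is (op)lax monoidal; `DTen.rhomBC` is an isomorphism (helper13)

For `φ : R →+* R'` (binders `HasLTen R`, `HasLTen R'`, `HasLBase φ`, `HasResTen φ`, `ResLegIso φ`):
* `mMap φ T K : T ⊗^L K ⟶ res (LBase T ⊗^L LBase K)` and its adjunct
  `μMap φ T K : LBase (T ⊗^L K) ⟶ LBase T ⊗^L LBase K`, natural in `(T, K)` (`μMap_naturality`);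
* `μMap_Q`: on images of complexes `μMap` is computed by `extTenCxIso`;
* `isIso_μMap`: `μMap φ T K` is an isomorphism for all `T`, `K`;
* `rhomBC_key`, `isIso_rhomBC` (under `HasRHom R`, `HasRHom R'`): `DTen.rhomBC φ K M` is an
  isomorphism for all `K`, `M` (Yoneda).
-/

set_option autoImplicit false
universe u
open CategoryTheory Limits MonoidalCategory HomologicalComplex

attribute [local instance] HasDerivedCategory.standard

namespace Groth.Agent.Lib.helper13.RhomBC
open DTen Groth.Agent.Lib.helper13.DTenA Groth.Agent.Lib.helper13.KFlat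
  Groth.Agent.Lib.helper13.RKF

variable {R R' : Type u} [CommRing R] [CommRing R'] (φ : R →+* R')
  [HasLTen R] [HasLTen R'] [HasLBase φ] [HasResTen φ] [ResLegIso φ]

/-- `T ⊗ K ⟶ res (LBase T ⊗' LBase K)`. -/
noncomputable def mMap (T K : Dual.D R) :
    (LTen₂ R).obj (T, K) ⟶
      (DRing.restrictD φ).obj ((LTen₂ R').obj ((LBase φ).obj T, (LBase φ).obj K)) :=
  (LTen₂ R).map (Prod.mkHom ((baseAdj φ).unit.app T) ((baseAdj φ).unit.app K)) ≫
    (resPF φ).app ((LBase φ).obj T, (LBase φ).obj K)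

/-- The oplax monoidal structure map of derived base change. -/
noncomputable def μMap (T K : Dual.D R) :
    (LBase φ).obj ((LTen₂ R).obj (T, K)) ⟶ (LTen₂ R').obj ((LBase φ).obj T, (LBase φ).obj K) :=
  ((baseAdj φ).homEquiv _ _).symm (mMap φ T K)

lemma unit_μMap (T K : Dual.D R) :
    (baseAdj φ).unit.app _ ≫ (DRing.restrictD φ).map (μMap φ T K) = mMap φ T K := by
  have h := ((baseAdj φ).homEquiv _ _).apply_symm_apply (mMap φ T K)
  rw [Adjunction.homEquiv_unit] at h
  exact h

lemma mMap_naturality {T T' K K' : Dual.D R} (a : T ⟶ T') (b : K ⟶ K') :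
    (LTen₂ R).map (Prod.mkHom a b) ≫ mMap φ T' K' =
      mMap φ T K ≫ (DRing.restrictD φ).map
        ((LTen₂ R').map (Prod.mkHom ((LBase φ).map a) ((LBase φ).map b))) := by
  have h1 := (baseAdj φ).unit.naturality a
  have h2 := (baseAdj φ).unit.naturality b
  have h3 := (resPF φ).naturality (Prod.mkHom ((LBase φ).map a) ((LBase φ).map b))
  dsimp at h1 h2 h3
  dsimp only [mMap]
  rw [Category.assoc, ← h3, ← Category.assoc, ← Category.assoc, ← Functor.map_comp,
    ← Functor.map_comp]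
  congr 2
  simp only [prod_comp, Prod.mkHom]
  exact Prod.ext h1 h2

lemma μMap_naturality {T T' K K' : Dual.D R} (a : T ⟶ T') (b : K ⟶ K') :
    (LBase φ).map ((LTen₂ R).map (Prod.mkHom a b)) ≫ μMap φ T' K' =
      μMap φ T K ≫ (LTen₂ R').map (Prod.mkHom ((LBase φ).map a) ((LBase φ).map b)) := by
  apply ((baseAdj φ).homEquiv _ _).injective
  rw [Adjunction.homEquiv_naturality_left, Adjunction.homEquiv_naturality_right]
  dsimp only [μMap]
  rw [Equiv.apply_symm_apply, Equiv.apply_symm_apply]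
  exact mMap_naturality φ a b


/-- On images of complexes, `μMap` is computed by `extTenCxIso`. -/
theorem μMap_Q (P P' : DRing.Cx R) :
    μMap φ (DerivedCategory.Q.obj P) (DerivedCategory.Q.obj P') ≫
      (LTen₂ R').map (Prod.mkHom ((baseCmp φ).app P) ((baseCmp φ).app P')) ≫
      (ε R').app ((extCx φ).obj P, (extCx φ).obj P') =
    (LBase φ).map ((ε R).app (P, P')) ≫ (baseCmp φ).app (P ⊗ P') ≫
      DerivedCategory.Q.map (extTenCxIso φ P P').hom := by
  apply ((baseAdj φ).homEquiv _ _).injective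
  rw [Adjunction.homEquiv_unit, Adjunction.homEquiv_unit]
  rw [← cancel_mono ((resFactors φ).hom.app ((extCx φ).obj P ⊗ (extCx φ).obj P'))]
  -- left side
  have hL : (baseAdj φ).unit.app ((LTen₂ R).obj (DerivedCategory.Q.obj P, DerivedCategory.Q.obj P')) ≫
      (DRing.restrictD φ).map (μMap φ (DerivedCategory.Q.obj P) (DerivedCategory.Q.obj P') ≫
        (LTen₂ R').map (Prod.mkHom ((baseCmp φ).app P) ((baseCmp φ).app P')) ≫
        (ε R').app ((extCx φ).obj P, (extCx φ).obj P')) ≫
      (resFactors φ).hom.app ((extCx φ).obj P ⊗ (extCx φ).obj P') =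
      (ε R).app (P, P') ≫ DerivedCategory.Q.map (((unitCx φ).app P ⊗ₘ (unitCx φ).app P') ≫
        resTenCx φ ((extCx φ).obj P) ((extCx φ).obj P')) := by
    have e0 := unit_μMap φ (DerivedCategory.Q.obj P) (DerivedCategory.Q.obj P')
    have e1 := (resPF φ).naturality (Prod.mkHom ((baseCmp φ).app P) ((baseCmp φ).app P'))
    have e2 := resPF_fac φ ((extCx φ).obj P, (extCx φ).obj P')
    have e3 := baseCmp_fac φ P
    have e3' := baseCmp_fac φ P'
    have e4 := (ε R).naturality (Prod.mkHom ((unitCx φ).app P) ((unitCx φ).app P'))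
    have e5 := tensorT_map (A := R) (Prod.mkHom ((unitCx φ).app P) ((unitCx φ).app P'))
    dsimp [baseγ, resβA, resβB] at e1 e2 e3 e3' e4 e5
    have e6 : (baseAdj φ).unit.app (DerivedCategory.Q.obj P) ≫
        (DRing.restrictD φ).map ((baseCmp φ).app P) ≫ (resFactors φ).hom.app ((extCx φ).obj P) =
        DerivedCategory.Q.map ((unitCx φ).app P) := by
      rw [reassoc_of% e3]; simp
    have e6' : (baseAdj φ).unit.app (DerivedCategory.Q.obj P') ≫
        (DRing.restrictD φ).map ((baseCmp φ).app P') ≫ (resFactors φ).hom.app ((extCx φ).obj P') =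
        DerivedCategory.Q.map ((unitCx φ).app P') := by
      rw [reassoc_of% e3']; simp
    have e7 : (LTen₂ R).map (Prod.mkHom ((baseAdj φ).unit.app (DerivedCategory.Q.obj P))
          ((baseAdj φ).unit.app (DerivedCategory.Q.obj P'))) ≫
        (LTen₂ R).map (Prod.mkHom ((DRing.restrictD φ).map ((baseCmp φ).app P))
          ((DRing.restrictD φ).map ((baseCmp φ).app P'))) ≫
        (LTen₂ R).map (Prod.mkHom ((resFactors φ).hom.app ((extCx φ).obj P))
          ((resFactors φ).hom.app ((extCx φ).obj P'))) =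
        (LTen₂ R).map (Prod.mkHom (DerivedCategory.Q.map ((unitCx φ).app P))
          (DerivedCategory.Q.map ((unitCx φ).app P'))) := by
      rw [← Functor.map_comp, ← Functor.map_comp]
      congr 1
      exact Prod.ext e6 e6'
    simp only [Functor.map_comp, Category.assoc]
    rw [reassoc_of% e0]
    dsimp only [mMap]
    simp only [Category.assoc]
    rw [← reassoc_of% e1, e2, reassoc_of% e7, ← e5, ← reassoc_of% e4]
  have hR : (baseAdj φ).unit.app ((LTen₂ R).obj (DerivedCategory.Q.obj P, DerivedCategory.Q.obj P')) ≫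
      (DRing.restrictD φ).map ((LBase φ).map ((ε R).app (P, P')) ≫ (baseCmp φ).app (P ⊗ P') ≫
        DerivedCategory.Q.map (extTenCxIso φ P P').hom) ≫
      (resFactors φ).hom.app ((extCx φ).obj P ⊗ (extCx φ).obj P') =
      (ε R).app (P, P') ≫ DerivedCategory.Q.map ((unitCx φ).app (P ⊗ P') ≫
        (resCx φ).map (extTenCxIso φ P P').hom) := by
    have e1 := (baseAdj φ).unit.naturality ((ε R).app (P, P'))
    have e2 := baseCmp_fac φ (P ⊗ P')
    have e3 := (resFactors φ).hom.naturality (extTenCxIso φ P P').hom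
    dsimp [baseγ] at e1 e2 e3
    simp only [Functor.map_comp, Category.assoc]
    rw [e3, ← reassoc_of% e1, reassoc_of% e2]
    simp
  rw [Category.assoc, Category.assoc, hL, hR, unitCx_tensor]


lemma isIso_μMap_Q (P P' : DRing.Cx R) (hP : IsKFlatR P) (hP' : IsKFlatR P') :
    IsIso (μMap φ (DerivedCategory.Q.obj P) (DerivedCategory.Q.obj P')) := by
  have h := μMap_Q φ P P'
  haveI : IsIso ((baseCmp φ).app P) := isIso_baseCmp φ P hP
  haveI : IsIso ((baseCmp φ).app P') := isIso_baseCmp φ P' hP'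
  haveI : IsIso ((baseCmp φ).app (P ⊗ P')) := isIso_baseCmp φ _ (isKFlatR_tensor _ _ hP hP')
  haveI : IsIso ((ε R).app (P, P')) := isIso_ε_right P P' hP'
  haveI : IsIso ((ε R').app ((extCx φ).obj P, (extCx φ).obj P')) :=
    isIso_ε_right _ _ (Groth.Agent.Lib.helper13.ExtKFlat.isKFlatR_extCx φ P' hP')
  haveI : IsIso ((LTen₂ R').map (Prod.mkHom ((baseCmp φ).app P) ((baseCmp φ).app P'))) :=
    isIso_map_prod _ _ (by dsimp; infer_instance) (by dsimp; infer_instance)
  haveI : IsIso ((LBase φ).map ((ε R).app (P, P')) ≫ (baseCmp φ).app (P ⊗ P') ≫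
      DerivedCategory.Q.map (extTenCxIso φ P P').hom) := inferInstance
  exact isIso_of_fac _ _ _ h

theorem isIso_μMap (T K : Dual.D R) : IsIso (μMap φ T K) := by
  obtain ⟨P, hP, ⟨e₁⟩⟩ := exists_iso_Q_kflat T
  obtain ⟨P', hP', ⟨e₂⟩⟩ := exists_iso_Q_kflat K
  haveI := isIso_μMap_Q φ P P' hP hP'
  have hn := μMap_naturality φ e₁.hom e₂.hom
  haveI : IsIso ((LTen₂ R').map (Prod.mkHom ((LBase φ).map e₁.hom) ((LBase φ).map e₂.hom))) :=
    isIso_map_prod _ _ (by dsimp; infer_instance) (by dsimp; infer_instance)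
  haveI : IsIso ((LBase φ).map ((LTen₂ R).map (Prod.mkHom e₁.hom e₂.hom))) := by
    haveI : IsIso ((LTen₂ R).map (Prod.mkHom e₁.hom e₂.hom)) :=
      isIso_map_prod _ _ (by dsimp; infer_instance) (by dsimp; infer_instance)
    infer_instance
  have : μMap φ T K = ((LBase φ).map ((LTen₂ R).map (Prod.mkHom e₁.hom e₂.hom)) ≫
      μMap φ (DerivedCategory.Q.obj P) (DerivedCategory.Q.obj P')) ≫
      inv ((LTen₂ R').map (Prod.mkHom ((LBase φ).map e₁.hom) ((LBase φ).map e₂.hom))) := by
    rw [IsIso.eq_comp_inv]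
    exact hn.symm
  rw [this]
  infer_instance


section RHom

variable [HasRHom R] [HasRHom R']

lemma rhomBC_key (T K : Dual.D R) (M : Dual.D R')
    (z : (LTen₂ R').obj ((LBase φ).obj T, (LBase φ).obj K) ⟶ M) :
    (baseAdj φ).homEquiv _ _ ((rhomAdj R' ((LBase φ).obj K)).homEquiv _ _ z) ≫ rhomBC φ K M =
      (rhomAdj R K).homEquiv _ _ ((baseAdj φ).homEquiv _ _ (μMap φ T K ≫ z)) := by
  apply ((rhomAdj R K).homEquiv _ _).symm.injective
  rw [Equiv.symm_apply_apply, Adjunction.homEquiv_counit, Functor.map_comp, Category.assoc]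
  have e0 := rhomBC_fac φ K M
  have e1 := unit_μMap φ T K
  set y := (rhomAdj R' ((LBase φ).obj K)).homEquiv _ _ z with hy
  have e2 : (tensorRightD R' ((LBase φ).obj K)).map y ≫ ev ((LBase φ).obj K) M = z := by
    have := ((rhomAdj R' ((LBase φ).obj K)).homEquiv _ _).symm_apply_apply z
    rw [Adjunction.homEquiv_counit] at this
    exact this
  have e3 := (resPF φ).naturality (Prod.mkHom y (𝟙 ((LBase φ).obj K)))
  dsimp at e0 e2 e3 ⊢
  rw [CategoryTheory.Functor.map_id] at e3
  rw [e0, Adjunction.homEquiv_unit, Adjunction.homEquiv_unit, Functor.map_comp, reassoc_of% e1]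
  dsimp only [rhomBCCore, mMap]
  rw [← e2, Functor.map_comp, Category.assoc, ← reassoc_of% e3]
  simp only [← Functor.map_comp_assoc, prod_comp, Prod.mkHom, Category.id_comp, Category.comp_id]
  erw [Category.comp_id]

/-- The comparison `res RHom_{R'}(K ⊗^L_R R', M) ⟶ RHom_R(K, res M)` is an isomorphism. -/
theorem isIso_rhomBC (K : Dual.D R) (M : Dual.D R') : IsIso (rhomBC φ K M) := by
  refine isIso_of_yoneda_map_bijective _ (fun T => ?_)
  haveI := isIso_μMap φ T K
  let e1 := (baseAdj φ).homEquiv T ((RHomR R' ((LBase φ).obj K)).obj M)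
  let e2 := (rhomAdj R' ((LBase φ).obj K)).homEquiv ((LBase φ).obj T) M
  let e3 := (rhomAdj R K).homEquiv T ((DRing.restrictD φ).obj M)
  let e4 := (baseAdj φ).homEquiv ((LTen₂ R).obj (T, K)) M
  let e5 : ((LTen₂ R').obj ((LBase φ).obj T, (LBase φ).obj K) ⟶ M) ≃
      ((LBase φ).obj ((LTen₂ R).obj (T, K)) ⟶ M) :=
    (asIso (μMap φ T K)).homFromEquiv.symm
  have h : (fun x : T ⟶ (DRing.restrictD φ).obj ((RHomR R' ((LBase φ).obj K)).obj M) =>
      x ≫ rhomBC φ K M) = fun x => e3 (e4 (e5 (e2.symm (e1.symm x)))) := by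
    funext x
    obtain ⟨z, rfl⟩ : ∃ z, x = e1 (e2 z) := ⟨e2.symm (e1.symm x), by simp⟩
    rw [Equiv.symm_apply_apply, Equiv.symm_apply_apply]
    exact rhomBC_key φ T K M z
  rw [h]
  exact (e1.symm.trans (e2.symm.trans (e5.trans (e4.trans e3)))).bijective

end RHom

end Groth.Agent.Lib.helper13.RhomBC
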