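import Mathlib
import Groth.Prelude.Def_DTen3
import Groth.Agent.S13576
import Groth.Agent.Lib.Helper13.PerfInd4
import Groth.Agent.Lib.Helper13.DTenA

/-!
# The closed structure of `D(A)` without the associativity binders (helper13)

Under `[HasLTen A] [HasRHom A]` only (no `HasLTen₃`, no `IsSymMonoidal`):
* `symmNatIso'`, `tensorLeftAdj'` (`K ⊗^L - ⊣ RHom(K, -)`), from S13576 (the symmetry is invertible);
* `adj_symm_apply'`, `adj_symm_comp_RHomMap'`, `RHomMap_zero'`, `RHomMap_comp'`, `RHomMap_zero_comp'`,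
  `coMidExact_tensorLeft'`, `midExact_RHomMap'`;
* `compIso m n h : (- ⊗ 𝟙⟦m⟧) ⋙ (- ⊗ 𝟙⟦n⟧) ≅ 𝟭` (`m + n = 0`) by descent from complexes, hence
  `isEquivalence_tensorRightD_unitShift' n : (- ⊗^L (A[0])⟦n⟧)` is an equivalence.
-/

set_option autoImplicit false
universe u
open CategoryTheory Limits MonoidalCategory Pretriangulated Opposite

attribute [local instance] HasDerivedCategory.standard

namespace Groth.Agent.Lib.helper13.RhomBC
open DTen Groth.Agent.Lib.helper13.PerfInd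

section Gen
variable {A : Type u} [CommRing A] [HasLTen A]

/-- the symmetry as a natural isomorphism `- ⊗ K ≅ K ⊗ -` (from S13576, no further binder) -/
noncomputable def symmNatIso' (K : Dual.D A) : tensorRightD A K ≅ (LTen A).obj K :=
  NatIso.ofComponents (fun X =>
    haveI := Groth.Agent.S13576.result A K X
    asIso ((symm A).app (K, X))) (by
    intro X Y f
    exact (symm A).naturality (Prod.mkHom (𝟙 K) f : (K, X) ⟶ (K, Y)))

variable [HasRHom A]

/-- `K ⊗^L -` is left adjoint to `RHom(K, -)` (via the symmetry). -/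
noncomputable def tensorLeftAdj' (K : Dual.D A) : (LTen A).obj K ⊣ RHomR A K :=
  (rhomAdj A K).ofNatIsoLeft (symmNatIso' K)

lemma isLeftAdjoint_tensorLeft (K : Dual.D A) : ((LTen A).obj K).IsLeftAdjoint :=
  (tensorLeftAdj' K).isLeftAdjoint

lemma adj_symm_apply' {T₀ P Z : Dual.D A} (y : T₀ ⟶ (RHomR A P).obj Z) :
    ((rhomAdj A P).homEquiv _ _).symm y = tmap y (𝟙 P) ≫ ev P Z := by
  rw [Adjunction.homEquiv_counit]
  rfl

lemma adj_symm_comp_RHomMap' {T₀ P P' Z : Dual.D A} (g : P' ⟶ P)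
    (y : T₀ ⟶ (RHomR A P).obj Z) :
    ((rhomAdj A P').homEquiv _ _).symm (y ≫ RHomMap g Z) =
      tmap (𝟙 T₀) g ≫ ((rhomAdj A P).homEquiv _ _).symm y := by
  rw [adj_symm_apply', adj_symm_apply', ← Category.comp_id (𝟙 P'), tmap_comp, Category.assoc]
  erw [RHom_map_ev g Z]
  rw [← Category.assoc, ← Category.assoc, tmap_exchange]

lemma coMidExact_tensorLeft' (Y : Dual.D A) {X₁ X₂ X₃ : Dual.D A} {a : X₁ ⟶ X₂} {b : X₂ ⟶ X₃}
    (h : CoMidExact a b) : CoMidExact (tmap (𝟙 Y) a) (tmap (𝟙 Y) b) :=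
  CoMidExact.map_of_adj (tensorLeftAdj' Y) h

lemma RHomMap_zero' (P P' Z : Dual.D A) : RHomMap (0 : P' ⟶ P) Z = 0 := by
  haveI := isLeftAdjoint_tensorLeft ((RHomR A P).obj Z)
  apply ((rhomAdj A P').homEquiv _ _).symm.injective
  have h := adj_symm_comp_RHomMap' (0 : P' ⟶ P) (𝟙 ((RHomR A P).obj Z))
  rw [Category.id_comp] at h
  rw [h, adj_symm_apply' (0 : _ ⟶ (RHomR A P').obj Z)]
  have h1 : tmap (𝟙 ((RHomR A P).obj Z)) (0 : P' ⟶ P) = 0 :=
    ((LTen A).obj ((RHomR A P).obj Z)).map_zero _ _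
  have h2 : tmap (0 : (RHomR A P).obj Z ⟶ (RHomR A P').obj Z) (𝟙 P') = 0 :=
    (tensorRightD A P').map_zero _ _
  rw [h1, h2, zero_comp, zero_comp]

lemma RHomMap_comp' {P P' P'' : Dual.D A} (g : P' ⟶ P) (g' : P'' ⟶ P') (Z : Dual.D A) :
    RHomMap (g' ≫ g) Z = RHomMap g Z ≫ RHomMap g' Z := by
  dsimp only [RHomMap]
  rw [op_comp, Functor.map_comp, NatTrans.comp_app]
  rfl

lemma RHomMap_zero_comp' {X₁ X₂ X₃ : Dual.D A} {a : X₁ ⟶ X₂} {b : X₂ ⟶ X₃} (h : a ≫ b = 0)
    (Z : Dual.D A) : RHomMap b Z ≫ RHomMap a Z = 0 := by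
  rw [← RHomMap_comp', h, RHomMap_zero']

/-- `RHom(-, Z)` turns `Hom(-, W)`-exact pairs into `Hom(T, -)`-exact pairs. -/
lemma midExact_RHomMap' {P₁ P₂ P₃ : Dual.D A} {α : P₁ ⟶ P₂} {β : P₂ ⟶ P₃} (h : CoMidExact α β)
    (Z : Dual.D A) : MidExact (RHomMap β Z) (RHomMap α Z) := by
  intro T₀ x hx
  have h0 : tmap (𝟙 T₀) α ≫ ((rhomAdj A P₂).homEquiv _ _).symm x = 0 := by
    rw [← adj_symm_comp_RHomMap', hx, Adjunction.homEquiv_counit, Functor.map_zero, zero_comp]
  obtain ⟨t, ht⟩ := coMidExact_tensorLeft' T₀ h _ _ h0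
  refine ⟨(rhomAdj A P₃).homEquiv _ _ t, ?_⟩
  apply ((rhomAdj A P₂).homEquiv _ _).symm.injective
  rw [adj_symm_comp_RHomMap', Equiv.symm_apply_apply, ht]

end Gen

section UnitShift
variable {A : Type u} [CommRing A]
open Groth.Agent.Lib.helper13.KFlat Groth.Agent.Lib.helper13.RKF Groth.Agent.Lib.helper13.DTenA

/-- the shifted unit complex -/
noncomputable abbrev US (A : Type u) [CommRing A] (m : ℤ) : DRing.Cx A := (𝟙_ (DRing.Cx A))⟦m⟧

lemma isKFlatR_US (m : ℤ) : IsKFlatR (US A m) := isKFlatR_shift _ m isKFlatR_tensorUnit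

/-- chain level: `(P ⊗ 𝟙⟦m⟧) ⊗ 𝟙⟦n⟧ ≅ P`, natural in `P` -/
noncomputable def compCxIso (m n : ℤ) (h : m + n = 0) (P : DRing.Cx A) :
    ((P ⊗ US A m) ⊗ US A n : DRing.Cx A) ≅ P :=
  α_ P (US A m) (US A n) ≪≫ whiskerLeftIso P (unitShiftCxIso m n h) ≪≫ ρ_ P

lemma compCxIso_naturality (m n : ℤ) (h : m + n = 0) {P P' : DRing.Cx A} (f : P ⟶ P') :
    ((f ▷ US A m) ▷ US A n) ≫ (compCxIso m n h P').hom = (compCxIso m n h P).hom ≫ f := by
  dsimp only [compCxIso, Iso.trans_hom]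
  rw [MonoidalCategory.whiskerLeftIso_hom, MonoidalCategory.whiskerLeftIso_hom,
    associator_naturality_left_assoc, ← whisker_exchange_assoc, rightUnitor_naturality]
  simp only [Category.assoc]

variable [HasLTen A]

noncomputable def compIso₀ (m n : ℤ) (h : m + n = 0) :
    DerivedCategory.Q ⋙ (tensorRightD A (DerivedCategory.Q.obj (US A m)) ⋙
      tensorRightD A (DerivedCategory.Q.obj (US A n))) ≅ DerivedCategory.Q :=
  NatIso.ofComponents (fun P =>
    haveI := isIso_ε_right P (US A m) (isKFlatR_US m)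
    haveI := isIso_ε_right (P ⊗ US A m) (US A n) (isKFlatR_US n)
    (tensorRightD A (DerivedCategory.Q.obj (US A n))).mapIso (asIso ((ε A).app (P, US A m))) ≪≫
    asIso ((ε A).app (P ⊗ US A m, US A n)) ≪≫
    DerivedCategory.Q.mapIso (compCxIso m n h P)) (by
    intro P P' f
    have e1 := (ε A).naturality (Prod.mkHom f (𝟙 (US A m)))
    have e2 := (ε A).naturality (Prod.mkHom (f ▷ US A m) (𝟙 (US A n)))
    have e3 := compCxIso_naturality m n h f
    dsimp at e1 e2 ⊢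
    simp only [MonoidalCategory.whiskerLeft_id, Category.comp_id] at e1 e2
    rw [CategoryTheory.Functor.map_id] at e1 e2
    rw [← Functor.map_comp_assoc]
    have e4 : (Prod.mkHom ((LTen₂ A).map (Prod.mkHom (DerivedCategory.Q.map f)
          (𝟙 (DerivedCategory.Q.obj (US A m))))) (𝟙 (DerivedCategory.Q.obj (US A n))) :
          (((LTen₂ A).obj (DerivedCategory.Q.obj P, DerivedCategory.Q.obj (US A m)),
            DerivedCategory.Q.obj (US A n)) : Dual.D A × Dual.D A) ⟶ _) ≫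
        Prod.mkHom ((ε A).app (P', US A m)) (𝟙 (DerivedCategory.Q.obj (US A n))) =
        Prod.mkHom ((ε A).app (P, US A m)) (𝟙 (DerivedCategory.Q.obj (US A n))) ≫
        Prod.mkHom (DerivedCategory.Q.map (f ▷ US A m)) (𝟙 (DerivedCategory.Q.obj (US A n))) := by
      simp only [prod_comp, Prod.mkHom, Category.comp_id]
      exact Prod.ext e1 rfl
    rw [e4, Functor.map_comp_assoc, reassoc_of% e2, ← Functor.map_comp, e3, Functor.map_comp]
    simp only [Category.assoc])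

/-- `(X ⊗ 𝟙⟦m⟧) ⊗ 𝟙⟦n⟧ ≅ X` naturally in `X ∈ D(A)`, for `m + n = 0`. -/
noncomputable def compIso (m n : ℤ) (h : m + n = 0) :
    tensorRightD A (DerivedCategory.Q.obj (US A m)) ⋙
      tensorRightD A (DerivedCategory.Q.obj (US A n)) ≅ 𝟭 (Dual.D A) :=
  Localization.liftNatIso DerivedCategory.Q (qis A)
    (DerivedCategory.Q ⋙ (tensorRightD A (DerivedCategory.Q.obj (US A m)) ⋙
      tensorRightD A (DerivedCategory.Q.obj (US A n)))) DerivedCategory.Q
    (tensorRightD A (DerivedCategory.Q.obj (US A m)) ⋙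
      tensorRightD A (DerivedCategory.Q.obj (US A n))) (𝟭 _) (compIso₀ m n h)

theorem isEquivalence_tensorRightD_QUS (n : ℤ) :
    (tensorRightD A (DerivedCategory.Q.obj (US A n))).IsEquivalence :=
  (CategoryTheory.Equivalence.mk (tensorRightD A (DerivedCategory.Q.obj (US A n)))
    (tensorRightD A (DerivedCategory.Q.obj (US A (-n))))
    (compIso n (-n) (by omega)).symm (compIso (-n) n (by omega))).isEquivalence_functor

theorem isEquivalence_tensorRightD_of_iso'' {U U' : Dual.D A} (e : U ≅ U')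
    [(tensorRightD A U).IsEquivalence] : (tensorRightD A U').IsEquivalence :=
  Functor.isEquivalence_of_iso ((LTen A).flip.mapIso e)

theorem isEquivalence_tensorRightD_unitShift' (n : ℤ) :
    (tensorRightD A ((DerivedCategory.Q.obj (𝟙_ (DRing.Cx A)))⟦n⟧)).IsEquivalence := by
  haveI := isEquivalence_tensorRightD_QUS (A := A) n
  have e : DerivedCategory.Q.obj ((𝟙_ (DRing.Cx A))⟦n⟧) ≅
      (DerivedCategory.Q.obj (𝟙_ (DRing.Cx A)))⟦n⟧ :=
    (DerivedCategory.Q.commShiftIso n).app (𝟙_ (DRing.Cx A))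
  exact isEquivalence_tensorRightD_of_iso'' e

end UnitShift

end Groth.Agent.Lib.helper13.RhomBC
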