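import Mathlib
import Groth.Prelude.Def_DTen6
import Groth.Agent.Lib.Helper13.RhomBC2
import Groth.Agent.Lib.Helper13.RhomBC3
import Groth.Agent.Lib.Helper13.PerfInd5

/-!
# Base change for `RHom` out of a perfect object (helper13)

For `φ : R →+* R'` (binders `HasLTen`, `HasRHom` over `R`, `R'`, `HasLBase φ`, `HasResTen φ`,
`ResLegIso φ`):
* `extUSIso`, `LBaseUSIso`: `LBase (Q 𝟙⟦n⟧) ≅ Q 𝟙⟦n⟧`;
* `zMap φ K M : LBase RHom(K, M) ⊗ LBase K ⟶ LBase M` (inverse of `μMap`, then `LBase ev`) and its adjunct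
  `fMap φ K M : LBase RHom(K, M) ⟶ RHom(LBase K, LBase M)`;
* `bcRHom_eq : DTen.bcRHom φ K M = fMap φ K M`;
* `fMap_naturality` (in `K`), `isIso_fMap_of_isEquivalence` (invertible `K`),
* `isIso_fMap_of_isPerfect`, `isIso_bcRHom_of_isPerfect`.
-/

set_option autoImplicit false
universe u
open CategoryTheory Limits MonoidalCategory HomologicalComplex Pretriangulated

attribute [local instance] HasDerivedCategory.standard

namespace Groth.Agent.Lib.helper13.RhomBC
open DTen Groth.Agent.Lib.helper13.DTenA Groth.Agent.Lib.helper13.KFlat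
  Groth.Agent.Lib.helper13.RKF Groth.Agent.Lib.helper13.PerfInd

variable {R R' : Type u} [CommRing R] [CommRing R'] (φ : R →+* R')

section ExtUnit

/-- `ext (𝟙⟦n⟧) ≅ 𝟙⟦n⟧` on complexes. -/
noncomputable def extUSIso (n : ℤ) : (extCx φ).obj (US R n) ≅ US R' n :=
  ((extCx φ).commShiftIso n).app (𝟙_ (DRing.Cx R)) ≪≫
    (shiftFunctor (DRing.Cx R') n).mapIso
      ((HomologicalComplex.singleMapHomologicalComplex (extM φ) (ComplexShape.up ℤ) 0).app
          (𝟙_ (ModuleCat.{u} R)) ≪≫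
        (HomologicalComplex.single (ModuleCat.{u} R') (ComplexShape.up ℤ) 0).mapIso
          (Functor.Monoidal.εIso (extM φ)).symm)

variable [HasLBase φ]

/-- `LBase (Q 𝟙⟦n⟧) ≅ Q 𝟙⟦n⟧`. -/
noncomputable def LBaseUSIso (n : ℤ) :
    (LBase φ).obj (DerivedCategory.Q.obj (US R n)) ≅ DerivedCategory.Q.obj (US R' n) :=
  haveI := isIso_baseCmp φ (US R n) (isKFlatR_US n)
  asIso ((baseCmp φ).app (US R n)) ≪≫ DerivedCategory.Q.mapIso (extUSIso φ n)

end ExtUnit


section Main

variable [HasLTen R] [HasLTen R'] [HasLBase φ] [HasResTen φ] [ResLegIso φ] [HasRHom R] [HasRHom R']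

/-- `LBase (RHom(K, M)) ⊗ LBase K ⟶ LBase M`. -/
noncomputable def zMap (K M : Dual.D R) :
    (LTen₂ R').obj ((LBase φ).obj ((RHomR R K).obj M), (LBase φ).obj K) ⟶ (LBase φ).obj M :=
  haveI := isIso_μMap φ ((RHomR R K).obj M) K
  inv (μMap φ ((RHomR R K).obj M) K) ≫ (LBase φ).map (ev K M)

/-- The base change map for `RHom`, defined through the monoidal structure of `LBase`. -/
noncomputable def fMap (K M : Dual.D R) :
    (LBase φ).obj ((RHomR R K).obj M) ⟶ (RHomR R' ((LBase φ).obj K)).obj ((LBase φ).obj M) :=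
  (rhomAdj R' ((LBase φ).obj K)).homEquiv _ _ (zMap φ K M)

theorem bcRHom_eq (K M : Dual.D R) [IsIso (rhomBC φ K ((LBase φ).obj M))] :
    bcRHom φ K M = fMap φ K M := by
  apply ((baseAdj φ).homEquiv _ _).injective
  rw [Adjunction.homEquiv_unit, bcRHom_fac, Adjunction.homEquiv_unit, IsIso.comp_inv_eq,
    Category.assoc]
  have h := rhomBC_key φ ((RHomR R K).obj M) K ((LBase φ).obj M) (zMap φ K M)
  rw [Adjunction.homEquiv_unit, Category.assoc] at h
  rw [fMap, h]
  haveI := isIso_μMap φ ((RHomR R K).obj M) K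
  have h2 : μMap φ ((RHomR R K).obj M) K ≫ zMap φ K M = (LBase φ).map (ev K M) := by
    rw [zMap, IsIso.hom_inv_id_assoc]
  rw [h2]
  have e1 : ev K M ≫ (baseAdj φ).unit.app M =
      (baseAdj φ).unit.app ((tensorRightD R K).obj ((RHomR R K).obj M)) ≫
        (DRing.restrictD φ).map ((LBase φ).map (ev K M)) :=
    (baseAdj φ).unit.naturality (ev K M)
  rw [Adjunction.homEquiv_unit (adj := baseAdj φ), ← e1, Adjunction.homEquiv_unit,
    Functor.map_comp, ← Category.assoc]
  have e3 := (rhomAdj R K).right_triangle_components M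
  dsimp at e3 ⊢
  rw [e3, Category.id_comp]



omit [HasRHom R] [HasRHom R'] in
lemma inv_μMap_naturality {T T' K K' : Dual.D R} (a : T ⟶ T') (b : K ⟶ K') :
    haveI := isIso_μMap φ T K
    haveI := isIso_μMap φ T' K'
    tmap ((LBase φ).map a) ((LBase φ).map b) ≫ inv (μMap φ T' K') =
      inv (μMap φ T K) ≫ (LBase φ).map (tmap a b) := by
  haveI := isIso_μMap φ T K
  haveI := isIso_μMap φ T' K'
  rw [IsIso.comp_inv_eq, Category.assoc, IsIso.eq_inv_comp]
  exact (μMap_naturality φ a b).symm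

theorem fMap_naturality {K₁ K₂ : Dual.D R} (g : K₁ ⟶ K₂) (M : Dual.D R) :
    (LBase φ).map (RHomMap g M) ≫ fMap φ K₁ M =
      fMap φ K₂ M ≫ RHomMap ((LBase φ).map g) ((LBase φ).obj M) := by
  apply ((rhomAdj R' ((LBase φ).obj K₁)).homEquiv _ _).symm.injective
  rw [adj_symm_comp_RHomMap', Adjunction.homEquiv_naturality_left_symm]
  dsimp only [fMap]
  rw [Equiv.symm_apply_apply, Equiv.symm_apply_apply]
  dsimp only [zMap]
  have h1 := inv_μMap_naturality φ (RHomMap g M) (𝟙 K₁)
  have h2 := inv_μMap_naturality φ (𝟙 ((RHomR R K₂).obj M)) g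
  have h3 := RHom_map_ev g M
  rw [CategoryTheory.Functor.map_id] at h1 h2
  erw [reassoc_of% h1, reassoc_of% h2]
  rw [← Functor.map_comp, ← Functor.map_comp]
  erw [h3]


/-- Base case: `fMap` is invertible at `U` when `- ⊗ U` and `- ⊗ LBase U` are equivalences. -/
theorem isIso_fMap_of_isEquivalence (U M : Dual.D R) [(tensorRightD R U).IsEquivalence]
    [(tensorRightD R' ((LBase φ).obj U)).IsEquivalence] : IsIso (fMap φ U M) := by
  haveI := isIso_μMap φ ((RHomR R U).obj M) U
  haveI : IsIso (ev U M) := inferInstanceAs (IsIso ((rhomAdj R U).counit.app M))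
  haveI : IsIso (zMap φ U M) := by
    dsimp only [zMap]
    infer_instance
  dsimp only [fMap]
  rw [Adjunction.homEquiv_unit]
  infer_instance

/-- `LBase (RHom(K, M)) ⟶ RHom(LBase K, LBase M)` is an isomorphism for `K` perfect. -/
theorem isIso_fMap_of_isPerfect (K M : Dual.D R) (hK : DRing.IsPerfect R K) :
    IsIso (fMap φ K M) := by
  let τ : (RHom R).flip.obj M ⋙ LBase φ ⟶
      (LBase φ).op ⋙ (RHom R').flip.obj ((LBase φ).obj M) :=
    { app := fun K => fMap φ (Opposite.unop K) M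
      naturality := fun K K' g => fMap_naturality φ g.unop M }
  refine perfect_of_five (fun K => IsIso (fMap φ K M)) ?_ ?_ ?_ K hK
  · intro K K' i r hir h
    haveI : IsIso (τ.app (Opposite.op K')) := h
    exact isIso_app_of_retract τ r.op i.op (by rw [← op_comp, hir]; rfl)
  · intro T hT h1 h2 h4 h5
    haveI := h1
    obtain ⟨a₀, ha₀⟩ : ∃ a₀ : T.obj₃⟦(-1 : ℤ)⟧ ⟶ T.obj₁, a₀ = T.invRotate.mor₁ := ⟨_, rfl⟩
    haveI := h2
    haveI := h4
    haveI := h5
    have hT' := inv_rot_of_distTriang _ hT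
    have hT'' := rot_of_distTriang _ hT
    have z1 : a₀ ≫ T.mor₁ = 0 := by rw [ha₀]; exact comp_distTriang_mor_zero₁₂ _ hT'
    have z2 : T.mor₂ ≫ T.mor₃ = 0 := comp_distTriang_mor_zero₂₃ _ hT
    have e0 := coMidExact_of_distinguished T hT
    have e' : CoMidExact a₀ T.mor₁ := by rw [ha₀]; exact coMidExact_of_distinguished _ hT'
    have e'' := coMidExact_of_distinguished _ hT''
    have z1' : (LBase φ).map a₀ ≫ (LBase φ).map T.mor₁ = 0 := by
      rw [← Functor.map_comp, z1, Functor.map_zero]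
    have hab : (LBase φ).map (RHomMap T.mor₃ M) ≫ (LBase φ).map (RHomMap T.mor₂ M) = 0 := by
      rw [← Functor.map_comp, RHomMap_zero_comp' z2, Functor.map_zero]
    exact isIso_of_five
      ((LBase φ).map (RHomMap T.mor₃ M)) ((LBase φ).map (RHomMap T.mor₂ M))
      ((LBase φ).map (RHomMap T.mor₁ M)) ((LBase φ).map (RHomMap a₀ M))
      (RHomMap ((LBase φ).map T.mor₃) _) (RHomMap ((LBase φ).map T.mor₂) _)
      (RHomMap ((LBase φ).map T.mor₁) _) (RHomMap ((LBase φ).map a₀) _)
      (fMap φ _ M) (fMap φ _ M) (fMap φ _ M) (fMap φ _ M) (fMap φ _ M)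
      (fMap_naturality φ _ M) (fMap_naturality φ _ M)
      (fMap_naturality φ _ M) (fMap_naturality φ _ M)
      hab
      (RHomMap_zero_comp' z1' _)
      (MidExact.of_coMidExact (CoMidExact.map_of_adj (baseAdj φ)
        (CoMidExact.of_midExact (midExact_RHomMap' e0 M))))
      (MidExact.of_coMidExact (CoMidExact.map_of_adj (baseAdj φ)
        (CoMidExact.of_midExact (midExact_RHomMap' e' M))))
      (midExact_RHomMap' (CoMidExact.map_of_adj (baseAdj φ) e'') _)
      (midExact_RHomMap' (CoMidExact.map_of_adj (baseAdj φ) e0) _)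
  · intro n
    haveI := isEquivalence_tensorRightD_unitShift' (A := R) n
    haveI : (tensorRightD R' ((LBase φ).obj
        ((DerivedCategory.Q.obj (𝟙_ (DRing.Cx R)))⟦n⟧))).IsEquivalence := by
      haveI := isEquivalence_tensorRightD_QUS (A := R') n
      have e : DerivedCategory.Q.obj (US R' n) ≅
          (LBase φ).obj ((DerivedCategory.Q.obj (𝟙_ (DRing.Cx R)))⟦n⟧) :=
        (LBaseUSIso φ n).symm ≪≫ (LBase φ).mapIso
          ((DerivedCategory.Q.commShiftIso n).app (𝟙_ (DRing.Cx R)))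
      exact isEquivalence_tensorRightD_of_iso'' e
    exact isIso_fMap_of_isEquivalence φ _ M

/-- `DTen.bcRHom φ K M` is an isomorphism for `K` perfect. -/
theorem isIso_bcRHom_of_isPerfect (K M : Dual.D R) [IsIso (rhomBC φ K ((LBase φ).obj M))]
    (hK : DRing.IsPerfect R K) : IsIso (bcRHom φ K M) := by
  rw [bcRHom_eq]
  exact isIso_fMap_of_isPerfect φ K M hK

end Main

end Groth.Agent.Lib.helper13.RhomBC
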