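import Mathlib
import Groth.Prelude.Def_DTen6
import Groth.Agent.Lib.Helper13.RhomBC4
import Groth.Agent.Lib.Helper13.PCohEval3

/-!
# Base change for `RHom` out of a pseudo-coherent object (helper13)

* `isGE_restrictD`, `isLE_restrictD`: restriction of scalars is t-exact; `isLE_LBase`: derived base change is right
  t-exact.
* `isIso_baseCmp_of_flat`: for `φ` flat, `DTen.baseCmp φ` is invertible at every complex;
  `isGE_LBase_of_flat`: derived base change along a flat map is left t-exact.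
* weak-binder versions (only `[HasLTen A] [HasRHom A]`) `tstTensorIso'`, `tst_hom_RHom_zero'`, `isGE_RHom'`.
* `isIso_fMap_of_isPseudoCoherent`: if `LBase φ` sends `D^{≥ r}` into `D^{≥ r - d}`, then
  `fMap φ K M` is invertible for `K` pseudo-coherent and `M` bounded below.
-/

set_option autoImplicit false
universe u
open CategoryTheory Limits MonoidalCategory HomologicalComplex Pretriangulated

attribute [local instance] HasDerivedCategory.standard

namespace Groth.Agent.Lib.helper13.RhomBC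
open DTen Groth.Agent.Lib.helper13.DTenA Groth.Agent.Lib.helper13.KFlat
  Groth.Agent.Lib.helper13.RKF Groth.Agent.Lib.helper13.PerfInd Groth.Agent.Lib.helper13.PCohEval

section TExact

variable {R R' : Type u} [CommRing R] [CommRing R'] (φ : R →+* R')

lemma isGE_restrictD (Y : Dual.D R') (r : ℤ) [Y.IsGE r] :
    ((DRing.restrictD φ).obj Y).IsGE r := by
  obtain ⟨Y', hY', ⟨e⟩⟩ := DerivedCategory.exists_iso_Q_obj_of_isGE Y r
  have e2 : (DRing.restrictD φ).obj Y ≅ DerivedCategory.Q.obj ((resCx φ).obj Y') :=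
    (DRing.restrictD φ).mapIso e ≪≫ (resFactors φ).app Y'
  haveI : ((resCx φ).obj Y').IsStrictlyGE r := inferInstance
  exact DerivedCategory.TStructure.t.isGE_of_iso e2.symm r

lemma isLE_restrictD (Y : Dual.D R') (r : ℤ) [Y.IsLE r] :
    ((DRing.restrictD φ).obj Y).IsLE r := by
  obtain ⟨Y', hY', ⟨e⟩⟩ := DerivedCategory.exists_iso_Q_obj_of_isLE Y r
  have e2 : (DRing.restrictD φ).obj Y ≅ DerivedCategory.Q.obj ((resCx φ).obj Y') :=
    (DRing.restrictD φ).mapIso e ≪≫ (resFactors φ).app Y'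
  haveI : ((resCx φ).obj Y').IsStrictlyLE r := inferInstance
  exact DerivedCategory.TStructure.t.isLE_of_iso e2.symm r

variable [HasLBase φ]

lemma isLE_LBase (X : Dual.D R) (m : ℤ) [X.IsLE m] : ((LBase φ).obj X).IsLE m := by
  refine (DerivedCategory.TStructure.t.isLE_iff_orthogonal m (m + 1) rfl _).2 ?_
  intro V f hV
  haveI := isGE_restrictD φ V (m + 1)
  have h1 : (baseAdj φ).homEquiv X V f = 0 :=
    DerivedCategory.TStructure.t.zero _ m (m + 1) (by omega)
  rw [← ((baseAdj φ).homEquiv X V).symm_apply_apply f, h1, Adjunction.homEquiv_counit,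
    Functor.map_zero, zero_comp]

theorem isIso_baseCmp_of_flat (hφ : φ.Flat) (K : DRing.Cx R) : IsIso ((baseCmp φ).app K) := by
  obtain ⟨P, p, hP, hp⟩ := exists_res K
  haveI := ModuleCat.preservesFiniteLimits_extendScalars_of_flat hφ
  haveI h1 : QuasiIso ((extCx φ).map p) := by
    show QuasiIso (((ModuleCat.extendScalars.{u, u, u} φ).mapHomologicalComplex
      (ComplexShape.up ℤ)).map p)
    infer_instance
  have nat := (baseCmp φ).naturality p
  haveI := isIso_baseCmp φ P hP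
  haveI i1 : IsIso ((DerivedCategory.Q ⋙ LBase φ).map p) := by
    dsimp only [Functor.comp_map]
    infer_instance
  haveI i2 : IsIso ((extCx φ ⋙ DerivedCategory.Q).map p) := by
    dsimp only [Functor.comp_map]
    infer_instance
  have h3 : (baseCmp φ).app K = inv ((DerivedCategory.Q ⋙ LBase φ).map p) ≫
      (baseCmp φ).app P ≫ (extCx φ ⋙ DerivedCategory.Q).map p := by
    rw [IsIso.eq_inv_comp]
    exact nat
  rw [h3]
  infer_instance

theorem isGE_LBase_of_flat (hφ : φ.Flat) (X : Dual.D R) (r : ℤ) [X.IsGE r] :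
    ((LBase φ).obj X).IsGE r := by
  obtain ⟨X', hX', ⟨e⟩⟩ := DerivedCategory.exists_iso_Q_obj_of_isGE X r
  haveI := isIso_baseCmp_of_flat φ hφ X'
  have e2 : (LBase φ).obj X ≅ DerivedCategory.Q.obj ((extCx φ).obj X') :=
    (LBase φ).mapIso e ≪≫ asIso ((baseCmp φ).app X')
  haveI : ((extCx φ).obj X').IsStrictlyGE r := inferInstance
  exact DerivedCategory.TStructure.t.isGE_of_iso e2.symm r

end TExact

section Weak

variable {A : Type u} [CommRing A] [HasLTen A]

/-- `tst n ⊗^L L ≅ L⟦n⟧` (no associativity binder) -/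
noncomputable def tstTensorIso' (L : Dual.D A) (n : ℤ) :
    (LTen₂ A).obj (tst n, L) ≅ L⟦n⟧ :=
  ((symmNatIso' (tst n)).app L).symm ≪≫ tensorTstIso L n

variable [HasRHom A]

theorem tst_hom_RHom_zero' (X Y : Dual.D A) (n : ℤ) (h : ∀ f : X⟦n⟧ ⟶ Y, f = 0)
    (g : tst n ⟶ (RHomR A X).obj Y) : g = 0 := by
  have h1 : ((rhomAdj A X).homEquiv _ _).symm g = 0 := by
    have := h ((tstTensorIso' X n).inv ≫ ((rhomAdj A X).homEquiv _ _).symm g)
    rw [← cancel_epi (tstTensorIso' X n).inv, this, comp_zero]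
  rw [← ((rhomAdj A X).homEquiv _ _).apply_symm_apply g, h1, Adjunction.homEquiv_unit,
    Functor.map_zero, comp_zero]

/-- `RHom(C, V) ∈ D^{≥ r - m}` for `C ∈ D^{≤ m}`, `V ∈ D^{≥ r}`. -/
theorem isGE_RHom' (C V : Dual.D A) (m r : ℤ) [C.IsLE m] [V.IsGE r] :
    ((RHomR A C).obj V).IsGE (r - m) := by
  refine isGE_of_tst_hom_zero _ _ (fun n hn z => tst_hom_RHom_zero' C V n (fun f => ?_) z)
  haveI : (C⟦n⟧).IsLE (m - n) := DerivedCategory.TStructure.t.isLE_shift C m n (m - n) (by omega)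
  exact DerivedCategory.TStructure.t.zero f (m - n) r (by omega)

omit [HasLTen A] [HasRHom A] in
/-- `Hom(tst n, Z) = 0` for `Z ∈ D^{≥ c}`, `-n < c`. -/
theorem tst_hom_zero_of_isGE (n c : ℤ) (hc : -n < c) (Z : Dual.D A) [Z.IsGE c]
    (z : tst n ⟶ Z) : z = 0 := by
  haveI : (𝟙_ (DRing.Cx A) : DRing.Cx A).IsStrictlyLE 0 :=
    inferInstanceAs (CochainComplex.IsStrictlyLE ((HomologicalComplex.single (ModuleCat.{u} A)
      (ComplexShape.up ℤ) 0).obj (𝟙_ (ModuleCat.{u} A))) 0)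
  haveI : ((𝟙_ (DRing.Cx A))⟦n⟧ : DRing.Cx A).IsStrictlyLE (-n) :=
    CochainComplex.isStrictlyLE_shift (𝟙_ (DRing.Cx A)) 0 n (-n) (by omega)
  haveI : (tst n : Dual.D A).IsLE (-n) := inferInstance
  exact DerivedCategory.TStructure.t.zero z (-n) c hc

end Weak

section Main

variable {R R' : Type u} [CommRing R] [CommRing R'] (φ : R →+* R')
variable [HasLTen R] [HasLTen R'] [HasLBase φ] [HasResTen φ] [ResLegIso φ] [HasRHom R] [HasRHom R']

omit [HasLTen R'] [HasLBase φ] [HasResTen φ] [ResLegIso φ] [HasRHom R'] in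
lemma isIso_RHomMap_of_isIso {P P' : Dual.D R} (g : P' ⟶ P) [IsIso g] (Z : Dual.D R) :
    IsIso (RHomMap g Z) := by
  dsimp only [RHomMap]
  haveI h1 : IsIso g.op := inferInstance
  haveI h2 : IsIso ((RHom R).map g.op) := Functor.map_isIso _ _
  exact NatIso.isIso_app_of_isIso _ Z

/-- If `LBase φ` sends `D^{≥ r}` into `D^{≥ r - d}`, then `fMap φ K M` is invertible for `K`
pseudo-coherent and `M` bounded below. -/
theorem isIso_fMap_of_isPseudoCoherent (d : ℤ)
    (hd : ∀ (X : Dual.D R) (r : ℤ), X.IsGE r → ((LBase φ).obj X).IsGE (r - d))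
    (K M : Dual.D R) (hK : DRing.IsPseudoCoherent' R K) (n₀ : ℤ) [M.IsGE n₀] :
    IsIso (fMap φ K M) := by
  -- bound for `F(C) = LBase RHom(C, M)`
  have hF : ∀ (C : Dual.D R) (m : ℤ), C.IsLE m →
      ((LBase φ).obj ((RHomR R C).obj M)).IsGE (n₀ - d - m) := by
    intro C m hC
    haveI := isGE_RHom' C M m n₀
    haveI := hd ((RHomR R C).obj M) (n₀ - m) inferInstance
    exact DerivedCategory.TStructure.t.isGE_of_ge _ (n₀ - d - m) (n₀ - m - d) (by omega)
  -- bound for `G(C) = RHom(LBase C, LBase M)`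
  have hG : ∀ (C : Dual.D R) (m : ℤ), C.IsLE m →
      ((RHomR R' ((LBase φ).obj C)).obj ((LBase φ).obj M)).IsGE (n₀ - d - m) := by
    intro C m hC
    haveI := isLE_LBase φ C m
    haveI := hd M n₀ inferInstance
    exact isGE_RHom' ((LBase φ).obj C) ((LBase φ).obj M) m (n₀ - d)
  refine isIso_of_bijective_tst _ (fun n => ?_)
  obtain ⟨T, hT, ⟨e⟩, hP, hC⟩ := exists_perfect_triangle K hK (n₀ - d + n - 2)
  obtain ⟨a₀, ha₀⟩ : ∃ a₀ : T.obj₃⟦(-1 : ℤ)⟧ ⟶ T.obj₁, a₀ = T.invRotate.mor₁ := ⟨_, rfl⟩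
  have hT' := inv_rot_of_distTriang _ hT
  have e0 := coMidExact_of_distinguished T hT
  have e' : CoMidExact a₀ T.mor₁ := by rw [ha₀]; exact coMidExact_of_distinguished _ hT'
  haveI hC' : (T.obj₃⟦(-1 : ℤ)⟧).IsLE (n₀ - d + n - 1) :=
    DerivedCategory.TStructure.t.isLE_shift T.obj₃ (n₀ - d + n - 2) (-1) _ (by omega)
  -- the four vanishing statements
  have v1 : ∀ x : (tst n : Dual.D R') ⟶ (LBase φ).obj ((RHomR R T.obj₃).obj M), x = 0 := by
    haveI := hF _ _ hC
    exact fun x => tst_hom_zero_of_isGE n (n₀ - d - (n₀ - d + n - 2)) (by omega) _ x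
  have v2 : ∀ x : (tst n : Dual.D R') ⟶
      (LBase φ).obj ((RHomR R (T.obj₃⟦(-1 : ℤ)⟧)).obj M), x = 0 := by
    haveI := hF _ _ hC'
    exact fun x => tst_hom_zero_of_isGE n (n₀ - d - (n₀ - d + n - 1)) (by omega) _ x
  have v3 : ∀ x : (tst n : Dual.D R') ⟶
      (RHomR R' ((LBase φ).obj T.obj₃)).obj ((LBase φ).obj M), x = 0 := by
    haveI := hG _ _ hC
    exact fun x => tst_hom_zero_of_isGE n (n₀ - d - (n₀ - d + n - 2)) (by omega) _ x
  have v4 : ∀ x : (tst n : Dual.D R') ⟶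
      (RHomR R' ((LBase φ).obj (T.obj₃⟦(-1 : ℤ)⟧))).obj ((LBase φ).obj M), x = 0 := by
    haveI := hG _ _ hC'
    exact fun x => tst_hom_zero_of_isGE n (n₀ - d - (n₀ - d + n - 1)) (by omega) _ x
  have bF := bijective_of_midExact ((LBase φ).map (RHomMap T.mor₂ M))
    ((LBase φ).map (RHomMap T.mor₁ M)) ((LBase φ).map (RHomMap a₀ M))
    (MidExact.of_coMidExact (CoMidExact.map_of_adj (baseAdj φ)
      (CoMidExact.of_midExact (midExact_RHomMap' e0 M))))
    (MidExact.of_coMidExact (CoMidExact.map_of_adj (baseAdj φ)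
      (CoMidExact.of_midExact (midExact_RHomMap' e' M)))) (tst n) v1 v2
  have bG := bijective_of_midExact (RHomMap ((LBase φ).map T.mor₂) ((LBase φ).obj M))
    (RHomMap ((LBase φ).map T.mor₁) ((LBase φ).obj M))
    (RHomMap ((LBase φ).map a₀) ((LBase φ).obj M))
    (midExact_RHomMap' (CoMidExact.map_of_adj (baseAdj φ) e0) _)
    (midExact_RHomMap' (CoMidExact.map_of_adj (baseAdj φ) e') _) (tst n) v3 v4
  haveI : IsIso (fMap φ T.obj₁ M) := isIso_fMap_of_isPerfect φ _ M hP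
  have nat1 : (LBase φ).map (RHomMap T.mor₁ M) ≫ fMap φ T.obj₁ M =
      fMap φ T.obj₂ M ≫ RHomMap ((LBase φ).map T.mor₁) ((LBase φ).obj M) :=
    fMap_naturality φ T.mor₁ M
  -- bijectivity for `T.obj₂`
  have b2 : Function.Bijective (fun x : (tst n : Dual.D R') ⟶
      (LBase φ).obj ((RHomR R T.obj₂).obj M) => x ≫ fMap φ T.obj₂ M) := by
    constructor
    · intro x y hxy
      have hxy' : x ≫ fMap φ T.obj₂ M = y ≫ fMap φ T.obj₂ M := hxy
      apply bF.1
      change x ≫ (LBase φ).map (RHomMap T.mor₁ M) = y ≫ (LBase φ).map (RHomMap T.mor₁ M)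
      rw [← cancel_mono (fMap φ T.obj₁ M), Category.assoc, Category.assoc, nat1,
        reassoc_of% hxy']
    · intro z
      obtain ⟨x, hx⟩ := bF.2 ((z ≫ RHomMap ((LBase φ).map T.mor₁) ((LBase φ).obj M)) ≫
        inv (fMap φ T.obj₁ M))
      have hx' : x ≫ (LBase φ).map (RHomMap T.mor₁ M) =
          (z ≫ RHomMap ((LBase φ).map T.mor₁) ((LBase φ).obj M)) ≫ inv (fMap φ T.obj₁ M) := hx
      refine ⟨x, ?_⟩
      apply bG.1
      change (x ≫ fMap φ T.obj₂ M) ≫ RHomMap ((LBase φ).map T.mor₁) ((LBase φ).obj M) =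
        z ≫ RHomMap ((LBase φ).map T.mor₁) ((LBase φ).obj M)
      rw [Category.assoc, ← nat1, reassoc_of% hx', IsIso.inv_hom_id, Category.comp_id]
  -- transport along `e : T.obj₂ ≅ K`
  have nat2 : (LBase φ).map (RHomMap e.hom M) ≫ fMap φ T.obj₂ M =
      fMap φ K M ≫ RHomMap ((LBase φ).map e.hom) ((LBase φ).obj M) :=
    fMap_naturality φ e.hom M
  haveI i1 : IsIso (RHomMap e.hom M) := isIso_RHomMap_of_isIso e.hom M
  haveI i2 : IsIso (RHomMap ((LBase φ).map e.hom) ((LBase φ).obj M)) :=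
    isIso_RHomMap_of_isIso _ _
  constructor
  · intro x y hxy
    have hxy' : x ≫ fMap φ K M = y ≫ fMap φ K M := hxy
    have h1 : (x ≫ (LBase φ).map (RHomMap e.hom M)) ≫ fMap φ T.obj₂ M =
        (y ≫ (LBase φ).map (RHomMap e.hom M)) ≫ fMap φ T.obj₂ M := by
      rw [Category.assoc, Category.assoc, nat2, reassoc_of% hxy']
    exact (cancel_mono _).1 (b2.1 h1)
  · intro z
    obtain ⟨x, hx⟩ := b2.2 (z ≫ RHomMap ((LBase φ).map e.hom) ((LBase φ).obj M))
    have hx' : x ≫ fMap φ T.obj₂ M =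
        z ≫ RHomMap ((LBase φ).map e.hom) ((LBase φ).obj M) := hx
    refine ⟨x ≫ inv ((LBase φ).map (RHomMap e.hom M)), ?_⟩
    change (x ≫ inv ((LBase φ).map (RHomMap e.hom M))) ≫ fMap φ K M = z
    rw [← cancel_mono (RHomMap ((LBase φ).map e.hom) ((LBase φ).obj M)), Category.assoc,
      Category.assoc, ← nat2, IsIso.inv_hom_id_assoc, hx']

end Main

end Groth.Agent.Lib.helper13.RhomBC
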