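import Mathlib
import Groth.Prelude.Def_DTen6
import Groth.Agent.Lib.Helper13.RhomBC5
import Groth.Agent.Lib.Helper13.TorLow8
import Groth.Agent.Lib.Helper3.PerfHom1

/-!
# Derived base change along a map of finite tor dimension is bounded below (helper13)

* `isGE_LBase_of_torDim`: if `R'` has tor amplitude in `[-m, 0]` over `R`, then `LBase φ` sends
  `D^{≥ r}` into `D^{≥ r - m}`.
* `exists_isGE_LBase_of_hasFiniteTorDim`: the same from `DRing.HasFiniteTorDim R R'`.
-/

set_option autoImplicit false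
universe u
open CategoryTheory Limits MonoidalCategory HomologicalComplex Pretriangulated

attribute [local instance] HasDerivedCategory.standard

namespace Groth.Agent.Lib.helper13.RhomBC
open DTen Groth.Agent.Lib.helper13.DTenA Groth.Agent.Lib.helper13.KFlat
  Groth.Agent.Lib.helper13.RKF Groth.Agent.Lib.helper13.TorLow Groth.Agent.Lib.helper13.LTenCx
  Groth.Agent.Lib.helper23.TA Groth.Agent.Lib.helper13.ExtKFlat

section
variable {R R' : Type u} [CommRing R] [CommRing R'] (φ : R →+* R') [HasLBase φ]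

theorem isGE_LBase_of_torDim (m : ℕ)
    (hC : DRing.HasTorAmplitudeIn R (-(m : ℤ)) 0
      (DRing.toD ((CochainComplex.singleFunctor (ModuleCat.{u} R) 0).obj (AR φ))))
    (X : Dual.D R) (r : ℤ) [X.IsGE r] : ((LBase φ).obj X).IsGE (r - m) := by
  obtain ⟨E, hEV, hEfl, ⟨eE⟩⟩ := hC
  have hE : IsKFlatR E := isKFlatR_of_bounded_above E 0 (fun i hi => hEV i (Or.inr hi)) hEfl
  let X' := DerivedCategory.Q.objPreimage X
  let e : DerivedCategory.Q.obj X' ≅ X := DerivedCategory.Q.objObjPreimageIso X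
  obtain ⟨P, p, hP, hp⟩ := exists_res X'
  haveI := hp
  have eP : DerivedCategory.Q.obj P ≅ X := asIso (DerivedCategory.Q.map p) ≪≫ e
  haveI : (DerivedCategory.Q.obj P).IsGE r := DerivedCategory.TStructure.t.isGE_of_iso eP.symm r
  have hPGE : P.IsGE r := (DerivedCategory.isGE_Q_obj_iff P r).1 inferInstance
  have hPex : ∀ q : ℤ, q < r → P.ExactAt q := fun q hq => (CochainComplex.isGE_iff P r).1 hPGE q hq
  haveI := isIso_baseCmp φ P hP
  have e2 : (LBase φ).obj X ≅ DerivedCategory.Q.obj ((DTen.extCx φ).obj P) :=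
    (LBase φ).mapIso eP.symm ≪≫ asIso ((baseCmp φ).app P)
  have key : ∀ j, ((DTen.extCx φ).obj P).ExactAt j ↔ (E ⊗ P).ExactAt j := by
    intro j
    rw [exactAt_extCx_iff_single_tensor]
    obtain ⟨i1⟩ := nonempty_iso_of_inverts DerivedCategory.Q (W R) (DRing.tensorCxQ R P)
      (isInvertedBy_tensorCxQ P hP) eE
    exact (exactAt_iff_of_iso_Q i1 j).symm
  haveI : ((DTen.extCx φ).obj P).IsGE (r - m) := by
    rw [CochainComplex.isGE_iff]
    intro j hj
    rw [key]
    exact exactAt_tensor_of_lt E P hE (-(m : ℤ)) r (fun p hp => hEV p (Or.inl hp)) hPex j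
      (by omega)
  haveI : (DerivedCategory.Q.obj ((DTen.extCx φ).obj P)).IsGE (r - m) :=
    (DerivedCategory.isGE_Q_obj_iff _ _).2 inferInstance
  exact DerivedCategory.TStructure.t.isGE_of_iso e2.symm _

end

section
variable (R R' : Type u) [CommRing R] [CommRing R'] [Algebra R R'] [HasLBase (algebraMap R R')]

theorem exists_isGE_LBase_of_hasFiniteTorDim (h : DRing.HasFiniteTorDim R R') :
    ∃ m : ℕ, ∀ (X : Dual.D R) (r : ℤ), X.IsGE r →
      ((LBase (algebraMap R R')).obj X).IsGE (r - m) := by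
  obtain ⟨m, hm⟩ := Groth.Agent.Lib.helper3.PerfHomLoc.hasFiniteTorDim_iff_ftd.1 h
  refine ⟨m, fun X r hX => ?_⟩
  haveI := hX
  refine isGE_LBase_of_torDim (algebraMap R R') m ?_ X r
  exact hasTorAmplitudeIn_of_iso
    ((DerivedCategory.singleFunctorIsoCompQ (ModuleCat.{u} R) 0).app _) hm

end

end Groth.Agent.Lib.helper13.RhomBC
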