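import Mathlib

/-!
# One-dimensional semi-local subrings of a field: gluing two of them
-/

set_option autoImplicit false

namespace Groth.Agent.Lib.helper13.SL1

universe u

open CategoryTheory AlgebraicGeometry

variable {K : Type u} [Field K]

/-- F3: inverting a nonzero element of the Jacobson radical of a one-dimensional domain gives the
fraction field. -/
lemma exists_pow_mul_mem (C : Subring K) [IsFractionRing C K]
    (hdim : ∀ P : Ideal C, P.IsPrime → P ≠ ⊥ → P.IsMaximal) (z : C)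
    (hz : ∀ m : Ideal C, m.IsMaximal → z ∈ m) (k : K) : ∃ n : ℕ, k * (z : K) ^ n ∈ C := by
  obtain ⟨p, q, hq, hpq⟩ := IsFractionRing.div_surjective (A := C) k
  have hq0 : q ≠ 0 := nonZeroDivisors.ne_zero hq
  have hq0' : (q : K) ≠ 0 := fun h => hq0 (Subtype.ext h)
  have hrad : z ∈ (Ideal.span {q}).radical := by
    rw [Ideal.radical_eq_sInf, Ideal.mem_sInf]
    rintro P ⟨hqP, hP⟩
    have hP0 : P ≠ ⊥ := by
      rintro rfl
      exact hq0 ((Ideal.mem_bot).mp (hqP (Ideal.mem_span_singleton_self q)))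
    exact hz P (hdim P hP hP0)
  obtain ⟨n, hn⟩ := hrad
  obtain ⟨c, hc⟩ := Ideal.mem_span_singleton'.mp hn
  refine ⟨n, ?_⟩
  have h1 : (z : K) ^ n = (c : K) * (q : K) := by
    have := congrArg (Subtype.val : C → K) hc
    simpa using this.symm
  have hk : k = (p : K) / (q : K) := hpq.symm
  rw [hk, h1]
  have : (p : K) / (q : K) * ((c : K) * (q : K)) = ((p * c : C) : K) := by
    push_cast
    field_simp
  rw [this]
  exact (p * c).2

/-- F2: `1 + a z` is a unit for `z` in the Jacobson radical. -/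
lemma isUnit_one_add_mul {C : Type*} [CommRing C] (z : C)
    (hz : ∀ m : Ideal C, m.IsMaximal → z ∈ m) (a : C) : IsUnit (1 + a * z) := by
  have hzj : z ∈ Ideal.jacobson (⊥ : Ideal C) := by
    rw [Ideal.jacobson, Ideal.mem_sInf]
    rintro m ⟨-, hm⟩
    exact hz m hm
  have := Ideal.mem_jacobson_bot.mp hzj a
  rwa [add_comm, mul_comm] at this

/-- F1: a non-field domain with finitely many maximal ideals has a nonzero element in its
Jacobson radical. -/
lemma exists_ne_zero_mem_maximal {C : Type*} [CommRing C] [IsDomain C] (hC : ¬ IsField C)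
    (hfin : Finite (MaximalSpectrum C)) :
    ∃ z : C, z ≠ 0 ∧ ∀ m : Ideal C, m.IsMaximal → z ∈ m := by
  classical
  haveI := Fintype.ofFinite (MaximalSpectrum C)
  have hne : ∀ m : MaximalSpectrum C, ∃ z : C, z ≠ 0 ∧ z ∈ m.asIdeal := by
    intro m
    have hm0 : m.asIdeal ≠ ⊥ := by
      intro h
      apply hC
      rw [Ring.isField_iff_maximal_bot, ← h]
      exact m.isMaximal
    obtain ⟨z, hz, hz0⟩ := Submodule.exists_mem_ne_zero_of_ne_bot hm0
    exact ⟨z, hz0, hz⟩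
  choose f hf0 hfm using hne
  refine ⟨∏ m, f m, Finset.prod_ne_zero_iff.mpr fun m _ => hf0 m, fun m hm => ?_⟩
  have h1 : f ⟨m, hm⟩ ∈ m := hfm ⟨m, hm⟩
  exact Ideal.mem_of_dvd m
    (Finset.dvd_prod_of_mem f (Finset.mem_univ (⟨m, hm⟩ : MaximalSpectrum C))) h1

/-- `A = R_x` where `R = A ⊓ B`, when `x ∈ R` is a unit of `A` and `B_x = K`. -/
lemma isLocalization_away_inf_left (A B : Subring K) (x : K) (hxA : x ∈ A) (hxB : x ∈ B)
    (hx0 : x ≠ 0) (hxu : x⁻¹ ∈ A) (hB : ∀ k : K, ∃ n : ℕ, k * x ^ n ∈ B) :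
    letI := (Subring.inclusion (inf_le_left : A ⊓ B ≤ A)).toAlgebra
    IsLocalization.Away (⟨x, Subring.mem_inf.mpr ⟨hxA, hxB⟩⟩ : ↥(A ⊓ B)) A := by
  letI := (Subring.inclusion (inf_le_left : A ⊓ B ≤ A)).toAlgebra
  have hmap : ∀ r : ↥(A ⊓ B), ((algebraMap ↥(A ⊓ B) A r : A) : K) = (r : K) := fun r => rfl
  rw [IsLocalization.Away, isLocalization_iff]
  refine ⟨?_, ?_, ?_⟩
  · rintro ⟨_, n, rfl⟩
    rw [map_pow]
    refine IsUnit.pow n ?_
    refine IsUnit.of_mul_eq_one (⟨x⁻¹, hxu⟩ : A) ?_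
    apply Subtype.ext
    show x * x⁻¹ = 1
    exact mul_inv_cancel₀ hx0
  · intro a
    obtain ⟨n, hn⟩ := hB (a : K)
    have hnA : (a : K) * x ^ n ∈ A := A.mul_mem a.2 (A.pow_mem hxA n)
    refine ⟨(⟨⟨(a : K) * x ^ n, Subring.mem_inf.mpr ⟨hnA, hn⟩⟩,
      ⟨(⟨x, Subring.mem_inf.mpr ⟨hxA, hxB⟩⟩ : ↥(A ⊓ B)) ^ n, n, rfl⟩⟩ :
      ↥(A ⊓ B) × Submonoid.powers (⟨x, Subring.mem_inf.mpr ⟨hxA, hxB⟩⟩ : ↥(A ⊓ B))), ?_⟩
    apply Subtype.ext
    show (a : K) * _ = _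
    rw [hmap, hmap]
    rfl
  · intro r₁ r₂ h
    refine ⟨1, ?_⟩
    have : (r₁ : K) = (r₂ : K) := by
      rw [← hmap r₁, ← hmap r₂, h]
    rw [Subtype.ext this]

/-- `B = R_y` where `R = A ⊓ B`, when `y ∈ R` is a unit of `B` and `A_y = K`. -/
lemma isLocalization_away_inf_right (A B : Subring K) (y : K) (hyA : y ∈ A) (hyB : y ∈ B)
    (hy0 : y ≠ 0) (hyu : y⁻¹ ∈ B) (hA : ∀ k : K, ∃ n : ℕ, k * y ^ n ∈ A) :
    letI := (Subring.inclusion (inf_le_right : A ⊓ B ≤ B)).toAlgebra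
    IsLocalization.Away (⟨y, Subring.mem_inf.mpr ⟨hyA, hyB⟩⟩ : ↥(A ⊓ B)) B := by
  letI := (Subring.inclusion (inf_le_right : A ⊓ B ≤ B)).toAlgebra
  have hmap : ∀ r : ↥(A ⊓ B), ((algebraMap ↥(A ⊓ B) B r : B) : K) = (r : K) := fun r => rfl
  rw [IsLocalization.Away, isLocalization_iff]
  refine ⟨?_, ?_, ?_⟩
  · rintro ⟨_, n, rfl⟩
    rw [map_pow]
    refine IsUnit.pow n ?_
    refine IsUnit.of_mul_eq_one (⟨y⁻¹, hyu⟩ : B) ?_
    apply Subtype.ext
    show y * y⁻¹ = 1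
    exact mul_inv_cancel₀ hy0
  · intro b
    obtain ⟨n, hn⟩ := hA (b : K)
    have hnB : (b : K) * y ^ n ∈ B := B.mul_mem b.2 (B.pow_mem hyB n)
    refine ⟨(⟨⟨(b : K) * y ^ n, Subring.mem_inf.mpr ⟨hn, hnB⟩⟩,
      ⟨(⟨y, Subring.mem_inf.mpr ⟨hyA, hyB⟩⟩ : ↥(A ⊓ B)) ^ n, n, rfl⟩⟩ :
      ↥(A ⊓ B) × Submonoid.powers (⟨y, Subring.mem_inf.mpr ⟨hyA, hyB⟩⟩ : ↥(A ⊓ B))), ?_⟩
    apply Subtype.ext
    show (b : K) * _ = _
    rw [hmap, hmap]
    rfl
  · intro r₁ r₂ h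
    refine ⟨1, ?_⟩
    have : (r₁ : K) = (r₂ : K) := by
      rw [← hmap r₁, ← hmap r₂, h]
    rw [Subtype.ext this]

/-- **Gluing two subrings of a field along a partition of unity.** -/
theorem glue (A B : Subring K) (x y : K) (hxA : x ∈ A) (hxB : x ∈ B) (hyA : y ∈ A) (hyB : y ∈ B)
    (hxy : x + y = 1) (hx0 : x ≠ 0) (hy0 : y ≠ 0) (hxu : x⁻¹ ∈ A) (hyu : y⁻¹ ∈ B)
    (hA : ∀ k : K, ∃ n : ℕ, k * y ^ n ∈ A) (hB : ∀ k : K, ∃ n : ℕ, k * x ^ n ∈ B) :
    IsOpenImmersion (Spec.map (CommRingCat.ofHom (Subring.inclusion (inf_le_left : A ⊓ B ≤ A)))) ∧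
    IsOpenImmersion (Spec.map (CommRingCat.ofHom (Subring.inclusion (inf_le_right : A ⊓ B ≤ B)))) ∧
    Set.range (Spec.map (CommRingCat.ofHom
        (Subring.inclusion (inf_le_left : A ⊓ B ≤ A)))).base ∪
      Set.range (Spec.map (CommRingCat.ofHom
        (Subring.inclusion (inf_le_right : A ⊓ B ≤ B)))).base = Set.univ ∧
    IsPushout (CommRingCat.ofHom (Subring.inclusion (inf_le_left : A ⊓ B ≤ A)))
      (CommRingCat.ofHom (Subring.inclusion (inf_le_right : A ⊓ B ≤ B)))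
      (CommRingCat.ofHom A.subtype) (CommRingCat.ofHom B.subtype) := by
  letI algA := (Subring.inclusion (inf_le_left : A ⊓ B ≤ A)).toAlgebra
  letI algB := (Subring.inclusion (inf_le_right : A ⊓ B ≤ B)).toAlgebra
  set xR : ↥(A ⊓ B) := ⟨x, Subring.mem_inf.mpr ⟨hxA, hxB⟩⟩ with hxR
  set yR : ↥(A ⊓ B) := ⟨y, Subring.mem_inf.mpr ⟨hyA, hyB⟩⟩ with hyR
  haveI locA : IsLocalization.Away xR A :=
    isLocalization_away_inf_left A B x hxA hxB hx0 hxu hB
  haveI locB : IsLocalization.Away yR B :=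
    isLocalization_away_inf_right A B y hyA hyB hy0 hyu hA
  refine ⟨IsOpenImmersion.of_isLocalization xR, IsOpenImmersion.of_isLocalization yR, ?_, ?_⟩
  · have h1 : Set.range (Spec.map (CommRingCat.ofHom
        (Subring.inclusion (inf_le_left : A ⊓ B ≤ A)))).base =
        (PrimeSpectrum.basicOpen xR : Set (PrimeSpectrum ↥(A ⊓ B))) :=
      PrimeSpectrum.localization_away_comap_range A xR
    have h2 : Set.range (Spec.map (CommRingCat.ofHom
        (Subring.inclusion (inf_le_right : A ⊓ B ≤ B)))).base =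
        (PrimeSpectrum.basicOpen yR : Set (PrimeSpectrum ↥(A ⊓ B))) :=
      PrimeSpectrum.localization_away_comap_range B yR
    rw [h1, h2]
    ext P
    simp only [Set.mem_union, Set.mem_univ, iff_true]
    by_contra hP
    push Not at hP
    have hx : xR ∈ P.asIdeal := by
      by_contra h; exact hP.1 h
    have hy : yR ∈ P.asIdeal := by
      by_contra h; exact hP.2 h
    have h1 : xR + yR = 1 := Subtype.ext hxy
    exact P.isPrime.ne_top ((Ideal.eq_top_iff_one _).mpr (h1 ▸ P.asIdeal.add_mem hx hy))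
  · haveI : IsLocalization ((Submonoid.powers yR).map
        (Subring.inclusion (inf_le_left : A ⊓ B ≤ A))) K := by
      rw [isLocalization_iff]
      refine ⟨?_, ?_, ?_⟩
      · rintro ⟨_, ⟨_, ⟨n, rfl⟩, rfl⟩⟩
        refine IsUnit.mk0 _ ?_
        show ((yR ^ n : ↥(A ⊓ B)) : K) ≠ 0
        push_cast
        exact pow_ne_zero n hy0
      · intro k
        obtain ⟨n, hn⟩ := hA k
        refine ⟨(⟨⟨k * y ^ n, hn⟩, ⟨Subring.inclusion (inf_le_left : A ⊓ B ≤ A) (yR ^ n),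
          ⟨yR ^ n, ⟨n, rfl⟩, rfl⟩⟩⟩ : A × _), ?_⟩
        show k * ((yR ^ n : ↥(A ⊓ B)) : K) = k * y ^ n
        push_cast
        rfl
      · intro a₁ a₂ h
        exact ⟨1, by rw [Subtype.ext (show (a₁ : K) = (a₂ : K) from h)]⟩
    exact CommRingCat.isPushout_of_isLocalization
      (Subring.inclusion (inf_le_left : A ⊓ B ≤ A)) B.subtype (by ext r; rfl)
      (Submonoid.powers yR)

end Groth.Agent.Lib.helper13.SL1
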