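import Mathlib
import Groth.Agent.Lib.Helper13.SL1

/-!
# Elements of the Jacobson radical with poles at finitely many valuations
-/

set_option autoImplicit false

namespace Groth.Agent.Lib.helper13.SL1

universe u

variable {K : Type u} [Field K]

/-- Approximation-type lemma: if a subring `B` of `K` is not contained in the valuation ring of any
of finitely many archimedean valuations `v i`, then the Jacobson radical of `B` (assumed nonzero)
contains an element with a pole at every `v i`. -/
theorem exists_pole {Γ₀ : Type*} [LinearOrderedCommGroupWithZero Γ₀] [MulArchimedean Γ₀]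
    {ι : Type*} [Finite ι] (v : ι → Valuation K Γ₀) (B : Subring K) (z : B) (hz0 : z ≠ 0)
    (hz : ∀ m : Ideal B, m.IsMaximal → z ∈ m) (hB : ∀ i, ∃ b : B, 1 < v i (b : K)) :
    ∃ t : B, (∀ m : Ideal B, m.IsMaximal → t ∈ m) ∧ ∀ i, 1 < v i (t : K) := by
  classical
  haveI := Fintype.ofFinite ι
  have hz0' : (z : K) ≠ 0 := fun h => hz0 (Subtype.ext h)
  suffices H : ∀ S : Finset ι, ∃ t : B, (∀ m : Ideal B, m.IsMaximal → t ∈ m) ∧
      ∀ i ∈ S, 1 < v i (t : K) by
    obtain ⟨t, ht1, ht2⟩ := H Finset.univ
    exact ⟨t, ht1, fun i => ht2 i (Finset.mem_univ i)⟩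
  intro S
  induction S using Finset.induction_on with
  | empty => exact ⟨z, hz, fun i hi => absurd hi (Finset.notMem_empty i)⟩
  | insert k S' hk ih =>
    obtain ⟨t, ht1, ht2⟩ := ih
    by_cases hkt : 1 < v k (t : K)
    · refine ⟨t, ht1, fun i hi => ?_⟩
      rcases Finset.mem_insert.mp hi with rfl | hi'
      · exact hkt
      · exact ht2 i hi'
    · rw [not_lt] at hkt
      -- an element `s` of the radical with a pole at `k`
      obtain ⟨b, hb⟩ := hB k
      have hvz : v k (z : K) ≠ 0 := (Valuation.ne_zero_iff _).mpr hz0'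
      obtain ⟨n, hn⟩ := MulArchimedean.arch (v k (z : K))⁻¹ hb
      have hs : 1 < v k ((z * b ^ (n + 1) : B) : K) := by
        push_cast
        rw [map_mul, map_pow, pow_succ]
        have h1 : 1 ≤ v k (z : K) * v k (b : K) ^ n := by
          have := mul_le_mul_right hn (v k (z : K))
          rwa [mul_inv_cancel₀ hvz] at this
        calc (1 : Γ₀) < 1 * v k (b : K) := by rwa [one_mul]
          _ ≤ (v k (z : K) * v k (b : K) ^ n) * v k (b : K) := by gcongr
          _ = v k (z : K) * (v k (b : K) ^ n * v k (b : K)) := by rw [mul_assoc]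
      set s : B := z * b ^ (n + 1) with hsdef
      have hsrad : ∀ m : Ideal B, m.IsMaximal → s ∈ m := fun m hm => m.mul_mem_right _ (hz m hm)
      -- exponent `M`
      have hM : ∃ M : ℕ, 1 ≤ M ∧ ∀ i ∈ S', v i (s : K) < v i (t : K) ^ M := by
        have : ∀ i ∈ S', ∃ Mi : ℕ, v i (s : K) ≤ v i (t : K) ^ Mi := fun i hi =>
          MulArchimedean.arch _ (ht2 i hi)
        choose! Mi hMi using this
        refine ⟨S'.sup Mi + 1, Nat.le_add_left 1 _, fun i hi => ?_⟩
        have h1 : Mi i ≤ S'.sup Mi := Finset.le_sup hi
        calc v i (s : K) ≤ v i (t : K) ^ Mi i := hMi i hi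
          _ ≤ v i (t : K) ^ S'.sup Mi := pow_le_pow_right₀ (ht2 i hi).le h1
          _ < v i (t : K) ^ (S'.sup Mi + 1) := by
            rw [pow_succ]
            have hpos : 0 < v i (t : K) ^ S'.sup Mi :=
              pow_pos (lt_trans zero_lt_one (ht2 i hi)) _
            calc v i (t : K) ^ S'.sup Mi = v i (t : K) ^ S'.sup Mi * 1 := (mul_one _).symm
              _ < v i (t : K) ^ S'.sup Mi * v i (t : K) := by
                exact mul_lt_mul_of_pos_left (ht2 i hi) hpos
      obtain ⟨M, hM1, hM⟩ := hM
      refine ⟨s + t ^ M, fun m hm => m.add_mem (hsrad m hm) (m.pow_mem_of_mem (ht1 m hm) M hM1),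
        fun i hi => ?_⟩
      rcases Finset.mem_insert.mp hi with rfl | hi'
      · have hlt : v i ((t ^ M : B) : K) < v i (s : K) := by
          push_cast
          rw [map_pow]
          exact lt_of_le_of_lt (pow_le_one₀ zero_le hkt) hs
        have : v i ((s + t ^ M : B) : K) = v i (s : K) := by
          push_cast
          have h2 : v i ((t : K) ^ M) < v i (s : K) := by simpa using hlt
          exact Valuation.map_add_eq_of_lt_left _ h2
        rw [this]; exact hs
      · have hlt : v i (s : K) < v i ((t : K) ^ M) := by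
          rw [map_pow]; exact hM i hi'
        have : v i ((s + t ^ M : B) : K) = v i ((t : K) ^ M) := by
          push_cast
          exact Valuation.map_add_eq_of_lt_right _ hlt
        rw [this, map_pow]
        exact one_lt_pow₀ (ht2 i hi') (by omega)

end Groth.Agent.Lib.helper13.SL1
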