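import Mathlib
import Groth.Agent.Lib.Helper13.SL2
import Groth.Agent.Lib.Helper13.KrAk1

/-!
# Powers of radical elements of the normalization land in the radical
-/

set_option autoImplicit false

namespace Groth.Agent.Lib.helper13.SL1

universe u

variable {K : Type u} [Field K]

/-- Claim C: if `a'` lies in every maximal ideal of the integral closure `A'` of the
one-dimensional semi-local domain `A` in its fraction field, some power of `a'` lies in the
Jacobson radical of `A`. -/
theorem exists_pow_mem_radical (A : Subring K) [IsFractionRing A K]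
    (hdimA : ∀ P : Ideal A, P.IsPrime → P ≠ ⊥ → P.IsMaximal) (w : A) (hw0 : w ≠ 0)
    (hw : ∀ m : Ideal A, m.IsMaximal → w ∈ m) (a' : integralClosure A K)
    (ha' : ∀ M : Ideal (integralClosure A K), M.IsMaximal → a' ∈ M) :
    ∃ N : ℕ, ∃ q : A, (q : K) = (a' : K) ^ N ∧ ∀ m : Ideal A, m.IsMaximal → q ∈ m := by
  classical
  set x : K := (a' : K) with hx
  have hxint : IsIntegral A x := a'.2
  let At : Subalgebra A K := Algebra.adjoin A {x}
  have hle : At ≤ integralClosure A K := Algebra.adjoin_le (by
    rintro _ rfl
    exact hxint)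
  -- common denominator
  obtain ⟨S, hS⟩ := hxint.fg_adjoin_singleton
  obtain ⟨⟨c, hc⟩, hcS⟩ := IsLocalization.exist_integer_multiples_of_finset (nonZeroDivisors A) S
  have hc0 : c ≠ 0 := nonZeroDivisors.ne_zero hc
  have hcspan : ∀ k ∈ Submodule.span A (S : Set K), c • k ∈ (algebraMap A K).range := by
    intro k hk'
    induction hk' using Submodule.span_induction with
    | mem s hs => exact hcS s hs
    | zero => rw [smul_zero]; exact Subring.zero_mem _
    | add k₁ k₂ _ _ ih₁ ih₂ =>
      rw [smul_add]
      exact Subring.add_mem _ ih₁ ih₂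
    | smul r k _ ih =>
      rw [smul_comm]
      obtain ⟨a, ha⟩ := ih
      exact ⟨r * a, by rw [map_mul, ha, Algebra.smul_def, Algebra.smul_def]⟩
  have hcAt : ∀ k ∈ At, c • k ∈ (algebraMap A K).range := by
    intro k hk
    apply hcspan
    rw [hS]; exact hk
  -- integrality
  haveI : Algebra.IsIntegral A At := ⟨fun k => by
    have : IsIntegral A (k : K) := hle k.2
    exact (isIntegral_algebraMap_iff (B := K) Subtype.val_injective).mp this⟩
  letI algAt : Algebra At (integralClosure A K) := (Subalgebra.inclusion hle).toAlgebra
  haveI : IsScalarTower A At (integralClosure A K) :=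
    IsScalarTower.of_algebraMap_eq fun r => rfl
  haveI : Algebra.IsIntegral At (integralClosure A K) := ⟨fun k => by
    have : IsIntegral A k :=
      (isIntegral_algebraMap_iff (B := K) Subtype.val_injective).mp k.2
    exact this.tower_top⟩
  -- the elements
  let e : A := c * w
  have he0 : e ≠ 0 := mul_ne_zero hc0 hw0
  let xt : At := ⟨x, Algebra.self_mem_adjoin_singleton A x⟩
  have hrad : xt ∈ (Ideal.span {algebraMap A At e}).radical := by
    rw [Ideal.radical_eq_sInf, Ideal.mem_sInf]
    rintro Q ⟨heQ, hQ⟩
    have hcomap : (Q.comap (algebraMap A At)).IsMaximal := by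
      refine hdimA _ (hQ.comap _) ?_
      intro hbot
      have : e ∈ Q.comap (algebraMap A At) := heQ (Ideal.mem_span_singleton_self _)
      rw [hbot] at this
      exact he0 this
    haveI hQmax : Q.IsMaximal := Ideal.isMaximal_of_isIntegral_of_isMaximal_comap Q hcomap
    obtain ⟨M, hMmax, hMQ⟩ := Ideal.exists_ideal_over_maximal_of_isIntegral
      (S := integralClosure A K) Q (by
        intro k hk
        have : k = 0 := by
          apply Subtype.ext
          have := congrArg (Subtype.val : integralClosure A K → K) (RingHom.mem_ker.mp hk)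
          exact this
        rw [this]; exact Q.zero_mem)
    rw [← hMQ, Ideal.mem_comap]
    have : algebraMap At (integralClosure A K) xt = a' := Subtype.ext rfl
    rw [this]
    exact ha' M hMmax
  obtain ⟨N, hN⟩ := hrad
  obtain ⟨k, hk⟩ := Ideal.mem_span_singleton'.mp hN
  obtain ⟨a, ha⟩ := hcAt (k : K) k.2
  refine ⟨N, w * a, ?_, fun m hm => m.mul_mem_right _ (hw m hm)⟩
  have h1 : (x : K) ^ N = (k : K) * (e : K) := by
    have := congrArg (Subtype.val : At → K) hk
    exact this.symm
  rw [h1]
  push_cast
  have ha' : (a : K) = (c : K) * (k : K) := by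
    have : (algebraMap A K) a = c • (k : K) := ha
    rw [Algebra.smul_def] at this
    exact this
  rw [ha']
  show (w : K) * ((c : K) * (k : K)) = (k : K) * ((c : K) * (w : K))
  ring

end Groth.Agent.Lib.helper13.SL1
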