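import Mathlib
import Groth.Agent.Lib.Helper13.SL3

/-!
# Two one-dimensional semi-local subrings generating the field: partition of unity
-/

set_option autoImplicit false

namespace Groth.Agent.Lib.helper13.SL1

universe u

open IsDedekindDomain

variable {K : Type u} [Field K]

lemma not_isField_of_dim_one {C : Type*} [CommRing C] (h : ringKrullDim C = 1) : ¬ IsField C :=
  fun hf => by
    rw [ringKrullDim_eq_zero_of_isField hf] at h
    exact zero_ne_one h

lemma isMaximal_of_dim_one {C : Type*} [CommRing C] [IsDomain C] (h : ringKrullDim C = 1)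
    (P : Ideal C) (hP : P.IsPrime) (hP0 : P ≠ ⊥) : P.IsMaximal :=
  Ring.krullDimLE_one_iff_of_noZeroDivisors.mp (Ring.krullDimLE_iff.mpr h.le) P hP0 hP

/-- **Key theorem**: if `A`, `B ⊆ K` are one-dimensional semi-local domains with fraction field
`K`, `A` Noetherian, and `A`, `B` generate `K` as a ring, then `1 ∈ rad(A) + rad(B)`. -/
theorem exists_partition (A B : Subring K) [IsFractionRing A K] [IsFractionRing B K]
    [IsNoetherianRing A] (hdimA : ringKrullDim A = 1) (hdimB : ringKrullDim B = 1)
    (hslA : Finite (MaximalSpectrum A)) (hslB : Finite (MaximalSpectrum B))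
    (hgen : A ⊔ B = ⊤) :
    ∃ (y : A) (x : B), (y : K) + (x : K) = 1 ∧ (∀ m : Ideal A, m.IsMaximal → y ∈ m) ∧
      (∀ m : Ideal B, m.IsMaximal → x ∈ m) := by
  classical
  have hA1 := isMaximal_of_dim_one hdimA
  obtain ⟨w, hw0, hw⟩ := exists_ne_zero_mem_maximal (not_isField_of_dim_one hdimA) hslA
  obtain ⟨z, hz0, hz⟩ := exists_ne_zero_mem_maximal (not_isField_of_dim_one hdimB) hslB
  haveI : Ring.DimensionLEOne A := ⟨fun {p} hp0 hp => hA1 p hp hp0⟩
  -- the normalization is a Dedekind domain
  haveI : IsNoetherianRing (integralClosure A K) :=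
    Groth.Agent.Lib.helper13.KrAk.isNoetherianRing_subalgebra (fun p hp hp0 => hA1 p hp hp0)
      (integralClosure A K)
  haveI : IsIntegrallyClosed (integralClosure A K) :=
    IsIntegrallyClosed.of_isIntegrallyClosedIn (integralClosure A K) K
  haveI : Ring.DimensionLEOne (integralClosure A K) := inferInstance
  haveI : IsDedekindDomain (integralClosure A K) :=
    { toIsDomain := inferInstance
      toIsDedekindRing :=
        { toIsNoetherian := inferInstance
          toDimensionLEOne := inferInstance
          toIsIntegralClosure := inferInstanceAs (IsIntegrallyClosed (integralClosure A K)) } }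
  haveI : Algebra.IsAlgebraic A K :=
    (IsFractionRing.comap_isAlgebraic_iff (A := A) (K := K) (C := K)).mpr inferInstance
  haveI : IsFractionRing (integralClosure A K) K :=
    integralClosure.isFractionRing_of_algebraic (A := A) (L := K) (fun x hx => by
      have : (x : K) = 0 := hx
      exact Subtype.ext this)
  have hA'nf : ¬ IsField (integralClosure A K) := fun hf =>
    not_isField_of_dim_one hdimA (isField_of_isIntegral_of_isField
      (R := A) (S := integralClosure A K) (fun a b hab => by
        have : (a : K) = (b : K) :=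
          congrArg (Subtype.val : integralClosure A K → K) hab
        exact Subtype.ext this) hf)
  -- finitely many height one primes
  haveI hfin : Finite (HeightOneSpectrum (integralClosure A K)) := by
    have hne : Ideal.span {algebraMap A (integralClosure A K) w} ≠ 0 := by
      rw [Ne, Ideal.zero_eq_bot, Ideal.span_singleton_eq_bot]
      intro h
      apply hw0
      have : (w : K) = 0 := congrArg Subtype.val h
      exact Subtype.ext this
    have hall : ∀ v : HeightOneSpectrum (integralClosure A K),
        v ∈ {v : HeightOneSpectrum (integralClosure A K) |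
          v.asIdeal ∣ Ideal.span {algebraMap A (integralClosure A K) w}} := by
      intro v
      show v.asIdeal ∣ _
      rw [Ideal.dvd_iff_le, Ideal.span_singleton_le_iff_mem]
      haveI := v.isMaximal
      have hmax : (v.asIdeal.comap (algebraMap A (integralClosure A K))).IsMaximal :=
        Ideal.isMaximal_comap_of_isIntegral_of_isMaximal v.asIdeal
      exact hw _ hmax
    have huniv : (Set.univ : Set (HeightOneSpectrum (integralClosure A K))).Finite :=
      (Ideal.finite_factors hne).subset fun v _ => hall v
    exact Set.finite_univ_iff.mp huniv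
  -- `B` is not contained in any of the valuation rings
  have hBpole : ∀ v : HeightOneSpectrum (integralClosure A K),
      ∃ b : B, 1 < v.valuation K (b : K) := by
    intro v
    by_contra hcon
    push Not at hcon
    have hAle : A ≤ (v.valuation K).integer := by
      intro a ha
      have := v.valuation_le_one (K := K) (algebraMap A (integralClosure A K) ⟨a, ha⟩)
      exact this
    have hBle : B ≤ (v.valuation K).integer := fun b hb => hcon ⟨b, hb⟩
    have htop : (⊤ : Subring K) ≤ (v.valuation K).integer := hgen ▸ sup_le hAle hBle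
    obtain ⟨π, hπ⟩ := v.valuation_exists_uniformizer K
    have hπ0 : π ≠ 0 := by
      rintro rfl
      rw [map_zero] at hπ
      exact WithZero.exp_ne_zero.symm hπ
    have h1 : v.valuation K π⁻¹ ≤ 1 := htop (Subring.mem_top π⁻¹)
    rw [map_inv₀, hπ, ← WithZero.exp_neg, neg_neg, ← WithZero.exp_zero] at h1
    have := WithZero.exp_le_exp.mp h1
    omega
  obtain ⟨t, htrad, htpole⟩ := exists_pole
    (fun v : HeightOneSpectrum (integralClosure A K) => v.valuation K) B z hz0 hz hBpole
  -- the elements x₀, y₀
  have hunitB : IsUnit (1 + t) := by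
    have := isUnit_one_add_mul t htrad 1
    rwa [one_mul] at this
  obtain ⟨vB, hvB⟩ := hunitB.exists_right_inv
  have hvB' : (1 + (t : K)) * (vB : K) = 1 := congrArg Subtype.val hvB
  have h1t : (1 + (t : K)) ≠ 0 := left_ne_zero_of_mul_eq_one hvB'
  have hvBeq : (vB : K) = (1 + (t : K))⁻¹ := eq_inv_of_mul_eq_one_right hvB'
  -- valuations of x₀ = vB
  have hval : ∀ v : HeightOneSpectrum (integralClosure A K), v.valuation K (vB : K) < 1 := by
    intro v
    have h1 : v.valuation K (1 + (t : K)) = v.valuation K (t : K) := by
      apply Valuation.map_add_eq_of_lt_right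
      rw [map_one]; exact htpole v
    rw [hvBeq, map_inv₀, h1]
    exact inv_lt_one_of_one_lt₀ (htpole v)
  obtain ⟨a', ha'⟩ := HeightOneSpectrum.mem_integers_of_valuation_le_one K (vB : K)
    (fun v => (hval v).le)
  have ha'K : (a' : K) = (vB : K) := ha'
  have ha'max : ∀ M : Ideal (integralClosure A K), M.IsMaximal → a' ∈ M := by
    intro M hM
    have hM0 : M ≠ ⊥ := by
      rintro rfl
      exact hA'nf (Ring.isField_iff_maximal_bot.mpr hM)
    let v : HeightOneSpectrum (integralClosure A K) := ⟨M, hM.isPrime, hM0⟩
    have := (v.valuation_lt_one_iff_mem (K := K) a').mp (by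
      have h := hval v
      rwa [← ha'K] at h)
    exact this
  obtain ⟨N, q, hq, hqrad⟩ := exists_pow_mem_radical A (fun p hp hp0 => hA1 p hp hp0) w hw0 hw
    a' ha'max
  -- conclusion
  refine ⟨q, t * vB * ∑ i ∈ Finset.range N, vB ^ i, ?_, hqrad, fun m hm =>
    m.mul_mem_right _ (m.mul_mem_right _ (htrad m hm))⟩
  rw [hq, ha'K]
  push_cast
  have htv : (t : K) * (vB : K) = 1 - (vB : K) := by
    rw [hvBeq]; field_simp; ring
  rw [htv, mul_neg_geom_sum]
  ring

end Groth.Agent.Lib.helper13.SL1
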