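import Mathlib
import Groth.Agent.Lib.Helper13.SL4

/-!
# Gluing finitely many one-dimensional semi-local subrings of a field: the package
-/

set_option autoImplicit false

namespace Groth.Agent.Lib.helper13.SL1

universe u

open CategoryTheory AlgebraicGeometry

variable {K : Type u} [Field K]

lemma ringKrullDim_eq_one_of {R : Type*} [CommRing R] [IsDomain R]
    (h1 : ∀ P : Ideal R, P.IsPrime → P ≠ ⊥ → P.IsMaximal) (h : ¬ IsField R) :
    ringKrullDim R = 1 := by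
  apply eq_of_le_of_not_lt ?_ fun h' ↦ h ?_
  · rw [← Nat.cast_one, ← Ring.krullDimLE_iff]
    exact Ring.krullDimLE_one_iff_of_noZeroDivisors.mpr (fun I hI hp => h1 I hp hI)
  · have h'' : ringKrullDim R ≤ 0 := Order.le_of_lt_succ h'
    rw [← Nat.cast_zero, ← Ring.krullDimLE_iff] at h''
    exact Ring.KrullDimLE.isField_of_isDomain

/-- `A = R[1/e]` inside `K`. -/
structure IsAwayOf (R A : Subring K) (e : K) : Prop where
  le : R ≤ A
  mem : e ∈ R
  ne_zero : e ≠ 0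
  inv_mem : e⁻¹ ∈ A
  surj : ∀ a ∈ A, ∃ n : ℕ, a * e ^ n ∈ R

lemma IsAwayOf.surj_ge {R A : Subring K} {e : K} (h : IsAwayOf R A e) {a : K} (ha : a ∈ A) :
    ∃ n : ℕ, ∀ m, n ≤ m → a * e ^ m ∈ R := by
  obtain ⟨n, hn⟩ := h.surj a ha
  refine ⟨n, fun m hm => ?_⟩
  obtain ⟨d, rfl⟩ := Nat.exists_eq_add_of_le hm
  rw [pow_add, ← mul_assoc]
  exact R.mul_mem hn (R.pow_mem h.mem d)

lemma IsAwayOf.isLocalization {R A : Subring K} {e : K} (h : IsAwayOf R A e) :
    letI := (Subring.inclusion h.le).toAlgebra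
    IsLocalization.Away (⟨e, h.mem⟩ : R) A := by
  letI := (Subring.inclusion h.le).toAlgebra
  have hmap : ∀ r : R, ((algebraMap R A r : A) : K) = (r : K) := fun r => rfl
  rw [IsLocalization.Away, isLocalization_iff]
  refine ⟨?_, ?_, ?_⟩
  · rintro ⟨_, n, rfl⟩
    rw [map_pow]
    refine IsUnit.pow n ?_
    refine IsUnit.of_mul_eq_one (⟨e⁻¹, h.inv_mem⟩ : A) ?_
    apply Subtype.ext
    show e * e⁻¹ = 1
    exact mul_inv_cancel₀ h.ne_zero
  · intro a
    obtain ⟨n, hn⟩ := h.surj (a : K) a.2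
    refine ⟨(⟨⟨(a : K) * e ^ n, hn⟩, ⟨(⟨e, h.mem⟩ : R) ^ n, n, rfl⟩⟩ :
      R × Submonoid.powers (⟨e, h.mem⟩ : R)), ?_⟩
    apply Subtype.ext
    show (a : K) * _ = _
    rw [hmap, hmap]
    rfl
  · intro r₁ r₂ h'
    refine ⟨1, ?_⟩
    have : (r₁ : K) = (r₂ : K) := by
      rw [← hmap r₁, ← hmap r₂, h']
    rw [Subtype.ext this]

/-- Lemma H: if `A = R[1/e]` and `B = R[1/f]` then `A ⊔ B ⊆ R[1/(ef)]`. -/
lemma exists_pow_mul_mem_of_mem_sup {R A B : Subring K} {e f : K} (hA : IsAwayOf R A e)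
    (hB : IsAwayOf R B f) {k : K} (hk : k ∈ A ⊔ B) : ∃ n : ℕ, k * (e * f) ^ n ∈ R := by
  suffices H : ∃ n : ℕ, ∀ m, n ≤ m → k * (e * f) ^ m ∈ R by
    obtain ⟨n, hn⟩ := H
    exact ⟨n, hn n le_rfl⟩
  have hef : e * f ∈ R := R.mul_mem hA.mem hB.mem
  rw [← Subring.closure_eq A, ← Subring.closure_eq B, ← Subring.closure_union] at hk
  induction hk using Subring.closure_induction with
  | mem k hk =>
    rcases hk with hk | hk
    · obtain ⟨n, hn⟩ := hA.surj_ge hk
      refine ⟨n, fun m hm => ?_⟩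
      rw [mul_pow, ← mul_assoc]
      exact R.mul_mem (hn m hm) (R.pow_mem hB.mem m)
    · obtain ⟨n, hn⟩ := hB.surj_ge hk
      refine ⟨n, fun m hm => ?_⟩
      rw [mul_pow, mul_comm (e ^ m), ← mul_assoc]
      exact R.mul_mem (hn m hm) (R.pow_mem hA.mem m)
  | zero => exact ⟨0, fun m _ => by rw [zero_mul]; exact R.zero_mem⟩
  | one => exact ⟨0, fun m _ => by rw [one_mul]; exact R.pow_mem hef m⟩
  | add k₁ k₂ _ _ ih₁ ih₂ =>
    obtain ⟨n₁, h₁⟩ := ih₁
    obtain ⟨n₂, h₂⟩ := ih₂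
    refine ⟨max n₁ n₂, fun m hm => ?_⟩
    rw [add_mul]
    exact R.add_mem (h₁ m (le_trans (le_max_left _ _) hm)) (h₂ m (le_trans (le_max_right _ _) hm))
  | neg k _ ih =>
    obtain ⟨n, hn⟩ := ih
    exact ⟨n, fun m hm => by rw [neg_mul]; exact R.neg_mem (hn m hm)⟩
  | mul k₁ k₂ _ _ ih₁ ih₂ =>
    obtain ⟨n₁, h₁⟩ := ih₁
    obtain ⟨n₂, h₂⟩ := ih₂
    refine ⟨n₁ + n₂, fun m hm => ?_⟩
    obtain ⟨d, rfl⟩ := Nat.exists_eq_add_of_le hm
    have : k₁ * k₂ * (e * f) ^ (n₁ + n₂ + d) =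
        (k₁ * (e * f) ^ n₁) * (k₂ * (e * f) ^ (n₂ + d)) := by
      rw [pow_add, pow_add, pow_add]; ring
    rw [this]
    exact R.mul_mem (h₁ n₁ le_rfl) (h₂ (n₂ + d) (Nat.le_add_right _ _))

lemma IsAwayOf.isFractionRing {R A : Subring K} {e : K} (h : IsAwayOf R A e)
    [IsFractionRing A K] : IsFractionRing R K := by
  rw [IsFractionRing, isLocalization_iff]
  refine ⟨?_, ?_, ?_⟩
  · rintro ⟨r, hr⟩
    refine IsUnit.mk0 _ ?_
    have hr0 : r ≠ 0 := nonZeroDivisors.ne_zero hr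
    exact fun h0 => hr0 (Subtype.ext h0)
  · intro k
    obtain ⟨p, q, hq, hpq⟩ := IsFractionRing.div_surjective (A := A) k
    have hq0 : (q : K) ≠ 0 := fun h0 => nonZeroDivisors.ne_zero hq (Subtype.ext h0)
    obtain ⟨n₁, h₁⟩ := h.surj_ge p.2
    obtain ⟨n₂, h₂⟩ := h.surj_ge q.2
    set n := max n₁ n₂
    have hne : (q : K) * e ^ n ≠ 0 := mul_ne_zero hq0 (pow_ne_zero _ h.ne_zero)
    refine ⟨(⟨⟨(p : K) * e ^ n, h₁ n (le_max_left _ _)⟩,
      ⟨⟨(q : K) * e ^ n, h₂ n (le_max_right _ _)⟩,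
        mem_nonZeroDivisors_of_ne_zero fun h0 => hne (congrArg Subtype.val h0)⟩⟩ :
      R × nonZeroDivisors R), ?_⟩
    show k * ((q : K) * e ^ n) = (p : K) * e ^ n
    rw [← hpq]
    show (p : K) / (q : K) * ((q : K) * e ^ n) = (p : K) * e ^ n
    field_simp
  · intro r₁ r₂ h'
    exact ⟨1, by rw [Subtype.ext (show (r₁ : K) = (r₂ : K) from h')]⟩

lemma IsAwayOf.not_isField {R A : Subring K} {e : K} (h : IsAwayOf R A e) (hA : ¬ IsField A) :
    ¬ IsField R := by
  intro hR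
  apply hA
  have hle : A ≤ R := by
    intro a ha
    obtain ⟨n, hn⟩ := h.surj a ha
    have he0 : (⟨e, h.mem⟩ : R) ≠ 0 := fun h0 => h.ne_zero (congrArg Subtype.val h0)
    obtain ⟨v, hv⟩ := hR.mul_inv_cancel he0
    have hv' : e * (v : K) = 1 := congrArg Subtype.val hv
    have : a = (a * e ^ n) * (v : K) ^ n := by
      rw [mul_assoc, ← mul_pow, hv', one_pow, mul_one]
    rw [this]
    exact R.mul_mem hn (R.pow_mem v.2 n)
  have heq : A = R := le_antisymm hle h.le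
  rw [heq]; exact hR

/-- The data of a gluing package. -/
def Pkg {ι : Type*} (A : ι → Subring K) (S : Finset ι) (R : Subring K) : Prop :=
  ∃ e c : ι → K, (∀ i ∈ S, IsAwayOf R (A i) (e i)) ∧ (∀ i ∈ S, c i ∈ R) ∧
    ∑ i ∈ S, c i * e i = 1

/-- G0: an ideal of `R` containing all the `e i` is the unit ideal. -/
lemma one_mem_of_forall_mem {ι : Type*} {S : Finset ι} {R : Subring K}
    {e c : ι → K} (he : ∀ i ∈ S, e i ∈ R) (hc : ∀ i ∈ S, c i ∈ R) (hsum : ∑ i ∈ S, c i * e i = 1)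
    (P : Ideal R) (hP : ∀ i (hi : i ∈ S), (⟨e i, he i hi⟩ : R) ∈ P) : (1 : R) ∈ P := by
  classical
  have key : ∀ T : Finset ι, T ⊆ S → ∃ p : R, p ∈ P ∧ (p : K) = ∑ i ∈ T, c i * e i := by
    intro T
    induction T using Finset.induction_on with
    | empty => exact fun _ => ⟨0, P.zero_mem, by simp⟩
    | insert a T ha ih =>
      intro hT
      obtain ⟨p, hp, hpe⟩ := ih (fun i hi => hT (Finset.mem_insert_of_mem hi))
      have haS : a ∈ S := hT (Finset.mem_insert_self a T)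
      refine ⟨⟨c a, hc a haS⟩ * ⟨e a, he a haS⟩ + p, P.add_mem (P.mul_mem_left _ (hP a haS)) hp,
        ?_⟩
      rw [Finset.sum_insert ha, ← hpe]
      rfl
  obtain ⟨p, hp, hpe⟩ := key S le_rfl
  have : p = 1 := Subtype.ext (by rw [hpe, hsum]; rfl)
  rwa [this] at hp

/-- Transfer of primes through one chart. -/
lemma IsAwayOf.eq_of_le_of_notMem {R A : Subring K} {e : K} (h : IsAwayOf R A e)
    (hA1 : ∀ P' : Ideal A, P'.IsPrime → P' ≠ ⊥ → P'.IsMaximal) (P m : Ideal R) (hP : P.IsPrime)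
    (hm : m.IsPrime) (hPm : P ≤ m) (hP0 : P ≠ ⊥) (hem : (⟨e, h.mem⟩ : R) ∉ m) : P = m := by
  letI := (Subring.inclusion h.le).toAlgebra
  haveI := h.isLocalization
  have hdisj : ∀ Q : Ideal R, Q.IsPrime → (⟨e, h.mem⟩ : R) ∉ Q →
      Disjoint (Submonoid.powers (⟨e, h.mem⟩ : R) : Set R) (Q : Set R) := by
    intro Q hQ heQ
    rw [Set.disjoint_left]
    rintro _ ⟨n, rfl⟩ hn
    exact heQ (hQ.mem_of_pow_mem n hn)
  have hdm := hdisj m hm hem
  have hdP := hdisj P hP (fun h' => hem (hPm h'))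
  have hP' : (P.map (algebraMap R A)).IsPrime :=
    IsLocalization.isPrime_of_isPrime_disjoint (Submonoid.powers (⟨e, h.mem⟩ : R)) A P hP hdP
  have hm' : (m.map (algebraMap R A)).IsPrime :=
    IsLocalization.isPrime_of_isPrime_disjoint (Submonoid.powers (⟨e, h.mem⟩ : R)) A m hm hdm
  have hP'0 : P.map (algebraMap R A) ≠ ⊥ := by
    obtain ⟨p, hp, hp0⟩ := Submodule.exists_mem_ne_zero_of_ne_bot hP0
    intro hbot
    have : algebraMap R A p ∈ P.map (algebraMap R A) := Ideal.mem_map_of_mem _ hp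
    rw [hbot, Ideal.mem_bot] at this
    apply hp0
    apply Subtype.ext
    exact congrArg (Subtype.val : A → K) this
  have hmax := hA1 _ hP' hP'0
  have heq : P.map (algebraMap R A) = m.map (algebraMap R A) :=
    hmax.eq_of_le hm'.ne_top (Ideal.map_mono hPm)
  rw [← IsLocalization.comap_map_of_isPrime_disjoint (Submonoid.powers (⟨e, h.mem⟩ : R)) A hP
      hdP, heq,
    IsLocalization.comap_map_of_isPrime_disjoint (Submonoid.powers (⟨e, h.mem⟩ : R)) A hm hdm]

/-- G3': nonzero primes of `R` are maximal. -/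
lemma isMaximal_of_pkg {ι : Type*} {A : ι → Subring K} {S : Finset ι} {R : Subring K}
    {e c : ι → K} (hE : ∀ i ∈ S, IsAwayOf R (A i) (e i)) (hc : ∀ i ∈ S, c i ∈ R)
    (hsum : ∑ i ∈ S, c i * e i = 1)
    (hA1 : ∀ i ∈ S, ∀ P' : Ideal (A i), P'.IsPrime → P' ≠ ⊥ → P'.IsMaximal)
    (P : Ideal R) (hP : P.IsPrime) (hP0 : P ≠ ⊥) : P.IsMaximal := by
  obtain ⟨m, hm, hPm⟩ := Ideal.exists_le_maximal P hP.ne_top
  have hex : ∃ i, ∃ hi : i ∈ S, (⟨e i, (hE i hi).mem⟩ : R) ∉ m := by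
    by_contra hcon
    push Not at hcon
    exact hm.ne_top ((Ideal.eq_top_iff_one _).mpr
      (one_mem_of_forall_mem (fun i hi => (hE i hi).mem) hc hsum m hcon))
  obtain ⟨i, hi, hei⟩ := hex
  rw [(hE i hi).eq_of_le_of_notMem (hA1 i hi) P m hP hm.isPrime hPm hP0 hei]
  exact hm

/-- G2: `R` has finitely many maximal ideals. -/
lemma finite_maximalSpectrum_of_pkg {ι : Type*} {A : ι → Subring K} {S : Finset ι}
    {R : Subring K} {e c : ι → K} (hE : ∀ i ∈ S, IsAwayOf R (A i) (e i)) (hc : ∀ i ∈ S, c i ∈ R)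
    (hsum : ∑ i ∈ S, c i * e i = 1) (hnf : ¬ IsField R)
    (hA1 : ∀ i ∈ S, ∀ P' : Ideal (A i), P'.IsPrime → P' ≠ ⊥ → P'.IsMaximal)
    (hsl : ∀ i ∈ S, Finite (MaximalSpectrum (A i))) : Finite (MaximalSpectrum R) := by
  classical
  have hex : ∀ m : MaximalSpectrum R, ∃ i : S, (⟨e i, (hE i i.2).mem⟩ : R) ∉ m.asIdeal := by
    intro m
    by_contra hcon
    push Not at hcon
    exact m.isMaximal.ne_top ((Ideal.eq_top_iff_one _).mpr
      (one_mem_of_forall_mem (fun i hi => (hE i hi).mem) hc hsum m.asIdeal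
        (fun i hi => hcon ⟨i, hi⟩)))
  choose idx hidx using hex
  haveI : ∀ i : S, Finite (MaximalSpectrum (A i)) := fun i => hsl i i.2
  -- the map to the disjoint union of the maximal spectra
  have hmaxmap : ∀ m : MaximalSpectrum R,
      letI := (Subring.inclusion (hE (idx m) (idx m).2).le).toAlgebra
      (m.asIdeal.map (algebraMap R (A (idx m)))).IsMaximal := by
    intro m
    letI := (Subring.inclusion (hE (idx m) (idx m).2).le).toAlgebra
    haveI := (hE (idx m) (idx m).2).isLocalization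
    have hdisj : Disjoint (Submonoid.powers (⟨e (idx m), (hE (idx m) (idx m).2).mem⟩ : R) : Set R)
        (m.asIdeal : Set R) := by
      rw [Set.disjoint_left]
      rintro _ ⟨n, rfl⟩ hn
      exact hidx m (m.isMaximal.isPrime.mem_of_pow_mem n hn)
    have hprime := IsLocalization.isPrime_of_isPrime_disjoint
      (Submonoid.powers (⟨e (idx m), (hE (idx m) (idx m).2).mem⟩ : R)) (A (idx m)) m.asIdeal
      m.isMaximal.isPrime hdisj
    refine hA1 _ (idx m).2 _ hprime ?_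
    have hm0 : m.asIdeal ≠ ⊥ := by
      intro h0
      exact hnf (Ring.isField_iff_maximal_bot.mpr (h0 ▸ m.isMaximal))
    obtain ⟨p, hp, hp0⟩ := Submodule.exists_mem_ne_zero_of_ne_bot hm0
    intro hbot
    have : algebraMap R (A (idx m)) p ∈ m.asIdeal.map (algebraMap R (A (idx m))) :=
      Ideal.mem_map_of_mem _ hp
    rw [hbot, Ideal.mem_bot] at this
    apply hp0
    apply Subtype.ext
    exact congrArg (Subtype.val : A (idx m) → K) this
  let F : MaximalSpectrum R → Σ i : S, MaximalSpectrum (A i) := fun m =>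
    ⟨idx m, ⟨_, hmaxmap m⟩⟩
  refine Finite.of_injective F ?_
  intro m₁ m₂ h12
  have hidx12 : idx m₁ = idx m₂ := congrArg Sigma.fst h12
  -- recover the ideals by contraction
  have hrec : ∀ m : MaximalSpectrum R, ∀ r : R,
      r ∈ m.asIdeal ↔ ∃ n : ℕ, ∃ q : R, q ∈ m.asIdeal ∧
        (r : K) * e (idx m) ^ n = (q : K) := by
    intro m r
    constructor
    · intro hr
      exact ⟨0, r, hr, by rw [pow_zero, mul_one]⟩
    · rintro ⟨n, q, hq, hrq⟩
      have : r * (⟨e (idx m), (hE (idx m) (idx m).2).mem⟩ : R) ^ n = q := Subtype.ext (by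
        push_cast; exact hrq)
      have hmem : r * (⟨e (idx m), (hE (idx m) (idx m).2).mem⟩ : R) ^ n ∈ m.asIdeal :=
        this ▸ hq
      rcases m.isMaximal.isPrime.mem_or_mem hmem with h | h
      · exact h
      · exact absurd (m.isMaximal.isPrime.mem_of_pow_mem n h) (hidx m)
  -- membership in the extended ideal, in terms of `K`
  have hext : ∀ m : MaximalSpectrum R, ∀ r : R, r ∈ m.asIdeal ↔
      (⟨(r : K), (hE (idx m) (idx m).2).le r.2⟩ : A (idx m)) ∈ (F m).2.asIdeal := by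
    intro m r
    letI := (Subring.inclusion (hE (idx m) (idx m).2).le).toAlgebra
    haveI := (hE (idx m) (idx m).2).isLocalization
    have hdisj : Disjoint (Submonoid.powers (⟨e (idx m), (hE (idx m) (idx m).2).mem⟩ : R) : Set R)
        (m.asIdeal : Set R) := by
      rw [Set.disjoint_left]
      rintro _ ⟨n, rfl⟩ hn
      exact hidx m (m.isMaximal.isPrime.mem_of_pow_mem n hn)
    have hcm := IsLocalization.comap_map_of_isPrime_disjoint
      (Submonoid.powers (⟨e (idx m), (hE (idx m) (idx m).2).mem⟩ : R)) (A (idx m))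
      m.isMaximal.isPrime hdisj
    constructor
    · intro hr
      exact Ideal.mem_map_of_mem (algebraMap R (A (idx m))) hr
    · intro hr
      rw [← hcm]
      exact hr
  apply MaximalSpectrum.ext
  ext r
  rw [hext m₁ r, hext m₂ r]
  -- transport along `h12`
  have key : ∀ (x y : Σ i : S, MaximalSpectrum (A i)) (hxy : x = y) (k : K)
      (hx : k ∈ A x.1) (hy : k ∈ A y.1),
      (⟨k, hx⟩ : A x.1) ∈ x.2.asIdeal ↔ (⟨k, hy⟩ : A y.1) ∈ y.2.asIdeal := by
    rintro x y rfl k hx hy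
    rfl
  exact key _ _ h12 (r : K) _ _

/-- G4: `R` is Noetherian. -/
lemma isNoetherianRing_of_pkg {ι : Type*} {A : ι → Subring K} {S : Finset ι}
    {R : Subring K} {e c : ι → K} (hE : ∀ i ∈ S, IsAwayOf R (A i) (e i)) (hc : ∀ i ∈ S, c i ∈ R)
    (hsum : ∑ i ∈ S, c i * e i = 1) (hN : ∀ i ∈ S, IsNoetherianRing (A i)) :
    IsNoetherianRing R := by
  classical
  let S' : Finset R := S.attach.image
    (fun i : {x // x ∈ S} => (⟨e i.1, (hE i.1 i.2).mem⟩ : R))
  refine isNoetherianRing_of_away S' ?_ ?_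
  · by_contra hne
    obtain ⟨m, hm, hle⟩ := Ideal.exists_le_maximal _ hne
    refine hm.ne_top ((Ideal.eq_top_iff_one _).mpr
      (one_mem_of_forall_mem (fun i hi => (hE i hi).mem) hc hsum m (fun i hi => hle
        (Ideal.subset_span (Finset.mem_coe.mpr (Finset.mem_image.mpr
          ⟨⟨i, hi⟩, Finset.mem_attach _ _, rfl⟩))))))
  · rintro ⟨s, hs⟩
    obtain ⟨i, -, rfl⟩ := Finset.mem_image.mp hs
    letI := (Subring.inclusion (hE i.1 i.2).le).toAlgebra
    haveI := (hE i.1 i.2).isLocalization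
    haveI := hN i.1 i.2
    exact isNoetherianRing_of_ringEquiv (A i.1)
      (IsLocalization.algEquiv (Submonoid.powers (⟨e i.1, (hE i.1 i.2).mem⟩ : R)) (A i.1)
        (Localization.Away (⟨e i.1, (hE i.1 i.2).mem⟩ : R))).toRingEquiv

end Groth.Agent.Lib.helper13.SL1
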