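import Mathlib
import Groth.Agent.Lib.Helper13.SL5

/-!
# Gluing finitely many one-dimensional semi-local subrings of a field: induction
-/

set_option autoImplicit false

namespace Groth.Agent.Lib.helper13.SL1

universe u

variable {K : Type u} [Field K]

/-- Lemma H': closure induction for "becomes a member after multiplying by a power of `e`". -/
lemma exists_pow_mul_mem_of_mem_closure (C : Subring K) (e : K) (he : e ∈ C) (T : Set K)
    (hT : ∀ t ∈ T, ∃ n : ℕ, ∀ m, n ≤ m → t * e ^ m ∈ C) {k : K} (hk : k ∈ Subring.closure T) :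
    ∃ n : ℕ, ∀ m, n ≤ m → k * e ^ m ∈ C := by
  induction hk using Subring.closure_induction with
  | mem k hk => exact hT k hk
  | zero => exact ⟨0, fun m _ => by rw [zero_mul]; exact C.zero_mem⟩
  | one => exact ⟨0, fun m _ => by rw [one_mul]; exact C.pow_mem he m⟩
  | add k₁ k₂ _ _ ih₁ ih₂ =>
    obtain ⟨n₁, h₁⟩ := ih₁
    obtain ⟨n₂, h₂⟩ := ih₂
    refine ⟨max n₁ n₂, fun m hm => ?_⟩
    rw [add_mul]
    exact C.add_mem (h₁ m (le_trans (le_max_left _ _) hm)) (h₂ m (le_trans (le_max_right _ _) hm))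
  | neg k _ ih =>
    obtain ⟨n, hn⟩ := ih
    exact ⟨n, fun m hm => by rw [neg_mul]; exact C.neg_mem (hn m hm)⟩
  | mul k₁ k₂ _ _ ih₁ ih₂ =>
    obtain ⟨n₁, h₁⟩ := ih₁
    obtain ⟨n₂, h₂⟩ := ih₂
    refine ⟨n₁ + n₂, fun m hm => ?_⟩
    obtain ⟨d, rfl⟩ := Nat.exists_eq_add_of_le hm
    have : k₁ * k₂ * e ^ (n₁ + n₂ + d) = (k₁ * e ^ n₁) * (k₂ * e ^ (n₂ + d)) := by
      rw [pow_add, pow_add, pow_add]; ring
    rw [this]
    exact C.mul_mem (h₁ n₁ le_rfl) (h₂ (n₂ + d) (Nat.le_add_right _ _))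

/-- G6: a subring generating `K` with each chart generates `K` with `R`. -/
lemma sup_eq_top_of_pkg {ι : Type*} {A : ι → Subring K} {S : Finset ι} {R : Subring K}
    {e c : ι → K} (hE : ∀ i ∈ S, IsAwayOf R (A i) (e i)) (hc : ∀ i ∈ S, c i ∈ R)
    (hsum : ∑ i ∈ S, c i * e i = 1) (B : Subring K) (hgen : ∀ i ∈ S, B ⊔ A i = ⊤) :
    B ⊔ R = ⊤ := by
  classical
  rw [eq_top_iff]
  intro k _
  set C : Subring K := B ⊔ R with hC
  have hRC : R ≤ C := le_sup_right
  have hBC : B ≤ C := le_sup_left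
  -- for each chart, a power of `e i` multiplies `k` into `C`
  have hpow : ∀ i ∈ S, ∃ n : ℕ, ∀ m, n ≤ m → k * e i ^ m ∈ C := by
    intro i hi
    have hk : k ∈ Subring.closure ((B : Set K) ∪ (A i : Set K)) := by
      rw [Subring.closure_union, Subring.closure_eq, Subring.closure_eq, hgen i hi]
      trivial
    refine exists_pow_mul_mem_of_mem_closure C (e i) (hRC (hE i hi).mem) _ ?_ hk
    rintro t (ht | ht)
    · exact ⟨0, fun m _ => C.mul_mem (hBC ht) (C.pow_mem (hRC (hE i hi).mem) m)⟩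
    · obtain ⟨n, hn⟩ := (hE i hi).surj_ge ht
      exact ⟨n, fun m hm => hRC (hn m hm)⟩
  choose! n hn using hpow
  set N := S.sup n with hN
  have hkN : ∀ i ∈ S, k * e i ^ N ∈ C := fun i hi => hn i hi N (Finset.le_sup hi)
  -- the colon ideal
  let I : Ideal C :=
    { carrier := {r | (r : K) * k ∈ C}
      zero_mem' := by simp [C.zero_mem]
      add_mem' := fun {r₁ r₂} h₁ h₂ => by
        show ((r₁ + r₂ : C) : K) * k ∈ C
        push_cast; rw [add_mul]; exact C.add_mem h₁ h₂
      smul_mem' := fun r₁ r₂ h₂ => by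
        show ((r₁ * r₂ : C) : K) * k ∈ C
        push_cast; rw [mul_assoc]; exact C.mul_mem r₁.2 h₂ }
  let T' : Set C := (fun i : {x // x ∈ S} => (⟨e i.1, hRC (hE i.1 i.2).mem⟩ : C)) '' Set.univ
  have hspan : Ideal.span T' = ⊤ := by
    by_contra hne
    obtain ⟨m, hm, hle⟩ := Ideal.exists_le_maximal _ hne
    exact hm.ne_top ((Ideal.eq_top_iff_one _).mpr
      (one_mem_of_forall_mem (R := C) (fun i hi => hRC (hE i hi).mem) (fun i hi => hRC (hc i hi))
        hsum m (fun i hi => hle (Ideal.subset_span ⟨⟨i, hi⟩, trivial, rfl⟩))))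
  have hspanN := Ideal.span_pow_eq_top T' hspan N
  have hle : Ideal.span ((fun x => x ^ N) '' T') ≤ I := by
    rw [Ideal.span_le]
    rintro _ ⟨_, ⟨i, -, rfl⟩, rfl⟩
    show ((⟨e i.1, _⟩ ^ N : C) : K) * k ∈ C
    push_cast
    rw [mul_comm]
    exact hkN i.1 i.2
  have h1 : (1 : C) ∈ I := by
    rw [hspanN] at hle
    exact hle trivial
  have : ((1 : C) : K) * k ∈ C := h1
  simpa using this

/-- G7: the induction step. -/
theorem pkg_insert {ι : Type*} [DecidableEq ι] {A : ι → Subring K}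
    [∀ i, IsFractionRing (A i) K] [∀ i, IsNoetherianRing (A i)]
    (hdim : ∀ i, ringKrullDim (A i) = 1) (hsl : ∀ i, Finite (MaximalSpectrum (A i)))
    (hgen : ∀ i j, i ≠ j → A i ⊔ A j = ⊤) {S : Finset ι} (hS : S.Nonempty) {R : Subring K}
    (a : ι) (ha : a ∉ S) (h : Pkg A S R) : Pkg A (insert a S) (A a ⊓ R) := by
  classical
  obtain ⟨e, c, hE, hc, hsum⟩ := h
  obtain ⟨i₀, hi₀⟩ := hS
  haveI : IsFractionRing R K := (hE i₀ hi₀).isFractionRing
  have hRnf : ¬ IsField R := (hE i₀ hi₀).not_isField (not_isField_of_dim_one (hdim i₀))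
  have hR1 : ∀ P : Ideal R, P.IsPrime → P ≠ ⊥ → P.IsMaximal :=
    isMaximal_of_pkg hE hc hsum (fun i _ => isMaximal_of_dim_one (hdim i))
  have hdimR : ringKrullDim R = 1 := ringKrullDim_eq_one_of hR1 hRnf
  have hslR : Finite (MaximalSpectrum R) :=
    finite_maximalSpectrum_of_pkg hE hc hsum hRnf (fun i _ => isMaximal_of_dim_one (hdim i))
      (fun i _ => hsl i)
  have hgenR : A a ⊔ R = ⊤ := sup_eq_top_of_pkg hE hc hsum (A a)
    (fun i hi => hgen a i (ne_of_mem_of_not_mem hi ha).symm)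
  obtain ⟨y, x, hxy, hyrad, hxrad⟩ := exists_partition (A a) R (hdim a) hdimR (hsl a) hslR hgenR
  have hA1 := isMaximal_of_dim_one (hdim a)
  -- units
  have hunitA : IsUnit (1 + (-1) * y) := isUnit_one_add_mul y hyrad (-1)
  have hunitB : IsUnit (1 + (-1) * x) := isUnit_one_add_mul x hxrad (-1)
  have hxK : (x : K) = ((1 + (-1) * y : A a) : K) := by
    push_cast; linear_combination hxy
  have hyK : (y : K) = ((1 + (-1) * x : R) : K) := by
    push_cast; linear_combination hxy
  obtain ⟨vA, hvA⟩ := hunitA.exists_right_inv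
  obtain ⟨vB, hvB⟩ := hunitB.exists_right_inv
  have hvA' : (x : K) * (vA : K) = 1 := by
    rw [hxK]; exact congrArg Subtype.val hvA
  have hvB' : (y : K) * (vB : K) = 1 := by
    rw [hyK]; exact congrArg Subtype.val hvB
  have hx0 : (x : K) ≠ 0 := left_ne_zero_of_mul_eq_one hvA'
  have hy0 : (y : K) ≠ 0 := left_ne_zero_of_mul_eq_one hvB'
  have hxA : (x : K) ∈ A a := hxK ▸ (1 + (-1) * y : A a).2
  have hyR : (y : K) ∈ R := hyK ▸ (1 + (-1) * x : R).2
  have hxu : (x : K)⁻¹ ∈ A a := by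
    rw [← eq_inv_of_mul_eq_one_right hvA']; exact vA.2
  have hyu : (y : K)⁻¹ ∈ R := by
    rw [← eq_inv_of_mul_eq_one_right hvB']; exact vB.2
  have hA : ∀ k : K, ∃ n : ℕ, k * (y : K) ^ n ∈ A a := fun k =>
    exists_pow_mul_mem (A a) (fun p hp hp0 => hA1 p hp hp0) y hyrad k
  have hB : ∀ k : K, ∃ n : ℕ, k * (x : K) ^ n ∈ R := fun k =>
    exists_pow_mul_mem R hR1 x hxrad k
  -- the two new charts
  have hAwA : IsAwayOf (A a ⊓ R) (A a) (x : K) :=
    { le := inf_le_left
      mem := Subring.mem_inf.mpr ⟨hxA, x.2⟩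
      ne_zero := hx0
      inv_mem := hxu
      surj := fun a' ha' => by
        obtain ⟨n, hn⟩ := hB a'
        exact ⟨n, Subring.mem_inf.mpr ⟨(A a).mul_mem ha' ((A a).pow_mem hxA n), hn⟩⟩ }
  have hAwR : IsAwayOf (A a ⊓ R) R (y : K) :=
    { le := inf_le_right
      mem := Subring.mem_inf.mpr ⟨y.2, hyR⟩
      ne_zero := hy0
      inv_mem := hyu
      surj := fun b hb => by
        obtain ⟨n, hn⟩ := hA b
        exact ⟨n, Subring.mem_inf.mpr ⟨hn, R.mul_mem hb (R.pow_mem hyR n)⟩⟩ }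
  -- uniform exponent
  have hexp : ∀ i ∈ S, ∃ n : ℕ, ∀ m, n ≤ m →
      e i * (y : K) ^ m ∈ A a ⊓ R ∧ c i * (y : K) ^ m ∈ A a ⊓ R := by
    intro i hi
    obtain ⟨n₁, h₁⟩ := hAwR.surj_ge (hE i hi).mem
    obtain ⟨n₂, h₂⟩ := hAwR.surj_ge (hc i hi)
    exact ⟨max n₁ n₂, fun m hm => ⟨h₁ m (le_trans (le_max_left _ _) hm),
      h₂ m (le_trans (le_max_right _ _) hm)⟩⟩
  choose! nn hnn using hexp
  set n₀ := S.sup nn with hn₀
  have he₀ : ∀ i ∈ S, e i * (y : K) ^ n₀ ∈ A a ⊓ R := fun i hi =>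
    (hnn i hi n₀ (Finset.le_sup hi)).1
  have hc₀ : ∀ i ∈ S, c i * (y : K) ^ n₀ ∈ A a ⊓ R := fun i hi =>
    (hnn i hi n₀ (Finset.le_sup hi)).2
  set v : K := ∑ k ∈ Finset.range (2 * n₀ + 1), (y : K) ^ k with hv
  have hvR' : v ∈ A a ⊓ R := Subring.sum_mem _ fun k _ => Subring.pow_mem _ hAwR.mem k
  refine ⟨fun i => if i = a then (x : K) else e i * (y : K) ^ (n₀ + 1),
    fun i => if i = a then v else c i * (y : K) ^ n₀, ?_, ?_, ?_⟩
  · intro i hi
    rcases Finset.mem_insert.mp hi with rfl | hiS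
    · simp only [if_true]
      exact hAwA
    · have hia : i ≠ a := ne_of_mem_of_not_mem hiS ha
      simp only [if_neg hia]
      have hEi := hE i hiS
      exact
        { le := le_trans inf_le_right hEi.le
          mem := by
            rw [pow_succ, ← mul_assoc]
            exact Subring.mul_mem _ (he₀ i hiS) hAwR.mem
          ne_zero := mul_ne_zero hEi.ne_zero (pow_ne_zero _ hy0)
          inv_mem := by
            rw [mul_inv, ← inv_pow]
            exact (A i).mul_mem hEi.inv_mem ((A i).pow_mem (hEi.le hyu) _)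
          surj := fun a' ha' => by
            obtain ⟨n, hn⟩ := hEi.surj a' ha'
            obtain ⟨m, hm⟩ := hAwR.surj _ hn
            refine ⟨n + m, ?_⟩
            have : a' * (e i * (y : K) ^ (n₀ + 1)) ^ (n + m) =
                (a' * e i ^ n * (y : K) ^ m) * (e i * (y : K) ^ n₀) ^ m *
                  (y : K) ^ (n + n₀ * n) := by
              ring
            rw [this]
            exact Subring.mul_mem _ (Subring.mul_mem _ hm (Subring.pow_mem _ (he₀ i hiS) m))
              (Subring.pow_mem _ hAwR.mem _) }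
  · intro i hi
    rcases Finset.mem_insert.mp hi with rfl | hiS
    · simp only [if_true]
      exact hvR'
    · have hia : i ≠ a := ne_of_mem_of_not_mem hiS ha
      simp only [if_neg hia]
      exact hc₀ i hiS
  · rw [Finset.sum_insert ha]
    simp only [if_true]
    have hrest : ∑ i ∈ S, (if i = a then v else c i * (y : K) ^ n₀) *
        (if i = a then (x : K) else e i * (y : K) ^ (n₀ + 1)) =
        (y : K) ^ (2 * n₀ + 1) * ∑ i ∈ S, c i * e i := by
      rw [Finset.mul_sum]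
      refine Finset.sum_congr rfl fun i hiS => ?_
      have hia : i ≠ a := ne_of_mem_of_not_mem hiS ha
      simp only [if_neg hia]
      ring
    rw [hrest, hsum, mul_one]
    have hx1 : (x : K) = 1 - (y : K) := by linear_combination hxy
    rw [hx1, mul_comm v, hv, mul_neg_geom_sum]
    ring

/-- The gluing package exists for every nonempty finite family. -/
theorem pkg_inf {ι : Type*} [DecidableEq ι] {A : ι → Subring K}
    [∀ i, IsFractionRing (A i) K] [∀ i, IsNoetherianRing (A i)]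
    (hdim : ∀ i, ringKrullDim (A i) = 1) (hsl : ∀ i, Finite (MaximalSpectrum (A i)))
    (hgen : ∀ i j, i ≠ j → A i ⊔ A j = ⊤) {S : Finset ι} (hS : S.Nonempty) :
    Pkg A S (S.inf A) := by
  induction hS using Finset.Nonempty.cons_induction with
  | singleton a =>
    rw [Finset.inf_singleton]
    refine ⟨fun _ => 1, fun _ => 1, fun i hi => ?_, fun i _ => Subring.one_mem _, by simp⟩
    rw [Finset.mem_singleton] at hi
    subst hi
    exact
      { le := le_rfl
        mem := Subring.one_mem _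
        ne_zero := one_ne_zero
        inv_mem := by rw [inv_one]; exact Subring.one_mem _
        surj := fun a' ha' => ⟨0, by rwa [pow_zero, mul_one]⟩ }
  | cons a s ha hs ih =>
    rw [Finset.cons_eq_insert, Finset.inf_insert]
    exact pkg_insert hdim hsl hgen hs a ha ih

end Groth.Agent.Lib.helper13.SL1
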