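import Mathlib
import Groth.Prelude.Def_KFlatSite
import Groth.Prelude.Def_TotMap
import Groth.Agent.Lib.Helper21.ExtZeroT
import Groth.Agent.Lib.Helper13.ExtKFlat

/-!
# Restriction to a localised ringed site preserves K-flatness (helper13)

* `θ O X M' N : j_!(M' ⊗ N|_X) ≅ j_! M' ⊗ N` (helper21's projection formula), with naturality in
  both variables (`θ_naturality_left`, `θ_naturality_right`).
* `extTensorCxIso O X M K : j_!(M ⊗ K|_X) ≅ j_! M ⊗ K` for complexes.
* `isKFlat_restr`.
-/

set_option autoImplicit false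
universe u
open CategoryTheory MonoidalCategory Opposite Limits

namespace Groth.Agent.Lib.helper13.SiteRestrKFlat
open Groth.Agent.Lib.Helper21.TensorW Groth.Agent.Lib.Helper21.TensorAdj
  Groth.Agent.Lib.Helper21.TensorMon Groth.Agent.Lib.Helper21.TensorRestr
  Groth.Agent.Lib.Helper21.ExtZeroS Groth.Agent.Lib.Helper21.ExtZeroT

variable {C : Type u} [SmallCategory C] {J : GrothendieckTopology C} (O : Sheaf J CommRingCat.{u})
  (X : C)

noncomputable def θ (M' : ModSite.Mod (O.over X)) (N : ModSite.Mod O) :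
    (ModSite.extZero O X).obj (((ModSite.tensorBi (O.over X)).obj M').obj ((ModSite.restr O X).obj N)) ≅
      ((ModSite.tensorBi O).obj ((ModSite.extZero O X).obj M')).obj N :=
  (projFormula₁ O X N).app M'

variable (M' : ModSite.Mod (O.over X)) (N : ModSite.Mod O)

noncomputable def t2 :
    (ModSite.extZero O X).obj (((ModSite.tensorBi (O.over X)).obj M').obj ((ModSite.restr O X).obj N)) ⟶
      (shf O).obj ((extP O X).obj (pv M' ⊗ pv ((ModSite.restr O X).obj N))) :=
  (shfExtZeroIso O X).hom.app (pv M' ⊗ pv ((ModSite.restr O X).obj N))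

noncomputable def t3 :
    (shf O).obj ((extP O X).obj (pv M' ⊗ pv ((ModSite.restr O X).obj N))) ⟶
      (shf O).obj ((extP O X).obj (pv M' ⊗ (restrP O X).obj (pv N))) :=
  (shf O).map ((extP O X).map (pv M' ◁ (restrPIso O X N).hom))

noncomputable def t4 :
    (shf O).obj ((extP O X).obj (pv M' ⊗ (restrP O X).obj (pv N))) ⟶
      (shf O).obj ((extP O X).obj (pv M') ⊗ pv N) :=
  (shf O).map (Groth.Agent.Lib.Helper21.ExtZeroProj.projIso (pv M') (pv N)).hom

noncomputable def t5 :
    (shf O).obj ((extP O X).obj (pv M') ⊗ pv N) ⟶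
      (shf O).obj (pv ((shf O).obj ((extP O X).obj (pv M'))) ⊗ pv N) :=
  (shf O).map (unitP O ((extP O X).obj (pv M')) ▷ pv N)

noncomputable def t6 :
    (shf O).obj (pv ((shf O).obj ((extP O X).obj (pv M'))) ⊗ pv N) ⟶
      ((ModSite.tensorBi O).obj ((ModSite.extZero O X).obj M')).obj N :=
  (shf O).map (pvMap ((extZeroIso O X).inv.app M') ▷ pv N)

lemma θ_hom : (θ O X M' N).hom =
    (ModSite.extZero O X).map
      (𝟙 (((ModSite.tensorBi (O.over X)).obj M').obj ((ModSite.restr O X).obj N))) ≫
      t2 O X M' N ≫ t3 O X M' N ≫ t4 O X M' N ≫ t5 O X M' N ≫ t6 O X M' N := rfl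

variable {N} {N' : ModSite.Mod O} (g : N ⟶ N')

lemma sq2 :
    (ModSite.extZero O X).map (((ModSite.tensorBi (O.over X)).obj M').map ((ModSite.restr O X).map g)) ≫
        t2 O X M' N' =
      t2 O X M' N ≫ (shf O).map ((extP O X).map (pv M' ◁ pvMap ((ModSite.restr O X).map g))) :=
  (shfExtZeroIso O X).hom.naturality (pv M' ◁ pvMap ((ModSite.restr O X).map g))

lemma sq3 :
    (shf O).map ((extP O X).map (pv M' ◁ pvMap ((ModSite.restr O X).map g))) ≫ t3 O X M' N' =
      t3 O X M' N ≫ (shf O).map ((extP O X).map (pv M' ◁ (restrP O X).map (pvMap g))) := by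
  have h : pvMap ((ModSite.restr O X).map g) ≫ (restrPIso O X N').hom =
      (restrPIso O X N).hom ≫ (restrP O X).map (pvMap g) := (restrForgetIso O X).hom.naturality g
  unfold t3
  rw [← Functor.map_comp, ← Functor.map_comp, ← Functor.map_comp, ← Functor.map_comp,
    ← MonoidalCategory.whiskerLeft_comp, ← MonoidalCategory.whiskerLeft_comp, h]

lemma sq4 :
    (shf O).map ((extP O X).map (pv M' ◁ (restrP O X).map (pvMap g))) ≫ t4 O X M' N' =
      t4 O X M' N ≫ (shf O).map ((extP O X).obj (pv M') ◁ pvMap g) := by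
  unfold t4
  rw [← Functor.map_comp, ← Functor.map_comp]
  exact congrArg (shf O).map
    (Groth.Agent.Lib.Helper21.ExtZeroProj.projIso_naturality_right (pv M') (pvMap g))

lemma sq5 :
    (shf O).map ((extP O X).obj (pv M') ◁ pvMap g) ≫ t5 O X M' N' =
      t5 O X M' N ≫ (shf O).map (pv ((shf O).obj ((extP O X).obj (pv M'))) ◁ pvMap g) := by
  unfold t5
  rw [← Functor.map_comp, ← Functor.map_comp, whisker_exchange]

lemma sq6 :
    (shf O).map (pv ((shf O).obj ((extP O X).obj (pv M'))) ◁ pvMap g) ≫ t6 O X M' N' =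
      t6 O X M' N ≫ ((ModSite.tensorBi O).obj ((ModSite.extZero O X).obj M')).map g := by
  unfold t6
  change _ = _ ≫ (shf O).map (pv ((ModSite.extZero O X).obj M') ◁ pvMap g)
  exact ((shf O).map_comp _ _).symm.trans
    ((congrArg (shf O).map (whisker_exchange (pvMap ((extZeroIso O X).inv.app M')) (pvMap g))).trans
      ((shf O).map_comp _ _))

lemma θ_naturality_right :
    (ModSite.extZero O X).map (((ModSite.tensorBi (O.over X)).obj M').map ((ModSite.restr O X).map g)) ≫
        (θ O X M' N').hom =
      (θ O X M' N).hom ≫ ((ModSite.tensorBi O).obj ((ModSite.extZero O X).obj M')).map g := by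
  rw [θ_hom, θ_hom, CategoryTheory.Functor.map_id, CategoryTheory.Functor.map_id, Category.id_comp,
    Category.id_comp, reassoc_of% (sq2 O X M' g), reassoc_of% (sq3 O X M' g),
    reassoc_of% (sq4 O X M' g), reassoc_of% (sq5 O X M' g), sq6 O X M' g]
  simp only [Category.assoc]


lemma θ_naturality_left {M' M'' : ModSite.Mod (O.over X)} (a : M' ⟶ M'') (N : ModSite.Mod O) :
    (ModSite.extZero O X).map
        (((ModSite.tensorBi (O.over X)).map a).app ((ModSite.restr O X).obj N)) ≫
        (θ O X M'' N).hom =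
      (θ O X M' N).hom ≫ ((ModSite.tensorBi O).map ((ModSite.extZero O X).map a)).app N :=
  (projFormula₁ O X N).hom.naturality a

/-! ### Complexes -/

instance additive_extZero : (ModSite.extZero O X).Additive :=
  haveI : (ModSite.extZero O X).IsLeftAdjoint := (ModSite.extZeroAdj O X).isLeftAdjoint
  haveI := preservesBinaryBiproducts_of_preservesBinaryCoproducts (ModSite.extZero O X)
  Functor.additive_of_preservesBinaryBiproducts _

instance preservesHomology_extZero : (ModSite.extZero O X).PreservesHomology := by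
  haveI := preservesFiniteLimits_extZero O X
  haveI : (ModSite.extZero O X).IsLeftAdjoint := (ModSite.extZeroAdj O X).isLeftAdjoint
  infer_instance

/-- termwise restriction of complexes -/
noncomputable abbrev resCx : CochainComplex (ModSite.Mod O) ℤ ⥤ CochainComplex (ModSite.Mod (O.over X)) ℤ :=
  (ModSite.restr O X).mapHomologicalComplex (ComplexShape.up ℤ)

/-- termwise extension by zero of complexes -/
noncomputable abbrev extCx : CochainComplex (ModSite.Mod (O.over X)) ℤ ⥤ CochainComplex (ModSite.Mod O) ℤ :=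
  (ModSite.extZero O X).mapHomologicalComplex (ComplexShape.up ℤ)

/-- the bicomplex `K^p ⊗ L^q` -/
noncomputable abbrev tenBicx (O : Sheaf J CommRingCat.{u}) (K L : CochainComplex (ModSite.Mod O) ℤ) :
    HomologicalComplex₂ (ModSite.Mod O) (ComplexShape.up ℤ) (ComplexShape.up ℤ) :=
  (((ModSite.tensorBi O).mapBifunctorHomologicalComplex (ComplexShape.up ℤ)
    (ComplexShape.up ℤ)).obj K).obj L

variable (M : CochainComplex (ModSite.Mod (O.over X)) ℤ) (K : CochainComplex (ModSite.Mod O) ℤ)

/-- The isomorphism of bicomplexes `j_!(M^p ⊗ K^q|_X) ≅ j_! M^p ⊗ K^q`. -/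
noncomputable def bicxIso :
    (TotMap.map₂ (ModSite.extZero O X) (ComplexShape.up ℤ) (ComplexShape.up ℤ)).obj
        (tenBicx (O.over X) M ((resCx O X).obj K)) ≅
      tenBicx O ((extCx O X).obj M) K :=
  HomologicalComplex.Hom.isoOfComponents
    (fun p => HomologicalComplex.Hom.isoOfComponents (fun q => θ O X (M.X p) (K.X q))
      (fun q q' _ => (θ_naturality_right O X (M.X p) (K.d q q')).symm))
    (fun p p' _ => HomologicalComplex.hom_ext _ _ (fun q =>
      (θ_naturality_left O X (M.d p p') (K.X q)).symm))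

instance preservesTotal_extZero
    (B : HomologicalComplex₂ (ModSite.Mod (O.over X)) (ComplexShape.up ℤ) (ComplexShape.up ℤ)) :
    TotMap.PreservesTotal (ModSite.extZero O X) B (ComplexShape.up ℤ) :=
  haveI : (ModSite.extZero O X).IsLeftAdjoint := (ModSite.extZeroAdj O X).isLeftAdjoint
  fun _ => inferInstance

/-- `j_!(M ⊗ K|_X) ≅ j_! M ⊗ K` for complexes. -/
noncomputable def extTensorCxIso :
    (extCx O X).obj (((ModSite.tensorCx (O.over X)).obj M).obj ((resCx O X).obj K)) ≅
      ((ModSite.tensorCx O).obj ((extCx O X).obj M)).obj K :=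
  haveI := TotMap.hasTotal_map₂ (ModSite.extZero O X) (tenBicx (O.over X) M ((resCx O X).obj K))
    (ComplexShape.up ℤ)
  TotMap.mapTotalIso (ModSite.extZero O X) (tenBicx (O.over X) M ((resCx O X).obj K))
      (ComplexShape.up ℤ) ≪≫
    HomologicalComplex₂.total.mapIso (bicxIso O X M K) (ComplexShape.up ℤ)

open Groth.Agent.Lib.helper13.ExtKFlat in
/-- Restriction of a K-flat complex to a localised site is K-flat. -/
theorem isKFlat_restr (hK : ModSite.IsKFlat K) : ModSite.IsKFlat ((resCx O X).obj K) := by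
  intro M hM i
  haveI := faithful_extZero O X
  have h1 : ∀ i, IsZero (((extCx O X).obj M).homology i) := fun i =>
    (isZero_homology_map_iff (ModSite.extZero O X) M i).2 (hM i)
  have h2 := hK ((extCx O X).obj M) h1 i
  have h3 : IsZero (((extCx O X).obj
      (((ModSite.tensorCx (O.over X)).obj M).obj ((resCx O X).obj K))).homology i) :=
    h2.of_iso ((HomologicalComplex.homologyFunctor _ _ i).mapIso (extTensorCxIso O X M K))
  exact (isZero_homology_map_iff (ModSite.extZero O X) _ i).1 h3

end Groth.Agent.Lib.helper13.SiteRestrKFlat
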