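import Mathlib
import Groth.Agent.Lib.Helper13.DiagTor4
import Groth.Agent.Lib.Helper3.PerfKos2

/-!
# Flat morphisms with perfect diagonal are smooth (helper13)

* `smooth_of_diag_affine`: the affine case, from `DiagTor.smooth_of_diag` (S2206).
* `smooth_of_flat_of_isPerfectMor_diagonal`: `f` flat, locally of finite type, with locally Noetherian
  target and perfect diagonal is smooth.
-/

set_option autoImplicit false
set_option linter.style.haveILetI false
universe u
attribute [local instance] HasDerivedCategory.standard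
open CategoryTheory CategoryTheory.Limits AlgebraicGeometry TensorProduct MorphismProperty

namespace Groth.Agent.Lib.helper13.SmDiag

open Groth.Agent.Lib.helper3.PerfHomLoc Groth.Agent.Lib.helper3.PCHomLoc

/-- the affine case -/
theorem smooth_of_diag_affine {R S : CommRingCat.{u}} (φ : R ⟶ S) [IsNoetherianRing R]
    [LocallyOfFiniteType (Spec.map φ)] [Flat (Spec.map φ)]
    (h : MoreMor.IsPerfectMor (pullback.diagonal (Spec.map φ))) : Smooth (Spec.map φ) := by
  have hft := (HasRingHomProperty.Spec_iff (P := @LocallyOfFiniteType)).mp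
    (inferInstance : LocallyOfFiniteType (Spec.map φ))
  have hfl := (HasRingHomProperty.Spec_iff (P := @Flat)).mp
    (inferInstance : Flat (Spec.map φ))
  rw [HasRingHomProperty.Spec_iff (P := @Smooth)]
  algebraize [φ.hom]
  have h' : perfMor (pullback.diagonal (Spec.map φ)) := h
  rw [show φ = CommRingCat.ofHom (algebraMap R S) from rfl, diagonal_SpecMap R S,
    cancel_right_of_respectsIso (P := perfMor), HasRingHomProperty.Spec_iff (P := perfMor)] at h'
  have h2 : PFH (Algebra.TensorProduct.lmul' (S := S) R).toRingHom := h'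
  rw [← pfh_iff_toAlgebra] at h2
  letI : Algebra (S ⊗[R] S) S := (Algebra.TensorProduct.lmul' (S := S) R).toRingHom.toAlgebra
  have hmul : ∀ x y : S, algebraMap (S ⊗[R] S) S (x ⊗ₜ[R] y) = x * y := fun x y => by
    change (Algebra.TensorProduct.lmul' (S := S) R) (x ⊗ₜ[R] y) = x * y
    simp
  have hsm : Algebra.Smooth R S :=
    Groth.Agent.Lib.helper13.DiagTor.smooth_of_diag hmul h2.2
  exact RingHom.smooth_algebraMap.mpr hsm

/-- **flat, locally of finite type, diagonal perfect ⇒ smooth** (locally Noetherian base) -/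
theorem smooth_of_flat_of_isPerfectMor_diagonal {X Y : Scheme.{u}} (f : X ⟶ Y)
    [LocallyOfFiniteType f] [IsLocallyNoetherian Y] [Flat f]
    (h : MoreMor.IsPerfectMor (pullback.diagonal f)) : Smooth f := by
  wlog hX : (∃ S, X = Spec S) ∧ ∃ R, Y = Spec R
  · let 𝒰Y := Y.affineCover
    let 𝒰X (j : (Y.affineCover.pullback₁ f).I₀) :
        ((Y.affineCover.pullback₁ f).X j).OpenCover := Scheme.affineCover _
    rw [IsZariskiLocalAtTarget.iff_of_openCover (P := @Smooth) 𝒰Y]
    intro i
    rw [IsZariskiLocalAtSource.iff_of_openCover (P := @Smooth) (𝒰X i)]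
    intro j
    change Smooth ((𝒰X i).f j ≫ pullback.snd f (𝒰Y.f i))
    have hfl : Flat ((𝒰X i).f j ≫ pullback.snd f (𝒰Y.f i)) :=
      comp_mem _ _ _ inferInstance (pullback_snd _ _ inferInstance)
    have hfin : LocallyOfFiniteType ((𝒰X i).f j ≫ pullback.snd f (𝒰Y.f i)) :=
      comp_mem _ _ _ inferInstance (pullback_snd _ _ inferInstance)
    have hN : IsLocallyNoetherian (𝒰Y.X i) := isLocallyNoetherian_of_isOpenImmersion (𝒰Y.f i)
    refine this _ ?_ ⟨⟨_, rfl⟩, ⟨_, rfl⟩⟩
    have h1 : perfMor (pullback.diagonal f) := h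
    have h2 : perfMor (pullback.diagonal f ∣_
        ((Scheme.Pullback.diagonalCover f 𝒰Y 𝒰X).f ⟨i, j, j⟩).opensRange) :=
      IsZariskiLocalAtTarget.restrict h1 _
    exact (arrow_mk_iso_iff perfMor (Scheme.Pullback.diagonalRestrictIsoDiagonal f 𝒰Y 𝒰X i j)).mp h2
  obtain ⟨⟨S, rfl⟩, R, rfl⟩ := hX
  obtain ⟨φ, rfl⟩ := Spec.map_surjective f
  haveI : IsNoetherianRing R := isLocallyNoetherian_Spec.mp inferInstance
  exact smooth_of_diag_affine φ h

end Groth.Agent.Lib.helper13.SmDiag
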