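import Mathlib

/-!
# helper13: lifting standard étale algebras along surjections

* `ringEquivOfPow`: standard étale pairs `(f, g)` and `(f, g ^ n)`, `1 ≤ n`, have isomorphic rings.
* `exists_pair_lift`: a standard étale pair over `A` lifts (up to replacing `g` by a power) along a surjection
  `P → A`.
* `exists_etale_lift`: a standard étale `A`-algebra `B` is `A ⊗[P] Bt` for a standard étale `P`-algebra `Bt`.
-/

set_option autoImplicit false
universe u
open Polynomial TensorProduct

namespace Groth.Agent.Lib.helper13.SrcDesc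

/-- standard étale pairs `(f, g)` and `(f, g ^ n)`, `1 ≤ n`, have isomorphic rings. -/
noncomputable def ringEquivOfPow {A : Type u} [CommRing A] (Q Q' : StandardEtalePair A)
    (hf : Q'.f = Q.f) (n : ℕ) (hn : n ≠ 0) (hg : Q'.g = Q.g ^ n) : Q.Ring ≃ₐ[A] Q'.Ring := by
  have h1 : Q.HasMap Q'.X := by
    refine ⟨?_, ?_⟩
    · rw [← hf]; exact Q'.hasMap_X.1
    · have h := Q'.hasMap_X.2
      rw [hg, map_pow] at h
      exact (isUnit_pow_iff hn).1 h
  have h2 : Q'.HasMap Q.X := by
    refine ⟨?_, ?_⟩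
    · rw [hf]; exact Q.hasMap_X.1
    · rw [hg, map_pow]
      exact Q.hasMap_X.2.pow n
  refine AlgEquiv.ofAlgHom (Q.lift Q'.X h1) (Q'.lift Q.X h2) ?_ ?_
  · apply Q'.hom_ext
    simp [StandardEtalePair.lift_X]
  · apply Q.hom_ext
    simp [StandardEtalePair.lift_X]

/-- a standard étale pair over `A` lifts, up to replacing `g` by a power, along a surjection. -/
theorem exists_pair_lift {P A : Type u} [CommRing P] [CommRing A] (φ : P →+* A)
    (hφ : Function.Surjective φ) (Q : StandardEtalePair A) :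
    ∃ Qt : StandardEtalePair P, Nonempty (Q.Ring ≃ₐ[A] (Qt.map φ).Ring) := by
  obtain ⟨f, hf, -, hfm⟩ := Polynomial.lifts_and_natDegree_eq_and_monic
    (Polynomial.mem_lifts_of_surjective hφ Q.f) Q.monic_f
  obtain ⟨p₁', p₂', n, e⟩ := Q.cond
  obtain ⟨p₁, hp₁⟩ := Polynomial.map_surjective _ hφ (p₁' * Q.g)
  obtain ⟨p₂, hp₂⟩ := Polynomial.map_surjective _ hφ (p₂' * Q.g)
  let Qt : StandardEtalePair P :=
    ⟨f, hfm, derivative f * p₁ + f * p₂, ⟨p₁, p₂, 1, by rw [pow_one]⟩⟩
  refine ⟨Qt, ⟨ringEquivOfPow Q (Qt.map φ) ?_ (n + 1) (Nat.succ_ne_zero n) ?_⟩⟩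
  · exact hf
  · show (derivative f * p₁ + f * p₂).map φ = Q.g ^ (n + 1)
    rw [Polynomial.map_add, Polynomial.map_mul, Polynomial.map_mul, ← Polynomial.derivative_map,
      hf, hp₁, hp₂, pow_succ, ← e]
    ring

/-- a standard étale `A`-algebra is the base change of a standard étale `P`-algebra along a surjection
`P → A`. -/
theorem exists_etale_lift {P A B : Type u} [CommRing P] [CommRing A] [CommRing B] [Algebra P A]
    [Algebra A B] (hPA : Function.Surjective (algebraMap P A)) [Algebra.IsStandardEtale A B] :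
    ∃ Qt : StandardEtalePair P, Nonempty (A ⊗[P] Qt.Ring ≃ₐ[A] B) := by
  obtain ⟨PB⟩ := Algebra.IsStandardEtale.nonempty_standardEtalePresentation (R := A) (S := B)
  obtain ⟨Qt, ⟨e⟩⟩ := exists_pair_lift (algebraMap P A) hPA PB.P
  let PP : StandardEtalePresentation P Qt.Ring :=
    ⟨Qt, Qt.X, Qt.hasMap_X, by simpa [StandardEtalePair.lift_X_left] using Function.bijective_id⟩
  let e1 := (PP.baseChange (T := A)).equivRing
  exact ⟨Qt, ⟨e1.trans (e.symm.trans PB.equivRing.symm)⟩⟩

end Groth.Agent.Lib.helper13.SrcDesc
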