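import Groth.Agent.Lib.Helper13.SrcDesc1
import Groth.Agent.Lib.Helper3.PCBC1
import Groth.Agent.Lib.Helper3.PCFlat
import Groth.Agent.S1179

/-!
# helper13: pseudo-coherent ring maps descend along standard étale covers of the source
-/

set_option autoImplicit false
universe u
open Polynomial TensorProduct

attribute [local instance] Algebra.TensorProduct.rightAlgebra

namespace Groth.Agent.Lib.helper13.SrcDesc

open Groth.Agent.Lib.helper3.PCHomLoc Groth.Agent.Lib.helper3.PCBC

/-- flat ring maps of finite presentation are pseudo-coherent. -/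
theorem pch_of_flat_fp {A B : Type u} [CommRing A] [CommRing B] [Algebra A B] [Module.Flat A B]
    [Algebra.FinitePresentation A B] : PCH (algebraMap A B) := by
  obtain ⟨n, φ, hφ⟩ := Algebra.FiniteType.iff_quotient_mvPolynomial''.1
    (inferInstance : Algebra.FiniteType A B)
  exact isPseudoCoherentHom_iff_pch.1
    ⟨n, φ, hφ, Groth.Agent.Lib.helper3.PCFlat.isPseudoCoherentModule'_of_flat φ hφ⟩

/-- an element `u` with `u ↦ 1` in `A` whose nonvanishing locus lies in a given open containing `V(ker)`. -/
theorem exists_unit_lift {P A : Type u} [CommRing P] [CommRing A] [Algebra P A]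
    (hPA : Function.Surjective (algebraMap P A)) (W : Set (PrimeSpectrum P)) (hW : IsOpen W)
    (hsub : ∀ q : PrimeSpectrum A, PrimeSpectrum.comap (algebraMap P A) q ∈ W) :
    ∃ u : P, algebraMap P A u = 1 ∧ ∀ p : PrimeSpectrum P, u ∉ p.asIdeal → p ∈ W := by
  obtain ⟨K, hK⟩ := (PrimeSpectrum.isClosed_iff_zeroLocus_ideal _).1 hW.isClosed_compl
  have htop : RingHom.ker (algebraMap P A) ⊔ K = ⊤ := by
    by_contra hne
    obtain ⟨m, hm, hle⟩ := Ideal.exists_le_maximal _ hne
    let pm : PrimeSpectrum P := ⟨m, hm.isPrime⟩
    have h1 : pm ∈ Set.range (PrimeSpectrum.comap (algebraMap P A)) := by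
      rw [range_comap_of_surjective _ _ hPA]
      exact le_trans le_sup_left hle
    obtain ⟨q, hq⟩ := h1
    have h2 : pm ∈ W := hq ▸ hsub q
    have h3 : pm ∈ Wᶜ := by
      rw [hK]
      exact le_trans le_sup_right hle
    exact h3 h2
  obtain ⟨j, hj, k, hk, hjk⟩ := Submodule.mem_sup.1 (htop ▸ Submodule.mem_top : (1 : P) ∈ _)
  refine ⟨k, ?_, fun p hp => ?_⟩
  · have : algebraMap P A j = 0 := hj
    have h1 : algebraMap P A (j + k) = 1 := by rw [hjk, map_one]
    rwa [map_add, this, zero_add] at h1
  · by_contra hpW
    have : p ∈ PrimeSpectrum.zeroLocus (K : Set P) := hK ▸ hpW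
    exact hp (this hk)


/-- surjectivity on spectra transported along an algebra isomorphism. -/
theorem comap_surjective_of_algEquiv {A B T : Type u} [CommRing A] [CommRing B] [CommRing T]
    [Algebra A B] [Algebra A T] (e : T ≃ₐ[A] B)
    (hs : Function.Surjective (PrimeSpectrum.comap (algebraMap A B))) :
    Function.Surjective (PrimeSpectrum.comap (algebraMap A T)) := by
  intro q
  obtain ⟨b, hb⟩ := hs q
  refine ⟨PrimeSpectrum.comap (e : T →+* B) b, ?_⟩
  rw [← PrimeSpectrum.comap_comp_apply]
  have : (e : T →+* B).comp (algebraMap A T) = algebraMap A B := by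
    ext x
    exact e.commutes x
  rw [this, hb]


set_option maxHeartbeats 1000000 in
set_option synthInstance.maxHeartbeats 200000 in
/-- abstract form of the core lemma: `P → A` surjective, `Bt` flat of finite presentation over `P`,
`A → A ⊗[P] Bt` surjective on spectra, `R → P` flat of finite presentation. -/
theorem pch_of_flat_lift {R P A Bt : Type u} [CommRing R] [CommRing P] [CommRing A] [CommRing Bt]
    [Algebra R P] [Algebra P A] [Algebra R A] [IsScalarTower R P A] [Algebra P Bt]
    [Module.Flat R P] [Algebra.FinitePresentation R P]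
    [Module.Flat P Bt] [Algebra.FinitePresentation P Bt]
    (hPA : Function.Surjective (algebraMap P A))
    (hs : Function.Surjective (PrimeSpectrum.comap (algebraMap A (A ⊗[P] Bt))))
    (h : PCH (algebraMap R (A ⊗[P] Bt))) : PCH (algebraMap R A) := by
  -- the open image of `Spec Bt`
  have hopen : IsOpen (Set.range (PrimeSpectrum.comap (algebraMap P Bt))) :=
    PrimeSpectrum.isOpenMap_comap_of_hasGoingDown_of_finitePresentation.isOpen_range
  have hsub : ∀ q : PrimeSpectrum A, PrimeSpectrum.comap (algebraMap P A) q ∈
      Set.range (PrimeSpectrum.comap (algebraMap P Bt)) := by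
    intro q
    have h1 := Groth.Agent.S1179.range_comap_tensor P A Bt
    have h2 : q ∈ Set.range (PrimeSpectrum.comap (algebraMap A (A ⊗[P] Bt))) := hs q
    rw [h1] at h2
    exact h2
  obtain ⟨u, hu1, huW⟩ := exists_unit_lift hPA _ hopen hsub
  have huA : IsUnit (algebraMap P A u) := by rw [hu1]; exact isUnit_one
  letI : Algebra (Localization.Away u) A := (IsLocalization.Away.lift u huA).toAlgebra
  haveI : IsScalarTower P (Localization.Away u) A :=
    IsScalarTower.of_algebraMap_eq' (IsLocalization.Away.lift_comp u huA).symm
  have hLA : Function.Surjective (algebraMap (Localization.Away u) A) := by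
    intro a
    obtain ⟨p, rfl⟩ := hPA a
    exact ⟨algebraMap P (Localization.Away u) p, (IsScalarTower.algebraMap_apply _ _ _ _).symm⟩
  haveI : Algebra.FiniteType (Localization.Away u) A :=
    Algebra.FiniteType.of_surjective (Algebra.ofId (Localization.Away u) A) hLA
  haveI : IsScalarTower R (Localization.Away u) A := by
    refine IsScalarTower.of_algebraMap_eq' ?_
    rw [IsScalarTower.algebraMap_eq R P A, IsScalarTower.algebraMap_eq R P (Localization.Away u),
      ← RingHom.comp_assoc, ← IsScalarTower.algebraMap_eq P (Localization.Away u) A]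
  haveI : Module.FaithfullyFlat (Localization.Away u) (Localization.Away u ⊗[P] Bt) := by
    refine Module.FaithfullyFlat.of_comap_surjective ?_
    intro l
    have h1 := Groth.Agent.S1179.range_comap_tensor P (Localization.Away u) Bt
    have h2 : l ∈ Set.range (PrimeSpectrum.comap
        (algebraMap (Localization.Away u) (Localization.Away u ⊗[P] Bt))) := by
      rw [h1]
      apply huW
      intro hu
      have h3 : IsUnit (algebraMap P (Localization.Away u) u) :=
        IsLocalization.Away.algebraMap_isUnit u
      exact l.isPrime.ne_top (Ideal.eq_top_of_isUnit_mem _ hu h3)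
    exact h2
  have hRL : PCH (algebraMap R (Localization.Away u ⊗[P] Bt)) := by
    haveI : Module.Flat R (Localization.Away u) := Module.Flat.trans R P _
    haveI : Algebra.FinitePresentation R (Localization.Away u) :=
      Algebra.FinitePresentation.trans R P _
    haveI : Module.Flat R (Localization.Away u ⊗[P] Bt) :=
      Module.Flat.trans R (Localization.Away u) _
    haveI : Algebra.FinitePresentation R (Localization.Away u ⊗[P] Bt) :=
      Algebra.FinitePresentation.trans R (Localization.Away u) _
    exact pch_of_flat_fp
  let ε : A ⊗[Localization.Away u] (Localization.Away u ⊗[P] Bt) ≃ₐ[Localization.Away u]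
      A ⊗[P] Bt :=
    Algebra.TensorProduct.cancelBaseChange P (Localization.Away u) (Localization.Away u) A Bt
  have hRS : PCH (algebraMap R (A ⊗[Localization.Away u] (Localization.Away u ⊗[P] Bt))) := by
    let ε' : (A ⊗[P] Bt) ≃+* (A ⊗[Localization.Away u] (Localization.Away u ⊗[P] Bt)) :=
      { ε.symm.toEquiv with
        map_mul' := map_mul ε.symm
        map_add' := map_add ε.symm }
    have h1 := pch_comp_ringEquiv
      (T := A ⊗[Localization.Away u] (Localization.Away u ⊗[P] Bt)) _ ε' h
    convert h1 using 1
    ext r
    simp [ε', ε, Algebra.TensorProduct.algebraMap_apply, Algebra.TensorProduct.one_def]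
  have hcancel : PCH (algebraMap (Localization.Away u ⊗[P] Bt)
      (A ⊗[Localization.Away u] (Localization.Away u ⊗[P] Bt))) := by
    refine pch_cancel (algebraMap R (Localization.Away u ⊗[P] Bt)) _ hRL ?_
    convert hRS using 1
    ext r
    simp only [RingHom.comp_apply, Algebra.TensorProduct.algebraMap_apply,
      Algebra.TensorProduct.one_def, Algebra.TensorProduct.right_algebraMap_apply]
    have h1 : (algebraMap R (Localization.Away u)) r ⊗ₜ[P] (1 : Bt) =
        (algebraMap R (Localization.Away u) r) • ((1 : Localization.Away u) ⊗ₜ[P] (1 : Bt)) := by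
      rw [TensorProduct.smul_tmul', smul_eq_mul, mul_one]
    rw [h1, ← TensorProduct.smul_tmul, Algebra.smul_def, mul_one,
      ← IsScalarTower.algebraMap_apply]
  have hLA' : PCH (algebraMap (Localization.Away u) A) :=
    pch_of_baseChange (R := Localization.Away u) (S := A) (R' := Localization.Away u ⊗[P] Bt)
      (S' := A ⊗[Localization.Away u] (Localization.Away u ⊗[P] Bt)) hcancel
  have hRL' : PCH (algebraMap R (Localization.Away u)) := by
    haveI : Module.Flat R (Localization.Away u) := Module.Flat.trans R P _
    haveI : Algebra.FinitePresentation R (Localization.Away u) :=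
      Algebra.FinitePresentation.trans R P _
    exact pch_of_flat_fp
  have := pch_comp _ _ hRL' hLA'
  rwa [← IsScalarTower.algebraMap_eq] at this

set_option maxHeartbeats 1000000 in
set_option synthInstance.maxHeartbeats 200000 in
/-- **Core lemma**: `R → A` of finite type, `A → B` standard étale and surjective on spectra, `R → B`
pseudo-coherent. Then `R → A` is pseudo-coherent. -/
theorem pch_of_standardEtale_cover {R A B : Type u} [CommRing R] [CommRing A] [CommRing B]
    [Algebra R A] [Algebra A B] [Algebra R B] [IsScalarTower R A B] [Algebra.FiniteType R A]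
    [Algebra.IsStandardEtale A B]
    (hs : Function.Surjective (PrimeSpectrum.comap (algebraMap A B)))
    (h : PCH (algebraMap R B)) : PCH (algebraMap R A) := by
  obtain ⟨n, α, hα⟩ := Groth.Agent.Lib.helper23.DRingPC.exists_presentation (R := R) (A := A)
  letI : Algebra (MvPolynomial (Fin n) R) A := α.toRingHom.toAlgebra
  haveI : IsScalarTower R (MvPolynomial (Fin n) R) A :=
    IsScalarTower.of_algebraMap_eq' α.comp_algebraMap.symm
  have hPA : Function.Surjective (algebraMap (MvPolynomial (Fin n) R) A) := hα
  obtain ⟨Qt, ⟨e⟩⟩ := exists_etale_lift (P := MvPolynomial (Fin n) R) (A := A) (B := B) hPA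
  have hsT := comap_surjective_of_algEquiv e hs
  have hT : PCH (algebraMap R (A ⊗[MvPolynomial (Fin n) R] Qt.Ring)) := by
    let e' : B ≃+* (A ⊗[MvPolynomial (Fin n) R] Qt.Ring) :=
      { e.symm.toEquiv with
        map_mul' := map_mul e.symm
        map_add' := map_add e.symm }
    have h1 := pch_comp_ringEquiv (T := A ⊗[MvPolynomial (Fin n) R] Qt.Ring) _ e' h
    convert h1 using 1
    ext r
    simp only [RingHom.comp_apply]
    rw [IsScalarTower.algebraMap_apply R A B]
    show _ = e.symm (algebraMap A B (algebraMap R A r))
    rw [e.symm.commutes, Algebra.TensorProduct.algebraMap_apply, Algebra.TensorProduct.algebraMap_apply]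
    rfl
  haveI : Module.Flat (MvPolynomial (Fin n) R) Qt.Ring := inferInstance
  exact pch_of_flat_lift (P := MvPolynomial (Fin n) R) (Bt := Qt.Ring) hPA hsT hT

end Groth.Agent.Lib.helper13.SrcDesc
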