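import Groth.Agent.Lib.Helper13.SrcDesc2
import Groth.Agent.Lib.Helper5.EtaleLocalStd

/-!
# helper13: pseudo-coherent ring maps descend along étale covers of the source (ring level)
-/

set_option autoImplicit false
universe u
open Polynomial TensorProduct

attribute [local instance] Algebra.TensorProduct.rightAlgebra

namespace Groth.Agent.Lib.helper13.SrcDesc

open Groth.Agent.Lib.helper3.PCHomLoc Groth.Agent.Lib.helper3.PCBC

/-- a property of basic opens which holds near every prime holds after a finite partition of unity. -/
theorem pch_of_forall_prime {R A : Type u} [CommRing R] [CommRing A] [Algebra R A]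
    (h : ∀ q : PrimeSpectrum A, ∃ a : A, a ∉ q.asIdeal ∧
      PCH (algebraMap R (Localization.Away a))) : PCH (algebraMap R A) := by
  let S : Set A := {a | PCH (algebraMap R (Localization.Away a))}
  have hS : Ideal.span S = ⊤ := by
    by_contra hne
    obtain ⟨m, hm, hle⟩ := Ideal.exists_le_maximal _ hne
    obtain ⟨a, ha, hpc⟩ := h ⟨m, hm.isPrime⟩
    exact ha (hle (Ideal.subset_span hpc))
  obtain ⟨s, hsS, hs⟩ := (Ideal.span_eq_top_iff_finite S).1 hS
  refine pch_of_finite_span_target _ s hs (fun r => ?_)
  have hr : PCH (algebraMap R (Localization.Away (r : A))) := hsS r.2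
  rwa [IsScalarTower.algebraMap_eq R A (Localization.Away (r : A))] at hr


set_option maxHeartbeats 1000000 in
set_option synthInstance.maxHeartbeats 200000 in
/-- local form: around the image of a prime of `B`. -/
theorem exists_pch_away_of_etale {R A B : Type u} [CommRing R] [CommRing A] [CommRing B]
    [Algebra R A] [Algebra A B] [Algebra R B] [IsScalarTower R A B] [Algebra.FiniteType R A]
    [Algebra.Etale A B] (h : PCH (algebraMap R B)) (b : PrimeSpectrum B) :
    ∃ a : A, a ∉ (PrimeSpectrum.comap (algebraMap A B) b).asIdeal ∧
      PCH (algebraMap R (Localization.Away a)) := by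
  obtain ⟨f, hf, hstd⟩ := Groth.Agent.Lib.helper5.EtaleLocalStd.exists_isStandardEtale_away
    (R := A) (R' := B) b.asIdeal
  have hopen : IsOpen (Set.range (PrimeSpectrum.comap (algebraMap A (Localization.Away f)))) :=
    PrimeSpectrum.isOpenMap_comap_of_hasGoingDown_of_finitePresentation.isOpen_range
  have hq : PrimeSpectrum.comap (algebraMap A B) b ∈
      Set.range (PrimeSpectrum.comap (algebraMap A (Localization.Away f))) := by
    have h1 : b ∈ Set.range (PrimeSpectrum.comap (algebraMap B (Localization.Away f))) := by
      rw [PrimeSpectrum.localization_away_comap_range (Localization.Away f) f]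
      exact hf
    obtain ⟨z, hz⟩ := h1
    refine ⟨z, ?_⟩
    rw [IsScalarTower.algebraMap_eq A B (Localization.Away f), PrimeSpectrum.comap_comp_apply, hz]
  obtain ⟨_, ⟨_, ⟨a, rfl⟩, rfl⟩, haq, haW⟩ :=
    PrimeSpectrum.isBasis_basic_opens.exists_subset_of_mem_open hq hopen
  refine ⟨a, haq, ?_⟩
  haveI : Algebra.FiniteType R (Localization.Away a) :=
    Algebra.FiniteType.trans (S := A) inferInstance inferInstance
  have hs' : Function.Surjective (PrimeSpectrum.comap (algebraMap (Localization.Away a)
      (Localization.Away a ⊗[A] Localization.Away f))) := by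
    intro l
    have h1 := Groth.Agent.S1179.range_comap_tensor A (Localization.Away a) (Localization.Away f)
    have h2 : l ∈ Set.range (PrimeSpectrum.comap (algebraMap (Localization.Away a)
        (Localization.Away a ⊗[A] Localization.Away f))) := by
      rw [h1]
      apply haW
      have h4 := PrimeSpectrum.localization_away_comap_range (Localization.Away a) a
      have h3 : PrimeSpectrum.comap (algebraMap A (Localization.Away a)) l ∈
          Set.range (PrimeSpectrum.comap (algebraMap A (Localization.Away a))) := ⟨l, rfl⟩
      rw [h4] at h3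
      exact h3
    exact h2
  have hB' : PCH (algebraMap R (Localization.Away a ⊗[A] Localization.Away f)) := by
    have h1 : PCH (algebraMap B (Localization.Away f)) := pch_away f
    have h2 : PCH (algebraMap A (Localization.Away a)) := pch_away a
    have h3 : PCH (algebraMap (Localization.Away f)
        (Localization.Away a ⊗[A] Localization.Away f)) :=
      pch_baseChange (R := A) (S := Localization.Away a) (R' := Localization.Away f)
        (S' := Localization.Away a ⊗[A] Localization.Away f) h2
    have h4 := pch_comp _ _ (pch_comp _ _ h h1) h3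
    convert h4 using 1
    ext r
    simp only [RingHom.comp_apply, Algebra.TensorProduct.algebraMap_apply,
      Algebra.TensorProduct.right_algebraMap_apply]
    rw [IsScalarTower.algebraMap_apply R A B, ← IsScalarTower.algebraMap_apply A B,
      IsScalarTower.algebraMap_apply R A (Localization.Away a)]
    rw [Algebra.algebraMap_eq_smul_one (algebraMap R A r),
      Algebra.algebraMap_eq_smul_one (A := Localization.Away f) (algebraMap R A r),
      TensorProduct.smul_tmul]
  exact pch_of_standardEtale_cover (A := Localization.Away a)
    (B := Localization.Away a ⊗[A] Localization.Away f) hs' hB'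


/-- **Étale source descent for pseudo-coherent ring maps.** -/
theorem pch_of_etale_comp {R A B : Type u} [CommRing R] [CommRing A] [CommRing B]
    (φ : R →+* A) (ψ : A →+* B) (hψ : ψ.Etale)
    (hs : Function.Surjective (PrimeSpectrum.comap ψ)) (h : PCH (ψ.comp φ)) : PCH φ := by
  have hft : (ψ.comp φ).FiniteType := finiteType_of_pch' _ h
  algebraize [φ, ψ, ψ.comp φ]
  haveI : Algebra.FiniteType R A :=
    Groth.Agent.S1179.finiteType_of_etale_comp (R := R) (A := A) (B := B) hs
  refine pch_of_forall_prime (R := R) (A := A) (fun q => ?_)
  obtain ⟨b, hb⟩ := hs q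
  obtain ⟨a, ha, hpc⟩ := exists_pch_away_of_etale (R := R) (A := A) (B := B) h b
  refine ⟨a, ?_, hpc⟩
  have hb' : PrimeSpectrum.comap (algebraMap A B) b = q := hb
  rwa [hb'] at ha

end Groth.Agent.Lib.helper13.SrcDesc
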