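import Groth.Agent.Lib.Helper13.SrcDesc2
import Groth.Agent.Lib.Helper3.PCFin
import Groth.Agent.Lib.Helper12.HorLH

/-!
# helper13: pseudo-coherent ring maps descend along finite locally free covers of the source
-/

set_option autoImplicit false
universe u
open TensorProduct CategoryTheory CategoryTheory.Limits

attribute [local instance] HasDerivedCategory.standard

namespace Groth.Agent.Lib.helper13.SrcDesc

open Groth.Agent.Lib.helper3.PCHomLoc Groth.Agent.Lib.helper3.PCBC
open Groth.Agent.Lib.helper23.PCohCore Groth.Agent.Lib.helper23.DRingPC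

/-- a finite, finitely presented, faithfully flat algebra has an `A`-linear retraction. -/
theorem exists_retraction_of_finite_faithfullyFlat {A B : Type u} [CommRing A] [CommRing B]
    [Algebra A B] [Module.Finite A B] [Module.FaithfullyFlat A B]
    [Algebra.FinitePresentation A B] :
    ∃ π : B →ₗ[A] A, ∀ a, π (algebraMap A B a) = a := by
  let u : A →ₗ[A] B := Algebra.linearMap A B
  have hflatC : Module.Flat A (B ⧸ LinearMap.range u) := by
    refine Groth.Agent.Lib.helper12.HorLH.flat_quotient_range u (fun I x hx => ?_)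
    rw [Ideal.smul_top_eq_map] at hx
    have h1 : x ∈ (I.map (algebraMap A B)).comap (algebraMap A B) := hx
    rw [Ideal.comap_map_eq_self_of_faithfullyFlat] at h1
    simpa using h1
  haveI : Module.FinitePresentation A B :=
    Module.FinitePresentation.of_finite_of_finitePresentation A B
  haveI : Module.FinitePresentation A (B ⧸ LinearMap.range u) := by
    refine Module.finitePresentation_of_surjective (LinearMap.range u).mkQ
      (Submodule.mkQ_surjective _) ?_
    rw [Submodule.ker_mkQ, LinearMap.range_eq_map]
    exact Submodule.FG.map _ Module.Finite.fg_top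
  haveI : Module.Projective A (B ⧸ LinearMap.range u) :=
    Module.Flat.projective_of_finitePresentation
  obtain ⟨s, hs⟩ := Module.projective_lifting_property (LinearMap.range u).mkQ LinearMap.id
    (Submodule.mkQ_surjective _)
  have hinj : Function.Injective u := FaithfulSMul.algebraMap_injective A B
  have hmem : ∀ b : B, ((LinearMap.id : B →ₗ[A] B) - s ∘ₗ (LinearMap.range u).mkQ) b ∈ LinearMap.range u := by
    intro b
    rw [← Submodule.Quotient.mk_eq_zero, ← Submodule.mkQ_apply]
    have h1 := LinearMap.congr_fun hs ((LinearMap.range u).mkQ b)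
    simp only [LinearMap.comp_apply, LinearMap.id_apply] at h1
    simp only [LinearMap.sub_apply, LinearMap.id_apply, LinearMap.comp_apply, map_sub, h1, sub_self]
  let π : B →ₗ[A] A := (LinearEquiv.ofInjective u hinj).symm.toLinearMap ∘ₗ
    (LinearMap.codRestrict (LinearMap.range u) ((LinearMap.id : B →ₗ[A] B) - s ∘ₗ (LinearMap.range u).mkQ) hmem)
  refine ⟨π, fun a => ?_⟩
  have h2 : (LinearMap.codRestrict (LinearMap.range u)
      ((LinearMap.id : B →ₗ[A] B) - s ∘ₗ (LinearMap.range u).mkQ) hmem) (algebraMap A B a) =
      LinearEquiv.ofInjective u hinj a := by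
    apply Subtype.ext
    have h3 : (LinearMap.range u).mkQ (algebraMap A B a) = 0 := by
      rw [Submodule.mkQ_apply, Submodule.Quotient.mk_eq_zero]
      exact ⟨a, rfl⟩
    simp [h3, u]
  show (LinearEquiv.ofInjective u hinj).symm _ = a
  rw [h2, LinearEquiv.symm_apply_apply]


/-- finite type descends along a finite ring map with a linear retraction. -/
theorem finiteType_of_finite_of_retraction {R A B : Type u} [CommRing R] [CommRing A]
    [CommRing B] [Algebra R A] [Algebra A B] [Algebra R B] [IsScalarTower R A B]
    [Module.Finite A B] [Algebra.FiniteType R B] (π : B →ₗ[A] A)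
    (hπ : ∀ a, π (algebraMap A B a) = a) : Algebra.FiniteType R A := by
  obtain ⟨A₀, hfg, hfin⟩ := exists_subalgebra_of_fg R A B Algebra.FiniteType.out
    Module.Finite.fg_top
  haveI : Module.Finite A₀ B := ⟨hfin⟩
  have hsurj : Function.Surjective (π.restrictScalars A₀) := fun a => ⟨algebraMap A B a, hπ a⟩
  haveI : Module.Finite A₀ A := Module.Finite.of_surjective (π.restrictScalars A₀) hsurj
  haveI : Algebra.FiniteType R A₀ := (Subalgebra.fg_iff_finiteType A₀).1 hfg
  exact Algebra.FiniteType.trans (S := A₀) inferInstance inferInstance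


/-- retracts of pseudo-coherent modules are pseudo-coherent. -/
theorem isPseudoCoherentModule'_of_retract {P : Type u} [CommRing P] {M N : Type u}
    [AddCommGroup M] [Module P M] [AddCommGroup N] [Module P N] (i : M →ₗ[P] N) (r : N →ₗ[P] M)
    (hri : r ∘ₗ i = LinearMap.id) (hN : DRing.IsPseudoCoherentModule' P N) :
    DRing.IsPseudoCoherentModule' P M := by
  unfold DRing.IsPseudoCoherentModule' at *
  rw [isPseudoCoherent'_iff_npc] at *
  intro m
  let iC : ModuleCat.of P M ⟶ ModuleCat.of P N := ModuleCat.ofHom i
  let rC : ModuleCat.of P N ⟶ ModuleCat.of P M := ModuleCat.ofHom r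
  have hC : iC ≫ rC = 𝟙 _ := by
    ext x
    exact LinearMap.congr_fun hri x
  haveI : IsSplitMono iC := ⟨⟨⟨rC, hC⟩⟩⟩
  have hc := isBilimitBinaryBiconeOfIsSplitMonoOfCokernel (cokernelIsCokernel iC)
  let e : ModuleCat.of P N ≅ ModuleCat.of P M ⊞ cokernel iC := biprod.uniqueUpToIso _ _ hc
  have h1 := (hN m).of_iso ((DerivedCategory.singleFunctor _ 0).mapIso e)
  haveI : PreservesBinaryBiproducts (DerivedCategory.singleFunctor (ModuleCat.{u} P) 0) :=
    preservesBinaryBiproducts_of_preservesBiproducts _
  have h2 := h1.of_iso ((DerivedCategory.singleFunctor (ModuleCat.{u} P) 0).mapBiprod _ _)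
  exact ((NPC.biprod_iff (FF P) (FF_sum P) (FF_hqs P) (FF_hql P) m _ _).1 h2).1


set_option maxHeartbeats 1000000 in
set_option synthInstance.maxHeartbeats 200000 in
/-- algebra form of finite locally free source descent. -/
theorem pch_of_finite_flat_cover {R A B : Type u} [CommRing R] [CommRing A] [CommRing B]
    [Algebra R A] [Algebra A B] [Algebra R B] [IsScalarTower R A B]
    [Module.Finite A B] [Module.Flat A B] [Algebra.FinitePresentation A B]
    (hs : Function.Surjective (PrimeSpectrum.comap (algebraMap A B)))
    (h : PCH (algebraMap R B)) : PCH (algebraMap R A) := by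
  haveI : Module.FaithfullyFlat A B := Module.FaithfullyFlat.of_comap_surjective hs
  obtain ⟨π, hπ⟩ := exists_retraction_of_finite_faithfullyFlat (A := A) (B := B)
  haveI : Algebra.FiniteType R B := finiteType_of_pch h
  haveI : Algebra.FiniteType R A := finiteType_of_finite_of_retraction π hπ
  obtain ⟨n, α, hα⟩ := exists_presentation (R := R) (A := A)
  letI : Algebra (MvPolynomial (Fin n) R) A := α.toRingHom.toAlgebra
  haveI : IsScalarTower R (MvPolynomial (Fin n) R) A :=
    IsScalarTower.of_algebraMap_eq' α.comp_algebraMap.symm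
  have hPA : Function.Surjective (algebraMap (MvPolynomial (Fin n) R) A) := hα
  letI : Algebra (MvPolynomial (Fin n) R) B :=
    ((algebraMap A B).comp (algebraMap (MvPolynomial (Fin n) R) A)).toAlgebra
  haveI : IsScalarTower (MvPolynomial (Fin n) R) A B := IsScalarTower.of_algebraMap_eq' rfl
  haveI : IsScalarTower R (MvPolynomial (Fin n) R) B := by
    refine IsScalarTower.of_algebraMap_eq' ?_
    rw [IsScalarTower.algebraMap_eq R A B, IsScalarTower.algebraMap_eq R (MvPolynomial (Fin n) R) A,
      ← RingHom.comp_assoc]
    rfl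
  have hPB : PCH (algebraMap (MvPolynomial (Fin n) R) B) := by
    refine pch_cancel (algebraMap R (MvPolynomial (Fin n) R)) _ pch_of_flat_fp ?_
    rwa [← IsScalarTower.algebraMap_eq]
  haveI : Module.Finite (MvPolynomial (Fin n) R) A :=
    Module.Finite.of_surjective (Algebra.linearMap _ A) hPA
  haveI : Module.Finite (MvPolynomial (Fin n) R) B := Module.Finite.trans A B
  have hB : DRing.IsPseudoCoherentModule' (MvPolynomial (Fin n) R) B :=
    Groth.Agent.Lib.helper3.PCFin.pch_iff_isPseudoCoherentModule'_of_finite.1 hPB
  have hA : DRing.IsPseudoCoherentModule' (MvPolynomial (Fin n) R) A :=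
    isPseudoCoherentModule'_of_retract
      ((Algebra.linearMap A B).restrictScalars (MvPolynomial (Fin n) R))
      (π.restrictScalars (MvPolynomial (Fin n) R))
      (by ext; simp [hπ]) hB
  have hPA' : PCH (algebraMap (MvPolynomial (Fin n) R) A) :=
    Groth.Agent.Lib.helper3.PCFin.pch_iff_isPseudoCoherentModule'_of_finite.2 hA
  have := pch_comp _ _ (pch_of_flat_fp (A := R) (B := MvPolynomial (Fin n) R)) hPA'
  rwa [← IsScalarTower.algebraMap_eq] at this

/-- **Finite locally free source descent for pseudo-coherent ring maps.** -/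
theorem pch_of_finite_flat_comp {R A B : Type u} [CommRing R] [CommRing A] [CommRing B]
    (φ : R →+* A) (ψ : A →+* B) (hfin : ψ.Finite) (hflat : ψ.Flat) (hfp : ψ.FinitePresentation)
    (hs : Function.Surjective (PrimeSpectrum.comap ψ)) (h : PCH (ψ.comp φ)) : PCH φ := by
  algebraize [φ, ψ, ψ.comp φ]
  exact pch_of_finite_flat_cover (R := R) (A := A) (B := B) hs h

end Groth.Agent.Lib.helper13.SrcDesc
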