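import Groth.Agent.Lib.Helper13.SrcDesc3
import Groth.Agent.Lib.Helper13.SrcDesc4
import Groth.Agent.Lib.Helper3.PCHom3

/-!
# helper13: source descent for pseudo-coherent morphisms of schemes

* `descend_source'`: the étale source descent reduction of `Groth.Agent.S1179.descend_source` without the
  base change hypothesis.
-/

set_option autoImplicit false
open CategoryTheory CategoryTheory.Limits AlgebraicGeometry Opposite
universe u

namespace Groth.Agent.Lib.helper13.SrcDesc

open TensorProduct TopologicalSpace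

set_option maxHeartbeats 1000000
set_option synthInstance.maxHeartbeats 200000

theorem descend_source' {P : MorphismProperty Scheme.{u}}
    {Q : ∀ {R S : Type u} [CommRing R] [CommRing S], (R →+* S) → Prop}
    [HasRingHomProperty P Q]
    (hQ : ∀ {R A B : Type u} [CommRing R] [CommRing A] [CommRing B] (φ : R →+* A) (ψ : A →+* B),
      ψ.Etale → Function.Surjective (PrimeSpectrum.comap ψ) → Q (ψ.comp φ) → Q φ)
    {X' X Y : Scheme.{u}} (f : X' ⟶ X) (g : X ⟶ Y) [Etale f] [Surjective f] (h : P (f ≫ g)) :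
    P g := by
  haveI : P.HasOfPostcompProperty @IsOpenImmersion :=
    hasOfPostcompProperty_isOpenImmersion_of_morphismRestrict P
      (fun f U hf => IsZariskiLocalAtTarget.restrict hf U)
  rw [HasRingHomProperty.iff_appLE (P := P)]
  intro V U e
  have hU : IsCompact (U.1 : Set X) := U.2.isCompact
  have hopen : IsOpenMap f := f.isOpenMap
  have hex : ∀ x : U.1, ∃ W : X'.Opens, IsAffineOpen W ∧ W ≤ f ⁻¹ᵁ U.1 ∧
      (x : X) ∈ f '' (W : Set X') := by
    intro x
    obtain ⟨x', hx'⟩ := f.surjective x.1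
    obtain ⟨W, hW, hxW, hle⟩ := Opens.isBasis_iff_nbhd.mp X'.isBasis_affineOpens
      (show x' ∈ f ⁻¹ᵁ U.1 from by
        show f x' ∈ U.1
        rw [hx']; exact x.2)
    exact ⟨W, hW, hle, x', hxW, hx'⟩
  choose W hWaff hWle hWmem using hex
  obtain ⟨t, ht⟩ := hU.elim_finite_subcover (fun x : U.1 => f '' (W x : Set X'))
    (fun x => hopen _ (W x).2) (fun x hx => Set.mem_iUnion.mpr ⟨⟨x, hx⟩, hWmem _⟩)
  have : ∀ i : t, IsAffine ((W i.1 : X'.Opens) : Scheme.{u}) := fun i => hWaff i.1
  let W' : Scheme.{u} := ∐ fun i : t => ((W i.1 : X'.Opens) : Scheme.{u})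
  let hh : W' ⟶ X' := Sigma.desc (fun i : t => (W i.1).ι)
  have hhet : Etale hh := IsZariskiLocalAtSource.sigmaDesc (P := @Etale) (fun i => inferInstance)
  let k : W' ⟶ X := hh ≫ f
  have hpt : ∀ w : W', ∃ (i : t) (w₀ : (W i.1 : X'.Opens)), hh w = (w₀ : X') := by
    intro w
    obtain ⟨⟨i, w₀⟩, rfl⟩ := (sigmaMk (fun i : t => ((W i.1 : X'.Opens) : Scheme.{u}))).surjective w
    refine ⟨i, w₀, ?_⟩
    rw [sigmaMk_mk, ← Scheme.Hom.comp_apply, Sigma.ι_desc]
    rfl
  have hrange : Set.range k ⊆ Set.range U.1.ι := by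
    rintro _ ⟨w, rfl⟩
    obtain ⟨i, w₀, hw⟩ := hpt w
    rw [Scheme.Opens.range_ι]
    show f (hh w) ∈ U.1
    rw [hw]
    exact hWle i.1 w₀.2
  let k' : W' ⟶ U.1 := IsOpenImmersion.lift U.1.ι k hrange
  have hk' : k' ≫ U.1.ι = k := IsOpenImmersion.lift_fac _ _ _
  have hk'et : Etale k' := by
    apply MorphismProperty.of_postcomp (W := @Etale) (W' := @IsOpenImmersion) k' U.1.ι inferInstance
    rw [hk']
    infer_instance
  have hk'surj : Surjective k' := by
    constructor
    intro u
    have hu : (U.1.ι u : X) ∈ (U.1 : Set X) := u.2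
    obtain ⟨x, hx⟩ := Set.mem_iUnion.mp (ht hu)
    obtain ⟨hxt, w₀, hw₀, hfw₀⟩ := Set.mem_iUnion.mp hx
    refine ⟨Sigma.ι (fun i : t => ((W i.1 : X'.Opens) : Scheme.{u})) ⟨x, hxt⟩ ⟨w₀, hw₀⟩, ?_⟩
    apply U.1.ι.isOpenEmbedding.injective
    rw [← Scheme.Hom.comp_apply, hk', ← Scheme.Hom.comp_apply]
    show (Sigma.ι _ _ ≫ hh ≫ f) _ = _
    rw [Sigma.ι_desc_assoc]
    exact hfw₀
  have : IsAffine (U.1 : Scheme.{u}) := U.2
  have : IsAffine (V.1 : Scheme.{u}) := V.2
  have hP : P (k' ≫ g.resLE V.1 U.1 e) := by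
    apply MorphismProperty.of_postcomp (W := P) (W' := @IsOpenImmersion) _ V.1.ι inferInstance
    rw [Category.assoc, Scheme.Hom.resLE_comp_ι, reassoc_of% hk']
    have : k ≫ g = Sigma.desc (fun i : t => (W i.1).ι ≫ f ≫ g) := by
      apply Sigma.hom_ext
      intro i
      simp [k, hh]
    rw [this]
    exact IsZariskiLocalAtSource.sigmaDesc (P := P) (fun i => IsZariskiLocalAtSource.comp h _)
  have hg' : P (g.resLE V.1 U.1 e) := Groth.Agent.S1179.descend_affine hQ k' _ hP
  rw [HasRingHomProperty.iff_of_isAffine (P := P)] at hg'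
  have : (RingHom.toMorphismProperty Q).RespectsIso :=
    RingHom.toMorphismProperty_respectsIso_iff.mp
      (HasRingHomProperty.isLocal_ringHomProperty P).respectsIso
  exact (MorphismProperty.arrow_mk_iso_iff (RingHom.toMorphismProperty Q)
    (arrowResLEAppIso g V.1 U.1 e)).mp hg'



open Groth.Agent.Lib.helper3.PCHomLoc

/-- pseudo-coherent morphisms descend along étale surjections on the source. -/
theorem pcMor_of_etale_comp {X' X Y : Scheme.{u}} (f : X' ⟶ X) (g : X ⟶ Y) [Etale f] [Surjective f]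
    (h : MoreMor.IsPseudoCoherentMor (f ≫ g)) : MoreMor.IsPseudoCoherentMor g :=
  descend_source' (P := pcMor) (fun φ ψ hψ hs h => pch_of_etale_comp φ ψ hψ hs h) f g h

/-- cancellation for pseudo-coherent morphisms. -/
theorem pcMor_cancel {V X' X : Scheme.{u}} (k : V ⟶ X') (a : X' ⟶ X)
    (ha : MoreMor.IsPseudoCoherentMor a) (hka : MoreMor.IsPseudoCoherentMor (k ≫ a)) :
    MoreMor.IsPseudoCoherentMor k := by
  rw [isPseudoCoherentMor_iff_exists]
  intro v
  obtain ⟨UX, hUX, hvUX, -⟩ := exists_isAffineOpen_mem_and_subset (x := a (k v)) (U := ⊤) trivial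
  obtain ⟨U', hU', hvU', hle'⟩ :=
    exists_isAffineOpen_mem_and_subset (x := k v) (U := a ⁻¹ᵁ UX) hvUX
  obtain ⟨W, hW, hvW, hleW⟩ :=
    exists_isAffineOpen_mem_and_subset (x := v) (U := k ⁻¹ᵁ U') hvU'
  refine ⟨⟨U', hU'⟩, ⟨W, hW⟩, hvW, hleW, ?_⟩
  have h1 : PCH (a.appLE UX U' hle').hom := pch_appLE a ha hU' hUX hle'
  have h2 := pch_appLE (k ≫ a) hka hW hUX
    (hleW.trans ((Opens.map k.base).map (homOfLE hle')).le)
  rw [← Scheme.Hom.appLE_comp_appLE k a UX U' W hle' hleW] at h2
  exact pch_cancel _ _ h1 h2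

/-- finite locally free source descent: the all-affine case. -/
theorem pcMor_of_finite_flat_comp_affine {W U V : Scheme.{u}} [IsAffine W] [IsAffine U] [IsAffine V]
    (k : W ⟶ U) (g : U ⟶ V) [IsFinite k] [Flat k] [LocallyOfFinitePresentation k] [Surjective k]
    (h : pcMor (k ≫ g)) : pcMor g := by
  rw [HasRingHomProperty.iff_of_isAffine (P := pcMor)] at h ⊢
  have hfin : k.appTop.hom.Finite := k.finite_appTop
  have hflat : k.appTop.hom.Flat :=
    (HasRingHomProperty.iff_of_isAffine (P := @Flat)).mp inferInstance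
  have hfp : k.appTop.hom.FinitePresentation :=
    (HasRingHomProperty.iff_of_isAffine (P := @LocallyOfFinitePresentation)).mp inferInstance
  refine pch_of_finite_flat_comp g.appTop.hom k.appTop.hom hfin hflat hfp ?_ ?_
  · have h1 : Function.Surjective (Spec.map k.appTop) := by
      have : Spec.map k.appTop = W.isoSpec.inv ≫ k ≫ U.isoSpec.hom := by
        rw [← Scheme.isoSpec_hom_naturality, Iso.inv_hom_id_assoc]
      rw [this]
      simp only [Scheme.Hom.comp_base, TopCat.hom_comp, ContinuousMap.coe_comp]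
      exact (U.isoSpec.hom.homeomorph.surjective.comp k.surjective).comp
        W.isoSpec.inv.homeomorph.surjective
    exact h1
  · rw [Scheme.Hom.comp_appTop] at h
    exact h

/-- pseudo-coherent morphisms descend along finite locally free surjections on the source. -/
theorem pcMor_of_finite_flat_comp {V U Y : Scheme.{u}} (r : V ⟶ U) (g : U ⟶ Y) [IsFinite r] [Flat r]
    [LocallyOfFinitePresentation r] [Surjective r]
    (h : MoreMor.IsPseudoCoherentMor (r ≫ g)) : MoreMor.IsPseudoCoherentMor g := by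
  haveI : pcMor.HasOfPostcompProperty @IsOpenImmersion :=
    hasOfPostcompProperty_isOpenImmersion_of_morphismRestrict pcMor
      (fun f U hf => IsZariskiLocalAtTarget.restrict hf U)
  show pcMor g
  rw [HasRingHomProperty.iff_appLE (P := pcMor)]
  intro VY U0 e
  have : IsAffine (U0.1 : Scheme.{u}) := U0.2
  have : IsAffine (VY.1 : Scheme.{u}) := VY.2
  haveI : IsAffine ((r ⁻¹ᵁ U0.1 : V.Opens) : Scheme.{u}) := U0.2.preimage r
  haveI : Surjective (r ∣_ U0.1) :=
    IsZariskiLocalAtTarget.restrict (P := @Surjective) (inferInstance : Surjective r) U0.1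
  have hP : pcMor ((r ∣_ U0.1) ≫ g.resLE VY.1 U0.1 e) := by
    apply MorphismProperty.of_postcomp (W := pcMor) (W' := @IsOpenImmersion) _ VY.1.ι inferInstance
    rw [Category.assoc, Scheme.Hom.resLE_comp_ι, morphismRestrict_ι_assoc]
    exact IsZariskiLocalAtSource.comp (P := pcMor) h _
  have hg' : pcMor (g.resLE VY.1 U0.1 e) := pcMor_of_finite_flat_comp_affine (r ∣_ U0.1) _ hP
  rw [HasRingHomProperty.iff_of_isAffine (P := pcMor)] at hg'
  have : (RingHom.toMorphismProperty @PCH).RespectsIso :=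
    RingHom.toMorphismProperty_respectsIso_iff.mp
      (HasRingHomProperty.isLocal_ringHomProperty pcMor).respectsIso
  exact (MorphismProperty.arrow_mk_iso_iff (RingHom.toMorphismProperty @PCH)
    (arrowResLEAppIso g VY.1 U0.1 e)).mp hg'

end Groth.Agent.Lib.helper13.SrcDesc
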