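import Groth.Agent.Lib.Helper13.SrcDesc5
import Groth.Agent.Lib.Helper1.FppfRed2
import Groth.Agent.Lib.Helper5.EtaleLocalSource
import Groth.Agent.Lib.Helper3.PerfHom4
import Groth.Agent.S7172
import Groth.Agent.S1504

/-!
# helper13: pseudo-coherent morphisms are fppf local on the source
-/

set_option autoImplicit false
open CategoryTheory CategoryTheory.Limits AlgebraicGeometry Opposite
universe u

namespace Groth.Agent.Lib.helper13.SrcDesc

open Groth.Agent.Lib.helper3.PCHomLoc Groth.Agent.Lib.helper3.PerfHomLoc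

/-- flat morphisms locally of finite presentation are pseudo-coherent. -/
theorem pcMor_of_flat_lfp {X S : Scheme.{u}} (f : X ⟶ S) [Flat f] [LocallyOfFinitePresentation f] :
    MoreMor.IsPseudoCoherentMor f :=
  isPseudoCoherentMor_of_isPerfectMor f (Groth.Agent.S7172.result f)

/-- **fppf source descent for pseudo-coherent morphisms.** -/
theorem pcMor_of_fppf_comp {X X' S : Scheme.{u}} (f : X ⟶ S) (a : X' ⟶ X) [Flat a] [Surjective a]
    [LocallyOfFinitePresentation a] (h : MoreMor.IsPseudoCoherentMor (a ≫ f)) :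
    MoreMor.IsPseudoCoherentMor f := by
  have key : ∀ x : X, ∃ O : X.Opens, x ∈ O ∧ MoreMor.IsPseudoCoherentMor (O.ι ≫ f) := by
    intro x
    obtain ⟨x', rfl⟩ := a.surjective x
    obtain ⟨U, V, e, r, k, he, hr1, hr2, hr3, hr4, hfac, hx⟩ :=
      Groth.Agent.H1.FppfRed.exists_local_finite_flat a x'
    haveI := he
    haveI := hr1
    haveI := hr2
    haveI := hr3
    haveI := hr4
    have ha : MoreMor.IsPseudoCoherentMor a := pcMor_of_flat_lfp a
    have hre : MoreMor.IsPseudoCoherentMor (r ≫ e) := pcMor_of_flat_lfp (r ≫ e)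
    have hk : MoreMor.IsPseudoCoherentMor k := pcMor_cancel k a ha (hfac ▸ hre)
    have h1 : MoreMor.IsPseudoCoherentMor (k ≫ a ≫ f) := Groth.Agent.S1504.result k (a ≫ f) hk h
    have h2 : MoreMor.IsPseudoCoherentMor (r ≫ e ≫ f) := by
      rw [← Category.assoc, ← hfac, Category.assoc]
      exact h1
    have h3 : MoreMor.IsPseudoCoherentMor (e ≫ f) := pcMor_of_finite_flat_comp r (e ≫ f) h2
    obtain ⟨O, e', he', hEt, hSurj, hrange⟩ := Groth.Agent.Lib.helper5.EtLocSrc.exists_corestrict e
    haveI := hEt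
    haveI := hSurj
    have h4 : MoreMor.IsPseudoCoherentMor (e' ≫ O.ι ≫ f) := by
      rw [← Category.assoc, he']
      exact h3
    refine ⟨O, ?_, pcMor_of_etale_comp e' (O.ι ≫ f) h4⟩
    rw [← SetLike.mem_coe, hrange]
    exact hx
  choose O hxO hO using key
  have hcov : iSup O = ⊤ := by
    rw [eq_top_iff]
    intro x _
    exact TopologicalSpace.Opens.mem_iSup.2 ⟨x, hxO x⟩
  exact (IsZariskiLocalAtSource.iff_of_iSup_eq_top (P := pcMor) (f := f) O hcov).2 hO

end Groth.Agent.Lib.helper13.SrcDesc
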