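import Mathlib
import Groth.Agent.Lib.Helper13.TorLow3
import Groth.Agent.Lib.Helper23.ExtSc2

/-!
# Tor amplitude and faithfully flat base change on the source (helper13)

* `hasTorAmplitudeIn_of_forall_exactAt_imp`: transfer of tor amplitude from `X` to `Y` when
  exactness of `X` / `X ⊗ F` implies exactness of `Y` / `Y ⊗ F`.
* `exactAt_extCx_iff_of_faithfullyFlat`: extension of scalars along a faithfully flat map
  preserves and reflects exactness.
* `hasTorAmplitudeIn_res_ext_iff`: `R → A → B` with `A → B` faithfully flat, `K` a complex of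
  `A`-modules: `K|_R` has tor amplitude in `[a, b]` iff `(B ⊗_A K)|_R` has.
-/

set_option autoImplicit false
universe u
open CategoryTheory Limits HomologicalComplex MonoidalCategory

attribute [local instance] HasDerivedCategory.standard

namespace Groth.Agent.Lib.helper13.TorLow

open Groth.Agent.Lib.helper13.KFlat Groth.Agent.Lib.helper13.LTenCx
  Groth.Agent.Lib.helper23.TA Groth.Agent.Lib.helper13.ExtKFlat

/-- transfer of tor amplitude along tensor-exactness implications -/
theorem hasTorAmplitudeIn_of_forall_exactAt_imp {R : Type u} [CommRing R] (X Y : DRing.Cx R)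
    (a b : ℤ) (h1 : ∀ i : ℤ, b < i → X.ExactAt i → Y.ExactAt i)
    (h2 : ∀ (F : DRing.Cx R) (j : ℤ), IsKFlatR F → (X ⊗ F).ExactAt j → (Y ⊗ F).ExactAt j)
    (hX : DRing.HasTorAmplitudeIn R a b (DRing.toD X)) :
    DRing.HasTorAmplitudeIn R a b (DRing.toD Y) := by
  refine hasTorAmplitudeIn_of_exactAt_tensor Y a b
    (fun i hi => h1 i hi (exactAt_of_hasTorAmplitudeIn X a b hX i (Or.inr hi))) ?_
  intro N F f hF hf j hj
  haveI : QuasiIso f := hf
  exact h2 F j hF (exactAt_tensor_of_hasTorAmplitudeIn X a b hX F _ hF f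
    (fun q hq => HomologicalComplex.isZero_single_obj_X (ComplexShape.up ℤ) 0 N q hq) j hj)

section FF

variable {A B : Type u} [CommRing A] [CommRing B] [Algebra A B] [Module.FaithfullyFlat A B]

/-- extension of scalars along a faithfully flat map preserves and reflects exactness -/
theorem exactAt_extCx_iff_of_faithfullyFlat (M : DRing.Cx A) (j : ℤ) :
    ((extCx (algebraMap A B)).obj M).ExactAt j ↔ M.ExactAt j := by
  have hflat : (algebraMap A B).Flat := by
    rw [RingHom.flat_algebraMap_iff]
    infer_instance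
  constructor
  · intro h
    refine exactAt_of_exactAt_extend_family (ι := Unit) (B := fun _ => B)
      (fun _ => algebraMap A B) (fun _ => hflat) ?_ M j (fun _ => h)
    intro N hN
    haveI := (Groth.Agent.Lib.helper23.ExtSc.subsingleton_extend_iff (B := B) N).1 (hN ())
    exact Module.FaithfullyFlat.lTensor_reflects_triviality A B N
  · intro h
    haveI := Groth.Agent.Lib.helper23.ExtSc.preservesFiniteLimits_extendScalars
      (algebraMap A B) hflat
    haveI := Groth.Agent.Lib.helper23.ExtSc.preservesFiniteColimits_extendScalars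
      (algebraMap A B)
    exact ShortComplex.Exact.map h (ModuleCat.extendScalars.{u, u, u} (algebraMap A B))

variable {R : Type u} [CommRing R] [Algebra R A] [Algebra R B] [IsScalarTower R A B]

/-- `(B ⊗_A (K ⊗_A (A ⊗_R F))) ≅ (B ⊗_A K) ⊗_B (B ⊗_R F)` -/
noncomputable def extTenExtIso (K : DRing.Cx A) (F : DRing.Cx R) :
    (extCx (algebraMap A B)).obj (K ⊗ (extCx (algebraMap R A)).obj F) ≅
      ((extCx (algebraMap A B)).obj K) ⊗ (extCx (algebraMap R B)).obj F :=
  DTen.extTenCxIso (algebraMap A B) K ((extCx (algebraMap R A)).obj F) ≪≫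
    whiskerLeftIso ((extCx (algebraMap A B)).obj K)
      ((DTen.extCompCx (algebraMap R A) (algebraMap A B)).app F ≪≫
        eqToIso (by rw [← IsScalarTower.algebraMap_eq R A B]))

theorem exactAt_res_tensor_iff_res_ext_tensor (K : DRing.Cx A) (F : DRing.Cx R) (j : ℤ) :
    (((resCx (algebraMap R A)).obj K) ⊗ F).ExactAt j ↔
      (((resCx (algebraMap R B)).obj ((extCx (algebraMap A B)).obj K)) ⊗ F).ExactAt j := by
  rw [exactAt_res_tensor_iff, exactAt_res_tensor_iff,
    ← exactAt_extCx_iff_of_faithfullyFlat (B := B) (K ⊗ (extCx (algebraMap R A)).obj F) j]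
  exact ⟨exactAt_of_iso (extTenExtIso K F) j, exactAt_of_iso (extTenExtIso K F).symm j⟩

theorem exactAt_res_iff_res_ext (K : DRing.Cx A) (j : ℤ) :
    ((resCx (algebraMap R A)).obj K).ExactAt j ↔
      ((resCx (algebraMap R B)).obj ((extCx (algebraMap A B)).obj K)).ExactAt j := by
  have hres : ∀ {S T : Type u} [CommRing S] [CommRing T] (g : S →+* T) (M : DRing.Cx T) (i : ℤ),
      ((resCx g).obj M).ExactAt i ↔ M.ExactAt i := by
    intro S T _ _ g M i
    rw [exactAt_iff_isZero_homology, exactAt_iff_isZero_homology]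
    exact isZero_homology_map_iff (ModuleCat.restrictScalars.{u} g) M i
  rw [hres, hres, exactAt_extCx_iff_of_faithfullyFlat]

/-- `R → A → B` with `A → B` faithfully flat: `K|_R` has tor amplitude in `[a, b]` iff
`(B ⊗_A K)|_R` has -/
theorem hasTorAmplitudeIn_res_ext_iff (K : DRing.Cx A) (a b : ℤ) :
    DRing.HasTorAmplitudeIn R a b (DRing.toD ((resCx (algebraMap R A)).obj K)) ↔
      DRing.HasTorAmplitudeIn R a b
        (DRing.toD ((resCx (algebraMap R B)).obj ((extCx (algebraMap A B)).obj K))) :=
  ⟨hasTorAmplitudeIn_of_forall_exactAt_imp _ _ a b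
      (fun i _ => (exactAt_res_iff_res_ext K i).1)
      (fun F j _ => (exactAt_res_tensor_iff_res_ext_tensor K F j).1),
    hasTorAmplitudeIn_of_forall_exactAt_imp _ _ a b
      (fun i _ => (exactAt_res_iff_res_ext K i).2)
      (fun F j _ => (exactAt_res_tensor_iff_res_ext_tensor K F j).2)⟩

end FF

end Groth.Agent.Lib.helper13.TorLow
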