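import Groth.Agent.Lib.Helper13.SrcDesc3
import Groth.Agent.Lib.Helper3.PerfHom4
import Groth.Agent.Lib.Helper13.TorLow6
import Groth.Agent.Lib.Helper3.PCBC2

/-!
# helper13: finite tor dimension descends along fppf covers of the source (ring level)
-/

set_option autoImplicit false
universe u
open TensorProduct CategoryTheory CategoryTheory.Limits

attribute [local instance] HasDerivedCategory.standard
attribute [local instance] Algebra.TensorProduct.rightAlgebra

namespace Groth.Agent.Lib.helper13.SrcDesc

open Groth.Agent.Lib.helper3.PCHomLoc Groth.Agent.Lib.helper3.PerfHomLoc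
open Groth.Agent.Lib.helper13.TorLow Groth.Agent.Lib.helper23.TA Groth.Agent.Lib.helper13.ExtKFlat

/-- tor dimension descends along a faithfully flat map on the source. -/
theorem ftdle_of_faithfullyFlat_cover {R A B : Type u} [CommRing R] [CommRing A] [CommRing B]
    [Algebra R A] [Algebra A B] [Algebra R B] [IsScalarTower R A B] [Module.FaithfullyFlat A B]
    (d : ℕ) (h : FTDLE (algebraMap R B) d) : FTDLE (algebraMap R A) d := by
  have key := (hasTorAmplitudeIn_res_ext_iff (R := R) (A := A) (B := B) (KS A) (-(d : ℤ)) 0).2 ?_
  · exact hasTorAmplitudeIn_of_iso (resKSIso (algebraMap R A)) key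
  · refine hasTorAmplitudeIn_of_iso ?_ h
    exact (resKSIso _).symm ≪≫ DerivedCategory.Q.mapIso
      ((resCx (algebraMap R B)).mapIso (extKSIso (algebraMap A B)).symm)

open Groth.Agent.Lib.helper3.PCBC

/-- finite tor dimension near every prime implies finite tor dimension. -/
theorem ftd_of_forall_prime {R A : Type u} [CommRing R] [CommRing A] [Algebra R A]
    (h : ∀ q : PrimeSpectrum A, ∃ a : A, a ∉ q.asIdeal ∧
      FTD (algebraMap R (Localization.Away a))) : FTD (algebraMap R A) := by
  let S : Set A := {a | FTD (algebraMap R (Localization.Away a))}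
  have hS : Ideal.span S = ⊤ := by
    by_contra hne
    obtain ⟨m, hm, hle⟩ := Ideal.exists_le_maximal _ hne
    obtain ⟨a, ha, hpc⟩ := h ⟨m, hm.isPrime⟩
    exact ha (hle (Ideal.subset_span hpc))
  obtain ⟨s, hsS, hs⟩ := (Ideal.span_eq_top_iff_finite S).1 hS
  refine ftd_of_finite_span_target _ s hs (fun r => ?_)
  have hr : FTD (algebraMap R (Localization.Away (r : A))) := hsS r.2
  rwa [IsScalarTower.algebraMap_eq R A (Localization.Away (r : A))] at hr

set_option maxHeartbeats 1000000 in
set_option synthInstance.maxHeartbeats 200000 in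
/-- local form: around the image of a prime of `B`. -/
theorem exists_ftd_away_of_flat {R A B : Type u} [CommRing R] [CommRing A] [CommRing B]
    [Algebra R A] [Algebra A B] [Algebra R B] [IsScalarTower R A B] [Module.Flat A B]
    [Algebra.FinitePresentation A B] (h : FTD (algebraMap R B)) (b : PrimeSpectrum B) :
    ∃ a : A, a ∉ (PrimeSpectrum.comap (algebraMap A B) b).asIdeal ∧
      FTD (algebraMap R (Localization.Away a)) := by
  have hopen : IsOpen (Set.range (PrimeSpectrum.comap (algebraMap A B))) :=
    PrimeSpectrum.isOpenMap_comap_of_hasGoingDown_of_finitePresentation.isOpen_range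
  have hq : PrimeSpectrum.comap (algebraMap A B) b ∈
      Set.range (PrimeSpectrum.comap (algebraMap A B)) := ⟨b, rfl⟩
  obtain ⟨_, ⟨_, ⟨a, rfl⟩, rfl⟩, haq, haW⟩ :=
    PrimeSpectrum.isBasis_basic_opens.exists_subset_of_mem_open hq hopen
  refine ⟨a, haq, ?_⟩
  haveI : Module.FaithfullyFlat (Localization.Away a) (Localization.Away a ⊗[A] B) := by
    refine Module.FaithfullyFlat.of_comap_surjective ?_
    intro l
    have h1 := Groth.Agent.S1179.range_comap_tensor A (Localization.Away a) B
    have h2 : l ∈ Set.range (PrimeSpectrum.comap (algebraMap (Localization.Away a)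
        (Localization.Away a ⊗[A] B))) := by
      rw [h1]
      apply haW
      have h4 := PrimeSpectrum.localization_away_comap_range (Localization.Away a) a
      have h3 : PrimeSpectrum.comap (algebraMap A (Localization.Away a)) l ∈
          Set.range (PrimeSpectrum.comap (algebraMap A (Localization.Away a))) := ⟨l, rfl⟩
      rw [h4] at h3
      exact h3
    exact h2
  obtain ⟨d, hd⟩ := h
  have hfl : (algebraMap A (Localization.Away a)).Flat := by
    rw [RingHom.flat_algebraMap_iff]
    exact IsLocalization.flat (Localization.Away a) (Submonoid.powers a)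
  have h1 : FTDLE (algebraMap B (Localization.Away a ⊗[A] B)) 0 :=
    ftdle_baseChange (R := A) (S := Localization.Away a) (R' := B)
      (S' := Localization.Away a ⊗[A] B) (ftdle_of_flat _ hfl)
  have h2 := ftdle_comp _ _ hd h1
  have h3 : FTDLE (algebraMap R (Localization.Away a ⊗[A] B)) d := by
    rw [zero_add] at h2
    convert h2 using 1
    ext r
    simp only [RingHom.comp_apply, Algebra.TensorProduct.algebraMap_apply,
      Algebra.TensorProduct.right_algebraMap_apply]
    rw [IsScalarTower.algebraMap_apply R A B, IsScalarTower.algebraMap_apply R A (Localization.Away a)]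
    rw [Algebra.algebraMap_eq_smul_one (algebraMap R A r),
      Algebra.algebraMap_eq_smul_one (A := B) (algebraMap R A r), TensorProduct.smul_tmul]
  exact ⟨d, ftdle_of_faithfullyFlat_cover (A := Localization.Away a)
    (B := Localization.Away a ⊗[A] B) d h3⟩

/-- **fppf source descent for finite tor dimension of ring maps.** -/
theorem ftd_of_flat_comp {R A B : Type u} [CommRing R] [CommRing A] [CommRing B]
    (φ : R →+* A) (ψ : A →+* B) (hflat : ψ.Flat) (hfp : ψ.FinitePresentation)
    (hs : Function.Surjective (PrimeSpectrum.comap ψ)) (h : FTD (ψ.comp φ)) : FTD φ := by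
  algebraize [φ, ψ, ψ.comp φ]
  refine ftd_of_forall_prime (R := R) (A := A) (fun q => ?_)
  obtain ⟨b, hb⟩ := hs q
  obtain ⟨a, ha, hpc⟩ := exists_ftd_away_of_flat (R := R) (A := A) (B := B) h b
  refine ⟨a, ?_, hpc⟩
  have hb' : PrimeSpectrum.comap (algebraMap A B) b = q := hb
  rwa [hb'] at ha

end Groth.Agent.Lib.helper13.SrcDesc
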