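import Groth.Agent.Lib.Helper13.SrcDesc6
import Groth.Agent.Lib.Helper13.SrcDesc7
import Groth.Agent.S1508

/-!
# helper13: perfect morphisms are fppf local on the source
-/

set_option autoImplicit false
open CategoryTheory CategoryTheory.Limits AlgebraicGeometry Opposite
universe u

namespace Groth.Agent.Lib.helper13.SrcDesc

open TensorProduct TopologicalSpace

set_option maxHeartbeats 1000000
set_option synthInstance.maxHeartbeats 200000

/-- all-affine case -/
theorem descend_affine_fppf {P : MorphismProperty Scheme.{u}}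
    {Q : ∀ {R S : Type u} [CommRing R] [CommRing S], (R →+* S) → Prop}
    [HasRingHomProperty P Q]
    (hQ : ∀ {R A B : Type u} [CommRing R] [CommRing A] [CommRing B] (φ : R →+* A) (ψ : A →+* B),
      ψ.Flat → ψ.FinitePresentation → Function.Surjective (PrimeSpectrum.comap ψ) →
        Q (ψ.comp φ) → Q φ)
    {W U V : Scheme.{u}} [IsAffine W] [IsAffine U] [IsAffine V] (k : W ⟶ U) (g : U ⟶ V)
    [Flat k] [LocallyOfFinitePresentation k] [Surjective k] (h : P (k ≫ g)) : P g := by
  rw [HasRingHomProperty.iff_of_isAffine (P := P)] at h ⊢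
  have hk : k.appTop.hom.Flat := (HasRingHomProperty.iff_of_isAffine (P := @Flat)).mp inferInstance
  have hk2 : k.appTop.hom.FinitePresentation :=
    (HasRingHomProperty.iff_of_isAffine (P := @LocallyOfFinitePresentation)).mp inferInstance
  refine hQ g.appTop.hom k.appTop.hom hk hk2 ?_ ?_
  · have h1 : Function.Surjective (Spec.map k.appTop) := by
      have : Spec.map k.appTop = W.isoSpec.inv ≫ k ≫ U.isoSpec.hom := by
        rw [← Scheme.isoSpec_hom_naturality, Iso.inv_hom_id_assoc]
      rw [this]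
      simp only [Scheme.Hom.comp_base, TopCat.hom_comp, ContinuousMap.coe_comp]
      exact (U.isoSpec.hom.homeomorph.surjective.comp k.surjective).comp
        W.isoSpec.inv.homeomorph.surjective
    exact h1
  · rw [Scheme.Hom.comp_appTop] at h
    exact h

theorem descend_source_fppf {P : MorphismProperty Scheme.{u}}
    {Q : ∀ {R S : Type u} [CommRing R] [CommRing S], (R →+* S) → Prop}
    [HasRingHomProperty P Q]
    (hQ : ∀ {R A B : Type u} [CommRing R] [CommRing A] [CommRing B] (φ : R →+* A) (ψ : A →+* B),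
      ψ.Flat → ψ.FinitePresentation → Function.Surjective (PrimeSpectrum.comap ψ) →
        Q (ψ.comp φ) → Q φ)
    {X' X Y : Scheme.{u}} (f : X' ⟶ X) (g : X ⟶ Y) [Flat f] [LocallyOfFinitePresentation f]
    [Surjective f] (h : P (f ≫ g)) :
    P g := by
  haveI : P.HasOfPostcompProperty @IsOpenImmersion :=
    hasOfPostcompProperty_isOpenImmersion_of_morphismRestrict P
      (fun f U hf => IsZariskiLocalAtTarget.restrict hf U)
  rw [HasRingHomProperty.iff_appLE (P := P)]
  intro V U e
  have hU : IsCompact (U.1 : Set X) := U.2.isCompact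
  have hopen : IsOpenMap f := f.isOpenMap
  have hex : ∀ x : U.1, ∃ W : X'.Opens, IsAffineOpen W ∧ W ≤ f ⁻¹ᵁ U.1 ∧
      (x : X) ∈ f '' (W : Set X') := by
    intro x
    obtain ⟨x', hx'⟩ := f.surjective x.1
    obtain ⟨W, hW, hxW, hle⟩ := Opens.isBasis_iff_nbhd.mp X'.isBasis_affineOpens
      (show x' ∈ f ⁻¹ᵁ U.1 from by
        show f x' ∈ U.1
        rw [hx']; exact x.2)
    exact ⟨W, hW, hle, x', hxW, hx'⟩
  choose W hWaff hWle hWmem using hex
  obtain ⟨t, ht⟩ := hU.elim_finite_subcover (fun x : U.1 => f '' (W x : Set X'))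
    (fun x => hopen _ (W x).2) (fun x hx => Set.mem_iUnion.mpr ⟨⟨x, hx⟩, hWmem _⟩)
  have : ∀ i : t, IsAffine ((W i.1 : X'.Opens) : Scheme.{u}) := fun i => hWaff i.1
  let W' : Scheme.{u} := ∐ fun i : t => ((W i.1 : X'.Opens) : Scheme.{u})
  let hh : W' ⟶ X' := Sigma.desc (fun i : t => (W i.1).ι)
  have hhet : Flat hh := IsZariskiLocalAtSource.sigmaDesc (P := @Flat) (fun i => inferInstance)
  have hhfp : LocallyOfFinitePresentation hh :=
    IsZariskiLocalAtSource.sigmaDesc (P := @LocallyOfFinitePresentation) (fun i => inferInstance)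
  let k : W' ⟶ X := hh ≫ f
  have hpt : ∀ w : W', ∃ (i : t) (w₀ : (W i.1 : X'.Opens)), hh w = (w₀ : X') := by
    intro w
    obtain ⟨⟨i, w₀⟩, rfl⟩ := (sigmaMk (fun i : t => ((W i.1 : X'.Opens) : Scheme.{u}))).surjective w
    refine ⟨i, w₀, ?_⟩
    rw [sigmaMk_mk, ← Scheme.Hom.comp_apply, Sigma.ι_desc]
    rfl
  have hrange : Set.range k ⊆ Set.range U.1.ι := by
    rintro _ ⟨w, rfl⟩
    obtain ⟨i, w₀, hw⟩ := hpt w
    rw [Scheme.Opens.range_ι]
    show f (hh w) ∈ U.1
    rw [hw]
    exact hWle i.1 w₀.2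
  let k' : W' ⟶ U.1 := IsOpenImmersion.lift U.1.ι k hrange
  have hk' : k' ≫ U.1.ι = k := IsOpenImmersion.lift_fac _ _ _
  have hk'et : Flat k' := by
    apply MorphismProperty.of_postcomp (W := @Flat) (W' := @IsOpenImmersion) k' U.1.ι inferInstance
    rw [hk']
    infer_instance
  have hk'fp : LocallyOfFinitePresentation k' := by
    apply MorphismProperty.of_postcomp (W := @LocallyOfFinitePresentation)
      (W' := @IsOpenImmersion) k' U.1.ι inferInstance
    rw [hk']
    infer_instance
  have hk'surj : Surjective k' := by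
    constructor
    intro u
    have hu : (U.1.ι u : X) ∈ (U.1 : Set X) := u.2
    obtain ⟨x, hx⟩ := Set.mem_iUnion.mp (ht hu)
    obtain ⟨hxt, w₀, hw₀, hfw₀⟩ := Set.mem_iUnion.mp hx
    refine ⟨Sigma.ι (fun i : t => ((W i.1 : X'.Opens) : Scheme.{u})) ⟨x, hxt⟩ ⟨w₀, hw₀⟩, ?_⟩
    apply U.1.ι.isOpenEmbedding.injective
    rw [← Scheme.Hom.comp_apply, hk', ← Scheme.Hom.comp_apply]
    show (Sigma.ι _ _ ≫ hh ≫ f) _ = _
    rw [Sigma.ι_desc_assoc]
    exact hfw₀
  have : IsAffine (U.1 : Scheme.{u}) := U.2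
  have : IsAffine (V.1 : Scheme.{u}) := V.2
  have hP : P (k' ≫ g.resLE V.1 U.1 e) := by
    apply MorphismProperty.of_postcomp (W := P) (W' := @IsOpenImmersion) _ V.1.ι inferInstance
    rw [Category.assoc, Scheme.Hom.resLE_comp_ι, reassoc_of% hk']
    have : k ≫ g = Sigma.desc (fun i : t => (W i.1).ι ≫ f ≫ g) := by
      apply Sigma.hom_ext
      intro i
      simp [k, hh]
    rw [this]
    exact IsZariskiLocalAtSource.sigmaDesc (P := P) (fun i => IsZariskiLocalAtSource.comp h _)
  have hg' : P (g.resLE V.1 U.1 e) := descend_affine_fppf hQ k' _ hP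
  rw [HasRingHomProperty.iff_of_isAffine (P := P)] at hg'
  have : (RingHom.toMorphismProperty Q).RespectsIso :=
    RingHom.toMorphismProperty_respectsIso_iff.mp
      (HasRingHomProperty.isLocal_ringHomProperty P).respectsIso
  exact (MorphismProperty.arrow_mk_iso_iff (RingHom.toMorphismProperty Q)
    (arrowResLEAppIso g V.1 U.1 e)).mp hg'



open Groth.Agent.Lib.helper3.PCHomLoc Groth.Agent.Lib.helper3.PerfHomLoc

/-- morphisms which are affine-locally of finite tor dimension. -/
def ftdMor : MorphismProperty Scheme.{u} := affineLocally @FTD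

instance : HasRingHomProperty ftdMor.{u} @FTD where
  isLocal_ringHomProperty := ftd_isLocal
  eq_affineLocally' := rfl

theorem isPerfectMor_iff {X Y : Scheme.{u}} (f : X ⟶ Y) :
    MoreMor.IsPerfectMor f ↔ MoreMor.IsPseudoCoherentMor f ∧ ftdMor f := by
  show perfMor f ↔ pcMor f ∧ ftdMor f
  rw [HasRingHomProperty.iff_appLE (P := perfMor), HasRingHomProperty.iff_appLE (P := pcMor),
    HasRingHomProperty.iff_appLE (P := ftdMor)]
  constructor
  · intro h
    exact ⟨fun U V e => (h U V e).1, fun U V e => (h U V e).2⟩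
  · rintro ⟨h1, h2⟩ U V e
    exact ⟨h1 U V e, h2 U V e⟩

/-- **fppf source descent for perfect morphisms.** -/
theorem perfMor_of_fppf_comp {X X' S : Scheme.{u}} (f : X ⟶ S) (a : X' ⟶ X) [Flat a] [Surjective a]
    [LocallyOfFinitePresentation a] (h : MoreMor.IsPerfectMor (a ≫ f)) :
    MoreMor.IsPerfectMor f := by
  rw [isPerfectMor_iff] at h ⊢
  exact ⟨pcMor_of_fppf_comp f a h.1,
    descend_source_fppf (P := ftdMor)
      (fun φ ψ h1 h2 hs h => ftd_of_flat_comp φ ψ h1 h2 hs h) a f h.2⟩

end Groth.Agent.Lib.helper13.SrcDesc
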