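import Mathlib
import Groth.Prelude.Def_DRing2
import Groth.Prelude.Def_DerSch
import Groth.Agent.Lib.Helper13.TDSm3

/-!
# Tor amplitude relative to `f : X ⟶ Y` from tor amplitude relative to `f ≫ q`, `q` smooth (helper13)
-/

set_option autoImplicit false
universe u
open CategoryTheory CategoryTheory.Limits TensorProduct AlgebraicGeometry Opposite

attribute [local instance] HasDerivedCategory.standard

namespace Groth.Agent.Lib.helper13.TDSm

open Groth.Agent.Lib.helper23.TA DerivedCategory

variable {X Y S : Scheme.{u}}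

/-- the complex of stalks of a module placed in degree `0` -/
noncomputable def stalkCxOverSingleIso (g : X ⟶ Y) (x : X) (F₀ : X.Modules) :
    DRing.toD ((DerSch.stalkCxOver g x).obj
      ((HomologicalComplex.single X.Modules (ComplexShape.up ℤ) 0).obj F₀)) ≅
    (DerivedCategory.singleFunctor (ModuleCat.{u} (Y.presheaf.stalk (g.base x))) 0).obj
      ((DerSch.stalkOver g x).obj F₀) :=
  Q.mapIso ((HomologicalComplex.singleMapHomologicalComplex (DerSch.stalkOver g x)
      (ComplexShape.up ℤ) 0).app F₀) ≪≫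
    ((DerivedCategory.singleFunctorIsoCompQ _ 0).app _).symm

/-- **main pointwise statement**: if `q : Y ⟶ S` has a standard smooth chart of relative dimension
`n` at `f x` and `F₀` has tor amplitude `[-m, 0]` at `x` relative to `f ≫ q`, then it has tor
amplitude `[-(m+n), 0]` at `x` relative to `f`. -/
theorem hasTorAmplitudeAt_of_comp_smooth (f : X ⟶ Y) (q : Y ⟶ S) (x : X) (F₀ : X.Modules)
    (U : S.Opens) (hU : IsAffineOpen U) (V : Y.Opens) (hV : IsAffineOpen V)
    (hb : f.base x ∈ V) (e : V ≤ q ⁻¹ᵁ U) (n : ℕ)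
    (hsm : (q.appLE U V e).hom.IsStandardSmoothOfRelativeDimension n) (m : ℕ)
    (hF : DerSch.HasTorAmplitudeAt (f ≫ q) (-(m : ℤ)) 0
      ((HomologicalComplex.single X.Modules (ComplexShape.up ℤ) 0).obj F₀) x) :
    DerSch.HasTorAmplitudeAt f (-((m + n : ℕ) : ℤ)) 0
      ((HomologicalComplex.single X.Modules (ComplexShape.up ℤ) 0).obj F₀) x := by
  have hcomp : ((f ≫ q).stalkMap x).hom =
      (f.stalkMap x).hom.comp (q.stalkMap (f.base x)).hom := by
    rw [Scheme.Hom.stalkMap_comp]
    rfl
  have e3 : DerSch.stalkOver f x ⋙ ModuleCat.restrictScalars.{u} (q.stalkMap (f.base x)).hom ≅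
      DerSch.stalkOver (f ≫ q) x :=
    Functor.associator _ _ _ ≪≫ Functor.isoWhiskerLeft (DerSch.stalkFunctor X x)
      (ModuleCat.restrictScalarsComp'.{u} (q.stalkMap (f.base x)).hom (f.stalkMap x).hom
        ((f ≫ q).stalkMap x).hom hcomp).symm
  have h1 := hasTorAmplitudeIn_of_iso (stalkCxOverSingleIso (f ≫ q) x F₀) hF
  have h2 : DRing.HasTorAmplitudeIn (S.presheaf.stalk (q.base (f.base x))) (-(m : ℤ)) 0
      ((DerivedCategory.singleFunctor
        (ModuleCat.{u} (S.presheaf.stalk (q.base (f.base x)))) 0).obj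
        ((ModuleCat.restrictScalars.{u} (q.stalkMap (f.base x)).hom).obj
          ((DerSch.stalkOver f x).obj F₀))) :=
    hasTorAmplitudeIn_of_iso
      ((DerivedCategory.singleFunctor _ 0).mapIso (e3.app F₀).symm) h1
  have h3 := td_stalkMap q (f.base x) U hU V hV hb e n hsm m _ h2
  exact hasTorAmplitudeIn_of_iso (stalkCxOverSingleIso f x F₀).symm h3

end Groth.Agent.Lib.helper13.TDSm
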