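import Mathlib

/-!
# Affine space is smooth of relative dimension `n` (helper13)
-/

set_option autoImplicit false
universe u
open CategoryTheory AlgebraicGeometry

namespace Groth.Agent.Lib.helper13.TDSm

variable (R : Type u) [CommRing R] (n : ℕ)

/-- the tautological submersive presentation of a polynomial ring: no relations -/
noncomputable def mvPres :
    Algebra.SubmersivePresentation R (MvPolynomial (Fin n) R) (Fin n) PEmpty.{1} where
  __ := Algebra.Generators.mvPolynomial R (Fin n)
  relation := PEmpty.elim
  span_range_relation_eq_ker := by
    simp only [Set.range_eq_empty, Ideal.span_empty]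
    exact (Algebra.Generators.ker_mvPolynomial).symm
  map := PEmpty.elim
  map_inj := fun a => a.elim
  jacobian_isUnit := by
    rw [Algebra.PreSubmersivePresentation.jacobian_eq_jacobiMatrix_det, Matrix.det_isEmpty,
      map_one]
    exact isUnit_one

instance isStandardSmoothOfRelativeDimension_mvPolynomial :
    Algebra.IsStandardSmoothOfRelativeDimension n R (MvPolynomial (Fin n) R) :=
  ⟨⟨Fin n, PEmpty.{1}, inferInstance, inferInstance, mvPres R n, by
    simp [Algebra.Presentation.dimension]⟩⟩

/-- affine space over an affine base is smooth of relative dimension `n` -/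
instance smoothOfRelativeDimension_SpecMap_C :
    SmoothOfRelativeDimension n
      (Spec.map (CommRingCat.ofHom (algebraMap R (MvPolynomial (Fin n) R)))) := by
  rw [HasRingHomProperty.Spec_iff (P := @SmoothOfRelativeDimension n)]
  refine RingHom.locally_of RingHom.isStandardSmoothOfRelativeDimension_respectsIso _ ?_
  change (algebraMap R (MvPolynomial (Fin n) R)).IsStandardSmoothOfRelativeDimension n
  rw [RingHom.isStandardSmoothOfRelativeDimension_algebraMap]
  infer_instance

end Groth.Agent.Lib.helper13.TDSm
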