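import Mathlib
import Groth.Agent.Lib.Helper13.NPCH1

/-!
# helper13: pseudo-coherence of `T(N)` for a right exact functor `T` exact on "good" modules
-/

set_option autoImplicit false
universe u
open CategoryTheory CategoryTheory.Limits TensorProduct

attribute [local instance] HasDerivedCategory.standard

namespace Groth.Agent.Lib.helper13.TIpc

open Groth.Agent.Lib.helper23.PCohCore Groth.Agent.Lib.helper23.DRingPC

variable {Q P' : Type u} [CommRing Q] [CommRing P']

/-- Let `T : Mod(Q) ⥤ Mod(P')` be a functor which is exact on short exact sequences with good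
cokernel, such that `T(Q^n)` is `s`-pseudo-coherent, where kernels of surjections from finite free
modules onto good modules are good. Then `T(N)` is `max r s`-pseudo-coherent for `N` good and
`r`-pseudo-coherent. -/
theorem npc_map_of_good_aux (T : ModuleCat.{u} Q ⥤ ModuleCat.{u} P') [T.PreservesZeroMorphisms]
    (good : ModuleCat.{u} Q → Prop) {s : ℤ}
    (hTF : ∀ n : ℕ, NPC (FF P') s ((DerivedCategory.singleFunctor (ModuleCat.{u} P') 0).obj
      (T.obj (ModuleCat.of Q (Fin n → Q)))))
    (hgoodK : ∀ (S : ShortComplex (ModuleCat.{u} Q)), S.ShortExact → FF Q S.X₂ → good S.X₃ →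
      good S.X₁)
    (hex : ∀ (S : ShortComplex (ModuleCat.{u} Q)), S.ShortExact → good S.X₃ →
      (S.map T).ShortExact) :
    ∀ (k : ℕ) (N : ModuleCat.{u} Q) (r : ℤ), 1 - (k : ℤ) ≤ r → good N →
      NPC (FF Q) r ((DerivedCategory.singleFunctor (ModuleCat.{u} Q) 0).obj N) →
      NPC (FF P') (max r s) ((DerivedCategory.singleFunctor (ModuleCat.{u} P') 0).obj (T.obj N)) := by
  intro k
  induction k with
  | zero =>
    intro N r hr _ _
    refine NPC.of_acyclic (FF P') _ _ (fun i hi => ?_)
    exact DerivedCategory.isZero_of_isLE _ 0 i (by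
      have := le_max_left r s
      simp at hr
      omega)
  | succ k ih =>
    intro N r hr hN h
    by_cases hrk : 1 - (k : ℤ) ≤ r
    · exact ih N r hrk hN h
    · rw [not_le] at hrk
      have hr0 : r ≤ 0 := by push_cast at hr; omega
      haveI : Module.Finite Q N := (npc_zero_single_iff_finite Q N).1 (h.mono hr0)
      obtain ⟨n, f, hf⟩ := Module.Finite.exists_fin' Q N
      let π : ModuleCat.of Q (Fin n → Q) ⟶ N := ModuleCat.ofHom f
      haveI : Epi π := (ModuleCat.epi_iff_surjective _).2 hf
      let S : ShortComplex (ModuleCat.{u} Q) :=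
        ShortComplex.mk (kernel.ι π) π (kernel.condition π)
      have hS : S.ShortExact :=
        { exact := ShortComplex.exact_of_f_is_kernel _ (kernelIsKernel π)
          mono_f := by dsimp [S]; infer_instance
          epi_g := by dsimp [S]; infer_instance }
      have hFF : FF Q (ModuleCat.of Q (Fin n → Q)) := FF_pi n
      have h23 := NPC.two_of_three (FF Q) (FF_sum Q) (FF_hqs Q) (FF_hql Q) r _
        hS.singleTriangle_distinguished
      have hK : NPC (FF Q) (r + 1) ((DerivedCategory.singleFunctor (ModuleCat.{u} Q) 0).obj
          (kernel π)) := h23.2.2 (NPC.single_of_prop (FF Q) hFF 0 (r + 1)) h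
      have hKgood : good (kernel π) := hgoodK S hS hFF hN
      have hTK := ih (kernel π) (r + 1) (by push_cast at hr; omega) hKgood hK
      have hTS := hex S hS hN
      have h23' := NPC.two_of_three (FF P') (FF_sum P') (FF_hqs P') (FF_hql P') (max r s) _
        hTS.singleTriangle_distinguished
      refine h23'.1 (hTK.mono ?_) ((hTF n).mono (le_max_right r s))
      rcases le_total r s with h1 | h1
      · rw [max_eq_right h1]
        exact max_le (by omega) (by omega)
      · rw [max_eq_left h1]
        exact max_le (by omega) (by omega)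

end Groth.Agent.Lib.helper13.TIpc
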