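import Mathlib
import Groth.Agent.Lib.Helper13.TIpc1

/-!
# helper13: tor-independent base change of `m`-pseudo-coherent modules

`R → Q` flat, `P' = A₁ ⊗_R Q` (as a pushout), `N` a `Q`-module flat over `R` and `m`-pseudo-coherent over
`Q`; then `P' ⊗_Q N` is `m`-pseudo-coherent over `P'`.
-/

set_option autoImplicit false
universe u
open CategoryTheory CategoryTheory.Limits TensorProduct

attribute [local instance] HasDerivedCategory.standard

namespace Groth.Agent.Lib.helper13.TIpc

open Groth.Agent.Lib.helper23.PCohCore Groth.Agent.Lib.helper23.DRingPC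

section Flat

variable {R : Type u} [CommRing R] {K F N : Type u} [AddCommGroup K] [AddCommGroup F]
  [AddCommGroup N] [Module R K] [Module R F] [Module R N]

/-- the kernel of a surjection of flat modules is flat -/
lemma flat_of_exact [Module.Flat R F] [Module.Flat R N] (g : K →ₗ[R] F) (f : F →ₗ[R] N)
    (hg : Function.Injective g) (hf : Function.Surjective f) (H : Function.Exact g f) :
    Module.Flat R K := by
  rw [Module.Flat.iff_rTensor_preserves_injective_linearMap'.{u, u, u}]
  intro X Y _ _ _ _ h hh
  have h1 : Function.Injective (g.lTensor X) :=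
    LinearMap.lTensor_injective_of_exact_of_flat f hf g hg H X
  have h2 : Function.Injective (h.rTensor F) :=
    Module.Flat.rTensor_preserves_injective_linearMap h hh
  have h3 : (g.lTensor Y) ∘ₗ (h.rTensor K) = (h.rTensor F) ∘ₗ (g.lTensor X) := by
    rw [LinearMap.lTensor_comp_rTensor, LinearMap.rTensor_comp_lTensor]
  have h4 : Function.Injective ((g.lTensor Y) ∘ₗ (h.rTensor K)) := by
    rw [h3]
    exact h2.comp h1
  exact Function.Injective.of_comp h4

end Flat


section Inj

variable {R Q A₁ P' : Type u} [CommRing R] [CommRing Q] [CommRing A₁] [CommRing P']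
  [Algebra R Q] [Algebra R A₁] [Algebra R P'] [Algebra Q P'] [Algebra A₁ P']
  [IsScalarTower R Q P'] [IsScalarTower R A₁ P'] [Algebra.IsPushout R Q A₁ P']
  {K F : Type u} [AddCommGroup K] [AddCommGroup F] [Module Q K] [Module Q F]
  [Module R K] [Module R F] [IsScalarTower R Q K] [IsScalarTower R Q F]

open TensorProduct.AlgebraTensorModule in
lemma cancelBaseChange_natural (g : K →ₗ[Q] F) (x : K ⊗[Q] (Q ⊗[R] A₁)) :
    cancelBaseChange R Q Q F A₁ ((g.rTensor (Q ⊗[R] A₁)) x) =
      ((g.restrictScalars R).rTensor A₁) (cancelBaseChange R Q Q K A₁ x) := by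
  induction x using TensorProduct.induction_on with
  | zero => simp
  | tmul k z =>
    induction z using TensorProduct.induction_on with
    | zero => simp
    | tmul q a => simp [cancelBaseChange_tmul]
    | add z₁ z₂ h₁ h₂ => simp only [tmul_add, map_add, h₁, h₂]
  | add x y hx hy => simp only [map_add, hx, hy]

/-- tensoring with the pushout `P' = Q ⊗_R A₁` over `Q` is injective on a map when tensoring with
`A₁` over `R` is -/
lemma rTensor_injective_of_isPushout (g : K →ₗ[Q] F)
    (hg : Function.Injective ((g.restrictScalars R).rTensor A₁)) :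
    Function.Injective (g.rTensor P') := by
  have hbc : IsBaseChange Q (IsScalarTower.toAlgHom R A₁ P').toLinearMap :=
    Algebra.IsPushout.out
  let e : P' ≃ₗ[Q] Q ⊗[R] A₁ := hbc.equiv.symm
  have h1 : Function.Injective (g.rTensor (Q ⊗[R] A₁)) := by
    intro x y hxy
    apply (TensorProduct.AlgebraTensorModule.cancelBaseChange R Q Q K A₁).injective
    apply hg
    rw [← cancelBaseChange_natural, ← cancelBaseChange_natural, hxy]
  have h2 : g.rTensor P' = (LinearMap.lTensor F e.symm.toLinearMap) ∘ₗ
      (g.rTensor (Q ⊗[R] A₁)) ∘ₗ (LinearMap.lTensor K e.toLinearMap) := by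
    rw [LinearMap.rTensor_comp_lTensor, LinearMap.lTensor_comp_map]
    simp [LinearMap.rTensor_def]
  rw [h2, LinearMap.coe_comp, LinearMap.coe_comp]
  exact ((LinearEquiv.lTensor F e.symm).injective).comp
    (h1.comp (LinearEquiv.lTensor K e).injective)

end Inj


section Functor

variable (Q P' : Type u) [CommRing Q] [CommRing P'] [Algebra Q P']

/-- `N ↦ P' ⊗_Q N` -/
noncomputable def tensorFunctor : ModuleCat.{u} Q ⥤ ModuleCat.{u} P' where
  obj N := ModuleCat.of P' (P' ⊗[Q] N)
  map g := ModuleCat.ofHom (TensorProduct.AlgebraTensorModule.lTensor P' P' g.hom)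
  map_id N := by
    ext x
    simp
  map_comp f g := by
    ext x
    simp

instance : (tensorFunctor Q P').PreservesZeroMorphisms where
  map_zero X Y := by
    ext x
    show (TensorProduct.AlgebraTensorModule.lTensor P' P' (0 : X ⟶ Y).hom) x = 0
    rw [ModuleCat.hom_zero]
    simp

variable {Q P'}

lemma shortExact_map_tensorFunctor (S : ShortComplex (ModuleCat.{u} Q)) (hS : S.ShortExact)
    (hinj : Function.Injective (LinearMap.lTensor P' S.f.hom)) :
    (S.map (tensorFunctor Q P')).ShortExact := by
  have hex : Function.Exact S.f.hom S.g.hom :=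
    (ShortComplex.ShortExact.moduleCat_exact_iff_function_exact S).1 hS.exact
  have hsurj : Function.Surjective S.g.hom := hS.moduleCat_surjective_g
  have h1 : Function.Exact (LinearMap.lTensor P' S.f.hom) (LinearMap.lTensor P' S.g.hom) :=
    lTensor_exact P' hex hsurj
  have h2 : Function.Surjective (LinearMap.lTensor P' S.g.hom) :=
    LinearMap.lTensor_surjective P' hsurj
  exact ModuleCat.shortComplex_shortExact _ h1 hinj h2

end Functor


section Main

variable {R Q A₁ P' : Type u} [CommRing R] [CommRing Q] [CommRing A₁] [CommRing P']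
  [Algebra R Q] [Algebra R A₁] [Algebra R P'] [Algebra Q P'] [Algebra A₁ P']
  [IsScalarTower R Q P'] [IsScalarTower R A₁ P'] [Algebra.IsPushout R Q A₁ P']

variable (R) in
/-- a `Q`-module is good if it is flat over `R` -/
def Good (X : ModuleCat.{u} Q) : Prop :=
  Module.Flat R ((ModuleCat.restrictScalars.{u} (algebraMap R Q)).obj X)

lemma good_of_FF [Module.Flat R Q] (X : ModuleCat.{u} Q) (hX : FF Q X) : Good R X := by
  obtain ⟨h1, h2⟩ := hX
  haveI : IsScalarTower R Q ((ModuleCat.restrictScalars.{u} (algebraMap R Q)).obj X) :=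
    IsScalarTower.of_algebraMap_smul (fun _ _ => rfl)
  haveI : Module.Flat Q ((ModuleCat.restrictScalars.{u} (algebraMap R Q)).obj X) :=
    inferInstanceAs (Module.Flat Q X)
  exact Module.Flat.trans R Q _

lemma good_kernel [Module.Flat R Q] (S : ShortComplex (ModuleCat.{u} Q)) (hS : S.ShortExact)
    (h2 : FF Q S.X₂) (h3 : Good R S.X₃) : Good R S.X₁ := by
  haveI : Module.Flat R ((ModuleCat.restrictScalars.{u} (algebraMap R Q)).obj S.X₂) :=
    good_of_FF S.X₂ h2
  haveI : Module.Flat R ((ModuleCat.restrictScalars.{u} (algebraMap R Q)).obj S.X₃) := h3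
  exact flat_of_exact
    ((ModuleCat.restrictScalars.{u} (algebraMap R Q)).map S.f).hom
    ((ModuleCat.restrictScalars.{u} (algebraMap R Q)).map S.g).hom
    hS.moduleCat_injective_f hS.moduleCat_surjective_g
    ((ShortComplex.ShortExact.moduleCat_exact_iff_function_exact S).1 hS.exact)

include A₁ in
lemma lTensor_injective_of_good (S : ShortComplex (ModuleCat.{u} Q)) (hS : S.ShortExact)
    (h3 : Good R S.X₃) : Function.Injective (LinearMap.lTensor P' S.f.hom) := by
  rw [LinearMap.lTensor_inj_iff_rTensor_inj]
  letI : Module R S.X₁ := Module.compHom _ (algebraMap R Q)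
  letI : Module R S.X₂ := Module.compHom _ (algebraMap R Q)
  haveI : IsScalarTower R Q S.X₁ := IsScalarTower.of_algebraMap_smul (fun _ _ => rfl)
  haveI : IsScalarTower R Q S.X₂ := IsScalarTower.of_algebraMap_smul (fun _ _ => rfl)
  refine rTensor_injective_of_isPushout (R := R) (A₁ := A₁) S.f.hom ?_
  rw [← LinearMap.lTensor_inj_iff_rTensor_inj]
  haveI : Module.Flat R ((ModuleCat.restrictScalars.{u} (algebraMap R Q)).obj S.X₃) := h3
  exact LinearMap.lTensor_injective_of_exact_of_flat
    ((ModuleCat.restrictScalars.{u} (algebraMap R Q)).map S.g).hom hS.moduleCat_surjective_g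
    ((ModuleCat.restrictScalars.{u} (algebraMap R Q)).map S.f).hom hS.moduleCat_injective_f
    ((ShortComplex.ShortExact.moduleCat_exact_iff_function_exact S).1 hS.exact) A₁

include A₁ in
/-- **tor-independent base change of `r`-pseudo-coherent modules** -/
theorem npc_tensor_of_flat [Module.Flat R Q] {r : ℤ} (N : ModuleCat.{u} Q) (hN : Good R N)
    (h : NPC (FF Q) r ((DerivedCategory.singleFunctor (ModuleCat.{u} Q) 0).obj N)) :
    NPC (FF P') r ((DerivedCategory.singleFunctor (ModuleCat.{u} P') 0).obj
      (ModuleCat.of P' (P' ⊗[Q] N))) := by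
  have key := npc_map_of_good_aux (tensorFunctor Q P') (Good R) (s := r) ?_ ?_ ?_
    (1 - r).toNat N r (by omega) hN h
  · rwa [max_self] at key
  · intro n
    exact NPC.single_of_prop (FF P')
      ⟨inferInstanceAs (Module.Finite P' (P' ⊗[Q] (Fin n → Q))),
        inferInstanceAs (Module.Free P' (P' ⊗[Q] (Fin n → Q)))⟩ 0 r
  · intro S hS h2 h3
    exact good_kernel S hS h2 h3
  · intro S hS h3
    exact shortExact_map_tensorFunctor S hS (lTensor_injective_of_good (R := R) (A₁ := A₁) S hS h3)

end Main

end Groth.Agent.Lib.helper13.TIpc
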