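import Mathlib
import Groth.Agent.Lib.Helper13.TIpc2
import Groth.Agent.Lib.Helper13.NPCH3

/-!
# helper13: tor-independent base change of `m`-pseudo-coherent ring maps

`A₂ → B₂` an `m`-pseudo-coherent map of flat `R`-algebras, `A₁` any `R`-algebra: then
`A₁ ⊗_R A₂ → A₁ ⊗_R B₂` is `m`-pseudo-coherent.
-/

set_option autoImplicit false
universe u
open CategoryTheory CategoryTheory.Limits TensorProduct

attribute [local instance] HasDerivedCategory.standard

namespace Groth.Agent.Lib.helper13.TIpc

open Groth.Agent.Lib.helper23.PCohCore Groth.Agent.Lib.helper23.DRingPC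
open Groth.Agent.Lib.helper13.NPCH

attribute [local instance] MvPolynomial.algebraMvPolynomial

variable {R A₁ A₂ B₂ C T' : Type u} [CommRing R] [CommRing A₁] [CommRing A₂] [CommRing B₂]
  [CommRing C] [CommRing T']
  [Algebra R A₁] [Algebra R A₂] [Algebra R B₂] [Algebra A₂ B₂] [IsScalarTower R A₂ B₂]
  [Algebra R C] [Algebra A₁ C] [Algebra A₂ C] [IsScalarTower R A₁ C] [IsScalarTower R A₂ C]
  [Algebra.IsPushout R A₂ A₁ C]
  [Algebra A₂ T'] [Algebra C T'] [Algebra B₂ T'] [IsScalarTower A₂ C T'] [IsScalarTower A₂ B₂ T']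
  [Algebra.IsPushout A₂ C B₂ T']

include A₁ in
theorem npch_of_isPushout_of_flat_of_flat [Module.Flat R A₂] [Module.Flat R B₂] {m : ℤ}
    (h : NPCH m (algebraMap A₂ B₂)) : NPCH m (algebraMap C T') := by
  obtain ⟨n, φ, hC, hφ, hpc⟩ := h
  refine ⟨n, pushPres φ, pushPres_comp_C φ, pushPres_surjective φ hC hφ, ?_⟩
  obtain ⟨e⟩ := nonempty_extend_iso (S := C) (T' := T') φ hC
  refine npc_single_of_iso ?_ e
  haveI : IsScalarTower R (MvPolynomial (Fin n) A₂) (MvPolynomial (Fin n) C) :=
    IsScalarTower.of_algebraMap_eq (fun r => by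
      simp only [RingHom.algebraMap_toAlgebra, MvPolynomial.algebraMap_apply]
      show MvPolynomial.C _ = MvPolynomial.map (algebraMap A₂ C) (MvPolynomial.C _)
      rw [MvPolynomial.map_C, ← IsScalarTower.algebraMap_apply])
  haveI : Algebra.IsPushout R (MvPolynomial (Fin n) A₂) A₁ (MvPolynomial (Fin n) C) :=
    (Algebra.IsPushout.comp_iff R A₂ A₁ C).2 inferInstance
  haveI : Module.Flat R (MvPolynomial (Fin n) A₂) := Module.Flat.trans R A₂ _
  refine npc_tensor_of_flat (R := R) (A₁ := A₁) _ ?_ hpc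
  let e0 : ((ModuleCat.restrictScalars.{u} (algebraMap R (MvPolynomial (Fin n) A₂))).obj
      ((ModuleCat.restrictScalars.{u} φ).obj (ModuleCat.of B₂ B₂))) ≃ₗ[R] B₂ :=
    { toFun := fun x => x
      invFun := fun x => x
      map_add' := fun _ _ => rfl
      map_smul' := fun r (x : B₂) => by
        show φ (algebraMap R (MvPolynomial (Fin n) A₂) r) * x = r • x
        rw [MvPolynomial.algebraMap_apply, Algebra.smul_def,
          IsScalarTower.algebraMap_apply R A₂ B₂, ← hC]
        rfl
      left_inv := fun _ => rfl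
      right_inv := fun _ => rfl }
  exact Module.Flat.of_linearEquiv e0

end Groth.Agent.Lib.helper13.TIpc
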