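import Mathlib
import Groth.Agent.Lib.Helper13.NPCH4
import Groth.Agent.Lib.Helper13.TIpc3

/-!
# helper13: tor-independent base change for morphism properties local at source and target
-/

set_option autoImplicit false
universe u
open CategoryTheory CategoryTheory.Limits AlgebraicGeometry TopologicalSpace Opposite TensorProduct

attribute [local instance] HasDerivedCategory.standard

namespace Groth.Agent.Lib.helper13.TIpc

section General

variable (P : MorphismProperty Scheme.{u}) [IsZariskiLocalAtTarget P] [IsZariskiLocalAtSource P]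

variable {W V X₂ Y₂ : Scheme.{u}}

/-- the base change of `f₂` along `w` may be checked on an open cover of the source of `w` -/
lemma pullback_fst_of_openCover (w : W ⟶ Y₂) (f₂ : X₂ ⟶ Y₂) (𝒲 : W.OpenCover)
    (H : ∀ i, P (pullback.fst (𝒲.f i ≫ w) f₂)) : P (pullback.fst w f₂) := by
  rw [IsZariskiLocalAtTarget.iff_of_openCover (P := P) 𝒲]
  intro i
  have h1 : P ((pullbackRightPullbackFstIso w f₂ (𝒲.f i)).hom ≫ pullback.fst (𝒲.f i ≫ w) f₂) :=
    (P.cancel_left_of_respectsIso _ _).2 (H i)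
  rw [pullbackRightPullbackFstIso_hom_fst] at h1
  have h2 : P ((pullbackSymmetry (pullback.fst w f₂) (𝒲.f i)).hom ≫
      pullback.fst (𝒲.f i) (pullback.fst w f₂)) := (P.cancel_left_of_respectsIso _ _).2 h1
  rw [pullbackSymmetry_hom_comp_fst] at h2
  exact h2

/-- restriction of the target of `f₂` to an open through which `w` factors -/
lemma pullback_fst_of_factor (w' : W ⟶ V) (ι : V ⟶ Y₂) (f₂ : X₂ ⟶ Y₂)
    (H : P (pullback.fst w' (pullback.snd f₂ ι))) : P (pullback.fst (w' ≫ ι) f₂) := by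
  let e : pullback (w' ≫ ι) f₂ ≅ pullback w' (pullback.snd f₂ ι) :=
    pullbackSymmetry _ _ ≪≫ (pullbackLeftPullbackSndIso f₂ ι w').symm ≪≫ pullbackSymmetry _ _
  have he : e.hom ≫ pullback.fst w' (pullback.snd f₂ ι) = pullback.fst (w' ≫ ι) f₂ := by
    simp [e]
  rw [← he, P.cancel_left_of_respectsIso]
  exact H

/-- the base change of `f₂` along `w` may be checked on an open cover of the source of `f₂` -/
lemma pullback_fst_of_openCover_source (w : W ⟶ Y₂) (f₂ : X₂ ⟶ Y₂) (𝒰 : X₂.OpenCover)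
    (H : ∀ i, P (pullback.fst w (𝒰.f i ≫ f₂))) : P (pullback.fst w f₂) := by
  rw [IsZariskiLocalAtSource.iff_of_openCover (P := P)
    (Scheme.Pullback.openCoverOfRight 𝒰 w f₂)]
  intro i
  have key : (Scheme.Pullback.openCoverOfRight 𝒰 w f₂).f i ≫ pullback.fst w f₂ =
      pullback.fst w (𝒰.f i ≫ f₂) := by
    rw [Scheme.Pullback.openCoverOfRight_f]
    exact (pullback.lift_fst _ _ _).trans (Category.comp_id _)
  rw [key]
  exact H i


/-- the affine hypothesis of the tor-independent base change theorem -/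
def AffineTI : Prop :=
  ∀ {R A₁ A₂ B₂ : CommRingCat.{u}} (α₁ : R ⟶ A₁) (α₂ : R ⟶ A₂) (ψ : A₂ ⟶ B₂),
    Flat (Spec.map α₂) → Flat (Spec.map ψ ≫ Spec.map α₂) → P (Spec.map ψ) →
      P (pullback.fst (pullback.snd (Spec.map α₁) (Spec.map α₂)) (Spec.map ψ))

variable {P}

/-- all affine but `X₂` -/
lemma ti_step1 (H : AffineTI P) {R A₁ A₂ : CommRingCat.{u}} {X₂ : Scheme.{u}} (α₁ : R ⟶ A₁)
    (α₂ : R ⟶ A₂) (f₂ : X₂ ⟶ Spec A₂) (h1 : Flat (Spec.map α₂)) (h2 : Flat (f₂ ≫ Spec.map α₂))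
    (hf₂ : P f₂) : P (pullback.fst (pullback.snd (Spec.map α₁) (Spec.map α₂)) f₂) := by
  refine pullback_fst_of_openCover_source P _ f₂ X₂.affineCover (fun i => ?_)
  have aux : ∀ {B : CommRingCat.{u}} (j : Spec B ⟶ X₂) [IsOpenImmersion j],
      P (pullback.fst (pullback.snd (Spec.map α₁) (Spec.map α₂)) (j ≫ f₂)) := by
    intro B j _
    obtain ⟨ψ, hψ⟩ := Spec.map_surjective (j ≫ f₂)
    have hfl : Flat (Spec.map ψ ≫ Spec.map α₂) := by
      rw [hψ, Category.assoc]
      infer_instance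
    have hP : P (Spec.map ψ) := hψ ▸ IsZariskiLocalAtSource.comp hf₂ j
    have key : ∀ (k : Spec B ⟶ Spec A₂), Spec.map ψ = k →
        P (pullback.fst (pullback.snd (Spec.map α₁) (Spec.map α₂)) k) := by
      rintro _ rfl
      exact H α₁ α₂ ψ h1 hfl hP
    exact key _ hψ
  exact @aux _ (X₂.affineCover.f i) (X₂.affineCover.map_prop i)


/-- affine base -/
lemma ti_step2 (H : AffineTI P) {R : CommRingCat.{u}} {Y₁ Y₂ X₂ : Scheme.{u}}
    (q₁ : Y₁ ⟶ Spec R) (q₂ : Y₂ ⟶ Spec R) (f₂ : X₂ ⟶ Y₂) [Flat q₂] [Flat (f₂ ≫ q₂)]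
    (hf₂ : P f₂) : P (pullback.fst (pullback.snd q₁ q₂) f₂) := by
  refine pullback_fst_of_openCover P _ f₂
    (Scheme.Pullback.openCoverOfLeftRight Y₁.affineCover Y₂.affineCover q₁ q₂) (fun ij => ?_)
  have aux : ∀ {A₁ A₂ : CommRingCat.{u}} (j₁ : Spec A₁ ⟶ Y₁) (j₂ : Spec A₂ ⟶ Y₂)
      [IsOpenImmersion j₁] [IsOpenImmersion j₂],
      P (pullback.fst (pullback.map (j₁ ≫ q₁) (j₂ ≫ q₂) q₁ q₂ j₁ j₂ (𝟙 _) (Category.comp_id _)
        (Category.comp_id _) ≫ pullback.snd q₁ q₂) f₂) := by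
    intro A₁ A₂ j₁ j₂ _ _
    have e1 : pullback.map (j₁ ≫ q₁) (j₂ ≫ q₂) q₁ q₂ j₁ j₂ (𝟙 _) (Category.comp_id _)
        (Category.comp_id _) ≫ pullback.snd q₁ q₂ = pullback.snd (j₁ ≫ q₁) (j₂ ≫ q₂) ≫ j₂ :=
      pullback.lift_snd _ _ _
    suffices h : P (pullback.fst (pullback.snd (j₁ ≫ q₁) (j₂ ≫ q₂) ≫ j₂) f₂) by
      have key : ∀ k, pullback.snd (j₁ ≫ q₁) (j₂ ≫ q₂) ≫ j₂ = k → P (pullback.fst k f₂) := by
        rintro _ rfl
        exact h
      exact key _ e1.symm
    apply pullback_fst_of_factor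
    obtain ⟨α₁, hα₁⟩ := Spec.map_surjective (j₁ ≫ q₁)
    obtain ⟨α₂, hα₂⟩ := Spec.map_surjective (j₂ ≫ q₂)
    have hP : P (pullback.snd f₂ j₂) :=
      IsZariskiLocalAtTarget.of_isPullback (IsPullback.of_hasPullback f₂ j₂) hf₂
    have hfl : Flat (pullback.snd f₂ j₂ ≫ j₂ ≫ q₂) := by
      rw [← Category.assoc, ← pullback.condition, Category.assoc]
      infer_instance
    have key2 : ∀ (k₁ : Spec A₁ ⟶ Spec R) (k₂ : Spec A₂ ⟶ Spec R), Spec.map α₁ = k₁ →
        Spec.map α₂ = k₂ → Flat k₂ → Flat (pullback.snd f₂ j₂ ≫ k₂) →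
        P (pullback.fst (pullback.snd k₁ k₂) (pullback.snd f₂ j₂)) := by
      rintro _ _ rfl rfl hk hk'
      exact ti_step1 H α₁ α₂ _ hk hk' hP
    exact key2 _ _ hα₁ hα₂ inferInstance hfl
  exact @aux _ _ (Y₁.affineCover.f ij.1) (Y₂.affineCover.f ij.2) (Y₁.affineCover.map_prop ij.1)
    (Y₂.affineCover.map_prop ij.2)


/-- **tor-independent base change from the affine case** -/
theorem ti_general (H : AffineTI P) {S Y₁ Y₂ X₂ : Scheme.{u}}
    (q₁ : Y₁ ⟶ S) (q₂ : Y₂ ⟶ S) (f₂ : X₂ ⟶ Y₂) [Flat q₂] [Flat (f₂ ≫ q₂)]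
    (hf₂ : P f₂) : P (pullback.fst (pullback.snd q₁ q₂) f₂) := by
  refine pullback_fst_of_openCover P _ f₂
    (Scheme.Pullback.openCoverOfBase S.affineCover q₁ q₂) (fun i => ?_)
  have aux : ∀ {R : CommRingCat.{u}} (s : Spec R ⟶ S) [IsOpenImmersion s],
      P (pullback.fst (pullback.map (pullback.snd q₁ s) (pullback.snd q₂ s) q₁ q₂
        (pullback.fst q₁ s) (pullback.fst q₂ s) s pullback.condition.symm
        pullback.condition.symm ≫ pullback.snd q₁ q₂) f₂) := by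
    intro R s _
    have e1 : pullback.map (pullback.snd q₁ s) (pullback.snd q₂ s) q₁ q₂
        (pullback.fst q₁ s) (pullback.fst q₂ s) s pullback.condition.symm
        pullback.condition.symm ≫ pullback.snd q₁ q₂ =
        pullback.snd (pullback.snd q₁ s) (pullback.snd q₂ s) ≫ pullback.fst q₂ s :=
      pullback.lift_snd _ _ _
    suffices h : P (pullback.fst
        (pullback.snd (pullback.snd q₁ s) (pullback.snd q₂ s) ≫ pullback.fst q₂ s) f₂) by
      have key : ∀ k, pullback.snd (pullback.snd q₁ s) (pullback.snd q₂ s) ≫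
          pullback.fst q₂ s = k → P (pullback.fst k f₂) := by
        rintro _ rfl
        exact h
      exact key _ e1.symm
    apply pullback_fst_of_factor
    haveI : Flat (pullback.snd f₂ (pullback.fst q₂ s) ≫ pullback.snd q₂ s) := by
      have hpb : IsPullback (pullback.fst f₂ (pullback.fst q₂ s))
          (pullback.snd f₂ (pullback.fst q₂ s) ≫ pullback.snd q₂ s) (f₂ ≫ q₂) s :=
        (IsPullback.of_hasPullback f₂ (pullback.fst q₂ s)).paste_vert
          (IsPullback.of_hasPullback q₂ s)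
      exact MorphismProperty.of_isPullback (P := @Flat) hpb inferInstance
    exact ti_step2 H _ _ _ (IsZariskiLocalAtTarget.of_isPullback
      (IsPullback.of_hasPullback f₂ (pullback.fst q₂ s)) hf₂)
  exact @aux _ (S.affineCover.f i) (S.affineCover.map_prop i)

end General

end Groth.Agent.Lib.helper13.TIpc
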