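import Mathlib
import Groth.Agent.Lib.Helper13.TIpc4

/-!
# helper13: the affine case of tor-independent base change for `m`-pseudo-coherent morphisms
-/

set_option autoImplicit false
universe u
open CategoryTheory CategoryTheory.Limits AlgebraicGeometry TopologicalSpace Opposite TensorProduct

attribute [local instance] HasDerivedCategory.standard

namespace Groth.Agent.Lib.helper13.TIpc

open Groth.Agent.Lib.helper13.NPCH

section General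

variable (P : MorphismProperty Scheme.{u}) [P.RespectsIso]

variable {W' W X Y : Scheme.{u}}

lemma pullback_fst_of_isPullback {a : W' ⟶ W} {b : W' ⟶ X} {w : W ⟶ Y} {g : X ⟶ Y}
    (h : IsPullback a b w g) (ha : P a) : P (pullback.fst w g) := by
  have h1 : P (h.isoPullback.hom ≫ pullback.fst w g) := by
    rw [h.isoPullback_hom_fst]
    exact ha
  exact (P.cancel_left_of_respectsIso _ _).1 h1

lemma of_isPullback_of_pullback_fst {a : W' ⟶ W} {b : W' ⟶ X} {w : W ⟶ Y} {g : X ⟶ Y}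
    (h : IsPullback a b w g) (ha : P (pullback.fst w g)) : P a := by
  rw [← h.isoPullback_hom_fst]
  exact (P.cancel_left_of_respectsIso _ _).2 ha

end General

attribute [local instance] Algebra.TensorProduct.rightAlgebra

theorem affineTI_npcMor (m : ℤ) : AffineTI (npcMor.{u} m) := by
  intro R A₁ A₂ B₂ α₁ α₂ ψ h1 h2 hψ
  algebraize [α₁.hom, α₂.hom, ψ.hom, ψ.hom.comp α₂.hom]
  haveI : Module.Flat R A₂ := (HasRingHomProperty.Spec_iff (P := @Flat)).1 h1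
  haveI : Module.Flat R B₂ := by
    rw [← Spec.map_comp] at h2
    exact (HasRingHomProperty.Spec_iff (P := @Flat)).1 h2
  have hpc : NPCH m (algebraMap A₂ B₂) := (HasRingHomProperty.Spec_iff (P := npcMor m)).1 hψ
  have h3 : NPCH m (algebraMap (A₁ ⊗[R] A₂) ((A₁ ⊗[R] A₂) ⊗[A₂] B₂)) :=
    npch_of_isPushout_of_flat_of_flat (R := R) (A₁ := A₁) hpc
  have sq1 : IsPullback (Spec.map (CommRingCat.ofHom (algebraMap A₁ (A₁ ⊗[R] A₂))))
      (Spec.map (CommRingCat.ofHom (algebraMap A₂ (A₁ ⊗[R] A₂)))) (Spec.map α₁) (Spec.map α₂) :=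
    isPullback_SpecMap_of_isPushout _ _ _ _ (CommRingCat.isPushout_of_isPushout R A₁ A₂ _)
  have sq2 : IsPullback
      (Spec.map (CommRingCat.ofHom (algebraMap (A₁ ⊗[R] A₂) ((A₁ ⊗[R] A₂) ⊗[A₂] B₂))))
      (Spec.map (CommRingCat.ofHom (algebraMap B₂ ((A₁ ⊗[R] A₂) ⊗[A₂] B₂))))
      (Spec.map (CommRingCat.ofHom (algebraMap A₂ (A₁ ⊗[R] A₂)))) (Spec.map ψ) :=
    isPullback_SpecMap_of_isPushout _ _ _ _ (CommRingCat.isPushout_of_isPushout A₂ _ B₂ _)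
  have h4 : npcMor m (Spec.map (CommRingCat.ofHom
      (algebraMap (A₁ ⊗[R] A₂) ((A₁ ⊗[R] A₂) ⊗[A₂] B₂)))) :=
    (HasRingHomProperty.Spec_iff (P := npcMor m)).2 h3
  have hsnd : sq1.isoPullback.hom ≫ pullback.snd (Spec.map α₁) (Spec.map α₂) =
      Spec.map (CommRingCat.ofHom (algebraMap A₂ (A₁ ⊗[R] A₂))) := sq1.isoPullback_hom_snd
  rw [← hsnd] at sq2
  have sq3 : IsPullback sq1.isoPullback.hom
      (sq1.isoPullback.hom ≫ pullback.snd (Spec.map α₁) (Spec.map α₂))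
      (pullback.snd (Spec.map α₁) (Spec.map α₂)) (𝟙 _) :=
    IsPullback.of_horiz_isIso ⟨by simp⟩
  have sq4 := sq2.paste_horiz sq3
  have e : Spec.map ψ ≫ 𝟙 (Spec A₂) = Spec.map ψ := Category.comp_id _
  rw [e] at sq4
  refine pullback_fst_of_isPullback (npcMor m) sq4 ?_
  exact ((npcMor m).cancel_right_of_respectsIso _ _).2 h4


variable {S X₁ Y₁ X₂ Y₂ X Y : Scheme.{u}}

/-- tor-independent base change, `IsPullback` form -/
theorem npcMor_of_isPullback_of_flat (n : ℤ) (q₁ : Y₁ ⟶ S) (q₂ : Y₂ ⟶ S) (f₂ : X₂ ⟶ Y₂)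
    [Flat q₂] [Flat (f₂ ≫ q₂)] {pY₁ : Y ⟶ Y₁} {pY₂ : Y ⟶ Y₂} (hY : IsPullback pY₁ pY₂ q₁ q₂)
    {Z : Scheme.{u}} {b : Z ⟶ Y} {c : Z ⟶ X₂} (hZ : IsPullback b c pY₂ f₂)
    (h₂ : npcMor n f₂) : npcMor n b := by
  have h := ti_general (affineTI_npcMor n) q₁ q₂ f₂ h₂
  have hsnd : hY.isoPullback.hom ≫ pullback.snd q₁ q₂ = pY₂ := hY.isoPullback_hom_snd
  have sq3 : IsPullback hY.isoPullback.hom (hY.isoPullback.hom ≫ pullback.snd q₁ q₂)
      (pullback.snd q₁ q₂) (𝟙 _) := IsPullback.of_horiz_isIso ⟨by simp⟩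
  rw [← hsnd] at hZ
  have sq4 := hZ.paste_horiz sq3
  have e : f₂ ≫ 𝟙 Y₂ = f₂ := Category.comp_id _
  rw [e] at sq4
  have h5 := of_isPullback_of_pullback_fst (npcMor n) sq4 h
  exact ((npcMor n).cancel_right_of_respectsIso _ _).1 h5

/-- **S6260** -/
theorem isNPseudoCoherent_fiberProductMap_of_flat (f₁ : X₁ ⟶ Y₁) (q₁ : Y₁ ⟶ S)
    (f₂ : X₂ ⟶ Y₂) (q₂ : Y₂ ⟶ S) [Flat q₂] [Flat (f₂ ≫ q₂)]
    (pX₁ : X ⟶ X₁) (pX₂ : X ⟶ X₂) (hX : IsPullback pX₁ pX₂ (f₁ ≫ q₁) (f₂ ≫ q₂))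
    (pY₁ : Y ⟶ Y₁) (pY₂ : Y ⟶ Y₂) (hY : IsPullback pY₁ pY₂ q₁ q₂)
    (f : X ⟶ Y) (hf₁ : f ≫ pY₁ = pX₁ ≫ f₁) (hf₂ : f ≫ pY₂ = pX₂ ≫ f₂) (n : ℤ)
    (h₁ : DerSch.IsNPseudoCoherent f₁ n) (h₂ : DerSch.IsNPseudoCoherent f₂ n) :
    DerSch.IsNPseudoCoherent f n := by
  have hZ : IsPullback (pullback.fst pY₂ f₂) (pullback.snd pY₂ f₂) pY₂ f₂ :=
    IsPullback.of_hasPullback _ _
  have hb : npcMor n (pullback.fst pY₂ f₂) := npcMor_of_isPullback_of_flat n q₁ q₂ f₂ hY hZ h₂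
  have hZ' : IsPullback (pullback.fst pY₂ f₂ ≫ pY₁) (pullback.snd pY₂ f₂) q₁ (f₂ ≫ q₂) :=
    hZ.paste_horiz hY
  haveI : Flat (pullback.fst pY₂ f₂ ≫ pY₁) :=
    MorphismProperty.of_isPullback (P := @Flat) hZ'.flip inferInstance
  have hfac : pullback.lift f pX₂ hf₂ ≫ pullback.fst pY₂ f₂ = f := pullback.lift_fst _ _ _
  have hsnd : pullback.lift f pX₂ hf₂ ≫ pullback.snd pY₂ f₂ = pX₂ := pullback.lift_snd _ _ _
  have hbig : IsPullback (pullback.lift f pX₂ hf₂ ≫ pullback.snd pY₂ f₂) pX₁ (f₂ ≫ q₂)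
      (f₁ ≫ q₁) := by
    rw [hsnd]
    exact hX.flip
  have hleft : IsPullback (pullback.lift f pX₂ hf₂) pX₁ (pullback.fst pY₂ f₂ ≫ pY₁) f₁ :=
    IsPullback.of_right hbig (by rw [reassoc_of% hfac, hf₁]) hZ'.flip
  have ha : npcMor n (pullback.lift f pX₂ hf₂) :=
    of_isPullback_of_pullback_fst (npcMor n) hleft
      (pullback_fst_of_flat (npcMor n) (npcMor_pullback_fst_affine n) _ f₁ h₁)
  haveI : (npcMor.{u} n).IsStableUnderComposition :=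
    HasRingHomProperty.stableUnderComposition (P := npcMor.{u} n) (npch_stableUnderComposition n)
  have := (npcMor.{u} n).comp_mem _ _ ha hb
  rwa [hfac] at this

end Groth.Agent.Lib.helper13.TIpc
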