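import Mathlib
import Groth.Agent.Lib.Helper13.TIpc2
import Groth.Agent.Lib.Helper23.ExtSc4

/-!
# helper13: `B ⊗_A M` for `B` flat and pseudo-coherent over `A[y]`, `M` `m`-pseudo-coherent over `P`
-/

set_option autoImplicit false
universe u
open CategoryTheory CategoryTheory.Limits TensorProduct

attribute [local instance] HasDerivedCategory.standard

namespace Groth.Agent.Lib.helper13.TIpc

open Groth.Agent.Lib.helper23.PCohCore Groth.Agent.Lib.helper23.DRingPC
open Groth.Agent.Lib.helper13.NPCH

section Pi

variable {A' : Type u} [CommRing A']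

lemma npc_single_pi {s : ℤ} (Y : ModuleCat.{u} A')
    (hY : NPC (FF A') s ((DerivedCategory.singleFunctor (ModuleCat.{u} A') 0).obj Y)) :
    ∀ k : ℕ, NPC (FF A') s ((DerivedCategory.singleFunctor (ModuleCat.{u} A') 0).obj
      (ModuleCat.of A' (Fin k → Y))) := by
  intro k
  induction k with
  | zero =>
    refine NPC.of_isZero (FF A') s
      ((DerivedCategory.singleFunctor (ModuleCat.{u} A') 0).map_isZero ?_)
    haveI : Subsingleton (ModuleCat.of A' (Fin 0 → Y)) :=
      inferInstanceAs (Subsingleton (Fin 0 → Y))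
    exact ModuleCat.isZero_of_subsingleton _
  | succ k ih =>
    have e : ModuleCat.of A' (Y × (Fin k → Y)) ≅ ModuleCat.of A' (Fin (k + 1) → Y) :=
      (Fin.consLinearEquiv A' (fun _ : Fin (k + 1) => Y)).toModuleIso
    exact npc_single_of_iso (npc_single_of_iso (npc_single_biprod hY ih)
      (ModuleCat.biprodIsoProd _ _)) e

end Pi

section Nat

variable {R Q : Type u} [CommRing R] [CommRing Q] [Algebra R Q]
  {K F M : Type u} [AddCommGroup K] [AddCommGroup F] [AddCommGroup M] [Module Q K] [Module Q F]
  [Module R K] [Module R F] [IsScalarTower R Q K] [IsScalarTower R Q F] [Module R M]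

open TensorProduct.AlgebraTensorModule in
lemma cancelBaseChange_natural' (g : K →ₗ[Q] F) (x : K ⊗[Q] (Q ⊗[R] M)) :
    cancelBaseChange R Q Q F M ((g.rTensor (Q ⊗[R] M)) x) =
      ((g.restrictScalars R).rTensor M) (cancelBaseChange R Q Q K M x) := by
  induction x using TensorProduct.induction_on with
  | zero => simp
  | tmul k z =>
    induction z using TensorProduct.induction_on with
    | zero => simp
    | tmul q a => simp [cancelBaseChange_tmul]
    | add z₁ z₂ h₁ h₂ => simp only [tmul_add, map_add, h₁, h₂]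
  | add x y hx hy => simp only [map_add, hx, hy]

lemma rTensor_injective_of_module (g : K →ₗ[Q] F)
    (hg : Function.Injective ((g.restrictScalars R).rTensor M)) :
    Function.Injective (g.rTensor (Q ⊗[R] M)) := by
  intro x y hxy
  apply (TensorProduct.AlgebraTensorModule.cancelBaseChange R Q Q K M).injective
  apply hg
  rw [← cancelBaseChange_natural', ← cancelBaseChange_natural', hxy]

end Nat


section Functor

variable (Q : Type u) [CommRing Q] (N' : Type u) [AddCommGroup N'] [Module Q N']

/-- `X ↦ N' ⊗_Q X` -/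
noncomputable def tensorModFunctor : ModuleCat.{u} Q ⥤ ModuleCat.{u} Q where
  obj X := ModuleCat.of Q (N' ⊗[Q] X)
  map g := ModuleCat.ofHom (LinearMap.lTensor N' g.hom)
  map_id X := by
    ext x
    simp
  map_comp f g := by
    ext x
    simp

instance : (tensorModFunctor Q N').PreservesZeroMorphisms where
  map_zero X Y := by
    ext x
    show (LinearMap.lTensor N' (0 : X ⟶ Y).hom) x = 0
    rw [ModuleCat.hom_zero]
    simp

variable {Q N'}

lemma shortExact_map_tensorModFunctor (S : ShortComplex (ModuleCat.{u} Q)) (hS : S.ShortExact)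
    (hinj : Function.Injective (LinearMap.lTensor N' S.f.hom)) :
    (S.map (tensorModFunctor Q N')).ShortExact := by
  have hex : Function.Exact S.f.hom S.g.hom :=
    (ShortComplex.ShortExact.moduleCat_exact_iff_function_exact S).1 hS.exact
  have hsurj : Function.Surjective S.g.hom := hS.moduleCat_surjective_g
  have h1 : Function.Exact (LinearMap.lTensor N' S.f.hom) (LinearMap.lTensor N' S.g.hom) :=
    lTensor_exact N' hex hsurj
  have h2 : Function.Surjective (LinearMap.lTensor N' S.g.hom) :=
    LinearMap.lTensor_surjective N' hsurj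
  exact ModuleCat.shortComplex_shortExact _ h1 hinj h2

end Functor

section Main

variable {A Q : Type u} [CommRing A] [CommRing Q] [Algebra A Q] [Module.Flat A Q]
  (M : Type u) [AddCommGroup M] [Module A M]

lemma lTensor_injective_of_good' (S : ShortComplex (ModuleCat.{u} Q)) (hS : S.ShortExact)
    (h3 : Good A S.X₃) : Function.Injective (LinearMap.lTensor (Q ⊗[A] M) S.f.hom) := by
  rw [LinearMap.lTensor_inj_iff_rTensor_inj]
  letI : Module A S.X₁ := Module.compHom _ (algebraMap A Q)
  letI : Module A S.X₂ := Module.compHom _ (algebraMap A Q)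
  haveI : IsScalarTower A Q S.X₁ := IsScalarTower.of_algebraMap_smul (fun _ _ => rfl)
  haveI : IsScalarTower A Q S.X₂ := IsScalarTower.of_algebraMap_smul (fun _ _ => rfl)
  refine rTensor_injective_of_module (R := A) S.f.hom ?_
  rw [← LinearMap.lTensor_inj_iff_rTensor_inj]
  haveI : Module.Flat A ((ModuleCat.restrictScalars.{u} (algebraMap A Q)).obj S.X₃) := h3
  exact LinearMap.lTensor_injective_of_exact_of_flat
    ((ModuleCat.restrictScalars.{u} (algebraMap A Q)).map S.g).hom hS.moduleCat_surjective_g
    ((ModuleCat.restrictScalars.{u} (algebraMap A Q)).map S.f).hom hS.moduleCat_injective_f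
    ((ShortComplex.ShortExact.moduleCat_exact_iff_function_exact S).1 hS.exact) M

variable {P' : Type u} [CommRing P'] (φ : P' →+* Q)

/-- **the main induction**: if `(Q ⊗_A M)` is `s`-pseudo-coherent over `P'`, `X` is an `A`-flat
`Q`-module which is `r`-pseudo-coherent over `Q`, then `(Q ⊗_A M) ⊗_Q X` is `max r s`-pseudo-coherent
over `P'`. -/
theorem npc_tensorMod_of_flat {r s : ℤ}
    (hM : NPC (FF P') s ((DerivedCategory.singleFunctor (ModuleCat.{u} P') 0).obj
      ((ModuleCat.restrictScalars.{u} φ).obj (ModuleCat.of Q (Q ⊗[A] M)))))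
    (X : ModuleCat.{u} Q) (hX : Good A X)
    (h : NPC (FF Q) r ((DerivedCategory.singleFunctor (ModuleCat.{u} Q) 0).obj X)) :
    NPC (FF P') (max r s) ((DerivedCategory.singleFunctor (ModuleCat.{u} P') 0).obj
      ((ModuleCat.restrictScalars.{u} φ).obj (ModuleCat.of Q ((Q ⊗[A] M) ⊗[Q] X)))) := by
  refine npc_map_of_good_aux (tensorModFunctor Q (Q ⊗[A] M) ⋙ ModuleCat.restrictScalars.{u} φ)
    (Good A) (s := s) ?_ ?_ ?_ (1 - r).toNat X r (by omega) hX h
  · intro n
    let e0 : ((Q ⊗[A] M) ⊗[Q] (Fin n → Q)) ≃ₗ[Q] (Fin n → (Q ⊗[A] M)) :=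
      TensorProduct.piScalarRight Q Q (Q ⊗[A] M) (Fin n)
    let e1' : ((ModuleCat.restrictScalars.{u} φ).obj (ModuleCat.of Q (Fin n → (Q ⊗[A] M)))) ≃ₗ[P']
        (Fin n → ((ModuleCat.restrictScalars.{u} φ).obj (ModuleCat.of Q (Q ⊗[A] M)))) :=
      { toFun := fun x => x
        invFun := fun x => x
        map_add' := fun _ _ => rfl
        map_smul' := fun _ _ => rfl
        left_inv := fun _ => rfl
        right_inv := fun _ => rfl }
    let e1 : (ModuleCat.restrictScalars.{u} φ).obj (ModuleCat.of Q (Fin n → (Q ⊗[A] M))) ≅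
        ModuleCat.of P' (Fin n → ((ModuleCat.restrictScalars.{u} φ).obj
          (ModuleCat.of Q (Q ⊗[A] M)))) := e1'.toModuleIso
    exact npc_single_of_iso (npc_single_pi _ hM n)
      (e1.symm ≪≫ (ModuleCat.restrictScalars.{u} φ).mapIso e0.toModuleIso.symm)
  · intro S hS h2 h3
    exact good_kernel S hS h2 h3
  · intro S hS h3
    have h4 := shortExact_map_tensorModFunctor S hS (lTensor_injective_of_good' M S hS h3)
    exact h4.map_of_exact (ModuleCat.restrictScalars.{u} φ)

end Main

end Groth.Agent.Lib.helper13.TIpc
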