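import Mathlib
import Groth.Prelude
import Groth.Agent.Lib.Helper13.TIpc6
import Groth.Agent.Lib.Helper23.DRingPC12

/-!
# helper13: S7025 — `B ⊗_A M` is `m`-pseudo-coherent relative to `R` when `B` is flat and
pseudo-coherent relative to `A` and `M` is `m`-pseudo-coherent relative to `R`
-/

set_option autoImplicit false
universe u
open CategoryTheory CategoryTheory.Limits TensorProduct

attribute [local instance] HasDerivedCategory.standard

namespace Groth.Agent.Lib.helper13.TIpc

open Groth.Agent.Lib.helper23.PCohCore Groth.Agent.Lib.helper23.DRingPC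
open Groth.Agent.Lib.helper13.NPCH Groth.Agent.Lib.helper23.ExtSc

attribute [local instance] MvPolynomial.algebraMvPolynomial

section Equivs

variable {A Q B M : Type u} [CommRing A] [CommRing Q] [CommRing B] [Algebra A Q] [Algebra A B]
  [Algebra Q B] [IsScalarTower A Q B] [AddCommGroup M] [Module A M]

/-- `(Q ⊗_A M) ⊗_Q B ≃ B ⊗_A M` -/
noncomputable def tensorTensorEquiv : ((Q ⊗[A] M) ⊗[Q] B) ≃ₗ[Q] (B ⊗[A] M) :=
  TensorProduct.comm Q _ _ ≪≫ₗ TensorProduct.AlgebraTensorModule.cancelBaseChange A Q Q B M


variable {P' : Type u} [CommRing P'] [Algebra P' Q]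

/-- restriction of scalars along `algebraMap` of a module with a compatible structure -/
noncomputable def restrictIsoOf (Y : Type u) [AddCommGroup Y] [Module Q Y] [Module P' Y]
    [IsScalarTower P' Q Y] :
    (ModuleCat.restrictScalars.{u} (algebraMap P' Q)).obj (ModuleCat.of Q Y) ≅ ModuleCat.of P' Y :=
  LinearEquiv.toModuleIso
    (show ((ModuleCat.restrictScalars.{u} (algebraMap P' Q)).obj (ModuleCat.of Q Y)) ≃ₗ[P'] Y from
      { toFun := fun x => x
        invFun := fun x => x
        map_add' := fun _ _ => rfl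
        map_smul' := fun p y => algebraMap_smul Q p (show Y from y)
        left_inv := fun _ => rfl
        right_inv := fun _ => rfl })

end Equivs

section Core

variable {P A P' Q B : Type u} [CommRing P] [CommRing A] [CommRing P'] [CommRing Q] [CommRing B]
  [Algebra P A] [Algebra P P'] [Algebra P' Q] [Algebra A Q] [Algebra P Q] [IsScalarTower P P' Q]
  [IsScalarTower P A Q] [Algebra.IsPushout P P' A Q] [Module.Flat P P'] [Module.Flat A Q]
  [Algebra Q B] [Algebra A B] [IsScalarTower A Q B] [Module.Flat A B]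
  [Algebra P' B] [IsScalarTower P' Q B]
  (M : Type u) [AddCommGroup M] [Module A M] [Module P M] [IsScalarTower P A M]

theorem npc_tensor_of_flat_pc {m : ℤ}
    (hM : NPC (FF P) m ((DerivedCategory.singleFunctor (ModuleCat.{u} P) 0).obj
      (ModuleCat.of P M)))
    (hB : NPC (FF Q) m ((DerivedCategory.singleFunctor (ModuleCat.{u} Q) 0).obj
      (ModuleCat.of Q B))) :
    NPC (FF P') m ((DerivedCategory.singleFunctor (ModuleCat.{u} P') 0).obj
      (ModuleCat.of P' (B ⊗[A] M))) := by
  have h0 : NPC (FF P') m ((DerivedCategory.singleFunctor (ModuleCat.{u} P') 0).obj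
      (ModuleCat.of P' (P' ⊗[P] M))) := npc_single_baseChange m (ModuleCat.of P M) hM
  have hM' : NPC (FF P') m ((DerivedCategory.singleFunctor (ModuleCat.{u} P') 0).obj
      ((ModuleCat.restrictScalars.{u} (algebraMap P' Q)).obj (ModuleCat.of Q (Q ⊗[A] M)))) :=
    npc_single_of_iso h0 ((Algebra.IsPushout.cancelBaseChange P P' A Q M).symm.toModuleIso ≪≫
      (restrictIsoOf (Q := Q) (P' := P') (Q ⊗[A] M)).symm)
  have hX : Good A (ModuleCat.of Q B) := by
    let e0 : B ≃ₗ[A] ((ModuleCat.restrictScalars.{u} (algebraMap A Q)).obj (ModuleCat.of Q B)) :=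
      { toFun := fun x => x
        invFun := fun x => x
        map_add' := fun _ _ => rfl
        map_smul' := fun a (b : B) => (algebraMap_smul Q a b).symm
        left_inv := fun _ => rfl
        right_inv := fun _ => rfl }
    exact Module.Flat.of_linearEquiv e0.symm
  have key := npc_tensorMod_of_flat M (algebraMap P' Q) hM' (ModuleCat.of Q B) hX hB
  rw [max_self] at key
  exact npc_single_of_iso key
    ((ModuleCat.restrictScalars.{u} (algebraMap P' Q)).mapIso
      (tensorTensorEquiv (A := A) (Q := Q) (B := B) (M := M)).toModuleIso ≪≫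
        restrictIsoOf (Q := Q) (P' := P') (B ⊗[A] M))

end Core

variable {R A B : Type u} [CommRing R] [CommRing A] [CommRing B] [Algebra R A] [Algebra A B]
  [Algebra R B] [IsScalarTower R A B] [Algebra.FiniteType R A] [Algebra.FiniteType A B]
  [Module.Flat A B]

theorem isRelPseudoCoherentModule_baseChange (hB : DerCA.IsRelPseudoCoherentModuleAll A B B)
    (m : ℤ) (M : Type u) [AddCommGroup M] [Module A M]
    (hM : DerCA.IsRelPseudoCoherentModule R A m M) :
    DerCA.IsRelPseudoCoherentModule R B m (B ⊗[A] M) := by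
  obtain ⟨n, α, hα⟩ := exists_presentation (R := R) (A := A)
  obtain ⟨k, β, hβ⟩ := exists_presentation (R := A) (A := B)
  let φ : MvPolynomial (Fin k) (MvPolynomial (Fin n) R) →+* MvPolynomial (Fin k) A :=
    MvPolynomial.map (α : MvPolynomial (Fin n) R →+* A)
  let γ : MvPolynomial (Fin k) (MvPolynomial (Fin n) R) →+* B :=
    (β : MvPolynomial (Fin k) A →+* B).comp φ
  have hγs : Function.Surjective γ :=
    hβ.comp (MvPolynomial.map_surjective _ hα)
  have hγC : ∀ r : R, γ (MvPolynomial.C (MvPolynomial.C r)) = algebraMap R B r := by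
    intro r
    simp only [γ, φ, RingHom.comp_apply, MvPolynomial.map_C]
    have h1 : (α : MvPolynomial (Fin n) R →+* A) (MvPolynomial.C r) = algebraMap R A r :=
      α.commutes r
    rw [h1]
    have h2 : (β : MvPolynomial (Fin k) A →+* B) (MvPolynomial.C (algebraMap R A r)) =
        algebraMap A B (algebraMap R A r) := β.commutes _
    rw [h2, ← IsScalarTower.algebraMap_apply]
  -- hypotheses in NPC form
  have hM1 : NPC (FF (MvPolynomial (Fin n) R)) m
      ((DerivedCategory.singleFunctor (ModuleCat.{u} (MvPolynomial (Fin n) R)) 0).obj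
        ((ModuleCat.restrictScalars.{u} (α : MvPolynomial (Fin n) R →+* A)).obj
          (ModuleCat.of A M))) :=
    (npc_restrict_single_iff _ (ModuleCat.of A M) m).1
      ((isRelPseudoCoherent_iff_npc α hα m _).1 hM)
  have hB1 : NPC (FF (MvPolynomial (Fin k) A)) m
      ((DerivedCategory.singleFunctor (ModuleCat.{u} (MvPolynomial (Fin k) A)) 0).obj
        ((ModuleCat.restrictScalars.{u} (β : MvPolynomial (Fin k) A →+* B)).obj
          (ModuleCat.of B B))) :=
    (npc_restrict_single_iff _ (ModuleCat.of B B) m).1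
      ((isRelPseudoCoherent_iff_npc β hβ m _).1 (hB m))
  refine (isRelPseudoCoherent_iff_npc_iterated γ hγs hγC _ m).2
    ((npc_restrict_single_iff γ (ModuleCat.of B (B ⊗[A] M)) m).2 ?_)
  -- instances
  letI : Algebra (MvPolynomial (Fin n) R) A := (α : MvPolynomial (Fin n) R →+* A).toAlgebra
  letI : Algebra (MvPolynomial (Fin k) A) B := (β : MvPolynomial (Fin k) A →+* B).toAlgebra
  haveI : IsScalarTower A (MvPolynomial (Fin k) A) B :=
    IsScalarTower.of_algebraMap_eq (fun a => (β.commutes a).symm)
  letI : Algebra (MvPolynomial (Fin k) (MvPolynomial (Fin n) R)) B := γ.toAlgebra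
  haveI : IsScalarTower (MvPolynomial (Fin k) (MvPolynomial (Fin n) R)) (MvPolynomial (Fin k) A) B :=
    IsScalarTower.of_algebraMap_eq (fun x => rfl)
  letI : Module (MvPolynomial (Fin n) R) M :=
    Module.compHom M (α : MvPolynomial (Fin n) R →+* A)
  haveI : IsScalarTower (MvPolynomial (Fin n) R) A M :=
    IsScalarTower.of_algebraMap_smul (fun _ _ => rfl)
  have hM2 : NPC (FF (MvPolynomial (Fin n) R)) m
      ((DerivedCategory.singleFunctor (ModuleCat.{u} (MvPolynomial (Fin n) R)) 0).obj
        (ModuleCat.of (MvPolynomial (Fin n) R) M)) := hM1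
  have hB2 : NPC (FF (MvPolynomial (Fin k) A)) m
      ((DerivedCategory.singleFunctor (ModuleCat.{u} (MvPolynomial (Fin k) A)) 0).obj
        (ModuleCat.of (MvPolynomial (Fin k) A) B)) := hB1
  have key := npc_tensor_of_flat_pc (P := MvPolynomial (Fin n) R) (A := A)
    (P' := MvPolynomial (Fin k) (MvPolynomial (Fin n) R)) (Q := MvPolynomial (Fin k) A) (B := B)
    M hM2 hB2
  exact key

end Groth.Agent.Lib.helper13.TIpc
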