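import Mathlib
import Groth.Prelude.Def_DRing2
import Groth.Agent.Lib.Helper13.LTenCx2

/-!
# Top degree Künneth formula for bounded above complexes of modules (helper13)

For cochain complexes `K`, `L` of `A`-modules with `K^i = 0` for `i > a` and `L^j = 0` for `j > b`:
`H^{a+b}(K ⊗ L) ≅ H^a(K) ⊗ H^b(L)` (`nonempty_homology_tensor_top_iso`).
-/

set_option autoImplicit false
universe u
open CategoryTheory CategoryTheory.Limits MonoidalCategory HomologicalComplex

namespace Groth.Agent.Lib.helper13.TopKun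

open Groth.Agent.Lib.helper13.LTenCx

variable {A : Type u} [CommRing A] (K L : DRing.Cx A) (a b : ℤ)
  (hK : DRing.VanishesAbove K a) (hL : DRing.VanishesAbove L b)

include hK hL in
/-- summands of `(K ⊗ L)^n` other than `(a, b)` vanish for `n = a + b` -/
lemma isZero_summand (p q : ℤ) (hpq : p + q = a + b) (hp : p ≠ a) : IsZero (K.X p ⊗ L.X q) := by
  by_cases h : a < p
  · exact isZero_tensor_left (hK p h) _
  · exact isZero_tensor_right _ (hL q (by omega))

include hK hL in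
lemma isIso_ι_top : IsIso (ιTensorObj K L a b (a + b) rfl) := by
  classical
  refine ⟨mapBifunctorDesc (K₁ := K) (K₂ := L) (F := curriedTensor (ModuleCat.{u} A))
    (c := ComplexShape.up ℤ)
    (fun p' q' h' => if hp : p' = a then eqToHom (by
      have h1 : p' + q' = a + b := h'
      have hq : q' = b := by omega
      rw [hq, hp]; rfl) else 0), ?_, ?_⟩
  · erw [ι_mapBifunctorDesc]
    rw [dif_pos rfl]
    simp
  · apply mapBifunctor.hom_ext (K₁ := K) (K₂ := L) (F := curriedTensor (ModuleCat.{u} A))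
      (c := ComplexShape.up ℤ)
    intro p' q' h'
    rw [ι_mapBifunctorDesc_assoc, Category.comp_id]
    by_cases hp : p' = a
    · subst hp
      have h1 : p' + q' = p' + b := h'
      have hq : q' = b := by omega
      subst hq
      simp
    · have h1 : p' + q' = a + b := h'
      exact (isZero_summand K L a b hK hL p' q' h1 hp).eq_of_src _ _


/-- the differential of `K ⊗ L` on a summand -/
lemma ι_d (p q n n' : ℤ) (h : p + q = n) (hn' : n + 1 = n') :
    ιTensorObj K L p q n h ≫ (K ⊗ L).d n n' =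
      ComplexShape.ε₁ (ComplexShape.up ℤ) (ComplexShape.up ℤ) (ComplexShape.up ℤ) (p, q) •
        ((K.d p (p + 1) ▷ L.X q) ≫ ιTensorObj K L (p + 1) q n' (by omega)) +
      ComplexShape.ε₂ (ComplexShape.up ℤ) (ComplexShape.up ℤ) (ComplexShape.up ℤ) (p, q) •
        ((K.X p ◁ L.d q (q + 1)) ≫ ιTensorObj K L p (q + 1) n' (by omega)) := by
  subst hn'
  change ιMapBifunctor K L (curriedTensor (ModuleCat.{u} A)) (ComplexShape.up ℤ) p q n h ≫
    (mapBifunctor K L (curriedTensor (ModuleCat.{u} A)) (ComplexShape.up ℤ)).d n (n + 1) = _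
  rw [mapBifunctor.d_eq, Preadditive.comp_add, mapBifunctor.ι_D₁, mapBifunctor.ι_D₂,
    mapBifunctor.d₁_eq K L (curriedTensor (ModuleCat.{u} A)) (ComplexShape.up ℤ)
      (show (ComplexShape.up ℤ).Rel p (p + 1) from rfl) q (n + 1) (by
        change p + 1 + q = n + 1
        omega),
    mapBifunctor.d₂_eq K L (curriedTensor (ModuleCat.{u} A)) (ComplexShape.up ℤ) p
      (show (ComplexShape.up ℤ).Rel q (q + 1) from rfl) (n + 1) (by
        change p + (q + 1) = n + 1
        omega)]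
  rfl

/-- the projection `(K ⊗ L)^{a+b} ⟶ coker d_K ⊗ coker d_L` -/
noncomputable def ρ : (K ⊗ L).X (a + b) ⟶ K.opcycles a ⊗ L.opcycles b :=
  (@asIso _ _ _ _ (ιTensorObj K L a b (a + b) rfl) (isIso_ι_top K L a b hK hL)).inv ≫
    (K.pOpcycles a ⊗ₘ L.pOpcycles b)

lemma ι_ρ : ιTensorObj K L a b (a + b) rfl ≫ ρ K L a b hK hL = K.pOpcycles a ⊗ₘ L.pOpcycles b := by
  simp [ρ]

lemma d_ρ (n : ℤ) (hn : n + 1 = a + b) : (K ⊗ L).d n (a + b) ≫ ρ K L a b hK hL = 0 := by
  apply mapBifunctor.hom_ext (K₁ := K) (K₂ := L) (F := curriedTensor (ModuleCat.{u} A))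
    (c := ComplexShape.up ℤ)
  intro p q hpq
  have hpq' : p + q = n := hpq
  change ιTensorObj K L p q n hpq' ≫ _ = _ ≫ 0
  rw [comp_zero, ← Category.assoc, ι_d K L p q n (a + b) hpq' hn]
  by_cases h1 : p + 1 = a
  · subst h1
    obtain rfl : q = b := by omega
    have hz : L.d q (q + 1) = 0 := (hL (q + 1) (by omega)).eq_of_tgt _ _
    rw [hz, MonoidalPreadditive.whiskerLeft_zero, zero_comp, smul_zero, add_zero,
      Linear.units_smul_comp, Category.assoc, ι_ρ]
    have : K.d p (p + 1) ▷ L.X q ≫ (K.pOpcycles (p + 1) ⊗ₘ L.pOpcycles q) = 0 := by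
      rw [MonoidalCategory.tensorHom_def, ← Category.assoc, ← MonoidalCategory.comp_whiskerRight,
        HomologicalComplex.d_pOpcycles, MonoidalPreadditive.zero_whiskerRight, zero_comp]
    rw [this, smul_zero]
  · by_cases h2 : p = a
    · subst h2
      obtain rfl : q + 1 = b := by omega
      have hz : K.d p (p + 1) = 0 := (hK (p + 1) (by omega)).eq_of_tgt _ _
      rw [hz, MonoidalPreadditive.zero_whiskerRight, zero_comp, smul_zero, zero_add,
        Linear.units_smul_comp, Category.assoc, ι_ρ]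
      have : K.X p ◁ L.d q (q + 1) ≫ (K.pOpcycles p ⊗ₘ L.pOpcycles (q + 1)) = 0 := by
        rw [MonoidalCategory.tensorHom_def', ← Category.assoc,
          ← MonoidalCategory.whiskerLeft_comp, HomologicalComplex.d_pOpcycles,
          MonoidalPreadditive.whiskerLeft_zero, zero_comp]
      rw [this, smul_zero]
    · have hz : IsZero (K.X p ⊗ L.X q) := by
        by_cases h3 : a < p
        · exact isZero_tensor_left (hK p h3) _
        · exact isZero_tensor_right _ (hL q (by omega))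
      exact hz.eq_of_src _ _


omit hK hL in
/-- `K^{a-1} ⟶ K^a ⟶ coker` is exact with surjective second map -/
lemma exact_pOpcycles (M : DRing.Cx A) (p : ℤ) :
    Function.Exact (M.d p (p + 1)).hom (M.pOpcycles (p + 1)).hom ∧
      Function.Surjective (M.pOpcycles (p + 1)).hom := by
  have hc := M.opcyclesIsCokernel p (p + 1) (by simp)
  let S : ShortComplex (ModuleCat.{u} A) :=
    ShortComplex.mk (M.d p (p + 1)) (M.pOpcycles (p + 1)) (M.d_pOpcycles p (p + 1))
  have hS : S.Exact := S.exact_of_g_is_cokernel hc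
  haveI : Epi (M.pOpcycles (p + 1)) := epi_of_isColimit_cofork hc
  exact ⟨(ShortComplex.ShortExact.moduleCat_exact_iff_function_exact S).1 hS,
    (ModuleCat.epi_iff_surjective _).1 inferInstance⟩


omit hK hL in
/-- exactness of `(K ⊗ L)^{n-1} ⟶ (K ⊗ L)^n ⟶ coker d_K ⊗ coker d_L` in top degree -/
lemma exact_top (p q : ℤ) (hK' : DRing.VanishesAbove K (p + 1))
    (hL' : DRing.VanishesAbove L (q + 1)) (n : ℤ) (hn : n + 1 = p + 1 + (q + 1))
    (x : (K ⊗ L).X (p + 1 + (q + 1))) (hx : (ρ K L (p + 1) (q + 1) hK' hL').hom x = 0) :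
    ∃ y : (K ⊗ L).X n, ((K ⊗ L).d n (p + 1 + (q + 1))).hom y = x := by
  haveI := isIso_ι_top K L (p + 1) (q + 1) hK' hL'
  let ιt := ιTensorObj K L (p + 1) (q + 1) (p + 1 + (q + 1)) rfl
  -- the two relevant components of the differential
  have hzK : K.d (p + 1) (p + 1 + 1) = 0 := (hK' (p + 1 + 1) (by omega)).eq_of_tgt _ _
  have hzL : L.d (q + 1) (q + 1 + 1) = 0 := (hL' (q + 1 + 1) (by omega)).eq_of_tgt _ _
  have h1 := ι_d K L p (q + 1) n (p + 1 + (q + 1)) (by omega) hn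
  rw [hzL, MonoidalPreadditive.whiskerLeft_zero, zero_comp, smul_zero, add_zero] at h1
  have h2 := ι_d K L (p + 1) q n (p + 1 + (q + 1)) (by omega) hn
  rw [hzK, MonoidalPreadditive.zero_whiskerRight, zero_comp, smul_zero, zero_add] at h2
  set ε₁ := ComplexShape.ε₁ (ComplexShape.up ℤ) (ComplexShape.up ℤ) (ComplexShape.up ℤ)
    (p, q + 1) with hε₁
  set ε₂ := ComplexShape.ε₂ (ComplexShape.up ℤ) (ComplexShape.up ℤ) (ComplexShape.up ℤ)
    (p + 1, q) with hε₂
  let g₁ : K.X p ⊗ L.X (q + 1) ⟶ (K ⊗ L).X n :=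
    ε₁⁻¹ • ιTensorObj K L p (q + 1) n (by omega)
  let g₂ : K.X (p + 1) ⊗ L.X q ⟶ (K ⊗ L).X n :=
    ε₂⁻¹ • ιTensorObj K L (p + 1) q n (by omega)
  have hg₁ : g₁ ≫ (K ⊗ L).d n (p + 1 + (q + 1)) = (K.d p (p + 1) ▷ L.X (q + 1)) ≫ ιt := by
    simp only [g₁, Linear.units_smul_comp, h1, smul_smul, inv_mul_cancel, one_smul]
    rfl
  have hg₂ : g₂ ≫ (K ⊗ L).d n (p + 1 + (q + 1)) = (K.X (p + 1) ◁ L.d q (q + 1)) ≫ ιt := by
    simp only [g₂, Linear.units_smul_comp, h2, smul_smul, inv_mul_cancel, one_smul]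
    rfl
  -- the element of `K^a ⊗ L^b`
  obtain ⟨z, rfl⟩ : ∃ z : (K.X (p + 1) ⊗ L.X (q + 1) : ModuleCat.{u} A), ιt.hom z = x := by
    refine ⟨(inv ιt).hom x, ?_⟩
    rw [← ModuleCat.comp_apply, IsIso.inv_hom_id]
    rfl
  have hz : (K.pOpcycles (p + 1) ⊗ₘ L.pOpcycles (q + 1)).hom z = 0 := by
    rw [← ι_ρ K L (p + 1) (q + 1) hK' hL']
    exact hx
  obtain ⟨heK, hsK⟩ := exact_pOpcycles K p
  obtain ⟨heL, hsL⟩ := exact_pOpcycles L q
  have hker := TensorProduct.map_ker heK hsK heL hsL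
  have hzmem : (z : TensorProduct A (K.X (p + 1)) (L.X (q + 1))) ∈
      LinearMap.ker (TensorProduct.map (K.pOpcycles (p + 1)).hom (L.pOpcycles (q + 1)).hom) :=
    hz
  rw [hker, Submodule.mem_sup] at hzmem
  obtain ⟨z₁, ⟨u, rfl⟩, z₂, ⟨v, rfl⟩, hsum⟩ := hzmem
  refine ⟨g₂.hom u + g₁.hom v, ?_⟩
  rw [map_add, ← ModuleCat.comp_apply, ← ModuleCat.comp_apply, hg₁, hg₂, ← hsum, map_add]
  rfl


include hK hL in
/-- **Top degree Künneth formula**: `H^{a+b}(K ⊗ L) ≅ H^a(K) ⊗ H^b(L)` for `K^i = 0` (`i > a`) and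
`L^j = 0` (`j > b`) -/
theorem nonempty_homology_tensor_top_iso :
    Nonempty ((K ⊗ L).homology (a + b) ≅ K.homology a ⊗ L.homology b) := by
  obtain ⟨p, rfl⟩ : ∃ p, a = p + 1 := ⟨a - 1, by omega⟩
  obtain ⟨q, rfl⟩ : ∃ q, b = q + 1 := ⟨b - 1, by omega⟩
  have hn : (p + q + 1) + 1 = p + 1 + (q + 1) := by omega
  obtain ⟨-, hsK⟩ := exact_pOpcycles K p
  obtain ⟨-, hsL⟩ := exact_pOpcycles L q
  let S : ShortComplex (ModuleCat.{u} A) :=
    ShortComplex.mk ((K ⊗ L).d (p + q + 1) (p + 1 + (q + 1))) (ρ K L (p + 1) (q + 1) hK hL)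
      (d_ρ K L (p + 1) (q + 1) hK hL (p + q + 1) hn)
  have hS : S.Exact := by
    rw [ShortComplex.ShortExact.moduleCat_exact_iff_function_exact]
    intro x
    constructor
    · intro hx
      exact exact_top K L p q hK hL (p + q + 1) hn x hx
    · rintro ⟨y, rfl⟩
      have := d_ρ K L (p + 1) (q + 1) hK hL (p + q + 1) hn
      exact congrArg (fun f => f.hom y) this
  haveI : Epi (K.pOpcycles (p + 1) ⊗ₘ L.pOpcycles (q + 1)) := by
    rw [ModuleCat.epi_iff_surjective]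
    exact TensorProduct.map_surjective hsK hsL
  haveI : Epi S.g := by
    change Epi (ρ K L (p + 1) (q + 1) hK hL)
    unfold ρ
    infer_instance
  have hcok := hS.gIsCokernel
  have hcok' := (K ⊗ L).opcyclesIsCokernel (p + q + 1) (p + 1 + (q + 1)) (by simp; omega)
  let e1 : (K ⊗ L).opcycles (p + 1 + (q + 1)) ≅ K.opcycles (p + 1) ⊗ L.opcycles (q + 1) :=
    IsColimit.coconePointUniqueUpToIso hcok' hcok
  let e2 : (K ⊗ L).homology (p + 1 + (q + 1)) ≅ (K ⊗ L).opcycles (p + 1 + (q + 1)) :=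
    (K ⊗ L).isoHomologyι (p + 1 + (q + 1)) (p + 1 + (q + 1) + 1) (by simp)
      ((vanishesAbove_tensor hK hL (p + 1 + (q + 1) + 1) (by omega)).eq_of_tgt _ _)
  let eK : K.homology (p + 1) ≅ K.opcycles (p + 1) :=
    K.isoHomologyι (p + 1) (p + 1 + 1) (by simp) ((hK (p + 1 + 1) (by omega)).eq_of_tgt _ _)
  let eL : L.homology (q + 1) ≅ L.opcycles (q + 1) :=
    L.isoHomologyι (q + 1) (q + 1 + 1) (by simp) ((hL (q + 1 + 1) (by omega)).eq_of_tgt _ _)
  exact ⟨e2 ≪≫ e1 ≪≫ (eK.symm ⊗ᵢ eL.symm)⟩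

end Groth.Agent.Lib.helper13.TopKun
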