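import Mathlib

set_option autoImplicit false
universe u
open TensorProduct

namespace Groth.Agent.Lib.helper13.TopKun

variable {A : Type u} [CommRing A] [IsLocalRing A]

/-- tensor product of nontrivial finite modules over a local ring is nontrivial -/
theorem nontrivial_tensorProduct_of_finite (M N : Type u) [AddCommGroup M] [Module A M]
    [AddCommGroup N] [Module A N] [Module.Finite A M] [Module.Finite A N] [Nontrivial M]
    [Nontrivial N] : Nontrivial (M ⊗[A] N) := by
  let k := IsLocalRing.ResidueField A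
  have hM : Nontrivial (k ⊗[A] M) := by
    rw [← not_subsingleton_iff_nontrivial, IsLocalRing.subsingleton_tensorProduct]
    exact not_subsingleton M
  have hN : Nontrivial (k ⊗[A] N) := by
    rw [← not_subsingleton_iff_nontrivial, IsLocalRing.subsingleton_tensorProduct]
    exact not_subsingleton N
  -- `(k ⊗ M) ⊗_k (k ⊗ N)` is nontrivial
  obtain ⟨v, hv⟩ := exists_ne (0 : k ⊗[A] N)
  have hinj : Function.Injective (LinearMap.toSpanSingleton k (k ⊗[A] N) v) := by
    rw [← LinearMap.ker_eq_bot]
    exact LinearMap.ker_toSpanSingleton k hv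
  haveI : Nontrivial ((k ⊗[A] M) ⊗[k] (k ⊗[A] N)) :=
    TensorProduct.nontrivial_of_linearMap_injective_of_flat_left k (k ⊗[A] M) (k ⊗[A] N) _ hinj
  -- `k ⊗ (M ⊗ N) ≅ (k ⊗ M) ⊗_k (k ⊗ N)`
  let e := TensorProduct.AlgebraTensorModule.distribBaseChange A k M N
  haveI : Nontrivial (k ⊗[A] (M ⊗[A] N)) := e.toEquiv.nontrivial
  by_contra h
  rw [not_nontrivial_iff_subsingleton] at h
  haveI := h
  exact not_subsingleton (k ⊗[A] (M ⊗[A] N)) inferInstance

/-- over a local ring, `M ⊗ N ≅ A` forces `M ≅ A` -/
theorem nonempty_linearEquiv_of_tensor (M N : Type u) [AddCommGroup M] [Module A M]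
    [AddCommGroup N] [Module A N] (e : M ⊗[A] N ≃ₗ[A] A) : Nonempty (M ≃ₗ[A] A) := by
  haveI : Module.Invertible A M := Module.Invertible.left e
  haveI : Module.Free A M := Module.free_of_flat_of_isLocalRing
  exact Module.Invertible.free_iff_linearEquiv.1 inferInstance

end Groth.Agent.Lib.helper13.TopKun
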