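import Mathlib
import Groth.Prelude.Def_DRing2
import Groth.Agent.Lib.Helper13.TopKun1
import Groth.Agent.Lib.Helper13.TopKun2

set_option autoImplicit false
universe u
open CategoryTheory CategoryTheory.Limits MonoidalCategory HomologicalComplex

namespace Groth.Agent.Lib.helper13.TopKun

open Groth.Agent.Lib.helper13.LTenCx

variable {A : Type u} [CommRing A]

/-- `A` in degree `a` -/
noncomputable abbrev Sg (a : ℤ) : DRing.Cx A :=
  (HomologicalComplex.single (ModuleCat.{u} A) (ComplexShape.up ℤ) a).obj (𝟙_ (ModuleCat.{u} A))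

/-- a complex vanishing above `a` with `H^a ≅ A` has `A[-a]` as a retract -/
lemma exists_retract_single (P : DRing.Cx A) (a : ℤ) (hP : DRing.VanishesAbove P a)
    (e : P.homology a ≅ 𝟙_ (ModuleCat.{u} A)) :
    ∃ (σ : Sg a ⟶ P) (π : P ⟶ Sg a), σ ≫ π = 𝟙 _ := by
  let e0 : P.homology a ≅ P.opcycles a :=
    P.isoHomologyι a (a + 1) (by simp) ((hP (a + 1) (by omega)).eq_of_tgt _ _)
  let φ : P.X a ⟶ 𝟙_ (ModuleCat.{u} A) := P.pOpcycles a ≫ e0.inv ≫ e.hom
  have hφ : Function.Surjective φ.hom := by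
    rw [← ModuleCat.epi_iff_surjective]
    infer_instance
  obtain ⟨x, hx⟩ := hφ (1 : A)
  let ψ : 𝟙_ (ModuleCat.{u} A) ⟶ P.X a := ModuleCat.ofHom (LinearMap.toSpanSingleton A (P.X a) x)
  have hψφ : ψ ≫ φ = 𝟙 _ := by
    apply ModuleCat.hom_ext
    apply LinearMap.ext_ring
    change φ.hom ((1 : A) • x) = (1 : A)
    rw [one_smul, hx]
  refine ⟨mkHomFromSingle ψ (fun j hj => (hP j (by
      have : a + 1 = j := hj
      omega)).eq_of_tgt _ _),
    mkHomToSingle φ (fun i hi => by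
      rw [← Category.assoc, HomologicalComplex.d_pOpcycles, zero_comp]), ?_⟩
  apply from_single_hom_ext
  rw [comp_f, mkHomFromSingle_f, mkHomToSingle_f, id_f, Category.assoc, reassoc_of% hψφ,
    Iso.hom_inv_id]


lemma isZero_homology_whiskerRight_of_retract {S P : DRing.Cx A} (σ : S ⟶ P) (π : P ⟶ S)
    (h : σ ≫ π = 𝟙 _) (F : DRing.Cx A) (j : ℤ) (hz : IsZero ((P ⊗ F).homology j)) :
    IsZero ((S ⊗ F).homology j) := by
  rw [IsZero.iff_id_eq_zero]
  have h1 : (σ ▷ F) ≫ (π ▷ F) = 𝟙 _ := by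
    rw [← MonoidalCategory.comp_whiskerRight, h, MonoidalCategory.id_whiskerRight]
  have h2 : homologyMap (σ ▷ F) j ≫ homologyMap (π ▷ F) j = 𝟙 _ := by
    rw [← homologyMap_comp, h1, homologyMap_id]
  rw [← h2, hz.eq_of_tgt (homologyMap (σ ▷ F) j) 0, zero_comp]

lemma isZero_homology_whiskerLeft_of_retract {S P : DRing.Cx A} (σ : S ⟶ P) (π : P ⟶ S)
    (h : σ ≫ π = 𝟙 _) (F : DRing.Cx A) (j : ℤ) (hz : IsZero ((F ⊗ P).homology j)) :
    IsZero ((F ⊗ S).homology j) := by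
  rw [IsZero.iff_id_eq_zero]
  have h1 : (F ◁ σ) ≫ (F ◁ π) = 𝟙 _ := by
    rw [← MonoidalCategory.whiskerLeft_comp, h, MonoidalCategory.whiskerLeft_id]
  have h2 : homologyMap (F ◁ σ) j ≫ homologyMap (F ◁ π) j = 𝟙 _ := by
    rw [← homologyMap_comp, h1, homologyMap_id]
  rw [← h2, hz.eq_of_tgt (homologyMap (F ◁ σ) j) 0, zero_comp]

/-- `A[-a] ≅ 𝟙[-a]` -/
noncomputable def sgIso (a : ℤ) : ((𝟙_ (DRing.Cx A))⟦-a⟧) ≅ Sg (A := A) a :=
  ((CochainComplex.singleFunctors (ModuleCat.{u} A)).shiftIso (-a) a 0 (by omega)).app (𝟙_ _)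

/-- `A[-a] ⊗ F ≅ F[-a]` -/
noncomputable def sgTensorIso (a : ℤ) (F : DRing.Cx A) : Sg a ⊗ F ≅ F⟦-a⟧ :=
  (tensorRight F).mapIso (sgIso a).symm ≪≫
    CochainComplex.mapBifunctorShift₁Iso (𝟙_ (DRing.Cx A)) F (curriedTensor (ModuleCat.{u} A)) (-a) ≪≫
    (shiftFunctor _ (-a)).mapIso (λ_ F)

/-- `P ⊗ A[-a] ≅ P[-a]` -/
noncomputable def tensorSgIso (P : DRing.Cx A) (a : ℤ) : P ⊗ Sg a ≅ P⟦-a⟧ :=
  (tensorLeft P).mapIso (sgIso a).symm ≪≫
    CochainComplex.mapBifunctorShift₂Iso P (𝟙_ (DRing.Cx A)) (curriedTensor (ModuleCat.{u} A)) (-a) ≪≫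
    (shiftFunctor _ (-a)).mapIso (ρ_ P)

lemma isZero_homology_of_sgTensor (a : ℤ) (F : DRing.Cx A) (j : ℤ)
    (h : IsZero ((Sg a ⊗ F).homology j)) : IsZero (F.homology (-a + j)) :=
  h.of_iso (((CochainComplex.ShiftSequence.shiftIso (ModuleCat.{u} A) (-a) j (-a + j) rfl).app
    F).symm ≪≫ (homologyFunctor _ _ j).mapIso (sgTensorIso a F).symm)

lemma isZero_homology_of_tensorSg (P : DRing.Cx A) (a : ℤ) (j : ℤ)
    (h : IsZero ((P ⊗ Sg a).homology j)) : IsZero (P.homology (-a + j)) :=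
  h.of_iso (((CochainComplex.ShiftSequence.shiftIso (ModuleCat.{u} A) (-a) j (-a + j) rfl).app
    P).symm ≪≫ (homologyFunctor _ _ j).mapIso (tensorSgIso P a).symm)


/-- **chain level form**: over a local ring, bounded above complexes `P`, `F` with finite nonzero top
cohomology and `P ⊗ F` having cohomology `A` in degree `0` only, have cohomology `A` in a single degree -/
theorem invertible_chain [IsLocalRing A] (P F : DRing.Cx A) (a b : ℤ)
    (hP : DRing.VanishesAbove P a) (hF : DRing.VanishesAbove F b)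
    [Nontrivial (P.homology a)] [Nontrivial (F.homology b)]
    [Module.Finite A (P.homology a)] [Module.Finite A (F.homology b)]
    (h0 : (P ⊗ F).homology 0 ≅ 𝟙_ (ModuleCat.{u} A))
    (hne : ∀ j : ℤ, j ≠ 0 → IsZero ((P ⊗ F).homology j)) :
    a + b = 0 ∧ Nonempty (P.homology a ≅ 𝟙_ (ModuleCat.{u} A)) ∧
      Nonempty (F.homology b ≅ 𝟙_ (ModuleCat.{u} A)) ∧
      (∀ i : ℤ, i ≠ a → IsZero (P.homology i)) ∧ (∀ i : ℤ, i ≠ b → IsZero (F.homology i)) := by
  obtain ⟨eT⟩ := nonempty_homology_tensor_top_iso P F a b hP hF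
  haveI hnt : Nontrivial (TensorProduct A (P.homology a) (F.homology b)) :=
    nontrivial_tensorProduct_of_finite _ _
  have hab : a + b = 0 := by
    by_contra h
    have hz : IsZero (P.homology a ⊗ F.homology b) := (hne (a + b) h).of_iso eT.symm
    haveI : Subsingleton (TensorProduct A (P.homology a) (F.homology b)) :=
      ModuleCat.subsingleton_of_isZero hz
    exact not_subsingleton _ this
  have eT' : (P ⊗ F).homology 0 ≅ P.homology a ⊗ F.homology b := by
    rw [← hab]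
    exact eT
  let e : TensorProduct A (P.homology a) (F.homology b) ≃ₗ[A] A :=
    (eT'.symm ≪≫ h0).toLinearEquiv
  obtain ⟨eP⟩ := nonempty_linearEquiv_of_tensor _ _ e
  obtain ⟨eF⟩ := nonempty_linearEquiv_of_tensor _ _ ((TensorProduct.comm A _ _).trans e)
  have iP : P.homology a ≅ 𝟙_ (ModuleCat.{u} A) := eP.toModuleIso
  have iF : F.homology b ≅ 𝟙_ (ModuleCat.{u} A) := eF.toModuleIso
  refine ⟨hab, ⟨iP⟩, ⟨iF⟩, fun i hi => ?_, fun i hi => ?_⟩
  · obtain ⟨σ, π, h⟩ := exists_retract_single F b hF iF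
    have hj : i + b ≠ 0 := by omega
    have := isZero_homology_of_tensorSg P b (i + b)
      (isZero_homology_whiskerLeft_of_retract σ π h P (i + b) (hne _ hj))
    have hi' : -b + (i + b) = i := by ring
    rwa [hi'] at this
  · obtain ⟨σ, π, h⟩ := exists_retract_single P a hP iP
    have hj : i + a ≠ 0 := by omega
    have := isZero_homology_of_sgTensor a F (i + a)
      (isZero_homology_whiskerRight_of_retract σ π h F (i + a) (hne _ hj))
    have hi' : -a + (i + a) = i := by ring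
    rwa [hi'] at this

end Groth.Agent.Lib.helper13.TopKun
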