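import Mathlib
import Groth.Prelude.Def_DRing4
import Groth.Agent.Lib.Helper13.TopKun3
import Groth.Agent.Lib.Helper13.LTenCx1
import Groth.Agent.Lib.Helper13.KFlat9
import Groth.Agent.Lib.Helper13.KRes6
import Groth.Agent.Lib.Helper13.KRes1
import Groth.Agent.Lib.Helper23.LTenKFlat

set_option autoImplicit false
universe u
open CategoryTheory CategoryTheory.Limits MonoidalCategory HomologicalComplex DerivedCategory

attribute [local instance] HasDerivedCategory.standard

namespace Groth.Agent.Lib.helper13.TopKun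

open Groth.Agent.Lib.helper13.LTenCx Groth.Agent.Lib.helper13.KFlat Groth.Agent.Lib.helper13.KRes

variable {A : Type u} [CommRing A]

/-- an object of `D(A)` with cohomology `M` in the single degree `a` is `M[-a]` -/
lemma nonempty_iso_shift_single (X : Dual.D A) (a : ℤ) (M : ModuleCat.{u} A)
    (h : ∀ i : ℤ, i ≠ a → IsZero ((DerivedCategory.homologyFunctor (ModuleCat.{u} A) i).obj X))
    (e : (DerivedCategory.homologyFunctor (ModuleCat.{u} A) a).obj X ≅ M) :
    Nonempty (X ≅ ((DerivedCategory.singleFunctor (ModuleCat.{u} A) 0).obj M)⟦-a⟧) := by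
  haveI : X.IsGE a := (DerivedCategory.isGE_iff X a).2 (fun i hi => h i (by omega))
  haveI : X.IsLE a := (DerivedCategory.isLE_iff X a).2 (fun i hi => h i (by omega))
  obtain ⟨Y, ⟨eX⟩⟩ := DerivedCategory.exists_iso_singleFunctor_obj_of_isGE_of_isLE X a
  let eY : Y ≅ M := ((DerivedCategory.singleFunctorCompHomologyFunctorIso (ModuleCat.{u} A) a).app Y).symm ≪≫
    (DerivedCategory.homologyFunctor (ModuleCat.{u} A) a).mapIso eX.symm ≪≫ e
  exact ⟨eX ≪≫ (DerivedCategory.singleFunctor (ModuleCat.{u} A) a).mapIso eY ≪≫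
    (((DerivedCategory.singleFunctors (ModuleCat.{u} A)).shiftIso (-a) a 0 (by omega)).app M).symm⟩

/-- a bounded above flat model, strictly bounded by `a`, of an object of `D^{≤ a}` -/
lemma exists_flat_model (X : Dual.D A) (a : ℤ)
    (h : ∀ i : ℤ, a < i → IsZero ((DerivedCategory.homologyFunctor (ModuleCat.{u} A) i).obj X)) :
    ∃ (P : DRing.Cx A), DRing.VanishesAbove P a ∧ DRing.TermwiseFlat P ∧ Nonempty (Q.obj P ≅ X) := by
  haveI : X.IsLE a := (DerivedCategory.isLE_iff X a).2 h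
  obtain ⟨Y, hY, ⟨eY⟩⟩ := DerivedCategory.exists_iso_Q_obj_of_isLE X a
  obtain ⟨P, α, hP, hPf, -, hα⟩ := exists_flat_resolution (flatClass_flat (R := A)) Y a
  haveI := hα
  haveI : IsIso (Q.map α) := by
    rw [DerivedCategory.isIso_Q_map_iff_quasiIso]
    infer_instance
  exact ⟨P, fun i hi => CochainComplex.isZero_of_isStrictlyLE P a i hi, hPf,
    ⟨asIso (Q.map α) ≪≫ eY.symm⟩⟩


lemma isZero_homology_inD_of_ne (j : ℤ) (hj : j ≠ 0) :
    IsZero ((DerivedCategory.homologyFunctor (ModuleCat.{u} A) j).obj (Dual.inD A A)) := by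
  by_cases h : j < 0
  · exact (DerivedCategory.isGE_iff (Dual.inD A A) 0).1 inferInstance j h
  · exact (DerivedCategory.isLE_iff (Dual.inD A A) 0).1 inferInstance j (by omega)

/-- **invertible objects of `D^-_coh` of a local ring are shifts of the ring** -/
theorem invertible_derived [IsLocalRing A] (L : Dual.D A) (E : DRing.Cx A)
    [DRing.HasLTensorCx A E] (hLfin : ∀ i : ℤ, Module.Finite A (Dual.HD A L i))
    (hLbdd : ∃ b : ℤ, ∀ i : ℤ, b < i → Subsingleton (Dual.HD A L i))
    (hEfin : ∀ i : ℤ, Module.Finite A (Dual.HD A (DRing.toD E) i))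
    (hEbdd : ∃ b : ℤ, ∀ i : ℤ, b < i → Subsingleton (Dual.HD A (DRing.toD E) i))
    (h : Nonempty ((DRing.LTensorCx A E).obj L ≅ Dual.inD A A)) :
    ∃ n : ℤ, Nonempty (L ≅ (Dual.inD A A)⟦n⟧) ∧
      Nonempty (DRing.toD E ≅ (Dual.inD A A)⟦(-n)⟧) := by
  classical
  obtain ⟨h⟩ := h
  have hA0 : (DerivedCategory.homologyFunctor (ModuleCat.{u} A) 0).obj (Dual.inD A A) ≅
      𝟙_ (ModuleCat.{u} A) :=
    (DerivedCategory.singleFunctorCompHomologyFunctorIso (ModuleCat.{u} A) 0).app _
  -- the cohomology of `P ⊗ F` for K-flat models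
  have key : ∀ (P F : DRing.Cx A), IsKFlatR P → (Q.obj P ≅ L) → (Q.obj E ≅ Q.obj F) →
      Nonempty ((P ⊗ F).homology 0 ≅ 𝟙_ (ModuleCat.{u} A)) ∧
        ∀ j : ℤ, j ≠ 0 → IsZero ((P ⊗ F).homology j) := by
    intro P F hP eP eF
    obtain ⟨i⟩ := nonempty_LTensorCx_iso E F P hP eF eP
    let i' : Q.obj (P ⊗ F) ≅ Dual.inD A A := i.symm ≪≫ h
    refine ⟨⟨((DerivedCategory.homologyFunctorFactors (ModuleCat.{u} A) 0).app (P ⊗ F)).symm ≪≫
      (DerivedCategory.homologyFunctor (ModuleCat.{u} A) 0).mapIso i' ≪≫ hA0⟩, fun j hj => ?_⟩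
    exact (isZero_homology_inD_of_ne j hj).of_iso
      (((DerivedCategory.homologyFunctorFactors (ModuleCat.{u} A) j).app (P ⊗ F)).symm ≪≫
        (DerivedCategory.homologyFunctor (ModuleCat.{u} A) j).mapIso i')
  -- arbitrary K-flat models, for the non-vanishing
  obtain ⟨P₀, hP₀, -, ⟨eP₀⟩⟩ := Groth.Agent.Lib.helper23.LTenK.exists_kflat_rep L
  obtain ⟨F₀, f, hF₀, -, hf, -⟩ := exists_isKFlatR_resolution E
  haveI := hf
  haveI : IsIso (Q.map f) := by
    rw [DerivedCategory.isIso_Q_map_iff_quasiIso]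
    infer_instance
  obtain ⟨⟨e00⟩, -⟩ := key P₀ F₀ hP₀ eP₀ (asIso (Q.map f)).symm
  have hnz : ¬ IsZero ((P₀ ⊗ F₀).homology 0) := by
    intro hz
    haveI : Subsingleton A := ModuleCat.subsingleton_of_isZero (hz.of_iso e00.symm)
    exact not_subsingleton A inferInstance
  have hLne : ∃ i : ℤ, ¬ Subsingleton (Dual.HD A L i) := by
    by_contra hcon
    push Not at hcon
    refine hnz (hF₀ P₀ (fun i => ?_) 0)
    haveI := hcon i
    exact (ModuleCat.isZero_of_subsingleton
      ((DerivedCategory.homologyFunctor (ModuleCat.{u} A) i).obj L)).of_iso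
      (((DerivedCategory.homologyFunctorFactors (ModuleCat.{u} A) i).app P₀).symm ≪≫
        (DerivedCategory.homologyFunctor (ModuleCat.{u} A) i).mapIso eP₀)
  have hEne : ∃ i : ℤ, ¬ Subsingleton (Dual.HD A (DRing.toD E) i) := by
    by_contra hcon
    push Not at hcon
    have hac : F₀.Acyclic := by
      intro i
      rw [exactAt_iff_isZero_homology]
      haveI := hcon i
      exact (ModuleCat.isZero_of_subsingleton
        ((DerivedCategory.homologyFunctor (ModuleCat.{u} A) i).obj (DRing.toD E))).of_iso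
        (((DerivedCategory.homologyFunctorFactors (ModuleCat.{u} A) i).app F₀).symm ≪≫
          (DerivedCategory.homologyFunctor (ModuleCat.{u} A) i).mapIso (asIso (Q.map f)))
    have := isKFlatR_symm P₀ hP₀ F₀ hac 0
    rw [exactAt_iff_isZero_homology] at this
    exact hnz this
  -- the top degrees
  obtain ⟨bL, hbL⟩ := hLbdd
  obtain ⟨bE, hbE⟩ := hEbdd
  obtain ⟨a, ha, hamax⟩ := Int.exists_greatest_of_bdd
    (P := fun i => ¬ Subsingleton (Dual.HD A L i)) ⟨bL, fun z hz => by
      by_contra hlt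
      push Not at hlt
      exact hz (hbL z hlt)⟩ hLne
  obtain ⟨b, hb, hbmax⟩ := Int.exists_greatest_of_bdd
    (P := fun i => ¬ Subsingleton (Dual.HD A (DRing.toD E) i)) ⟨bE, fun z hz => by
      by_contra hlt
      push Not at hlt
      exact hz (hbE z hlt)⟩ hEne
  have hLa : ∀ i : ℤ, a < i →
      IsZero ((DerivedCategory.homologyFunctor (ModuleCat.{u} A) i).obj L) := by
    intro i hi
    have : Subsingleton (Dual.HD A L i) := by
      by_contra hs
      have := hamax i hs
      omega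
    exact ModuleCat.isZero_of_subsingleton _
  have hEb : ∀ i : ℤ, b < i →
      IsZero ((DerivedCategory.homologyFunctor (ModuleCat.{u} A) i).obj (DRing.toD E)) := by
    intro i hi
    have : Subsingleton (Dual.HD A (DRing.toD E) i) := by
      by_contra hs
      have := hbmax i hs
      omega
    exact ModuleCat.isZero_of_subsingleton _
  -- strictly bounded flat models
  obtain ⟨P, hP, hPf, ⟨eP⟩⟩ := exists_flat_model L a hLa
  obtain ⟨F, hF, hFf, ⟨eF⟩⟩ := exists_flat_model (DRing.toD E) b hEb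
  have hPK : IsKFlatR P := isKFlatR_of_bounded_above P a hP hPf
  obtain ⟨⟨h0⟩, hne⟩ := key P F hPK eP eF.symm
  let ePa : P.homology a ≅ (DerivedCategory.homologyFunctor (ModuleCat.{u} A) a).obj L :=
    ((DerivedCategory.homologyFunctorFactors (ModuleCat.{u} A) a).app P).symm ≪≫
      (DerivedCategory.homologyFunctor (ModuleCat.{u} A) a).mapIso eP
  let eFb : F.homology b ≅
      (DerivedCategory.homologyFunctor (ModuleCat.{u} A) b).obj (DRing.toD E) :=
    ((DerivedCategory.homologyFunctorFactors (ModuleCat.{u} A) b).app F).symm ≪≫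
      (DerivedCategory.homologyFunctor (ModuleCat.{u} A) b).mapIso eF
  haveI : Nontrivial (Dual.HD A L a) := not_subsingleton_iff_nontrivial.1 ha
  haveI : Nontrivial (Dual.HD A (DRing.toD E) b) := not_subsingleton_iff_nontrivial.1 hb
  haveI : Nontrivial (P.homology a) := ePa.toLinearEquiv.toEquiv.nontrivial
  haveI : Nontrivial (F.homology b) := eFb.toLinearEquiv.toEquiv.nontrivial
  haveI := hLfin a
  haveI := hEfin b
  haveI : Module.Finite A (P.homology a) := Module.Finite.equiv ePa.toLinearEquiv.symm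
  haveI : Module.Finite A (F.homology b) := Module.Finite.equiv eFb.toLinearEquiv.symm
  obtain ⟨hab, ⟨iP⟩, ⟨iF⟩, hPz, hFz⟩ := invertible_chain P F a b hP hF h0 hne
  obtain ⟨r1⟩ := nonempty_iso_shift_single L a (𝟙_ (ModuleCat.{u} A)) (fun i hi =>
    (hPz i hi).of_iso ((DerivedCategory.homologyFunctor (ModuleCat.{u} A) i).mapIso eP.symm ≪≫
      (DerivedCategory.homologyFunctorFactors (ModuleCat.{u} A) i).app P)) (ePa.symm ≪≫ iP)
  obtain ⟨r2⟩ := nonempty_iso_shift_single (DRing.toD E) b (𝟙_ (ModuleCat.{u} A)) (fun i hi =>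
    (hFz i hi).of_iso ((DerivedCategory.homologyFunctor (ModuleCat.{u} A) i).mapIso eF.symm ≪≫
      (DerivedCategory.homologyFunctorFactors (ModuleCat.{u} A) i).app F)) (eFb.symm ≪≫ iF)
  refine ⟨-a, ⟨r1⟩, ?_⟩
  have hba : -b = -(-a) := by omega
  rw [← hba]
  exact ⟨r2⟩

end Groth.Agent.Lib.helper13.TopKun
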