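import Mathlib

/-!
# Balancing Tor, part 1 (helper13): kernel transport and the connecting morphism of a short exact
sequence of functors which is exact on projective objects

* `exists_iso_of_exact`: transport of kernels along isomorphisms.
* `FunSES`: three additive functors `G₁ ⟶ G₂ ⟶ G₃` forming a short exact sequence on projective
  objects; `FunSES.∂ P n : (L_{n+1} G₃)(N) ⟶ (L_n G₁)(N)` (computed with a projective resolution
  `P` of `N`), its exactness properties and its naturality in `N` and in the sequence of functors.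
-/

set_option autoImplicit false
universe v u v' u'

open CategoryTheory Category Limits

namespace Groth.Agent.Lib.helper13.TorBal

section kernel

variable {𝒜 : Type u} [Category.{v} 𝒜] [Abelian 𝒜]

/-- transport of kernels along isomorphisms -/
theorem exists_iso_of_exact {X Y Z X' Y' Z' : 𝒜} (a : X ⟶ Y) (f : Y ⟶ Z) (w : a ≫ f = 0) [Mono a]
    (h : (ShortComplex.mk a f w).Exact) (a' : X' ⟶ Y') (f' : Y' ⟶ Z') (w' : a' ≫ f' = 0) [Mono a']
    (h' : (ShortComplex.mk a' f' w').Exact) (y : Y ≅ Y') (z : Z ≅ Z')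
    (comm : y.hom ≫ f' = f ≫ z.hom) : ∃ x : X ≅ X', x.hom ≫ a' = a ≫ y.hom := by
  haveI : Mono (ShortComplex.mk a f w).f := ‹Mono a›
  haveI : Mono (ShortComplex.mk a' f' w').f := ‹Mono a'›
  have comm' : y.inv ≫ f = f' ≫ z.inv := by
    rw [← cancel_mono z.hom, assoc, assoc, z.inv_hom_id, comp_id, ← comm, y.inv_hom_id_assoc]
  let φ : X ⟶ X' := h'.lift (a ≫ y.hom) (by
    change (a ≫ y.hom) ≫ f' = 0
    rw [assoc, comm, reassoc_of% w, zero_comp])
  let ψ : X' ⟶ X := h.lift (a' ≫ y.inv) (by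
    change (a' ≫ y.inv) ≫ f = 0
    rw [assoc, comm', reassoc_of% w', zero_comp])
  have hφ : φ ≫ a' = a ≫ y.hom := h'.lift_f _ _
  have hψ : ψ ≫ a = a' ≫ y.inv := h.lift_f _ _
  refine ⟨⟨φ, ψ, ?_, ?_⟩, hφ⟩
  · rw [← cancel_mono a, assoc, hψ, reassoc_of% hφ, y.hom_inv_id, comp_id, id_comp]
  · rw [← cancel_mono a', assoc, hφ, reassoc_of% hψ, y.inv_hom_id, comp_id, id_comp]

end kernel

variable {C : Type u} [Category.{v} C] [Abelian C] [HasProjectiveResolutions C]
variable {D : Type u'} [Category.{v'} D] [Abelian D]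

/-- three additive functors forming a short exact sequence on projective objects -/
structure FunSES (C : Type u) [Category.{v} C] [Abelian C] (D : Type u') [Category.{v'} D]
    [Abelian D] where
  G₁ : C ⥤ D
  G₂ : C ⥤ D
  G₃ : C ⥤ D
  [add₁ : G₁.Additive]
  [add₂ : G₂.Additive]
  [add₃ : G₃.Additive]
  α : G₁ ⟶ G₂
  β : G₂ ⟶ G₃
  w : α ≫ β = 0
  exact : ∀ (X : C), Projective X →
    (ShortComplex.mk (α.app X) (β.app X) (by rw [← NatTrans.comp_app, w]; rfl)).ShortExact

attribute [instance] FunSES.add₁ FunSES.add₂ FunSES.add₃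

namespace FunSES

variable (E : FunSES C D) {N : C} (P : ProjectiveResolution N)

/-- the short exact sequence of complexes attached to a projective resolution -/
noncomputable def cxSC : ShortComplex (ChainComplex D ℕ) :=
  ShortComplex.mk ((NatTrans.mapHomologicalComplex E.α _).app P.complex)
    ((NatTrans.mapHomologicalComplex E.β _).app P.complex) (by
      ext n
      change E.α.app (P.complex.X n) ≫ E.β.app (P.complex.X n) = 0
      rw [← NatTrans.comp_app, E.w]
      rfl)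

lemma cxSC_shortExact : (E.cxSC P).ShortExact :=
  HomologicalComplex.shortExact_of_degreewise_shortExact _ fun n =>
    E.exact (P.complex.X n) (P.projective n)

/-- `(L_n G₁)(N) ≅ H_n(G₁ P)` -/
noncomputable def e₁ (n : ℕ) : (E.G₁.leftDerived n).obj N ≅ (E.cxSC P).X₁.homology n :=
  P.isoLeftDerivedObj E.G₁ n

/-- `(L_n G₂)(N) ≅ H_n(G₂ P)` -/
noncomputable def e₂ (n : ℕ) : (E.G₂.leftDerived n).obj N ≅ (E.cxSC P).X₂.homology n :=
  P.isoLeftDerivedObj E.G₂ n

/-- `(L_n G₃)(N) ≅ H_n(G₃ P)` -/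
noncomputable def e₃ (n : ℕ) : (E.G₃.leftDerived n).obj N ≅ (E.cxSC P).X₃.homology n :=
  P.isoLeftDerivedObj E.G₃ n

/-- the connecting morphism `(L_{n+1} G₃)(N) ⟶ (L_n G₁)(N)` -/
noncomputable def «∂» (n : ℕ) : (E.G₃.leftDerived (n + 1)).obj N ⟶ (E.G₁.leftDerived n).obj N :=
  (E.e₃ P (n + 1)).hom ≫ (E.cxSC_shortExact P).δ (n + 1) n rfl ≫ (E.e₁ P n).inv

lemma app_α_eq (n : ℕ) : (NatTrans.leftDerived E.α n).app N =
    (E.e₁ P n).hom ≫ HomologicalComplex.homologyMap (E.cxSC P).f n ≫ (E.e₂ P n).inv :=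
  ProjectiveResolution.leftDerived_app_eq E.α P n

lemma app_β_eq (n : ℕ) : (NatTrans.leftDerived E.β n).app N =
    (E.e₂ P n).hom ≫ HomologicalComplex.homologyMap (E.cxSC P).g n ≫ (E.e₃ P n).inv :=
  ProjectiveResolution.leftDerived_app_eq E.β P n

lemma «∂_comp» (n : ℕ) : E.«∂» P n ≫ (NatTrans.leftDerived E.α n).app N = 0 := by
  rw [E.app_α_eq P n]
  dsimp only [«∂»]
  simp only [assoc, Iso.inv_hom_id_assoc]
  rw [reassoc_of% ((E.cxSC_shortExact P).δ_comp (n + 1) n rfl)]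
  simp

lemma «comp_∂» (n : ℕ) : (NatTrans.leftDerived E.β (n + 1)).app N ≫ E.«∂» P n = 0 := by
  rw [E.app_β_eq P (n + 1)]
  dsimp only [«∂»]
  simp only [assoc, Iso.inv_hom_id_assoc]
  rw [reassoc_of% ((E.cxSC_shortExact P).comp_δ (n + 1) n rfl)]
  simp

/-- exactness at `(L_n G₁)(N)` -/
lemma «exact_∂_map» (n : ℕ) :
    (ShortComplex.mk (E.«∂» P n) ((NatTrans.leftDerived E.α n).app N) (E.«∂_comp» P n)).Exact := by
  refine (ShortComplex.exact_iff_of_iso ?_).2 ((E.cxSC_shortExact P).homology_exact₁ (n + 1) n rfl)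
  refine ShortComplex.isoMk (E.e₃ P (n + 1)) (E.e₁ P n) (E.e₂ P n) ?_ ?_
  · dsimp only [«∂»]
    simp
  · dsimp only
    rw [E.app_α_eq P n]
    simp

/-- exactness at `(L_{n+1} G₃)(N)` -/
lemma «exact_map_∂» (n : ℕ) :
    (ShortComplex.mk ((NatTrans.leftDerived E.β (n + 1)).app N) (E.«∂» P n)
      (E.«comp_∂» P n)).Exact := by
  refine (ShortComplex.exact_iff_of_iso ?_).2 ((E.cxSC_shortExact P).homology_exact₃ (n + 1) n rfl)
  refine ShortComplex.isoMk (E.e₂ P (n + 1)) (E.e₃ P (n + 1)) (E.e₁ P n) ?_ ?_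
  · dsimp only
    rw [E.app_β_eq P (n + 1)]
    simp
  · dsimp only [«∂»]
    simp

/-- `∂` is a monomorphism when `(L_{n+1} G₂)(N) = 0` -/
lemma «mono_∂» (n : ℕ) (h : IsZero ((E.G₂.leftDerived (n + 1)).obj N)) : Mono (E.«∂» P n) :=
  (E.«exact_map_∂» P n).mono_g (h.eq_of_src _ _)

section natN

variable {N' : C} (P' : ProjectiveResolution N') (f : N ⟶ N') (φ : P.complex ⟶ P'.complex)

/-- the morphism of short exact sequences of complexes induced by a chain map -/
noncomputable def cxSCMap : E.cxSC P ⟶ E.cxSC P' where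
  τ₁ := (E.G₁.mapHomologicalComplex _).map φ
  τ₂ := (E.G₂.mapHomologicalComplex _).map φ
  τ₃ := (E.G₃.mapHomologicalComplex _).map φ
  comm₁₂ := (NatTrans.mapHomologicalComplex E.α (ComplexShape.down ℕ)).naturality φ
  comm₂₃ := (NatTrans.mapHomologicalComplex E.β (ComplexShape.down ℕ)).naturality φ

/-- naturality of `∂` in the resolved object -/
theorem «∂_naturality» (comm : φ.f 0 ≫ P'.π.f 0 = P.π.f 0 ≫ f) (n : ℕ) :
    (E.G₃.leftDerived (n + 1)).map f ≫ E.«∂» P' n = E.«∂» P n ≫ (E.G₁.leftDerived n).map f := by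
  have h₃ : (E.G₃.leftDerived (n + 1)).map f ≫ (E.e₃ P' (n + 1)).hom =
      (E.e₃ P (n + 1)).hom ≫ HomologicalComplex.homologyMap (E.cxSCMap P P' φ).τ₃ (n + 1) :=
    ProjectiveResolution.isoLeftDerivedObj_hom_naturality f P P' φ comm E.G₃ (n + 1)
  have h₁ : (E.e₁ P n).inv ≫ (E.G₁.leftDerived n).map f =
      HomologicalComplex.homologyMap (E.cxSCMap P P' φ).τ₁ n ≫ (E.e₁ P' n).inv :=
    ProjectiveResolution.isoLeftDerivedObj_inv_naturality f P P' φ comm E.G₁ n
  dsimp only [«∂»]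
  rw [reassoc_of% h₃, assoc, assoc, h₁,
    ← HomologicalComplex.HomologySequence.δ_naturality_assoc (E.cxSCMap P P' φ)
      (E.cxSC_shortExact P) (E.cxSC_shortExact P') (n + 1) n rfl]

end natN

end FunSES

/-- morphisms of short exact sequences of functors -/
structure FunSES.Hom (E E' : FunSES C D) where
  γ₁ : E.G₁ ⟶ E'.G₁
  γ₂ : E.G₂ ⟶ E'.G₂
  γ₃ : E.G₃ ⟶ E'.G₃
  comm₁₂ : E.α ≫ γ₂ = γ₁ ≫ E'.α
  comm₂₃ : E.β ≫ γ₃ = γ₂ ≫ E'.β

namespace FunSES

variable {E E' : FunSES C D} (γ : FunSES.Hom E E') {N : C} (P : ProjectiveResolution N)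

/-- the morphism of short exact sequences of complexes induced by a morphism of sequences of
functors -/
noncomputable def cxSCMap' : E.cxSC P ⟶ E'.cxSC P where
  τ₁ := (NatTrans.mapHomologicalComplex γ.γ₁ _).app P.complex
  τ₂ := (NatTrans.mapHomologicalComplex γ.γ₂ _).app P.complex
  τ₃ := (NatTrans.mapHomologicalComplex γ.γ₃ _).app P.complex
  comm₁₂ := by
    ext n
    exact (congrArg (fun t => t.app (P.complex.X n)) γ.comm₁₂).symm
  comm₂₃ := by
    ext n
    exact (congrArg (fun t => t.app (P.complex.X n)) γ.comm₂₃).symm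

/-- naturality of `∂` in the sequence of functors -/
theorem «∂_naturality'» (n : ℕ) :
    (NatTrans.leftDerived γ.γ₃ (n + 1)).app N ≫ E'.«∂» P n =
      E.«∂» P n ≫ (NatTrans.leftDerived γ.γ₁ n).app N := by
  have h₃ : (NatTrans.leftDerived γ.γ₃ (n + 1)).app N = (E.e₃ P (n + 1)).hom ≫
      HomologicalComplex.homologyMap (cxSCMap' γ P).τ₃ (n + 1) ≫ (E'.e₃ P (n + 1)).inv :=
    ProjectiveResolution.leftDerived_app_eq γ.γ₃ P (n + 1)
  have h₁ : (NatTrans.leftDerived γ.γ₁ n).app N = (E.e₁ P n).hom ≫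
      HomologicalComplex.homologyMap (cxSCMap' γ P).τ₁ n ≫ (E'.e₁ P n).inv :=
    ProjectiveResolution.leftDerived_app_eq γ.γ₁ P n
  rw [h₃, h₁]
  dsimp only [«∂»]
  simp only [assoc, Iso.inv_hom_id_assoc]
  rw [← HomologicalComplex.HomologySequence.δ_naturality_assoc (cxSCMap' γ P)
      (E.cxSC_shortExact P) (E'.cxSC_shortExact P) (n + 1) n rfl]

end FunSES

end Groth.Agent.Lib.helper13.TorBal
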