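import Mathlib
import Groth.Agent.Lib.Helper7.Horseshoe

/-!
# Balancing Tor, part 2 (helper13): the augmented resolution

For a short exact sequence `0 → X₁ → X₂ → X₃ → 0` with `X₂` projective and a projective resolution
`P` of `X₁`, the augmented complex `⋯ → P₁ → P₀ → X₂` is a projective resolution `augRes` of `X₃`.
-/

set_option autoImplicit false
universe v u v' u'

open CategoryTheory Category Limits

namespace Groth.Agent.Lib.helper13.TorBal

open Groth.Agent.Lib.helper7.Horseshoe

variable {C : Type u} [Category.{v} C] [Abelian C]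

section

variable {S : ShortComplex C} (hS : S.ShortExact) (P : ProjectiveResolution S.X₁)

/-- `P₀ → X₁ → X₂` -/
noncomputable def augMap : P.complex.X 0 ⟶ S.X₂ := aug P ≫ S.f

@[reassoc (attr := simp)]
lemma d_augMap : P.complex.d 1 0 ≫ augMap (S := S) P = 0 := by
  simp [augMap]

/-- the augmented complex `⋯ → P₁ → P₀ → X₂` -/
noncomputable def augCx : ChainComplex C ℕ :=
  ChainComplex.augment P.complex (augMap (S := S) P) (d_augMap P)

lemma augCx_X_zero : (augCx (S := S) P).X 0 = S.X₂ := rfl

lemma augCx_X_succ (n : ℕ) : (augCx (S := S) P).X (n + 1) = P.complex.X n := rfl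

lemma augCx_d_one_zero : (augCx (S := S) P).d 1 0 = augMap (S := S) P := rfl

lemma augCx_d_succ_succ (n : ℕ) :
    (augCx (S := S) P).d (n + 2) (n + 1) = P.complex.d (n + 1) n := rfl

include hS in
lemma augCx_exact₀ :
    (ShortComplex.mk (augMap (S := S) P) S.g (by simp [augMap])).Exact := by
  haveI : Epi (aug P) := inferInstance
  let φ : ShortComplex.mk (augMap (S := S) P) S.g (by simp [augMap]) ⟶ S :=
    { τ₁ := aug P
      τ₂ := 𝟙 _
      τ₃ := 𝟙 _
      comm₁₂ := by simp [augMap]
      comm₂₃ := by simp }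
  haveI : Epi φ.τ₁ := inferInstanceAs (Epi (aug P))
  haveI : IsIso φ.τ₂ := inferInstanceAs (IsIso (𝟙 _))
  haveI : Mono φ.τ₃ := inferInstanceAs (Mono (𝟙 _))
  exact (ShortComplex.exact_iff_of_epi_of_isIso_of_mono φ).2 hS.exact

include hS in
lemma augCx_exactAt_one : (augCx (S := S) P).ExactAt 1 := by
  rw [HomologicalComplex.exactAt_iff' _ 2 1 0 (by simp) (by simp)]
  haveI : Mono S.f := hS.mono_f
  let φ : ShortComplex.mk (P.complex.d 1 0) (aug P) (d_aug P) ⟶
      (augCx (S := S) P).sc' 2 1 0 :=
    { τ₁ := 𝟙 _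
      τ₂ := 𝟙 _
      τ₃ := S.f
      comm₁₂ := by
        dsimp
        erw [id_comp, comp_id]
        rfl
      comm₂₃ := by
        dsimp
        erw [id_comp]
        rfl }
  haveI : Epi φ.τ₁ := inferInstanceAs (Epi (𝟙 _))
  haveI : IsIso φ.τ₂ := inferInstanceAs (IsIso (𝟙 _))
  haveI : Mono φ.τ₃ := inferInstanceAs (Mono S.f)
  exact (ShortComplex.exact_iff_of_epi_of_isIso_of_mono φ).1 (exact_aug P)

lemma augCx_exactAt_succ_succ (n : ℕ) : (augCx (S := S) P).ExactAt (n + 2) := by
  rw [HomologicalComplex.exactAt_iff' _ (n + 3) (n + 2) (n + 1) (by simp) (by simp)]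
  have h := P.complex_exactAt_succ n
  rw [HomologicalComplex.exactAt_iff' _ (n + 2) (n + 1) n (by simp) (by simp)] at h
  exact h

variable [Projective S.X₂]

include hS in
/-- the augmented resolution of `X₃` -/
noncomputable def augRes : ProjectiveResolution S.X₃ :=
  mkResolution (augCx (S := S) P)
    (fun n => by
      cases n with
      | zero => exact inferInstanceAs (Projective S.X₂)
      | succ n => exact P.projective n)
    S.g (by
      change augMap (S := S) P ≫ S.g = 0
      simp [augMap])
    (fun n => by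
      cases n with
      | zero => exact augCx_exactAt_one hS P
      | succ n => exact augCx_exactAt_succ_succ P n)
    (augCx_exact₀ hS P) hS.epi_g

lemma augRes_complex : (augRes hS P).complex = augCx (S := S) P := rfl

lemma augRes_π_f_zero : (augRes hS P).π.f 0 = S.g :=
  mkResolution_π_f_zero _ _ _ _ _ _ _

end

end Groth.Agent.Lib.helper13.TorBal
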