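import Mathlib

/-!
# Balancing Tor, part 3 (helper13): homology of the truncation of a chain complex

For a chain complex `K` indexed by `ℕ` and `T = ChainComplex.truncate.obj K` (so `T_n = K_{n+1}`):
* `ω K n : K.opcycles (n + 1) ≅ T.opcycles n`;
* `s K n : K.homology (n + 1) ⟶ T.homology n`, a natural monomorphism, an isomorphism for
  `n ≥ 1`, and for `n = 0` the kernel of `H_0(T) ≅ T.opcycles 0 ≅ K.opcycles 1 ⟶ K_0`.
-/

set_option autoImplicit false
universe v u

open CategoryTheory Category Limits HomologicalComplex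

namespace Groth.Agent.Lib.helper13.TorBal

namespace Trunc

variable {D : Type u} [Category.{v} D] [Abelian D] (K : ChainComplex D ℕ)

/-- the truncation -/
noncomputable abbrev T : ChainComplex D ℕ := ChainComplex.truncate.obj K

lemma T_d (i j : ℕ) : (T K).d i j = K.d (i + 1) (j + 1) := rfl

/-- `K.opcycles (n + 1) ≅ T.opcycles n` -/
noncomputable def ω (n : ℕ) : K.opcycles (n + 1) ≅ (T K).opcycles n where
  hom := K.descOpcycles ((T K).pOpcycles n) (n + 2) (by simp) (by
    have := (T K).d_pOpcycles (n + 1) n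
    exact this)
  inv := (T K).descOpcycles (K.pOpcycles (n + 1)) (n + 1) (by simp) (by
    have := K.d_pOpcycles (n + 2) (n + 1)
    exact this)
  hom_inv_id := by
    rw [← cancel_epi (K.pOpcycles (n + 1)), p_descOpcycles_assoc]
    erw [p_descOpcycles]
    rw [comp_id]
  inv_hom_id := by
    rw [← cancel_epi ((T K).pOpcycles n), p_descOpcycles_assoc]
    erw [p_descOpcycles]
    rw [comp_id]

@[reassoc (attr := simp)]
lemma p_ω_hom (n : ℕ) : K.pOpcycles (n + 1) ≫ (ω K n).hom = (T K).pOpcycles n := by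
  dsimp only [ω]
  apply p_descOpcycles

@[reassoc (attr := simp)]
lemma p_ω_inv (n : ℕ) : (T K).pOpcycles n ≫ (ω K n).inv = K.pOpcycles (n + 1) := by
  dsimp only [ω]
  apply p_descOpcycles

@[reassoc]
lemma ω_hom_fromOpcycles (n k : ℕ) :
    (ω K n).hom ≫ (T K).fromOpcycles n k = K.fromOpcycles (n + 1) (k + 1) := by
  rw [← cancel_epi (K.pOpcycles (n + 1)), p_ω_hom_assoc]
  erw [p_fromOpcycles, p_fromOpcycles]
  rfl

@[reassoc]
lemma ω_inv_fromOpcycles (n k : ℕ) :
    (ω K n).inv ≫ K.fromOpcycles (n + 1) (k + 1) = (T K).fromOpcycles n k := by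
  rw [← cancel_epi ((T K).pOpcycles n), p_ω_inv_assoc]
  erw [p_fromOpcycles, p_fromOpcycles]
  rfl

/-- the shift morphism `H_{n+1}(K) ⟶ H_n(T)` -/
noncomputable def s (n : ℕ) : K.homology (n + 1) ⟶ (T K).homology n :=
  ((T K).homologyIsKernel n ((ComplexShape.down ℕ).next n) rfl).lift
    (KernelFork.ofι (K.homologyι (n + 1) ≫ (ω K n).hom) (by
      rw [assoc, ω_hom_fromOpcycles]
      exact K.homologyι_comp_fromOpcycles _ _))

@[reassoc (attr := simp)]
lemma s_ι (n : ℕ) : s K n ≫ (T K).homologyι n = K.homologyι (n + 1) ≫ (ω K n).hom :=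
  ((T K).homologyIsKernel n ((ComplexShape.down ℕ).next n) rfl).fac _ WalkingParallelPair.zero

instance (n : ℕ) : Mono (s K n) := by
  haveI : Mono (s K n ≫ (T K).homologyι n) := by
    rw [s_ι]
    infer_instance
  exact mono_of_mono (s K n) ((T K).homologyι n)

/-- for `n ≥ 1` the shift morphism is an isomorphism -/
instance isIso_s_succ (m : ℕ) : IsIso (s K (m + 1)) := by
  let t : (T K).homology (m + 1) ⟶ K.homology (m + 2) :=
    (K.homologyIsKernel (m + 2) (m + 1) (by simp)).lift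
      (KernelFork.ofι ((T K).homologyι (m + 1) ≫ (ω K (m + 1)).inv) (by
        rw [assoc]
        erw [ω_inv_fromOpcycles K (m + 1) m]
        exact (T K).homologyι_comp_fromOpcycles _ _))
  have ht : t ≫ K.homologyι (m + 2) = (T K).homologyι (m + 1) ≫ (ω K (m + 1)).inv :=
    (K.homologyIsKernel (m + 2) (m + 1) (by simp)).fac _ WalkingParallelPair.zero
  refine ⟨t, ?_, ?_⟩
  · rw [← cancel_mono (K.homologyι (m + 2)), assoc, ht, s_ι_assoc, Iso.hom_inv_id, comp_id,
      id_comp]
  · rw [← cancel_mono ((T K).homologyι (m + 1)), assoc, s_ι, reassoc_of% ht, Iso.inv_hom_id,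
      comp_id, id_comp]

/-- the morphism `H_0(T) ⟶ K_0` -/
noncomputable def toZero : (T K).homology 0 ⟶ K.X 0 :=
  (T K).homologyι 0 ≫ (ω K 0).inv ≫ K.fromOpcycles 1 0

@[reassoc (attr := simp)]
lemma s_toZero : s K 0 ≫ toZero K = 0 := by
  dsimp only [toZero]
  rw [s_ι_assoc, Iso.hom_inv_id_assoc, homologyι_comp_fromOpcycles]

/-- `H_1(K) ⟶ H_0(T) ⟶ K_0` is exact -/
lemma exact_s_zero : (ShortComplex.mk (s K 0) (toZero K) (s_toZero K)).Exact := by
  have h : (ShortComplex.mk (K.homologyι 1) (K.fromOpcycles 1 0)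
      (K.homologyι_comp_fromOpcycles 1 0)).Exact :=
    ShortComplex.exact_of_f_is_kernel _ (K.homologyIsKernel 1 0 (by simp))
  refine (ShortComplex.exact_iff_of_iso ?_).2 h
  haveI : IsIso ((T K).homologyι 0) := by
    have := (T K).isoHomologyι₀
    exact inferInstanceAs (IsIso ((T K).isoHomologyι₀).hom)
  refine ShortComplex.isoMk (Iso.refl _) (asIso ((T K).homologyι 0) ≪≫ (ω K 0).symm) (Iso.refl _)
    ?_ ?_
  · dsimp
    rw [id_comp, s_ι_assoc, Iso.hom_inv_id, comp_id]
  · dsimp [toZero]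
    simp

section nat

variable {K} {K' : ChainComplex D ℕ} (Φ : K ⟶ K')

@[reassoc]
lemma ω_hom_naturality (n : ℕ) :
    opcyclesMap Φ (n + 1) ≫ (ω K' n).hom =
      (ω K n).hom ≫ opcyclesMap (ChainComplex.truncate.map Φ) n := by
  rw [← cancel_epi (K.pOpcycles (n + 1)), p_opcyclesMap_assoc, p_ω_hom, p_ω_hom_assoc]
  erw [p_opcyclesMap]
  rfl

@[reassoc]
lemma s_naturality (n : ℕ) :
    homologyMap Φ (n + 1) ≫ s K' n = s K n ≫ homologyMap (ChainComplex.truncate.map Φ) n := by
  rw [← cancel_mono ((T K').homologyι n), assoc, assoc, s_ι, homologyι_naturality,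
    homologyι_naturality_assoc, s_ι_assoc, ω_hom_naturality]

@[reassoc]
lemma toZero_naturality :
    homologyMap (ChainComplex.truncate.map Φ) 0 ≫ toZero K' = toZero K ≫ Φ.f 0 := by
  dsimp only [toZero]
  have h : (ω K 0).inv ≫ opcyclesMap Φ 1 =
      opcyclesMap (ChainComplex.truncate.map Φ) 0 ≫ (ω K' 0).inv := by
    rw [← cancel_mono (ω K' 0).hom, assoc, assoc, Iso.inv_hom_id, comp_id, ω_hom_naturality,
      Iso.inv_hom_id_assoc]
  rw [homologyι_naturality_assoc, ← reassoc_of% h]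
  simp only [assoc]
  congr 2
  rw [← cancel_epi (K.pOpcycles 1), p_opcyclesMap_assoc, p_fromOpcycles, p_fromOpcycles_assoc,
    Φ.comm]

end nat

end Trunc

end Groth.Agent.Lib.helper13.TorBal
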