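import Mathlib
import Groth.Agent.Lib.Helper13.TorBal2
import Groth.Agent.Lib.Helper13.TorBal3

/-!
# Balancing Tor, part 4 (helper13): dimension shifting in the resolved variable

For a short exact sequence `0 → X₁ → X₂ → X₃ → 0` with `X₂` projective, an additive functor `G`
and a projective resolution `P` of `X₁`: `shiftB hS P G n : (L_{n+1} G)(X₃) ⟶ (L_n G)(X₁)` is a
monomorphism, `(L_{n+1} G)(X₃) ⟶ (L_n G)(X₁) ⟶ (L_n G)(X₂)` is exact, and `shiftB` is natural
in the short exact sequence and in `G`.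
-/

set_option autoImplicit false
universe v u v' u'

open CategoryTheory Category Limits HomologicalComplex

namespace Groth.Agent.Lib.helper13.TorBal

open Groth.Agent.Lib.helper7.Horseshoe

variable {C : Type u} [Category.{v} C] [Abelian C] [HasProjectiveResolutions C]
variable {D : Type u'} [Category.{v'} D] [Abelian D]

section

variable {S : ShortComplex C} (hS : S.ShortExact) [Projective S.X₂]
  (P : ProjectiveResolution S.X₁) (G : C ⥤ D) [G.Additive]

/-- `G` applied to the augmented complex -/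
noncomputable abbrev GQ : ChainComplex D ℕ :=
  (G.mapHomologicalComplex _).obj (augCx (S := S) P)

/-- `G` applied to the resolution of `X₁` -/
noncomputable abbrev GP : ChainComplex D ℕ :=
  (G.mapHomologicalComplex _).obj P.complex

/-- the truncation of `G(Q)` is `G(P)` -/
noncomputable def τ : Trunc.T (GQ (S := S) P G) ≅ GP P G :=
  Hom.isoOfComponents (fun _ => Iso.refl _) (by
    rintro i j (rfl : j + 1 = i)
    dsimp
    erw [id_comp, comp_id]
    rfl)

lemma τ_hom_f (i : ℕ) : (τ (S := S) P G).hom.f i = 𝟙 _ := rfl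

lemma τ_inv_f (i : ℕ) : (τ (S := S) P G).inv.f i = 𝟙 _ := rfl

/-- `(L_n G)(X₃) ≅ H_n(G Q)` -/
noncomputable def eQ (n : ℕ) : (G.leftDerived n).obj S.X₃ ≅ (GQ (S := S) P G).homology n :=
  (augRes hS P).isoLeftDerivedObj G n

/-- `(L_n G)(X₁) ≅ H_n(G P)` -/
noncomputable def eP (n : ℕ) : (G.leftDerived n).obj S.X₁ ≅ (GP P G).homology n :=
  P.isoLeftDerivedObj G n

/-- `H_n(T(G Q)) ≅ H_n(G P)` -/
noncomputable def hτ (n : ℕ) :
    (Trunc.T (GQ (S := S) P G)).homology n ≅ (GP P G).homology n :=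
  (homologyFunctor D _ n).mapIso (τ (S := S) P G)

/-- the dimension shifting morphism in the resolved variable -/
noncomputable def shiftB (n : ℕ) : (G.leftDerived (n + 1)).obj S.X₃ ⟶ (G.leftDerived n).obj S.X₁ :=
  (eQ hS P G (n + 1)).hom ≫ Trunc.s (GQ (S := S) P G) n ≫ (hτ (S := S) P G n).hom ≫
    (eP P G n).inv

instance (n : ℕ) : Mono (shiftB hS P G n) := by
  dsimp only [shiftB]
  infer_instance

instance (m : ℕ) : IsIso (shiftB hS P G (m + 1)) := by
  dsimp only [shiftB]
  infer_instance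

/-- `H_0(T(G Q)) ⟶ G(X₂)` -/
noncomputable def toZero' : (Trunc.T (GQ (S := S) P G)).homology 0 ⟶ G.obj S.X₂ :=
  Trunc.toZero (GQ (S := S) P G)

@[reassoc]
lemma s_toZero' : Trunc.s (GQ (S := S) P G) 0 ≫ toZero' (S := S) P G = 0 :=
  Trunc.s_toZero _

lemma exact_s_zero' : (ShortComplex.mk (Trunc.s (GQ (S := S) P G) 0) (toZero' (S := S) P G)
    (s_toZero' P G)).Exact :=
  Trunc.exact_s_zero _

lemma toZero_eq : (hτ (S := S) P G 0).hom ≫ (GP P G).homologyι 0 ≫
    P.fromLeftDerivedZero' G ≫ G.map S.f = toZero' (S := S) P G := by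
  have key : opcyclesMap (τ (S := S) P G).hom 0 ≫ P.fromLeftDerivedZero' G ≫ G.map S.f =
      ((Trunc.ω (GQ (S := S) P G) 0).inv ≫ (GQ (S := S) P G).fromOpcycles 1 0 :
        (Trunc.T (GQ (S := S) P G)).opcycles 0 ⟶ G.obj S.X₂) := by
    rw [← cancel_epi ((Trunc.T (GQ (S := S) P G)).pOpcycles 0), p_opcyclesMap_assoc]
    erw [Trunc.p_ω_inv_assoc, p_fromOpcycles,
      ProjectiveResolution.pOpcycles_comp_fromLeftDerivedZero'_assoc]
    rw [τ_hom_f]
    erw [id_comp]
    exact (G.map_comp (aug P) S.f).symm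
  have h1 : (hτ (S := S) P G 0).hom ≫ (GP P G).homologyι 0 =
      (Trunc.T (GQ (S := S) P G)).homologyι 0 ≫ opcyclesMap (τ (S := S) P G).hom 0 :=
    homologyι_naturality _ _
  rw [reassoc_of% h1, key]
  rfl

lemma map_f_fromLeftDerivedZero :
    (G.leftDerived 0).map S.f ≫ G.fromLeftDerivedZero.app S.X₂ =
      (eP P G 0).hom ≫ (GP P G).homologyι 0 ≫ P.fromLeftDerivedZero' G ≫ G.map S.f := by
  rw [G.fromLeftDerivedZero.naturality S.f, P.fromLeftDerivedZero_eq G]
  simp only [assoc]
  rfl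

lemma shiftB_comp (n : ℕ) : shiftB hS P G n ≫ (G.leftDerived n).map S.f = 0 := by
  cases n with
  | zero =>
    rw [← cancel_mono (G.fromLeftDerivedZero.app S.X₂), assoc, zero_comp,
      map_f_fromLeftDerivedZero P G]
    dsimp only [shiftB]
    simp only [assoc, Iso.inv_hom_id_assoc]
    rw [toZero_eq P G, s_toZero', comp_zero]
  | succ m => exact (Functor.isZero_leftDerived_obj_projective_succ G m S.X₂).eq_of_tgt _ _

/-- `(L_{n+1} G)(X₃) ⟶ (L_n G)(X₁) ⟶ (L_n G)(X₂)` is exact -/
theorem exact_shiftB (n : ℕ) :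
    (ShortComplex.mk (shiftB hS P G n) ((G.leftDerived n).map S.f) (shiftB_comp hS P G n)).Exact := by
  cases n with
  | zero =>
    refine (ShortComplex.exact_iff_of_iso ?_).2 (exact_s_zero' (S := S) P G)
    let ζ : (G.leftDerived 0).obj S.X₂ ≅ G.obj S.X₂ := asIso (G.fromLeftDerivedZero.app S.X₂)
    have hζ : ζ.hom = G.fromLeftDerivedZero.app S.X₂ := rfl
    refine ShortComplex.isoMk (eQ hS P G 1) (eP P G 0 ≪≫ (hτ (S := S) P G 0).symm) ζ ?_ ?_
    · dsimp [shiftB]
      simp
    · dsimp only [Iso.trans_hom, Iso.symm_hom]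
      rw [hζ, map_f_fromLeftDerivedZero P G, ← toZero_eq P G]
      simp
  | succ m =>
    rw [ShortComplex.exact_iff_epi _
      ((Functor.isZero_leftDerived_obj_projective_succ G m S.X₂).eq_of_tgt _ _)]
    dsimp
    infer_instance

end

section natS

variable {S S' : ShortComplex C} (hS : S.ShortExact) (hS' : S'.ShortExact)
  [Projective S.X₂] [Projective S'.X₂] (ψ : S ⟶ S')
  (P : ProjectiveResolution S.X₁) (P' : ProjectiveResolution S'.X₁) (φ : P.complex ⟶ P'.complex)
  (comm : φ.f 0 ≫ P'.π.f 0 = P.π.f 0 ≫ ψ.τ₁) (G : C ⥤ D) [G.Additive]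

include comm in
/-- the chain map between augmented complexes induced by a morphism of short exact sequences -/
noncomputable def augCxMap : augCx (S := S) P ⟶ augCx (S := S') P' where
  f := fun i => match i with
    | 0 => (ψ.τ₂ : (augCx (S := S) P).X 0 ⟶ (augCx (S := S') P').X 0)
    | (k + 1) => (φ.f k : (augCx (S := S) P).X (k + 1) ⟶ (augCx (S := S') P').X (k + 1))
  comm' := by
    rintro i j (rfl : j + 1 = i)
    cases j with
    | zero =>
      change φ.f 0 ≫ (aug P' ≫ S'.f) = (aug P ≫ S.f) ≫ ψ.τ₂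
      have h : φ.f 0 ≫ aug P' = aug P ≫ ψ.τ₁ := comm
      rw [reassoc_of% h, assoc, ψ.comm₁₂]
    | succ j => exact φ.comm (j + 1) j

lemma augCxMap_f_zero : (augCxMap ψ P P' φ comm).f 0 = ψ.τ₂ := rfl

lemma augCxMap_f_succ (k : ℕ) : (augCxMap ψ P P' φ comm).f (k + 1) = φ.f k := rfl

lemma τ_naturality :
    ChainComplex.truncate.map ((G.mapHomologicalComplex _).map (augCxMap ψ P P' φ comm)) ≫
      (τ (S := S') P' G).hom = (τ (S := S) P G).hom ≫ (G.mapHomologicalComplex _).map φ := by
  ext i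
  change G.map ((augCxMap ψ P P' φ comm).f (i + 1)) ≫ 𝟙 _ = 𝟙 _ ≫ G.map (φ.f i)
  rw [augCxMap_f_succ]
  erw [comp_id, id_comp]
  rfl

include comm in
/-- naturality of `shiftB` in the short exact sequence -/
theorem shiftB_naturality (n : ℕ) :
    (G.leftDerived (n + 1)).map ψ.τ₃ ≫ shiftB hS' P' G n =
      shiftB hS P G n ≫ (G.leftDerived n).map ψ.τ₁ := by
  have h₃ : (G.leftDerived (n + 1)).map ψ.τ₃ ≫ (eQ hS' P' G (n + 1)).hom =
      (eQ hS P G (n + 1)).hom ≫
        homologyMap ((G.mapHomologicalComplex _).map (augCxMap ψ P P' φ comm)) (n + 1) :=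
    ProjectiveResolution.isoLeftDerivedObj_hom_naturality ψ.τ₃ (augRes hS P) (augRes hS' P')
      (augCxMap ψ P P' φ comm) (by
        rw [augRes_π_f_zero, augRes_π_f_zero]
        exact ψ.comm₂₃) G (n + 1)
  have h₁ : (eP P G n).inv ≫ (G.leftDerived n).map ψ.τ₁ =
      homologyMap ((G.mapHomologicalComplex _).map φ) n ≫ (eP P' G n).inv :=
    ProjectiveResolution.isoLeftDerivedObj_inv_naturality ψ.τ₁ P P' φ comm G n
  have h₂ : homologyMap (ChainComplex.truncate.map
      ((G.mapHomologicalComplex _).map (augCxMap ψ P P' φ comm))) n ≫ (hτ (S := S') P' G n).hom =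
      (hτ (S := S) P G n).hom ≫ homologyMap ((G.mapHomologicalComplex _).map φ) n := by
    change homologyMap _ n ≫ homologyMap _ n = homologyMap _ n ≫ homologyMap _ n
    rw [← homologyMap_comp, ← homologyMap_comp, τ_naturality]
  dsimp only [shiftB]
  rw [reassoc_of% h₃, Trunc.s_naturality_assoc, reassoc_of% h₂]
  simp only [assoc]
  rw [h₁]

end natS

section natG

variable {S : ShortComplex C} (hS : S.ShortExact) [Projective S.X₂]
  (P : ProjectiveResolution S.X₁) {G G' : C ⥤ D} [G.Additive] [G'.Additive] (α : G ⟶ G')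

lemma τ_naturality' :
    ChainComplex.truncate.map ((NatTrans.mapHomologicalComplex α _).app (augCx (S := S) P)) ≫
      (τ (S := S) P G').hom =
        (τ (S := S) P G).hom ≫ (NatTrans.mapHomologicalComplex α _).app P.complex := by
  ext i
  change α.app _ ≫ 𝟙 _ = 𝟙 _ ≫ α.app _
  erw [comp_id, id_comp]

/-- naturality of `shiftB` in the functor -/
theorem shiftB_naturality' (n : ℕ) :
    (NatTrans.leftDerived α (n + 1)).app S.X₃ ≫ shiftB hS P G' n =
      shiftB hS P G n ≫ (NatTrans.leftDerived α n).app S.X₁ := by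
  have h₃ : (NatTrans.leftDerived α (n + 1)).app S.X₃ = (eQ hS P G (n + 1)).hom ≫
      homologyMap ((NatTrans.mapHomologicalComplex α _).app (augCx (S := S) P)) (n + 1) ≫
        (eQ hS P G' (n + 1)).inv :=
    ProjectiveResolution.leftDerived_app_eq α (augRes hS P) (n + 1)
  have h₁ : (NatTrans.leftDerived α n).app S.X₁ = (eP P G n).hom ≫
      homologyMap ((NatTrans.mapHomologicalComplex α _).app P.complex) n ≫ (eP P G' n).inv :=
    ProjectiveResolution.leftDerived_app_eq α P n
  have h₂ : homologyMap (ChainComplex.truncate.map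
      ((NatTrans.mapHomologicalComplex α _).app (augCx (S := S) P))) n ≫
        (hτ (S := S) P G' n).hom = (hτ (S := S) P G n).hom ≫
          homologyMap ((NatTrans.mapHomologicalComplex α _).app P.complex) n := by
    change homologyMap _ n ≫ homologyMap _ n = homologyMap _ n ≫ homologyMap _ n
    rw [← homologyMap_comp, ← homologyMap_comp, τ_naturality']
  rw [h₃, h₁]
  dsimp only [shiftB]
  simp only [assoc, Iso.inv_hom_id_assoc]
  rw [Trunc.s_naturality_assoc, reassoc_of% h₂]

end natG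

end Groth.Agent.Lib.helper13.TorBal
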