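import Mathlib
import Groth.Agent.Lib.Helper7.TorAPI3
import Groth.Agent.Lib.Helper13.TorBal1
import Groth.Agent.Lib.Helper13.TorBal4

/-!
# Balancing Tor, part 5 (helper13): the two dimension shifting morphisms for `Tor` on `ModuleCat`

For a short exact sequence `S` of `A`-modules:
* `shiftA hS N n : Tor_{n+1}(X₃, N) ⟶ Tor_n(X₁, N)` (connecting morphism in the first variable);
* `shiftB' hS N n : Tor_{n+1}(N, X₃) ⟶ Tor_n(N, X₁)` (for `X₂` projective; second variable);
with exactness and naturality properties.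
-/

set_option autoImplicit false
universe u

open CategoryTheory Category Limits MonoidalCategory

namespace Groth.Agent.Lib.helper13.TorBal

open Groth.Agent.Lib.helper7.TorAPI

variable {A : Type u} [CommRing A]

section A

variable {S : ShortComplex (ModuleCat.{u} A)} (hS : S.ShortExact)

/-- the short exact sequence of functors `X₁ ⊗ - ⟶ X₂ ⊗ - ⟶ X₃ ⊗ -` -/
noncomputable def funSES : FunSES (ModuleCat.{u} A) (ModuleCat.{u} A) where
  G₁ := (tensoringLeft (ModuleCat.{u} A)).obj S.X₁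
  G₂ := (tensoringLeft (ModuleCat.{u} A)).obj S.X₂
  G₃ := (tensoringLeft (ModuleCat.{u} A)).obj S.X₃
  α := (tensoringLeft (ModuleCat.{u} A)).map S.f
  β := (tensoringLeft (ModuleCat.{u} A)).map S.g
  w := tensoringLeft_map_comp_eq_zero S
  exact := fun X hX => by
    haveI := hX
    exact tensoringLeft_shortExact hS X

/-- the connecting morphism `Tor_{n+1}(X₃, N) ⟶ Tor_n(X₁, N)` -/
noncomputable def shiftA (N : ModuleCat.{u} A) (n : ℕ) :
    ((Tor (ModuleCat.{u} A) (n + 1)).obj S.X₃).obj N ⟶ ((Tor (ModuleCat.{u} A) n).obj S.X₁).obj N :=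
  (funSES hS).«∂» (projectiveResolution N) n

lemma shiftA_comp (N : ModuleCat.{u} A) (n : ℕ) :
    shiftA hS N n ≫ ((Tor (ModuleCat.{u} A) n).map S.f).app N = 0 :=
  (funSES hS).«∂_comp» (projectiveResolution N) n

lemma exact_shiftA (N : ModuleCat.{u} A) (n : ℕ) :
    (ShortComplex.mk (shiftA hS N n) (((Tor (ModuleCat.{u} A) n).map S.f).app N)
      (shiftA_comp hS N n)).Exact :=
  (funSES hS).«exact_∂_map» (projectiveResolution N) n

lemma mono_shiftA [Module.Flat A S.X₂] (N : ModuleCat.{u} A) (n : ℕ) : Mono (shiftA hS N n) :=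
  (funSES hS).«mono_∂» (projectiveResolution N) n (isZero_T_flat S.X₂ N n)

lemma shiftA_naturality₂ {N N' : ModuleCat.{u} A} (g : N ⟶ N') (n : ℕ) :
    ((Tor (ModuleCat.{u} A) (n + 1)).obj S.X₃).map g ≫ shiftA hS N' n =
      shiftA hS N n ≫ ((Tor (ModuleCat.{u} A) n).obj S.X₁).map g :=
  (funSES hS).«∂_naturality» (projectiveResolution N) (projectiveResolution N') g
    (ProjectiveResolution.lift g _ _) (ProjectiveResolution.lift_commutes_zero g _ _) n

variable {S' : ShortComplex (ModuleCat.{u} A)} (hS' : S'.ShortExact) (ψ : S ⟶ S')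

/-- the morphism of sequences of functors induced by a morphism of short exact sequences -/
noncomputable def funSESHom : FunSES.Hom (funSES hS) (funSES hS') where
  γ₁ := (tensoringLeft (ModuleCat.{u} A)).map ψ.τ₁
  γ₂ := (tensoringLeft (ModuleCat.{u} A)).map ψ.τ₂
  γ₃ := (tensoringLeft (ModuleCat.{u} A)).map ψ.τ₃
  comm₁₂ := by
    change (tensoringLeft (ModuleCat.{u} A)).map S.f ≫ (tensoringLeft (ModuleCat.{u} A)).map ψ.τ₂ =
      (tensoringLeft (ModuleCat.{u} A)).map ψ.τ₁ ≫ (tensoringLeft (ModuleCat.{u} A)).map S'.f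
    rw [← Functor.map_comp, ← Functor.map_comp, ψ.comm₁₂]
  comm₂₃ := by
    change (tensoringLeft (ModuleCat.{u} A)).map S.g ≫ (tensoringLeft (ModuleCat.{u} A)).map ψ.τ₃ =
      (tensoringLeft (ModuleCat.{u} A)).map ψ.τ₂ ≫ (tensoringLeft (ModuleCat.{u} A)).map S'.g
    rw [← Functor.map_comp, ← Functor.map_comp, ψ.comm₂₃]

lemma shiftA_naturality₁ (N : ModuleCat.{u} A) (n : ℕ) :
    ((Tor (ModuleCat.{u} A) (n + 1)).map ψ.τ₃).app N ≫ shiftA hS' N n =
      shiftA hS N n ≫ ((Tor (ModuleCat.{u} A) n).map ψ.τ₁).app N :=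
  FunSES.«∂_naturality'» (funSESHom hS hS' ψ) (projectiveResolution N) n

end A

section B

variable {S : ShortComplex (ModuleCat.{u} A)} (hS : S.ShortExact) [Projective S.X₂]

/-- the dimension shifting morphism `Tor_{n+1}(N, X₃) ⟶ Tor_n(N, X₁)` -/
noncomputable def shiftB' (N : ModuleCat.{u} A) (n : ℕ) :
    ((Tor (ModuleCat.{u} A) (n + 1)).obj N).obj S.X₃ ⟶ ((Tor (ModuleCat.{u} A) n).obj N).obj S.X₁ :=
  shiftB hS (projectiveResolution S.X₁) ((tensoringLeft (ModuleCat.{u} A)).obj N) n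

instance (N : ModuleCat.{u} A) (n : ℕ) : Mono (shiftB' hS N n) :=
  inferInstanceAs (Mono (shiftB hS (projectiveResolution S.X₁)
    ((tensoringLeft (ModuleCat.{u} A)).obj N) n))

lemma shiftB'_comp (N : ModuleCat.{u} A) (n : ℕ) :
    shiftB' hS N n ≫ ((Tor (ModuleCat.{u} A) n).obj N).map S.f = 0 :=
  shiftB_comp hS _ _ n

lemma exact_shiftB' (N : ModuleCat.{u} A) (n : ℕ) :
    (ShortComplex.mk (shiftB' hS N n) (((Tor (ModuleCat.{u} A) n).obj N).map S.f)
      (shiftB'_comp hS N n)).Exact :=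
  exact_shiftB hS _ _ n

lemma shiftB'_naturality₁ {N N' : ModuleCat.{u} A} (g : N ⟶ N') (n : ℕ) :
    ((Tor (ModuleCat.{u} A) (n + 1)).map g).app S.X₃ ≫ shiftB' hS N' n =
      shiftB' hS N n ≫ ((Tor (ModuleCat.{u} A) n).map g).app S.X₁ :=
  shiftB_naturality' hS (projectiveResolution S.X₁)
    ((tensoringLeft (ModuleCat.{u} A)).map g) n

variable {S' : ShortComplex (ModuleCat.{u} A)} (hS' : S'.ShortExact) [Projective S'.X₂]
  (ψ : S ⟶ S')

lemma shiftB'_naturality₂ (N : ModuleCat.{u} A) (n : ℕ) :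
    ((Tor (ModuleCat.{u} A) (n + 1)).obj N).map ψ.τ₃ ≫ shiftB' hS' N n =
      shiftB' hS N n ≫ ((Tor (ModuleCat.{u} A) n).obj N).map ψ.τ₁ :=
  shiftB_naturality hS hS' ψ (projectiveResolution S.X₁) (projectiveResolution S'.X₁)
    (ProjectiveResolution.lift ψ.τ₁ _ _) (ProjectiveResolution.lift_commutes_zero ψ.τ₁ _ _)
    ((tensoringLeft (ModuleCat.{u} A)).obj N) n

end B

end Groth.Agent.Lib.helper13.TorBal
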