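import Mathlib
import Groth.Agent.Lib.Helper13.TorBal5

/-!
# Balancing Tor, part 6 (helper13): `Tor_n(M, N) ≅ Tor_n(N, M)`, naturally in both variables

* `Bal n`: a family of isomorphisms `Tor_n(M, N) ≅ Tor_n(N, M)` natural in both variables.
* `bal n : Bal n` by induction on `n` (dimension shifting along a projective presentation).
* `nonempty_tor_iso_flip : Nonempty (Tor _ n ≅ (Tor _ n).flip)`.
-/

set_option autoImplicit false
universe u

open CategoryTheory Category Limits MonoidalCategory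

namespace Groth.Agent.Lib.helper13.TorBal

open Groth.Agent.Lib.helper7.TorAPI

variable (A : Type u) [CommRing A]

/-- a family of isomorphisms `Tor_n(M, N) ≅ Tor_n(N, M)` natural in both variables -/
structure Bal (n : ℕ) where
  iso : ∀ M N : ModuleCat.{u} A,
    ((Tor (ModuleCat.{u} A) n).obj M).obj N ≅ ((Tor (ModuleCat.{u} A) n).obj N).obj M
  nat₁ : ∀ {M M' : ModuleCat.{u} A} (f : M ⟶ M') (N : ModuleCat.{u} A),
    ((Tor (ModuleCat.{u} A) n).map f).app N ≫ (iso M' N).hom =
      (iso M N).hom ≫ ((Tor (ModuleCat.{u} A) n).obj N).map f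
  nat₂ : ∀ (M : ModuleCat.{u} A) {N N' : ModuleCat.{u} A} (g : N ⟶ N'),
    ((Tor (ModuleCat.{u} A) n).obj M).map g ≫ (iso M N').hom =
      (iso M N).hom ≫ ((Tor (ModuleCat.{u} A) n).map g).app M

variable {A}

/-- a lift of `f` to the chosen projective covers -/
noncomputable def coverMap {M M' : ModuleCat.{u} A} (f : M ⟶ M') :
    Projective.over M ⟶ Projective.over M' :=
  Projective.factorThru (Projective.π M ≫ f) (Projective.π M')

@[reassoc]
lemma coverMap_π {M M' : ModuleCat.{u} A} (f : M ⟶ M') :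
    coverMap f ≫ Projective.π M' = Projective.π M ≫ f :=
  Projective.factorThru_comp _ _

/-- a morphism of presentations over a morphism of modules -/
noncomputable def presMap {M M' : ModuleCat.{u} A} (f : M ⟶ M') : pres M ⟶ pres M' where
  τ₁ := kernel.map (Projective.π M) (Projective.π M') (coverMap f) f (coverMap_π f).symm
  τ₂ := coverMap f
  τ₃ := f
  comm₁₂ := by
    dsimp [pres]
    simp
  comm₂₃ := coverMap_π f

lemma presMap_τ₃ {M M' : ModuleCat.{u} A} (f : M ⟶ M') : (presMap f).τ₃ = f := rfl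

/-- degree zero -/
noncomputable def bal0 : Bal A 0 where
  iso M N := (tor0Iso M).app N ≪≫ β_ M N ≪≫ ((tor0Iso N).app M).symm
  nat₁ {M M'} f N := by
    have h1 := tor0Iso_naturality₁ f N
    have h2 : (N ◁ f) ≫ (tor0Iso N).inv.app M' = (tor0Iso N).inv.app M ≫
        ((Tor (ModuleCat.{u} A) 0).obj N).map f := (tor0Iso N).inv.naturality f
    dsimp only [Iso.trans_hom, Iso.app_hom, Iso.symm_hom, Iso.app_inv]
    change T₁map 0 f N ≫ _ = _
    rw [reassoc_of% h1, assoc, assoc, ← h2, BraidedCategory.braiding_naturality_left_assoc]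
  nat₂ M {N N'} g := by
    have h1 : ((Tor (ModuleCat.{u} A) 0).obj M).map g ≫ (tor0Iso M).hom.app N' =
        (tor0Iso M).hom.app N ≫ (M ◁ g) := (tor0Iso M).hom.naturality g
    have h2 := tor0Iso_naturality₁ g M
    have h2' : (g ▷ M) ≫ (tor0Iso N').inv.app M = (tor0Iso N).inv.app M ≫ T₁map 0 g M := by
      rw [← cancel_epi ((tor0Iso N).hom.app M), ← reassoc_of% h2]
      simp
    dsimp only [Iso.trans_hom, Iso.app_hom, Iso.symm_hom, Iso.app_inv]
    rw [reassoc_of% h1, assoc, assoc, BraidedCategory.braiding_naturality_right_assoc, h2']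

section step

/-- the first-variable shift along the chosen presentation of `M` -/
noncomputable def aM (M N : ModuleCat.{u} A) (n : ℕ) :
    ((Tor (ModuleCat.{u} A) (n + 1)).obj M).obj N ⟶
      ((Tor (ModuleCat.{u} A) n).obj (pres M).X₁).obj N :=
  shiftA (pres_shortExact M) N n

/-- the second-variable shift along the chosen presentation of `M` -/
noncomputable def bM (M N : ModuleCat.{u} A) (n : ℕ) :
    ((Tor (ModuleCat.{u} A) (n + 1)).obj N).obj M ⟶
      ((Tor (ModuleCat.{u} A) n).obj N).obj (pres M).X₁ :=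
  shiftB' (pres_shortExact M) N n

instance (M N : ModuleCat.{u} A) (n : ℕ) : Mono (aM M N n) := mono_shiftA (pres_shortExact M) N n

instance (M N : ModuleCat.{u} A) (n : ℕ) : Mono (bM M N n) :=
  inferInstanceAs (Mono (shiftB' (pres_shortExact M) N n))

lemma aM_naturality₁ {M M' : ModuleCat.{u} A} (f : M ⟶ M') (N : ModuleCat.{u} A) (n : ℕ) :
    ((Tor (ModuleCat.{u} A) (n + 1)).map f).app N ≫ aM M' N n =
      aM M N n ≫ ((Tor (ModuleCat.{u} A) n).map (presMap f).τ₁).app N :=
  shiftA_naturality₁ (pres_shortExact M) (pres_shortExact M') (presMap f) N n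

lemma aM_naturality₂ (M : ModuleCat.{u} A) {N N' : ModuleCat.{u} A} (g : N ⟶ N') (n : ℕ) :
    ((Tor (ModuleCat.{u} A) (n + 1)).obj M).map g ≫ aM M N' n =
      aM M N n ≫ ((Tor (ModuleCat.{u} A) n).obj (pres M).X₁).map g :=
  shiftA_naturality₂ (pres_shortExact M) g n

lemma bM_naturality₁ {M M' : ModuleCat.{u} A} (f : M ⟶ M') (N : ModuleCat.{u} A) (n : ℕ) :
    ((Tor (ModuleCat.{u} A) (n + 1)).obj N).map f ≫ bM M' N n =
      bM M N n ≫ ((Tor (ModuleCat.{u} A) n).obj N).map (presMap f).τ₁ :=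
  shiftB'_naturality₂ (pres_shortExact M) (pres_shortExact M') (presMap f) N n

lemma bM_naturality₂ (M : ModuleCat.{u} A) {N N' : ModuleCat.{u} A} (g : N ⟶ N') (n : ℕ) :
    ((Tor (ModuleCat.{u} A) (n + 1)).map g).app M ≫ bM M N' n =
      bM M N n ≫ ((Tor (ModuleCat.{u} A) n).map g).app (pres M).X₁ :=
  shiftB'_naturality₁ (pres_shortExact M) g n

variable {n : ℕ} (B : Bal A n)

lemma exists_stepIso (M N : ModuleCat.{u} A) :
    ∃ x : ((Tor (ModuleCat.{u} A) (n + 1)).obj M).obj N ≅
        ((Tor (ModuleCat.{u} A) (n + 1)).obj N).obj M,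
      x.hom ≫ bM M N n = aM M N n ≫ (B.iso (pres M).X₁ N).hom :=
  exists_iso_of_exact (aM M N n)
    (((Tor (ModuleCat.{u} A) n).map (pres M).f).app N) (shiftA_comp _ N n)
    (exact_shiftA _ N n) (bM M N n)
    (((Tor (ModuleCat.{u} A) n).obj N).map (pres M).f) (shiftB'_comp _ N n)
    (exact_shiftB' _ N n) (B.iso (pres M).X₁ N) (B.iso (pres M).X₂ N)
    (B.nat₁ (pres M).f N).symm

/-- the isomorphism in degree `n + 1` -/
noncomputable def stepIso (M N : ModuleCat.{u} A) :
    ((Tor (ModuleCat.{u} A) (n + 1)).obj M).obj N ≅ ((Tor (ModuleCat.{u} A) (n + 1)).obj N).obj M :=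
  (exists_stepIso B M N).choose

@[reassoc]
lemma stepIso_spec (M N : ModuleCat.{u} A) :
    (stepIso B M N).hom ≫ bM M N n = aM M N n ≫ (B.iso (pres M).X₁ N).hom :=
  (exists_stepIso B M N).choose_spec

/-- the inductive step -/
noncomputable def balSucc : Bal A (n + 1) where
  iso := stepIso B
  nat₁ {M M'} f N := by
    rw [← cancel_mono (bM M' N n), assoc, assoc, stepIso_spec, bM_naturality₁,
      stepIso_spec_assoc, reassoc_of% (aM_naturality₁ f N n), B.nat₁]
  nat₂ M {N N'} g := by
    rw [← cancel_mono (bM M N' n), assoc, assoc, stepIso_spec, bM_naturality₂,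
      stepIso_spec_assoc, reassoc_of% (aM_naturality₂ M g n), B.nat₂]

end step

/-- balancing in all degrees -/
noncomputable def bal : ∀ n : ℕ, Bal A n
  | 0 => bal0
  | (n + 1) => balSucc (bal n)

variable (A) in
/-- `Tor_n ≅ Tor_n.flip` as bifunctors -/
theorem nonempty_tor_iso_flip (n : ℕ) :
    Nonempty (Tor (ModuleCat.{u} A) n ≅ (Tor (ModuleCat.{u} A) n).flip) :=
  ⟨NatIso.ofComponents
    (fun M => NatIso.ofComponents (fun N => (bal n).iso M N) (fun g => (bal n).nat₂ M g))
    (fun f => by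
      apply NatTrans.ext
      funext N
      exact (bal n).nat₁ f N)⟩

end Groth.Agent.Lib.helper13.TorBal
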