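import Mathlib
import Groth.Agent.Lib.Helper13.TorLow1
import Groth.Agent.Lib.Helper13.KFlat3

/-!
# Lower tor amplitude, part 2 (helper13): canonical truncation below of a K-flat complex

* `isIso_πTruncGE_f`: `(K.πTruncGE n).f i` is an isomorphism for `n < i`.
* `truncGE_props`: for a K-flat complex `P` of flat modules with `N ⊗ P` exact in degrees `< a` for
  all modules `N` (`TVL a P`), the truncation `P.truncGE a` is K-flat, has flat terms, vanishes in
  degrees `< a` and `P ⟶ P.truncGE a` is a quasi-isomorphism.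
* `torLow_iff`: the characterisation of lower tor amplitude (= S12093).
-/

set_option autoImplicit false
universe u
open CategoryTheory Limits HomologicalComplex MonoidalCategory

attribute [local instance] HasDerivedCategory.standard

namespace Groth.Agent.Lib.helper13.TorLow

open Groth.Agent.Lib.helper13.KFlat Groth.Agent.Lib.helper13.LTenCx
  Groth.Agent.Lib.helper23.TA

section general

variable {C : Type*} [Category C] [Abelian C] (K : CochainComplex C ℤ)

/-- `(K.πTruncGE n).f i` is an isomorphism for `n < i` -/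
lemma isIso_πTruncGE_f (n i : ℤ) (hi : n < i) : IsIso ((K.πTruncGE n).f i) := by
  obtain ⟨k, hk⟩ : ∃ k : ℕ, (ComplexShape.embeddingUpIntGE n).f k = i :=
    ⟨(i - n).toNat, by
      change n + ((i - n).toNat : ℤ) = i
      rw [Int.toNat_of_nonneg (by omega)]; ring⟩
  have hk' : n + (k : ℤ) = i := hk
  have h1 := HomologicalComplex.isIso_restrictionToTruncGE' K (ComplexShape.embeddingUpIntGE n) k
    (by rw [ComplexShape.boundaryGE_embeddingUpIntGE_iff]; omega)
  exact ((ComplexShape.embeddingUpIntGE n).isIso_liftExtend_f_iff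
    (K.restrictionToTruncGE' (ComplexShape.embeddingUpIntGE n))
    (K.restrictionToTruncGE'_hasLift (ComplexShape.embeddingUpIntGE n)) hk).2 h1

end general

variable {R : Type u} [CommRing R]

/-- the truncation `P.truncGE a` of a K-flat complex of flat modules which is universally exact
below `a` -/
theorem truncGE_props (P : DRing.Cx R) (hP : IsKFlatR P) (hfl : DRing.TermwiseFlat P) (a : ℤ)
    (h : TVL a P) :
    IsKFlatR (P.truncGE a) ∧ DRing.TermwiseFlat (P.truncGE a) ∧
      (∀ i : ℤ, i < a → IsZero ((P.truncGE a).X i)) ∧ QuasiIso (P.πTruncGE a) := by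
  haveI : P.IsGE a := (CochainComplex.isGE_iff P a).2 (fun i hi => exactAt_of_tvl P a h i hi)
  have hop : P.opcycles a ≅ ModuleCat.of R ((P.X a) ⧸ LinearMap.range (P.d (a - 1) a).hom) :=
    IsColimit.coconePointUniqueUpToIso (P.opcyclesIsCokernel (a - 1) a (by simp))
      (cokernelIsCokernel _) ≪≫ ModuleCat.cokernelIsoRangeQuotient _
  have hflE : DRing.TermwiseFlat (P.truncGE a) := by
    intro i
    rcases lt_trichotomy i a with hi | rfl | hi
    · exact flatP_of_isZero _ (CochainComplex.isZero_of_isStrictlyGE _ a i hi)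
    · exact (FlatP R).prop_of_iso (P.truncGEXIsoOpcycles i ≪≫ hop).symm
        (flat_quotient_of_tvl P hfl i h)
    · exact (FlatP R).prop_of_iso (P.truncGEXIso a i hi).symm (hfl i)
  refine ⟨?_, hflE, fun i hi => CochainComplex.isZero_of_isStrictlyGE _ a i hi, inferInstance⟩
  -- the short exact sequence `0 → ker π → P → P.truncGE a → 0`
  let π := P.πTruncGE a
  let S : ShortComplex (DRing.Cx R) := ShortComplex.mk (kernel.ι π) π (kernel.condition π)
  have hS : S.ShortExact :=
    { exact := ShortComplex.exact_of_f_is_kernel S (kernelIsKernel π)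
      mono_f := (inferInstance : Mono (kernel.ι π))
      epi_g := (inferInstance :
        Epi (HomologicalComplex.πTruncGE P (ComplexShape.embeddingUpIntGE a))) }
  have hSi : ∀ i : ℤ, (S.map (eval _ _ i)).ShortExact := fun i => hS.map_of_exact (eval _ _ i)
  -- the kernel is a bounded above complex of flat modules
  have hA1 : DRing.VanishesAbove (kernel π) a := by
    intro i hi
    have h1 := hSi i
    haveI : IsIso ((S.map (eval _ _ i)).g) := isIso_πTruncGE_f P a i hi
    haveI hm : Mono (S.map (eval _ _ i)).f := h1.mono_f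
    have h2 : (S.map (eval _ _ i)).f = 0 := by
      have hz := (S.map (eval _ _ i)).zero
      rw [← cancel_mono (S.map (eval _ _ i)).g, hz, zero_comp]
    exact @IsZero.of_mono_eq_zero _ _ _ _ _ (S.map (eval _ _ i)).f hm h2
  have hA2 : DRing.TermwiseFlat (kernel π) := by
    intro i
    have h1 := hSi i
    haveI : Module.Flat R ((S.map (eval _ _ i)).X₂) := hfl i
    haveI : Module.Flat R ((S.map (eval _ _ i)).X₃) := hflE i
    exact flat_of_exact (S.map (eval _ _ i)).f.hom (S.map (eval _ _ i)).g.hom
      ((ModuleCat.mono_iff_injective _).1 h1.mono_f)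
      ((ModuleCat.epi_iff_surjective _).1 h1.epi_g)
      ((ShortComplex.ShortExact.moduleCat_exact_iff_function_exact _).1 h1.exact)
  have hA : IsKFlatR (kernel π) := isKFlatR_of_bounded_above _ a hA1 hA2
  exact (isKFlatR_two_of_three S hS hflE).1 hA hP

/-- **Lower tor amplitude**: `H^i(M ⊗^L K) = 0` for all modules `M` and `i < a` iff `K` is
quasi-isomorphic to a K-flat complex of flat modules vanishing in degrees `< a`. -/
theorem torLow_iff (a : ℤ) (K : DRing.Cx R) [DRing.HasLTensorCx R K] :
    (∀ (M : ModuleCat.{u} R) (i : ℤ), i < a →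
        Subsingleton (Dual.HD R ((DRing.LTensorCx R K).obj
          (DRing.toD ((CochainComplex.singleFunctor (ModuleCat.{u} R) 0).obj M))) i)) ↔
      ∃ E : DRing.Cx R, IsKFlatR E ∧
        DRing.TermwiseFlat E ∧ (∀ i : ℤ, i < a → IsZero (E.X i)) ∧
          Nonempty (DRing.toD E ≅ DRing.toD K) := by
  constructor
  · intro h
    obtain ⟨P, f, hP, hfl, hf, -⟩ := Groth.Agent.Lib.helper13.KRes.exists_isKFlatR_resolution K
    haveI : QuasiIso f := hf
    have e : DerivedCategory.Q.obj K ≅ DerivedCategory.Q.obj P :=
      (asIso (DerivedCategory.Q.map f)).symm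
    have htvl : TVL a P := fun N i hi =>
      (isZero_homology_LTensorCx_single_iff K P hP e N i).1 (h N i hi)
    obtain ⟨h1, h2, h3, h4⟩ := truncGE_props P hP hfl a htvl
    haveI := h4
    exact ⟨P.truncGE a, h1, h2, h3,
      ⟨(asIso (DerivedCategory.Q.map (P.πTruncGE a))).symm ≪≫ e.symm⟩⟩
  · rintro ⟨E, hE, -, hz, ⟨e⟩⟩ M i hi
    rw [isZero_homology_LTensorCx_single_iff K E hE e.symm M i]
    exact HomologicalComplex.ExactAt.of_isZero ((tensorLeft M).map_isZero (hz i hi))

end Groth.Agent.Lib.helper13.TorLow
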