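import Mathlib

/-!
# Torsion modules and flat maps inducing an isomorphism modulo `I` (helper13)

`A → B` flat, `I` an ideal of `A` with `A ⧸ I ≅ B ⧸ IB`.  For an `I`-power torsion `A`-module `T` the map
`T → B ⊗_A T`, `t ↦ 1 ⊗ t`, is bijective (`bijective_one_tmul`).
-/

set_option autoImplicit false
universe u
open scoped TensorProduct

namespace Groth.Agent.Lib.helper13.TorsAlg

variable {A B : Type*} [CommRing A] [CommRing B] [Algebra A B] (I : Ideal A)

section Surj

variable (hs : Function.Surjective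
  ((Ideal.Quotient.mk (I.map (algebraMap A B))).comp (algebraMap A B)))

include hs in
lemma exists_sub_mem_one (b : B) :
    ∃ a : A, b - algebraMap A B a ∈ I • (⊤ : Submodule A B) := by
  obtain ⟨a, ha⟩ := hs (Ideal.Quotient.mk _ b)
  refine ⟨a, ?_⟩
  rw [Ideal.smul_top_eq_map]
  show b - algebraMap A B a ∈ I.map (algebraMap A B)
  have h1 : Ideal.Quotient.mk (I.map (algebraMap A B)) (algebraMap A B a) =
      Ideal.Quotient.mk (I.map (algebraMap A B)) b := ha
  rw [← Ideal.Quotient.eq_zero_iff_mem, map_sub, h1, sub_self]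

include hs in
lemma exists_sub_mem_pow (n : ℕ) (b : B) :
    ∃ a : A, b - algebraMap A B a ∈ (I ^ n) • (⊤ : Submodule A B) := by
  induction n generalizing b with
  | zero =>
    refine ⟨0, ?_⟩
    rw [map_zero, sub_zero, pow_zero, Ideal.one_eq_top]
    have : b = (1 : A) • b := (one_smul A b).symm
    rw [this]
    exact Submodule.smul_mem_smul Submodule.mem_top Submodule.mem_top
  | succ n ih =>
    obtain ⟨a, ha⟩ := ih b
    have key : ∀ x ∈ (I ^ n) • (⊤ : Submodule A B),
        ∃ a' : A, x - algebraMap A B a' ∈ (I ^ (n + 1)) • (⊤ : Submodule A B) := by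
      intro x hx
      refine Submodule.smul_induction_on hx ?_ ?_
      · intro r hr m _
        obtain ⟨a₁, ha₁⟩ := exists_sub_mem_one I hs m
        refine ⟨r * a₁, ?_⟩
        have h1 : r • m - algebraMap A B (r * a₁) = r • (m - algebraMap A B a₁) := by
          rw [smul_sub, map_mul, Algebra.smul_def r (algebraMap A B a₁)]
        rw [h1, pow_succ, Submodule.mul_smul]
        exact Submodule.smul_mem_smul hr ha₁
      · intro x y ⟨a₁, h₁⟩ ⟨a₂, h₂⟩
        refine ⟨a₁ + a₂, ?_⟩
        have : x + y - algebraMap A B (a₁ + a₂) =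
            (x - algebraMap A B a₁) + (y - algebraMap A B a₂) := by
          rw [map_add]; ring
        rw [this]
        exact Submodule.add_mem _ h₁ h₂
    obtain ⟨a', ha'⟩ := key _ ha
    refine ⟨a + a', ?_⟩
    have : b - algebraMap A B (a + a') = b - algebraMap A B a - algebraMap A B a' := by
      rw [map_add]; ring
    rw [this]
    exact ha'

variable {T : Type*} [AddCommGroup T] [Module A T]

lemma tmul_eq_zero_of_mem (n : ℕ) (t : T) (ht : ∀ a ∈ I ^ n, a • t = 0) (y : B)
    (hy : y ∈ (I ^ n) • (⊤ : Submodule A B)) : y ⊗ₜ[A] t = 0 := by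
  refine Submodule.smul_induction_on hy ?_ ?_
  · intro r hr m _
    rw [TensorProduct.smul_tmul, ht r hr, TensorProduct.tmul_zero]
  · intro x y hx hy
    rw [TensorProduct.add_tmul, hx, hy, add_zero]

include hs in
lemma surjective_one_tmul (hT : ∀ t : T, ∃ n : ℕ, ∀ a ∈ I ^ n, a • t = 0) (z : B ⊗[A] T) :
    ∃ t : T, (1 : B) ⊗ₜ[A] t = z := by
  induction z using TensorProduct.induction_on with
  | zero => exact ⟨0, TensorProduct.tmul_zero _ _⟩
  | tmul b t =>
    obtain ⟨n, hn⟩ := hT t
    obtain ⟨a, ha⟩ := exists_sub_mem_pow I hs n b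
    refine ⟨a • t, ?_⟩
    have h1 := tmul_eq_zero_of_mem I n t hn _ ha
    rw [TensorProduct.sub_tmul, sub_eq_zero] at h1
    rw [h1, Algebra.algebraMap_eq_smul_one, TensorProduct.smul_tmul]
  | add x y hx hy =>
    obtain ⟨t₁, h₁⟩ := hx
    obtain ⟨t₂, h₂⟩ := hy
    exact ⟨t₁ + t₂, by rw [TensorProduct.tmul_add, h₁, h₂]⟩

end Surj

section Inj

variable (hs : Function.Surjective
  ((Ideal.Quotient.mk (I.map (algebraMap A B))).comp (algebraMap A B)))
  (hk : RingHom.ker ((Ideal.Quotient.mk (I.map (algebraMap A B))).comp (algebraMap A B)) = I)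

/-- the ring isomorphism `B ⧸ IB ≃ A ⧸ I` -/
noncomputable def quotEquiv : (B ⧸ I.map (algebraMap A B)) ≃+* (A ⧸ I) :=
  (RingHom.quotientKerEquivOfSurjective hs).symm.trans (Ideal.quotEquivOfEq hk)

lemma quotEquiv_mk (a : A) :
    quotEquiv I hs hk (Ideal.Quotient.mk _ (algebraMap A B a)) = Ideal.Quotient.mk I a := by
  have h1 : (RingHom.quotientKerEquivOfSurjective hs).symm
      (Ideal.Quotient.mk (I.map (algebraMap A B)) (algebraMap A B a)) = Ideal.Quotient.mk _ a :=
    RingHom.quotientKerEquivOfSurjective_symm_apply hs a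
  show Ideal.quotEquivOfEq hk ((RingHom.quotientKerEquivOfSurjective hs).symm _) = _
  rw [h1]
  rfl

/-- the `A`-linear retraction `B → A ⧸ I` -/
noncomputable def ψ : B →ₗ[A] A ⧸ I where
  toFun b := quotEquiv I hs hk (Ideal.Quotient.mk _ b)
  map_add' x y := by rw [map_add, map_add]
  map_smul' a b := by
    rw [Algebra.smul_def, map_mul, map_mul, quotEquiv_mk, RingHom.id_apply, Algebra.smul_def]
    rfl

lemma ψ_one : ψ I hs hk (1 : B) = 1 := by
  show quotEquiv I hs hk (Ideal.Quotient.mk _ 1) = 1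
  rw [map_one, map_one]

variable {T : Type*} [AddCommGroup T] [Module A T]

include hs hk in
/-- `1 ⊗ t = 0` in `B ⊗ T` forces `t ∈ I T` -/
lemma mem_smul_top_of_one_tmul_eq_zero (t : T) (h : (1 : B) ⊗ₜ[A] t = 0) :
    t ∈ I • (⊤ : Submodule A T) := by
  have h1 := congrArg (fun z => (TensorProduct.quotTensorEquivQuotSMul T I)
    (LinearMap.rTensor T (ψ I hs hk) z)) h
  simp only [LinearMap.rTensor_tmul, map_zero] at h1
  rw [ψ_one, ← map_one (Ideal.Quotient.mk I), TensorProduct.quotTensorEquivQuotSMul_mk_tmul,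
    one_smul] at h1
  exact (Submodule.Quotient.mk_eq_zero _).1 h1

variable [Module.Flat A B]

include hs hk in
lemma injective_one_tmul (hT : ∀ t : T, ∃ n : ℕ, ∀ a ∈ I ^ n, a • t = 0) (t : T)
    (h : (1 : B) ⊗ₜ[A] t = 0) : t = 0 := by
  let T' : Submodule A T := Submodule.span A {t}
  let t' : T' := ⟨t, Submodule.mem_span_singleton_self t⟩
  have hinj : Function.Injective (T'.subtype.lTensor B) :=
    Module.Flat.lTensor_preserves_injective_linearMap T'.subtype Subtype.val_injective
  have h0 : (1 : B) ⊗ₜ[A] t' = 0 := by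
    apply hinj
    rw [LinearMap.lTensor_tmul, map_zero]
    exact h
  have h1 := mem_smul_top_of_one_tmul_eq_zero I hs hk t' h0
  have h2 : t ∈ I • Submodule.span A {t} := by
    have h3 : T'.subtype t' ∈ (I • (⊤ : Submodule A T')).map T'.subtype :=
      Submodule.mem_map_of_mem h1
    rw [Submodule.map_smul'', Submodule.map_top, Submodule.range_subtype] at h3
    exact h3
  obtain ⟨c, hc, hct⟩ := Submodule.mem_smul_span_singleton.1 h2
  obtain ⟨n, hn⟩ := hT t
  have h4 : ∀ k : ℕ, c ^ k • t = t := by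
    intro k
    induction k with
    | zero => rw [pow_zero, one_smul]
    | succ k ih => rw [pow_succ, mul_smul, hct, ih]
  rw [← h4 n]
  exact hn _ (Ideal.pow_mem_pow hc n)

include hs hk in
/-- **`T → B ⊗ T` is bijective for `I`-power torsion `T`.** -/
theorem bijective_one_tmul (hT : ∀ t : T, ∃ n : ℕ, ∀ a ∈ I ^ n, a • t = 0) :
    Function.Bijective (fun t : T => (1 : B) ⊗ₜ[A] t) := by
  constructor
  · intro t₁ t₂ h
    have h' : (1 : B) ⊗ₜ[A] t₁ = (1 : B) ⊗ₜ[A] t₂ := h
    have h1 : (1 : B) ⊗ₜ[A] (t₁ - t₂) = 0 := by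
      rw [TensorProduct.tmul_sub, h', sub_self]
    exact sub_eq_zero.1 (injective_one_tmul I hs hk hT _ h1)
  · intro z
    exact surjective_one_tmul I hs hT z

end Inj

end Groth.Agent.Lib.helper13.TorsAlg
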