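import Mathlib
import Groth.Prelude.Def_DRing3
import Groth.Agent.Lib.Helper13.GM3
import Groth.Agent.Lib.Helper13.RKF2
import Groth.Agent.Lib.Helper23.FlatBC1
import Groth.Agent.Lib.Helper13.DComp4

/-!
# Base change of `Ext` from power-torsion modules, part 1 (helper13)

* `Inv T g`, `Orth T Z` (in a pretriangulated category): `g` induces bijections on `Hom(T, -⟦j⟧)`; `Hom(T, Z⟦j⟧) = 0`.
  `inv_of_isIso`, `inv_comp`, `inv_mor₂` (the second map of a distinguished triangle with `T`-orthogonal first vertex).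
* `nonempty_flat_adjunction φ : Nonempty (extD φ ⊣ restrictD φ)` for flat `φ` (termwise extension of scalars).
* `orth_of_local`: maps from an `f`-power torsion module to shifts of an `f`-local complex vanish in `D(A)`.
* `augM N fs : Č(fs; N) ⟶ N[0]`; `inv_Φ_proj`, `inv_Φ_augM`, `inv_augM`: for an `A`-linear additive endofunctor `Φ₀` of
  `A`-modules and `M` a `(fs)`-power torsion module, `Φ(Č(fs; N)) ⟶ Φ(N[0])` induces bijections on `Hom_D(M, -⟦j⟧)`.
-/

set_option autoImplicit false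
universe u
open CategoryTheory CategoryTheory.Limits DerivedCategory Pretriangulated

attribute [local instance] HasDerivedCategory.standard

namespace Groth.Agent.Lib.helper13.TorsBC

open Groth.Agent.Lib.helper13.DComp Groth.Agent.Lib.helper13.GM

section Generic

variable {C : Type*} [Category C] [Preadditive C] [HasShift C ℤ] [HasZeroObject C]
  [∀ n : ℤ, (shiftFunctor C n).Additive] [Pretriangulated C]

/-- `g` induces bijections on `Hom(T, -⟦j⟧)` for all `j` -/
def Inv (T : C) {X Y : C} (g : X ⟶ Y) : Prop :=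
  ∀ j : ℤ, Function.Bijective (fun φ : T ⟶ X⟦j⟧ => φ ≫ g⟦j⟧')

/-- `Hom(T, Z⟦j⟧) = 0` for all `j` -/
def Orth (T Z : C) : Prop := ∀ j : ℤ, Subsingleton (T ⟶ Z⟦j⟧)

omit [HasZeroObject C] [∀ n : ℤ, (shiftFunctor C n).Additive] [Pretriangulated C] [Preadditive C] in
lemma inv_of_isIso (T : C) {X Y : C} (g : X ⟶ Y) [IsIso g] : Inv T g :=
  fun j => bijective_postcomp_of_isIso (g⟦j⟧') T

omit [HasZeroObject C] [∀ n : ℤ, (shiftFunctor C n).Additive] [Pretriangulated C] [Preadditive C] in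
lemma inv_comp (T : C) {X Y Z : C} (g : X ⟶ Y) (h : Y ⟶ Z) (hg : Inv T g) (hh : Inv T h) :
    Inv T (g ≫ h) := by
  intro j
  have : (fun φ : T ⟶ X⟦j⟧ => φ ≫ (g ≫ h)⟦j⟧') =
      (fun φ : T ⟶ Y⟦j⟧ => φ ≫ h⟦j⟧') ∘ (fun φ : T ⟶ X⟦j⟧ => φ ≫ g⟦j⟧') := by
    funext φ
    simp only [Function.comp_apply, Functor.map_comp, Category.assoc]
  rw [this]
  exact (hh j).comp (hg j)

lemma inv_mor₂ (T : C) (Tr : Triangle C) (hTr : Tr ∈ distTriang C) (h : Orth T Tr.obj₁) :
    Inv T Tr.mor₂ := by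
  intro j
  apply bijective_postcomp_shift (T := T) Tr.mor₂ j
  haveI h0 : Subsingleton (T⟦-j⟧ ⟶ Tr.obj₁) := (subsingleton_shift_iff _ _ j).2 (h j)
  haveI h1 : Subsingleton (T⟦-j⟧ ⟶ Tr.obj₁⟦(1 : ℤ)⟧) := by
    rw [subsingleton_shift_iff]
    haveI := h (1 + j)
    let e : (Tr.obj₁⟦(1 : ℤ)⟧)⟦j⟧ ≅ Tr.obj₁⟦1 + j⟧ :=
      ((shiftFunctorAdd' C 1 j (1 + j) rfl).app Tr.obj₁).symm
    exact ⟨fun a b => by rw [← cancel_mono e.hom]; exact Subsingleton.elim _ _⟩
  constructor
  · intro φ₁ φ₂ hφ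
    have hφ' : φ₁ ≫ Tr.mor₂ = φ₂ ≫ Tr.mor₂ := hφ
    have h2 : (φ₁ - φ₂) ≫ Tr.mor₂ = 0 := by
      rw [Preadditive.sub_comp, hφ', sub_self]
    obtain ⟨ψ, hψ⟩ := Triangle.coyoneda_exact₂ Tr hTr _ h2
    rw [Subsingleton.elim ψ 0, zero_comp] at hψ
    exact sub_eq_zero.1 hψ
  · intro χ
    have h2 : χ ≫ Tr.mor₃ = 0 := Subsingleton.elim _ _
    obtain ⟨φ, hφ⟩ := Triangle.coyoneda_exact₃ Tr hTr χ h2
    exact ⟨φ, hφ.symm⟩

end Generic

section FlatAdj

variable {A B : Type u} [CommRing A] [CommRing B] (φ : A →+* B)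
  [PreservesFiniteLimits (ModuleCat.extendScalars.{u, u, u} φ)]

open Groth.Agent.Lib.helper23.FlatBC

/-- for flat `φ`, termwise extension of scalars is left adjoint to restriction on derived categories -/
theorem nonempty_flat_adjunction : Nonempty (extD φ ⊣ DRing.restrictD φ) := by
  haveI := Groth.Agent.Lib.helper13.RKF.hasLBaseChange φ
  obtain ⟨adj, -⟩ := Groth.Agent.Lib.helper13.RKF.exists_adjunction φ
  exact ⟨adj.ofNatIsoLeft (lbcIso φ)⟩

lemma isZero_extD_single (M : ModuleCat.{u} A)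
    (hM : Subsingleton ((ModuleCat.extendScalars.{u, u, u} φ).obj M)) :
    IsZero ((extD φ).obj ((DerivedCategory.singleFunctor (ModuleCat.{u} A) 0).obj M)) := by
  refine IsZero.of_iso ?_ (((ModuleCat.extendScalars.{u, u, u} φ).mapDerivedCategorySingleFunctor 0).app M)
  haveI := hM
  show IsZero ((DerivedCategory.singleFunctor (ModuleCat.{u} B) 0).obj
    ((ModuleCat.extendScalars.{u, u, u} φ).obj M))
  exact Functor.map_isZero _ (ModuleCat.isZero_of_subsingleton _)

lemma subsingleton_hom_restrictD (M : ModuleCat.{u} A)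
    (hM : Subsingleton ((ModuleCat.extendScalars.{u, u, u} φ).obj M)) (W : Dual.D B) :
    Subsingleton ((DerivedCategory.singleFunctor (ModuleCat.{u} A) 0).obj M ⟶
      (DRing.restrictD φ).obj W) := by
  obtain ⟨adj⟩ := nonempty_flat_adjunction φ
  exact (adj.homEquiv _ _).subsingleton_congr.1
    ⟨fun a b => (isZero_extD_single φ M hM).eq_of_src _ _⟩

end FlatAdj

section Local

variable {A : Type u} [CommRing A]

open Groth.Agent.Lib.helper23.FlatBC TensorProduct

lemma subsingleton_extendScalars_away (f : A) (M : Type u) [AddCommGroup M] [Module A M]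
    (hM : ∀ m : M, ∃ n : ℕ, f ^ n • m = 0) :
    Subsingleton ((ModuleCat.extendScalars.{u, u, u} (φf f)).obj (ModuleCat.of A M)) := by
  refine ⟨fun a b => ?_⟩
  have key : ∀ x : TensorProduct A ((ModuleCat.restrictScalars (φf f)).obj
      (ModuleCat.of (Localization.Away f) (Localization.Away f))) M, x = 0 := by
    intro x
    induction x using TensorProduct.induction_on with
    | zero => rfl
    | tmul s m =>
      obtain ⟨n, hn⟩ := hM m
      have hu : IsUnit (algebraMap A (Localization.Away f) (f ^ n)) :=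
        IsLocalization.map_units (Localization.Away f)
          (⟨f ^ n, ⟨n, rfl⟩⟩ : Submonoid.powers f)
      obtain ⟨u, hu'⟩ := hu
      let s' : (ModuleCat.restrictScalars (φf f)).obj
          (ModuleCat.of (Localization.Away f) (Localization.Away f)) :=
        (↑u⁻¹ * (show Localization.Away f from s) : Localization.Away f)
      have hs : s = (f ^ n) • s' := by
        show (show Localization.Away f from s) =
          algebraMap A (Localization.Away f) (f ^ n) * (↑u⁻¹ * (show Localization.Away f from s))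
        rw [← hu', ← mul_assoc, Units.mul_inv, one_mul]
      rw [hs, TensorProduct.smul_tmul, hn, TensorProduct.tmul_zero]
    | add x y hx hy => rw [hx, hy, add_zero]
  exact (key a).trans (key b).symm

/-- **Maps from an `f`-power torsion module to (shifts of) an `f`-local complex vanish.** -/
theorem orth_of_local (f : A) (M : Type u) [AddCommGroup M] [Module A M]
    (hM : ∀ m : M, ∃ n : ℕ, f ^ n • m = 0) (Y : DRing.Cx A)
    (hY : ∀ n : ℤ, Function.Bijective (fun y : Y.X n => f • y)) :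
    Orth (Dual.inD A M) (Q.obj Y) := by
  intro j
  haveI : PreservesFiniteLimits (ModuleCat.extendScalars.{u, u, u} (φf f)) :=
    preservesFiniteLimits_extendScalars_algebraMap (A := A) (B := Localization.Away f)
  haveI := isIso_mkCx f Y hY
  let Y' := ((LF f).mapHomologicalComplex (ComplexShape.up ℤ)).obj Y
  let e : Q.obj Y ≅ (DRing.restrictD (φf f)).obj (Q.obj Y') :=
    Q.mapIso (asIso (mkCx f Y)) ≪≫
      ((ModuleCat.restrictScalars (φf f)).mapDerivedCategoryFactors.app Y').symm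
  let e' : (Q.obj Y)⟦j⟧ ≅ (DRing.restrictD (φf f)).obj ((Q.obj Y')⟦j⟧) :=
    (shiftFunctor _ j).mapIso e ≪≫ (((DRing.restrictD (φf f)).commShiftIso j).app (Q.obj Y')).symm
  haveI := subsingleton_hom_restrictD (φf f) (ModuleCat.of A M)
    (subsingleton_extendScalars_away f M hM) ((Q.obj Y')⟦j⟧)
  exact ⟨fun a b => by rw [← cancel_mono e'.hom]; exact Subsingleton.elim _ _⟩

end Local

section Tower

variable {A : Type u} [CommRing A]

/-- the augmentation `Č(fs; N) ⟶ N[0]` -/
noncomputable def augM (N : ModuleCat.{u} A) :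
    ∀ fs : List A, DerCA.extCech N fs ⟶ DerCA.extCech N ([] : List A)
  | [] => 𝟙 _
  | f :: fs => proj f (DerCA.extCech N fs) ≫ augM N fs

variable (Φ₀ : ModuleCat.{u} A ⥤ ModuleCat.{u} A) [Φ₀.Additive]

/-- `Φ₀` applied termwise to complexes -/
noncomputable abbrev Φc : DRing.Cx A ⥤ DRing.Cx A := Φ₀.mapHomologicalComplex (ComplexShape.up ℤ)

variable (hΦ : ∀ (a : A) (M : ModuleCat.{u} A), Φ₀.map (a • 𝟙 M) = a • 𝟙 (Φ₀.obj M))
  (M : Type u) [AddCommGroup M] [Module A M]

omit [Φ₀.Additive] in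
include hΦ in
lemma bijective_smul_Φ_locFunctor (f : A) (N : ModuleCat.{u} A) :
    Function.Bijective
      (fun x : Φ₀.obj ((DerCA.locFunctor (Submonoid.powers f)).obj N) => f • x) := by
  haveI := isIso_smul_locFunctor f N
  have h : IsIso (f • 𝟙 (Φ₀.obj ((DerCA.locFunctor (Submonoid.powers f)).obj N))) := by
    rw [← hΦ]
    infer_instance
  rw [ConcreteCategory.isIso_iff_bijective] at h
  exact h

include hΦ in
/-- one step of the tower under `Φ` -/
theorem inv_Φ_proj (f : A) (hM : ∀ m : M, ∃ n : ℕ, f ^ n • m = 0) (E : DRing.Cx A) :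
    Inv (Dual.inD A M) (Q.map ((Φc Φ₀).map (proj f E))) := by
  let S' := (coconeSC f E).map (Φc Φ₀)
  have hS' : S'.ShortExact := by
    refine HomologicalComplex.shortExact_of_degreewise_shortExact S' (fun i => ?_)
    exact ((coconeSplitting f E i).map Φ₀).shortExact
  have hT := DerivedCategory.triangleOfSES_distinguished hS'
  have hz : Orth (Dual.inD A M) (DerivedCategory.triangleOfSES hS').obj₁ :=
    orth_of_local f M hM _ (fun n => bijective_smul_Φ_locFunctor Φ₀ hΦ f _)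
  let m₂ : Q.obj ((Φc Φ₀).obj (CochainComplex.mappingCocone (uE f E))) ⟶
      Q.obj ((Φc Φ₀).obj ((E⟦(1 : ℤ)⟧)⟦(-1 : ℤ)⟧)) :=
    (DerivedCategory.triangleOfSES hS').mor₂
  have h1 : Inv (Dual.inD A M) m₂ := inv_mor₂ _ _ hT hz
  have hfac : Q.map ((Φc Φ₀).map (proj f E)) =
      m₂ ≫ Q.map ((Φc Φ₀).map (shiftIso E).hom) := by
    show _ = Q.map ((Φc Φ₀).map (show CochainComplex.mappingCocone (uE f E) ⟶ (E⟦(1 : ℤ)⟧)⟦(-1 : ℤ)⟧ from
      (coconeSC f E).g)) ≫ Q.map ((Φc Φ₀).map (shiftIso E).hom)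
    rw [← Functor.map_comp, ← Functor.map_comp]
    rfl
  haveI : IsIso (Q.map ((Φc Φ₀).map (shiftIso E).hom)) :=
    (Q.mapIso ((Φc Φ₀).mapIso (shiftIso E))).isIso_hom
  rw [hfac]
  exact inv_comp _ _ _ h1 (inv_of_isIso _ _)

include hΦ in
/-- the whole tower under `Φ` -/
theorem inv_Φ_augM (N : ModuleCat.{u} A) :
    ∀ (fs : List A), (∀ g ∈ fs, ∀ m : M, ∃ n : ℕ, g ^ n • m = 0) →
      Inv (Dual.inD A M) (Q.map ((Φc Φ₀).map (augM N fs)))
  | [], _ => by
    have : augM N ([] : List A) = 𝟙 _ := rfl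
    rw [this, CategoryTheory.Functor.map_id, CategoryTheory.Functor.map_id]
    exact inv_of_isIso _ _
  | f :: fs, h => by
    have h1 := inv_Φ_proj Φ₀ hΦ M f (h f List.mem_cons_self) (DerCA.extCech N fs)
    have h2 := inv_Φ_augM N fs (fun g hg => h g (List.mem_cons_of_mem _ hg))
    have key : Q.map ((Φc Φ₀).map (augM N (f :: fs))) =
        (show Q.obj ((Φc Φ₀).obj (DerCA.extCech N (f :: fs))) ⟶ _ from
          Q.map ((Φc Φ₀).map (proj f (DerCA.extCech N fs)))) ≫
        Q.map ((Φc Φ₀).map (augM N fs)) := by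
      show Q.map ((Φc Φ₀).map (proj f (DerCA.extCech N fs) ≫ augM N fs)) = _
      rw [Functor.map_comp, Functor.map_comp]
      rfl
    rw [key]
    exact inv_comp _ _ _ h1 h2

/-- the tower itself (`Φ₀ = 𝟭`) -/
theorem inv_augM (N : ModuleCat.{u} A) (fs : List A)
    (h : ∀ g ∈ fs, ∀ m : M, ∃ n : ℕ, g ^ n • m = 0) :
    Inv (Dual.inD A M) (Q.map (augM N fs)) := by
  have h1 := inv_Φ_augM (𝟭 _) (fun a M => rfl) M N fs h
  let ι := Functor.mapHomologicalComplexIdIso (ModuleCat.{u} A) (ComplexShape.up ℤ)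
  have hnat : (Φc (𝟭 (ModuleCat.{u} A))).map (augM N fs) ≫ ι.hom.app _ =
      ι.hom.app _ ≫ augM N fs := ι.hom.naturality _
  have h2 : Q.map (augM N fs) = Q.map (ι.inv.app _) ≫
      Q.map ((Φc (𝟭 (ModuleCat.{u} A))).map (augM N fs)) ≫ Q.map (ι.hom.app _) := by
    rw [← Functor.map_comp, ← Functor.map_comp, hnat, Iso.inv_hom_id_app_assoc]
  rw [h2]
  exact inv_comp _ _ _ (inv_of_isIso _ _) (inv_comp _ _ _ h1 (inv_of_isIso _ _))

end Tower

end Groth.Agent.Lib.helper13.TorsBC
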