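import Mathlib
import Groth.Prelude.Def_DRing3
import Groth.Agent.Lib.Helper13.TorsBC1
import Groth.Agent.Lib.Helper13.TorsAlg
import Groth.Agent.Lib.Helper2.ExtCech3

/-!
# Base change of `Ext` from power-torsion modules, part 2 (helper13)

`φ : A → B` a ring map, `ΦB φ = restrictScalars ∘ extendScalars`, `ηB φ : 𝟭 ⟶ ΦB φ` the unit, `unitCx φ X : X ⟶ B ⊗ X`.

* `extendScalars_map_smul'`, `ΦB_map_smul`: `ΦB φ` is `A`-linear.
* `isIso_ηB_app`: for `A → B` flat with `A ⧸ I ≅ B ⧸ IB` the unit is an isomorphism at `I`-power torsion modules.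
* `quasiIso_unitCx`: `X ⟶ B ⊗ X` is a quasi-isomorphism when `X` has `I`-power torsion cohomology.
* `extCech_homology_torsion`: the extended Čech complex of any module has `I`-power torsion cohomology (`I = (fs)`).
* `postcompAddEquiv`, `precompAddEquiv`, `Inv.addEquiv`; `idA`, `extendScalarsEquiv`.
* `nonempty_hom_addEquiv`: `Hom_{D(A)}(M, N⟦i⟧) ≃+ Hom_{D(B)}(B ⊗ M, (B ⊗ N)⟦i⟧)` for `M` `I`-power torsion (S1731).
-/

set_option autoImplicit false
universe u
open CategoryTheory CategoryTheory.Limits DerivedCategory Pretriangulated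
open scoped TensorProduct

attribute [local instance] HasDerivedCategory.standard

namespace Groth.Agent.Lib.helper13.TorsBC

open Groth.Agent.Lib.helper13.DComp Groth.Agent.Lib.helper13.GM Groth.Agent.Lib.helper23.FlatBC

section Smul

variable {A B : Type u} [CommRing A] [CommRing B] (φ : A →+* B)

lemma extendScalars_map_smul' (a : A) (M : ModuleCat.{u} A) :
    (ModuleCat.extendScalars.{u, u, u} φ).map (a • 𝟙 M) =
      φ a • 𝟙 ((ModuleCat.extendScalars.{u, u, u} φ).obj M) := by
  apply ModuleCat.hom_ext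
  apply LinearMap.ext
  intro (x : TensorProduct A ((ModuleCat.restrictScalars φ).obj (ModuleCat.of B B)) M)
  induction x using TensorProduct.induction_on with
  | zero => exact (map_zero _).trans (map_zero _).symm
  | tmul s m =>
    have h1 : (ModuleCat.Hom.hom ((ModuleCat.extendScalars.{u, u, u} φ).map (a • 𝟙 M))) (s ⊗ₜ[A] m) =
        s ⊗ₜ[A] (a • m) := rfl
    have h2 : (ModuleCat.Hom.hom (φ a • 𝟙 ((ModuleCat.extendScalars.{u, u, u} φ).obj M))) (s ⊗ₜ[A] m) =
        (a • s) ⊗ₜ[A] m := rfl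
    rw [h1, h2, TensorProduct.smul_tmul]
  | add x y hx hy =>
    exact (map_add _ x y).trans ((congrArg₂ (· + ·) hx hy).trans (map_add _ x y).symm)

/-- restriction after extension of scalars -/
noncomputable abbrev ΦB : ModuleCat.{u} A ⥤ ModuleCat.{u} A :=
  ModuleCat.extendScalars.{u, u, u} φ ⋙ ModuleCat.restrictScalars.{u} φ

lemma ΦB_map_smul (a : A) (M : ModuleCat.{u} A) :
    (ΦB φ).map (a • 𝟙 M) = a • 𝟙 ((ΦB φ).obj M) := by
  show (ModuleCat.restrictScalars.{u} φ).map ((ModuleCat.extendScalars.{u, u, u} φ).map (a • 𝟙 M)) = _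
  rw [extendScalars_map_smul']
  rfl

/-- the unit `𝟭 ⟶ ΦB` -/
noncomputable abbrev ηB : 𝟭 (ModuleCat.{u} A) ⟶ ΦB φ :=
  ModuleCat.ExtendRestrictScalarsAdj.unit.{u, u, u} φ

/-- the unit on complexes -/
noncomputable def unitCx (X : DRing.Cx A) : X ⟶ (Φc (ΦB φ)).obj X where
  f n := (ηB φ).app (X.X n)
  comm' i j _ := ((ηB φ).naturality (X.d i j)).symm

end Smul

section Alg

variable (A B : Type u) [CommRing A] [CommRing B] [Algebra A B]

/-- `B` with its `A`-module structure through `algebraMap`, versus through `Algebra` -/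
noncomputable def idA : ((ModuleCat.restrictScalars.{u} (algebraMap A B)).obj (ModuleCat.of B B)) ≃ₗ[A] B where
  toFun x := x
  invFun x := x
  map_add' _ _ := rfl
  map_smul' a x := (Algebra.smul_def a (show B from x)).symm
  left_inv _ := rfl
  right_inv _ := rfl

variable {A B}
variable [Module.Flat A B] (I : Ideal A)
  (hs : Function.Surjective ((Ideal.Quotient.mk (I.map (algebraMap A B))).comp (algebraMap A B)))
  (hk : RingHom.ker ((Ideal.Quotient.mk (I.map (algebraMap A B))).comp (algebraMap A B)) = I)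

include hs hk in
lemma isIso_ηB_app (H : ModuleCat.{u} A) (hH : ∀ t : H, ∃ n : ℕ, ∀ a ∈ I ^ n, a • t = 0) :
    IsIso ((ηB (algebraMap A B)).app H) := by
  rw [ConcreteCategory.isIso_iff_bijective]
  let e : TensorProduct A ((ModuleCat.restrictScalars.{u} (algebraMap A B)).obj (ModuleCat.of B B)) H ≃ₗ[A]
      B ⊗[A] H := TensorProduct.congr (idA A B) (LinearEquiv.refl A H)
  have hb := Groth.Agent.Lib.helper13.TorsAlg.bijective_one_tmul (B := B) I hs hk hH
  have : ⇑(ConcreteCategory.hom ((ηB (algebraMap A B)).app H)) =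
      ⇑e.symm ∘ (fun t : H => (1 : B) ⊗ₜ[A] t) := by
    funext t
    rfl
  rw [this]
  exact e.symm.bijective.comp hb

include hs hk in
/-- the unit `X ⟶ B ⊗ X` is a quasi-isomorphism when `X` has `I`-power torsion cohomology -/
theorem quasiIso_unitCx (X : DRing.Cx A)
    (hX : ∀ (n : ℤ) (x : X.homology n), ∃ k : ℕ, ∀ a ∈ I ^ k, a • x = 0) :
    QuasiIso (unitCx (algebraMap A B) X) := by
  haveI : PreservesFiniteLimits (ModuleCat.extendScalars.{u, u, u} (algebraMap A B)) :=
    preservesFiniteLimits_extendScalars_algebraMap (A := A) (B := B)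
  rw [quasiIso_iff]
  intro n
  rw [quasiIsoAt_iff_isIso_homologyMap]
  have h := NatTrans.app_homology (ηB (algebraMap A B)) (X.sc n)
  haveI hiso : IsIso ((ηB (algebraMap A B)).app (X.sc n).homology) :=
    isIso_ηB_app I hs hk _ (hX n)
  have h2 : HomologicalComplex.homologyMap (unitCx (algebraMap A B) X) n =
      ShortComplex.homologyMap ((X.sc n).mapNatTrans (ηB (algebraMap A B))) := rfl
  have h3 : ShortComplex.homologyMap ((X.sc n).mapNatTrans (ηB (algebraMap A B))) =
      ((X.sc n).mapHomologyIso (𝟭 _)).hom ≫ (ηB (algebraMap A B)).app (X.sc n).homology ≫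
        ((X.sc n).mapHomologyIso (ΦB (algebraMap A B))).inv := by
    rw [h]
    simp
  rw [h2, h3]
  exact @IsIso.comp_isIso _ _ _ _ _ _ _ inferInstance
    (@IsIso.comp_isIso _ _ _ _ _ _ _ hiso inferInstance)

end Alg

section Tors

variable {A : Type u} [CommRing A]

lemma extCech_homology_torsion (I : Ideal A) (hI : I.FG) (fs : List A)
    (hfs : Ideal.span {a : A | a ∈ fs} = I) (N : ModuleCat.{u} A) (n : ℤ)
    (x : (DerCA.extCech N fs).homology n) : ∃ k : ℕ, ∀ a ∈ I ^ k, a • x = 0 := by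
  obtain ⟨k, -, hk⟩ := Groth.Agent.Lib.helper2.ExtCech.extCechH_pow_smul_eq_zero fs N n x
  have hle : I ≤ (Ideal.torsionOf A _ x).radical := by
    rw [← hfs, Ideal.span_le]
    intro g hg
    exact ⟨k, (Ideal.mem_torsionOf_iff _ _).2 (hk g hg)⟩
  obtain ⟨m, hm⟩ := Ideal.exists_pow_le_of_le_radical_of_fg hle hI
  exact ⟨m, fun a ha => (Ideal.mem_torsionOf_iff _ _).1 (hm ha)⟩

end Tors

section Hom

variable {C : Type*} [Category C] [Preadditive C]

/-- postcomposition with an isomorphism, additively -/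
def postcompAddEquiv {X Y : C} (e : X ≅ Y) (T : C) : (T ⟶ X) ≃+ (T ⟶ Y) where
  toFun φ := φ ≫ e.hom
  invFun ψ := ψ ≫ e.inv
  left_inv φ := by simp
  right_inv ψ := by simp
  map_add' φ ψ := Preadditive.add_comp _ _ _ _ _ _

/-- precomposition with an isomorphism, additively -/
def precompAddEquiv {X Y : C} (e : X ≅ Y) (Z : C) : (Y ⟶ Z) ≃+ (X ⟶ Z) where
  toFun φ := e.hom ≫ φ
  invFun ψ := e.inv ≫ ψ
  left_inv φ := by simp
  right_inv ψ := by simp
  map_add' φ ψ := Preadditive.comp_add _ _ _ _ _ _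

variable [HasShift C ℤ] [HasZeroObject C] [∀ n : ℤ, (shiftFunctor C n).Additive] [Pretriangulated C]

/-- the additive bijection attached to `Inv T g` -/
noncomputable def Inv.addEquiv {T X Y : C} {g : X ⟶ Y} (h : Inv T g) (j : ℤ) :
    (T ⟶ X⟦j⟧) ≃+ (T ⟶ Y⟦j⟧) :=
  AddEquiv.ofBijective (Preadditive.rightComp T (g⟦j⟧')) (h j)

end Hom

section Main

variable (A B : Type u) [CommRing A] [CommRing B] [Algebra A B]

set_option backward.isDefEq.respectTransparency false in
/-- the carrier of `extendScalars (algebraMap A B)` is `B ⊗[A] N` -/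
noncomputable def extendScalarsEquiv (N : ModuleCat.{u} A) :
    ((ModuleCat.extendScalars.{u, u, u} (algebraMap A B)).obj N) ≃ₗ[B] B ⊗[A] N :=
  { TensorProduct.congr (idA A B) (LinearEquiv.refl A N) with
    map_smul' := fun b x => by
      induction x using TensorProduct.induction_on with
      | zero =>
        rw [smul_zero]
        exact (map_zero (TensorProduct.congr (idA A B) (LinearEquiv.refl A N))).trans
          (smul_zero _).symm
      | tmul s n => rfl
      | add x y hx hy =>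
        rw [smul_add]
        refine (map_add (TensorProduct.congr (idA A B) (LinearEquiv.refl A N)) _ _).trans ?_
        refine Eq.trans ?_ (congrArg (fun z => (RingHom.id B) b • z)
          (map_add (TensorProduct.congr (idA A B) (LinearEquiv.refl A N)) _ _).symm)
        rw [smul_add]
        exact congrArg₂ (· + ·) hx hy }

variable {A B}
variable [Module.Flat A B] (I : Ideal A) (hI : I.FG)
  (hs : Function.Surjective ((Ideal.Quotient.mk (I.map (algebraMap A B))).comp (algebraMap A B)))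
  (hk : RingHom.ker ((Ideal.Quotient.mk (I.map (algebraMap A B))).comp (algebraMap A B)) = I)
  (M N : Type u) [AddCommGroup M] [Module A M] [AddCommGroup N] [Module A N]

include hI hs hk in
/-- **Base change of `Ext` from a power-torsion module** along a flat map `A → B` with `A ⧸ I ≅ B ⧸ IB`. -/
theorem nonempty_hom_addEquiv (hM : ∀ m : M, ∃ n : ℕ, ∀ a ∈ I ^ n, a • m = 0) (i : ℤ) :
    Nonempty ((Dual.inD A M ⟶ (Dual.inD A N)⟦i⟧) ≃+
      (Dual.inD B (B ⊗[A] M) ⟶ (Dual.inD B (B ⊗[A] N))⟦i⟧)) := by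
  haveI : PreservesFiniteLimits (ModuleCat.extendScalars.{u, u, u} (algebraMap A B)) :=
    preservesFiniteLimits_extendScalars_algebraMap (A := A) (B := B)
  obtain ⟨s, hs'⟩ := hI
  let fs : List A := s.toList
  have hfs : Ideal.span {a : A | a ∈ fs} = I := by
    rw [← hs']
    congr 1
    ext a
    simp [fs]
  have hI' : I.FG := ⟨s, hs'⟩
  have htors : ∀ g ∈ fs, ∀ m : M, ∃ n : ℕ, g ^ n • m = 0 := by
    intro g hg m
    obtain ⟨n, hn⟩ := hM m
    have hgI : g ∈ I := by
      rw [← hfs]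
      exact Ideal.subset_span hg
    exact ⟨n, hn _ (Ideal.pow_mem_pow hgI n)⟩
  let φ := algebraMap A B
  let N' : ModuleCat.{u} A := ModuleCat.of A N
  let X := DerCA.extCech N' fs
  let T := Dual.inD A M
  let W := Dual.inD B (B ⊗[A] N)
  -- the three tower/unit steps
  have h1 : Inv T (Q.map (augM N' fs)) := inv_augM M N' fs htors
  have h2 : Inv T (Q.map ((Φc (ΦB φ)).map (augM N' fs))) :=
    inv_Φ_augM (ΦB φ) (ΦB_map_smul φ) M N' fs htors
  haveI hq : QuasiIso (unitCx φ X) :=
    quasiIso_unitCx I hs hk X (fun n x => extCech_homology_torsion I hI' fs hfs N' n x)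
  haveI : IsIso (Q.map (unitCx φ X)) := inferInstance
  have h3 : Inv T (Q.map (unitCx φ X)) := inv_of_isIso _ _
  -- identifications
  let e0 : Dual.inD A N ≅ Q.obj (DerCA.extCech N' ([] : List A)) :=
    (DerivedCategory.singleFunctorIsoCompQ (ModuleCat.{u} A) 0).app N'
  let κ : Q.obj ((Φc (ΦB φ)).obj (DerCA.extCech N' ([] : List A))) ≅ (DRing.restrictD φ).obj W :=
    Q.mapIso ((HomologicalComplex.singleMapHomologicalComplex (ΦB φ) (ComplexShape.up ℤ) 0).app N') ≪≫
    ((DerivedCategory.singleFunctorIsoCompQ (ModuleCat.{u} A) 0).app ((ΦB φ).obj N')).symm ≪≫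
    (DerivedCategory.singleFunctor (ModuleCat.{u} A) 0).mapIso
      ((ModuleCat.restrictScalars.{u} φ).mapIso (extendScalarsEquiv A B N').toModuleIso) ≪≫
    (((ModuleCat.restrictScalars.{u} φ).mapDerivedCategorySingleFunctor 0).app
      (ModuleCat.of B (B ⊗[A] N))).symm
  let lam : (extD φ).obj T ≅ Dual.inD B (B ⊗[A] M) :=
    ((ModuleCat.extendScalars.{u, u, u} φ).mapDerivedCategorySingleFunctor 0).app (ModuleCat.of A M) ≪≫
    (DerivedCategory.singleFunctor (ModuleCat.{u} B) 0).mapIso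
      (extendScalarsEquiv A B (ModuleCat.of A M)).toModuleIso
  obtain ⟨adj⟩ := nonempty_flat_adjunction φ
  let E0 : (T ⟶ (Dual.inD A N)⟦i⟧) ≃+ (T ⟶ (Q.obj (DerCA.extCech N' ([] : List A)))⟦i⟧) :=
    postcompAddEquiv ((shiftFunctor _ i).mapIso e0) T
  let E1 := (h1.addEquiv i).symm
  let E2 := h3.addEquiv i
  let E3 := h2.addEquiv i
  let E4 : (T ⟶ (Q.obj ((Φc (ΦB φ)).obj (DerCA.extCech N' ([] : List A))))⟦i⟧) ≃+
      (T ⟶ ((DRing.restrictD φ).obj W)⟦i⟧) :=
    postcompAddEquiv ((shiftFunctor _ i).mapIso κ) T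
  let E5 : (T ⟶ ((DRing.restrictD φ).obj W)⟦i⟧) ≃+ (T ⟶ (DRing.restrictD φ).obj (W⟦i⟧)) :=
    postcompAddEquiv (((DRing.restrictD φ).commShiftIso i).app W).symm T
  let E6 : (T ⟶ (DRing.restrictD φ).obj (W⟦i⟧)) ≃+ ((extD φ).obj T ⟶ W⟦i⟧) :=
    (adj.homAddEquiv T (W⟦i⟧)).symm
  let E7 : ((extD φ).obj T ⟶ W⟦i⟧) ≃+ (Dual.inD B (B ⊗[A] M) ⟶ W⟦i⟧) :=
    precompAddEquiv lam.symm _
  exact ⟨E0.trans (E1.trans (E2.trans (E3.trans (E4.trans (E5.trans (E6.trans E7))))))⟩

end Main

end Groth.Agent.Lib.helper13.TorsBC
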