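import Mathlib
import Groth.Agent.Lib.Helper13.UCA2

/-!
# Closedness of base changes from closedness over affine spaces
-/

set_option autoImplicit false

namespace Groth.Agent.Lib.helper13.UCA

universe u

open AlgebraicGeometry CategoryTheory Limits

lemma primeAt_congr {Y : Scheme.{u}} {V : Y.Opens} {p q : Y} (h : p = q) (hp : p ∈ V)
    (hq : q ∈ V) : primeAt V p hp = primeAt V q hq := by
  subst h; rfl

variable {X S T : Scheme.{u}}

theorem exists_finset_of_affineOpen (f : X ⟶ S) (g : T ⟶ S) [IsAffine T] {US : S.Opens}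
    (hUS : IsAffineOpen US) (hg : ⊤ ≤ g ⁻¹ᵁ US) {UX : X.Opens} (hUX : IsAffineOpen UX)
    (hUXS : UX ≤ f ⁻¹ᵁ US) (Z : Set ↑(pullback f g)) (hZ : IsClosed Z) (t : T)
    (ht : ∀ z ∈ Z, pullback.snd f g z ≠ t) :
    ∃ F : Finset Γ(T, ⊤), ∀ (T' : Scheme.{u}) (g' : T' ⟶ S) (ψ : T ⟶ T') (hψ : ψ ≫ g' = g)
      (UP : T'.Opens) (hUP : ⊤ ≤ ψ ⁻¹ᵁ UP),
      (↑F ⊆ Set.range (ψ.appLE UP ⊤ hUP).hom) →
      ∀ p : ↑(pullback f g'), pullback.fst f g' p ∈ UX → pullback.snd f g' p = ψ t →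
        p ∉ closure ((pullback.lift (pullback.fst f g) (pullback.snd f g ≫ ψ)
          (by rw [Category.assoc, hψ, pullback.condition]) : pullback f g ⟶ pullback f g') '' Z) := by
  classical
  have H : IsPullback (pullback.fst f g) (pullback.snd f g) f g := IsPullback.of_hasPullback f g
  obtain ⟨UY, hUYdef⟩ : ∃ UY : (pullback f g).Opens,
      UY = pullback.fst f g ⁻¹ᵁ UX ⊓ pullback.snd f g ⁻¹ᵁ ⊤ := ⟨_, rfl⟩
  have hUT : IsAffineOpen (⊤ : T.Opens) := isAffineOpen_top T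
  have hUY : IsAffineOpen UY := by
    have : IsAffine _ := hUS
    have : IsAffine _ := hUT
    have : IsAffine _ := hUX
    exact .of_isIso (Scheme.Hom.isPullback_resLE H hg hUXS hUYdef).isoPullback.hom
  have hpush := (isIso_pushoutSection_iff H hg hUXS hUYdef).mp
    (isIso_pushoutSection_of_isAffineOpen H hg hUXS hUYdef hUS hUT hUX)
  have hgen := closure_eq_top_of_isPushout hpush
  obtain ⟨I, hI⟩ := exists_ideal_of_isClosed hUY Z hZ
  have hαle : UY ≤ pullback.fst f g ⁻¹ᵁ UX := by rw [hUYdef]; exact inf_le_left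
  have hβle : UY ≤ pullback.snd f g ⁻¹ᵁ ⊤ := by rw [hUYdef]; exact inf_le_right
  have hprime : ∀ 𝔓 : Ideal Γ(pullback f g, UY), 𝔓.IsPrime → I ≤ 𝔓 →
      𝔓.comap ((pullback.snd f g).appLE ⊤ UY hβle).hom ≠ primeAt (⊤ : T.Opens) t trivial := by
    intro 𝔓 h𝔓 hle heq
    obtain ⟨z, hz, rfl⟩ := exists_primeAt_eq hUY 𝔓
    have hzZ : z ∈ Z := (hI z hz).mpr hle
    rw [comap_primeAt] at heq
    exact ht z hzZ (eq_of_primeAt_eq _ _ heq)
  obtain ⟨F, hF⟩ := exists_finset_no_prime ((pullback.fst f g).appLE UX UY hαle).hom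
    ((pullback.snd f g).appLE ⊤ UY hβle).hom hgen I (primeAt (⊤ : T.Opens) t trivial) hprime
  refine ⟨F, fun T' g' ψ hψ UP hUP hrange p hp1 hp2 hpcl => ?_⟩
  obtain ⟨Φ, hΦ⟩ : ∃ Φ : pullback f g ⟶ pullback f g', Φ = pullback.lift (pullback.fst f g)
      (pullback.snd f g ≫ ψ) (by rw [Category.assoc, hψ, pullback.condition]) := ⟨_, rfl⟩
  rw [← hΦ] at hpcl
  have hΦ1 : Φ ≫ pullback.fst f g' = pullback.fst f g := by rw [hΦ, pullback.lift_fst]
  have hΦ2 : Φ ≫ pullback.snd f g' = pullback.snd f g ≫ ψ := by rw [hΦ, pullback.lift_snd]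
  obtain ⟨UY', hUY'def⟩ : ∃ UY' : (pullback f g').Opens,
      UY' = pullback.fst f g' ⁻¹ᵁ UX ⊓ pullback.snd f g' ⁻¹ᵁ UP := ⟨_, rfl⟩
  have hα'le : UY' ≤ pullback.fst f g' ⁻¹ᵁ UX := by rw [hUY'def]; exact inf_le_left
  have hγle : UY' ≤ pullback.snd f g' ⁻¹ᵁ UP := by rw [hUY'def]; exact inf_le_right
  have hΦle : UY ≤ Φ ⁻¹ᵁ UY' := by
    intro z hz
    rw [hUY'def]
    refine ⟨?_, ?_⟩
    · show pullback.fst f g' (Φ z) ∈ UX
      rw [← Scheme.Hom.comp_apply, hΦ1]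
      exact hαle hz
    · show pullback.snd f g' (Φ z) ∈ UP
      rw [← Scheme.Hom.comp_apply, hΦ2, Scheme.Hom.comp_apply]
      exact hUP trivial
  have hpUY' : p ∈ UY' := by
    rw [hUY'def]
    refine ⟨hp1, ?_⟩
    show pullback.snd f g' p ∈ UP
    rw [hp2]
    exact hUP trivial
  have h1 : ((Φ.appLE UY' UY hΦle).hom).comp ((pullback.snd f g').appLE UP UY' hγle).hom =
      (((pullback.snd f g).appLE ⊤ UY hβle).hom).comp (ψ.appLE UP ⊤ hUP).hom := by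
    rw [← CommRingCat.hom_comp, ← CommRingCat.hom_comp, Scheme.Hom.appLE_comp_appLE,
      Scheme.Hom.appLE_comp_appLE]
    simp only [hΦ2]
  have h2 : ((Φ.appLE UY' UY hΦle).hom).comp ((pullback.fst f g').appLE UX UY' hα'le).hom =
      ((pullback.fst f g).appLE UX UY hαle).hom := by
    rw [← CommRingCat.hom_comp, Scheme.Hom.appLE_comp_appLE]
    simp only [hΦ1]
  refine hF Γ(T', UP) Γ(pullback f g', UY') (ψ.appLE UP ⊤ hUP).hom
    ((pullback.snd f g').appLE UP UY' hγle).hom (Φ.appLE UY' UY hΦle).hom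
    ((pullback.fst f g').appLE UX UY' hα'le).hom h1 h2 hrange (primeAt UY' p hpUY') inferInstance
    ?_ ?_
  · intro s' hs'
    rw [Ideal.mem_comap] at hs'
    rw [mem_primeAt]
    intro hps'
    -- the open `basicOpen s'` meets `Φ '' Z`
    obtain ⟨_, ⟨hq1, ⟨z, hzZ, rfl⟩⟩⟩ :=
      mem_closure_iff.mp hpcl _ ((pullback f g').basicOpen s').isOpen hps'
    have hzUY' : Φ z ∈ UY' := (pullback f g').basicOpen_le s' hq1
    have hzUY : z ∈ UY := by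
      rw [hUYdef]
      refine ⟨?_, trivial⟩
      show pullback.fst f g z ∈ UX
      rw [← hΦ1, Scheme.Hom.comp_apply]
      exact hα'le hzUY'
    have hmem : Φ.appLE UY' UY hΦle s' ∈ primeAt UY z hzUY := (hI z hzUY).mp hzZ hs'
    rw [mem_primeAt, Scheme.basicOpen_appLE] at hmem
    exact hmem ⟨hzUY, hq1⟩
  · rw [comap_primeAt, comap_primeAt]
    exact primeAt_congr hp2 _ _

theorem isClosedMap_snd_of_affineSpace (f : X ⟶ S) [QuasiCompact f] (g : T ⟶ S) [IsAffine T]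
    {US : S.Opens} (hUS : IsAffineOpen US) (hg : ⊤ ≤ g ⁻¹ᵁ US)
    (H : ∀ n : ℕ, IsClosedMap (pullback.snd f (𝔸(ULift.{u} (Fin n); S) ↘ S))) :
    IsClosedMap (pullback.snd f g) := by
  classical
  intro Z hZ
  rw [← isOpen_compl_iff, isOpen_iff_forall_mem_open]
  intro t ht
  have ht' : ∀ z ∈ Z, pullback.snd f g z ≠ t := fun z hz h => ht ⟨z, hz, h⟩
  obtain ⟨s, hs, hcov⟩ := isCompact_iff_finite_and_eq_biUnion_affineOpens.mp
    (f.isCompact_preimage hUS.isCompact)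
  have hle : ∀ i ∈ s, (i : X.Opens) ≤ f ⁻¹ᵁ US := fun i hi => by
    rw [hcov]; exact le_iSup₂ (f := fun (i : X.affineOpens) (_ : i ∈ s) => (i : X.Opens)) i hi
  choose! F hF using fun (i : X.affineOpens) (hi : i ∈ s) =>
    exists_finset_of_affineOpen f g hUS hg i.2 (hle i hi) Z hZ t ht'
  obtain ⟨Ftot, hFtot⟩ : ∃ Ftot : Finset Γ(T, ⊤), Ftot = hs.toFinset.biUnion F := ⟨_, rfl⟩
  obtain ⟨n, hn⟩ : ∃ n : ℕ, n = Ftot.card := ⟨_, rfl⟩
  have e : Fin n ≃ Ftot := hn ▸ Ftot.equivFin.symm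
  obtain ⟨v, hv⟩ : ∃ v : ULift.{u} (Fin n) → Γ(T, ⊤), v = fun k => (e k.down).1 := ⟨_, rfl⟩
  obtain ⟨ψ, hψdef⟩ : ∃ ψ : T ⟶ 𝔸(ULift.{u} (Fin n); S), ψ = AffineSpace.homOfVector g v :=
    ⟨_, rfl⟩
  have hψ : ψ ≫ (𝔸(ULift.{u} (Fin n); S) ↘ S) = g := by
    rw [hψdef]; exact AffineSpace.homOfVector_over g v
  obtain ⟨UP, hUPdef⟩ : ∃ UP : (𝔸(ULift.{u} (Fin n); S)).Opens,
      UP = (𝔸(ULift.{u} (Fin n); S) ↘ S) ⁻¹ᵁ US := ⟨_, rfl⟩
  have hUP : ⊤ ≤ ψ ⁻¹ᵁ UP := by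
    intro w _
    rw [hUPdef]
    show (𝔸(ULift.{u} (Fin n); S) ↘ S) (ψ w) ∈ US
    rw [← Scheme.Hom.comp_apply, hψ]
    exact hg trivial
  have hrange : ∀ i ∈ s, (↑(F i) : Set Γ(T, ⊤)) ⊆ Set.range (ψ.appLE UP ⊤ hUP).hom := by
    intro i hi b hb
    have hbtot : b ∈ Ftot := by
      rw [hFtot]
      exact Finset.mem_biUnion.mpr ⟨i, hs.mem_toFinset.mpr hi, hb⟩
    refine ⟨(𝔸(ULift.{u} (Fin n); S)).presheaf.map (homOfLE le_top).op
      (AffineSpace.coord S ⟨e.symm ⟨b, hbtot⟩⟩), ?_⟩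
    have h1 := Scheme.Hom.map_appLE ψ (U := UP) (V := ⊤) (U' := ⊤) hUP (homOfLE le_top).op
    have h2 := congrArg (fun k => k.hom (AffineSpace.coord S ⟨e.symm ⟨b, hbtot⟩⟩)) h1
    simp only [CommRingCat.hom_comp, RingHom.comp_apply] at h2
    rw [h2]
    have h3 : (ψ.appLE ⊤ ⊤ (hUP.trans ((TopologicalSpace.Opens.map ψ.base).map
        (homOfLE (le_top : UP ≤ ⊤)).op.unop).le)) = ψ.appTop := by
      rw [Scheme.Hom.appTop, Scheme.Hom.app_eq_appLE]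
      rfl
    rw [h3, hψdef, AffineSpace.homOfVector_appTop_coord, hv]
    simp
  obtain ⟨Φ, hΦ⟩ : ∃ Φ : pullback f g ⟶ pullback f (𝔸(ULift.{u} (Fin n); S) ↘ S),
      Φ = pullback.lift (pullback.fst f g) (pullback.snd f g ≫ ψ)
        (by rw [Category.assoc, hψ, pullback.condition]) := ⟨_, rfl⟩
  have hΦ2 : Φ ≫ pullback.snd f (𝔸(ULift.{u} (Fin n); S) ↘ S) = pullback.snd f g ≫ ψ := by
    rw [hΦ, pullback.lift_snd]
  have hcl := H n (closure (Φ '' Z)) isClosed_closure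
  refine ⟨ψ ⁻¹' (pullback.snd f (𝔸(ULift.{u} (Fin n); S) ↘ S) '' closure (Φ '' Z))ᶜ, ?_,
    hcl.isOpen_compl.preimage ψ.continuous, ?_⟩
  · rintro w hw ⟨z, hz, rfl⟩
    apply hw
    refine ⟨Φ z, subset_closure ⟨z, hz, rfl⟩, ?_⟩
    rw [← Scheme.Hom.comp_apply, hΦ2, Scheme.Hom.comp_apply]
  · rintro ⟨p, hp, hpt⟩
    have h1 : pullback.fst f (𝔸(ULift.{u} (Fin n); S) ↘ S) p ∈ f ⁻¹ᵁ US := by
      show f (pullback.fst f (𝔸(ULift.{u} (Fin n); S) ↘ S) p) ∈ US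
      rw [← Scheme.Hom.comp_apply, pullback.condition, Scheme.Hom.comp_apply, hpt,
        ← Scheme.Hom.comp_apply, hψ]
      exact hg trivial
    rw [hcov] at h1
    obtain ⟨i, hpi⟩ := TopologicalSpace.Opens.mem_iSup.mp h1
    obtain ⟨hi, hpi⟩ := TopologicalSpace.Opens.mem_iSup.mp hpi
    have := hF i hi _ _ ψ hψ UP hUP (hrange i hi) p hpi hpt
    rw [← hΦ] at this
    exact this hp


end Groth.Agent.Lib.helper13.UCA
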