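import Mathlib
import Groth.Agent.Lib.Helper13.UCA3

/-!
# A quasi-compact morphism whose base changes to affine spaces are closed is universally closed
-/

set_option autoImplicit false

namespace Groth.Agent.Lib.helper13.UCA

universe u

open AlgebraicGeometry CategoryTheory Limits MorphismProperty

variable {X S : Scheme.{u}}

theorem universallyClosed_of_affineSpace (f : X ⟶ S) [QuasiCompact f]
    (H : ∀ n : ℕ, IsClosedMap (pullback.snd f (𝔸(ULift.{u} (Fin n); S) ↘ S))) :
    UniversallyClosed f := by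
  rw [universallyClosed_eq]
  refine universally_mk' _ _ fun {T} g _ => ?_
  wlog hT : IsAffine T ∧ ∃ US : S.Opens, IsAffineOpen US ∧ ⊤ ≤ g ⁻¹ᵁ US generalizing T
  · have h1 : ∀ t : T, ∃ US : S.Opens, IsAffineOpen US ∧ g t ∈ US := fun t => by
      obtain ⟨US, hUS, hmem, -⟩ := exists_isAffineOpen_mem_and_subset (X := S) (x := g t)
        (U := ⊤) trivial
      exact ⟨US, hUS, hmem⟩
    choose US hUS hUSmem using h1
    have h2 : ∀ t : T, ∃ UT : T.Opens, IsAffineOpen UT ∧ t ∈ UT ∧ UT ≤ g ⁻¹ᵁ (US t) := fun t => by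
      obtain ⟨UT, hUT, hmem, hle⟩ := exists_isAffineOpen_mem_and_subset (X := T) (x := t)
        (U := g ⁻¹ᵁ (US t)) (hUSmem t)
      exact ⟨UT, hUT, hmem, hle⟩
    choose UT hUT hUTmem hUTle using h2
    let 𝒰 : T.OpenCover := T.openCoverOfIsOpenCover UT (TopologicalSpace.IsOpenCover.mk (by
      rw [eq_top_iff]
      intro t _
      exact TopologicalSpace.Opens.mem_iSup.mpr ⟨t, hUTmem t⟩))
    refine (IsZariskiLocalAtTarget.iff_of_openCover 𝒰).mpr fun t ↦ ?_
    refine (MorphismProperty.cancel_left_of_respectsIso _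
      ((pullbackRightPullbackFstIso ..).inv ≫ (pullbackSymmetry ..).hom) _).mp ?_
    have hle : (⊤ : (𝒰.X t).Opens) ≤ (𝒰.f t ≫ g) ⁻¹ᵁ (US t) := by
      intro w _
      show g ((UT t).ι w) ∈ US t
      exact hUTle t w.2
    have hthis := this (𝒰.f t ≫ g) inferInstance ⟨hUT t, US t, hUS t, hle⟩
    simpa [Scheme.Cover.pullbackHom] using! hthis
  obtain ⟨hTaff, US, hUS, hg⟩ := hT
  show IsClosedMap (pullback.fst g f)
  rw [← pullbackSymmetry_hom_comp_snd, Scheme.Hom.comp_base, TopCat.coe_comp]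
  exact (isClosedMap_snd_of_affineSpace f g hUS hg H).comp
    (pullbackSymmetry g f).hom.homeomorph.isClosedMap

end Groth.Agent.Lib.helper13.UCA
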