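import Mathlib

set_option autoImplicit false

/-! Combinatorial lemmas for sums over strictly monotone tuples (Verlinde cluster). -/

namespace Groth.Agent.Lib.helper13.Verl

open Finset

section Sorting

variable {m : ℕ} {α : Type*} [LinearOrder α] [Fintype α] {M : Type*} [AddCommMonoid M]

/-- Sorting lemma: a symmetric function on tuples vanishing on non-injective tuples sums to `m!`
times its sum over strictly monotone tuples. -/
theorem sum_eq_factorial_smul_sum_strictMono
    (F : (Fin m → α) → M) (hsymm : ∀ (x : Fin m → α) (σ : Equiv.Perm (Fin m)), F (x ∘ σ) = F x)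
    (hzero : ∀ x : Fin m → α, ¬ Function.Injective x → F x = 0) :
    ∑ x, F x = m.factorial • ∑ x ∈ univ.filter (fun x : Fin m → α => StrictMono x), F x := by
  classical
  have h1 : ∑ x, F x = ∑ x ∈ univ.filter (fun x : Fin m → α => Function.Injective x), F x := by
    rw [Finset.sum_filter]
    refine Finset.sum_congr rfl fun x _ => ?_
    split_ifs with h
    · rfl
    · exact hzero x h
  rw [h1]
  let Φ : Equiv.Perm (Fin m) × {x : Fin m → α // StrictMono x} →
      {x : Fin m → α // Function.Injective x} :=
    fun p => ⟨p.2.1 ∘ p.1, p.2.2.injective.comp p.1.injective⟩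
  have hΦ : Function.Bijective Φ := by
    constructor
    · rintro ⟨σ, x, hx⟩ ⟨τ, y, hy⟩ h
      have h' : x ∘ σ = y ∘ τ := congrArg Subtype.val h
      have e1 : y = x ∘ ⇑(σ * τ⁻¹) := by
        rw [Equiv.Perm.coe_mul, ← Function.comp_assoc, h']
        ext i; simp
      have hxy : y = x := by
        have := Tuple.unique_monotone (f := x) (σ := σ * τ⁻¹) (τ := 1)
          (by rw [← e1]; exact hy.monotone) (by simpa using hx.monotone)
        rw [e1, this]; simp
      subst hxy
      have : σ = τ := by
        ext i
        have := congrFun h' i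
        exact congrArg _ (hy.injective this)
      subst this
      rfl
    · rintro ⟨y, hy⟩
      refine ⟨⟨(Tuple.sort y)⁻¹, ⟨y ∘ Tuple.sort y, ?_⟩⟩, ?_⟩
      · exact (Tuple.monotone_sort y).strictMono_of_injective (hy.comp (Tuple.sort y).injective)
      · apply Subtype.ext; ext i; simp [Φ]
  have h2 : ∑ x ∈ univ.filter (fun x : Fin m → α => Function.Injective x), F x
      = ∑ q : {x : Fin m → α // Function.Injective x}, F q.1 := by
    rw [← Finset.sum_subtype_eq_sum_filter, Finset.subtype_univ]
  have h3 : ∑ x ∈ univ.filter (fun x : Fin m → α => StrictMono x), F x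
      = ∑ q : {x : Fin m → α // StrictMono x}, F q.1 := by
    rw [← Finset.sum_subtype_eq_sum_filter, Finset.subtype_univ]
  rw [h2, h3, ← hΦ.sum_comp (fun q => F q.1), Fintype.sum_prod_type]
  simp only [Φ, hsymm]
  rw [Finset.sum_const, Finset.card_univ, Fintype.card_perm, Fintype.card_fin]

/-- Strictly antitone version of the sorting lemma. -/
theorem sum_eq_factorial_smul_sum_strictAnti
    (F : (Fin m → α) → M) (hsymm : ∀ (x : Fin m → α) (σ : Equiv.Perm (Fin m)), F (x ∘ σ) = F x)
    (hzero : ∀ x : Fin m → α, ¬ Function.Injective x → F x = 0) :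
    ∑ x, F x = m.factorial • ∑ x ∈ univ.filter (fun x : Fin m → α => StrictAnti x), F x := by
  classical
  exact sum_eq_factorial_smul_sum_strictMono (α := αᵒᵈ) (m := m) F hsymm hzero

end Sorting

section Rank

variable {r : ℕ} {β : Type*} [LinearOrder β]

/-- Number of positions holding a smaller value than position `p`. -/
noncomputable def rank (y : Fin r → β) (p : Fin r) : ℕ :=
  (univ.filter (fun i => y i < y p)).card

lemma rank_lt (y : Fin r → β) (p : Fin r) : rank y p < r := by
  classical
  have h : univ.filter (fun i => y i < y p) ⊆ univ.erase p := by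
    intro i hi
    simp only [mem_filter, mem_univ, true_and] at hi
    simp only [mem_erase, mem_univ, and_true]
    rintro rfl
    exact lt_irrefl _ hi
  have := Finset.card_le_card h
  rw [Finset.card_erase_of_mem (mem_univ p), Finset.card_univ, Fintype.card_fin] at this
  have hr : 0 < r := Fin.pos p
  unfold rank
  omega

lemma rank_lt_of_lt (y : Fin r → β) {p q : Fin r} (h : y p < y q) : rank y p < rank y q := by
  classical
  unfold rank
  apply Finset.card_lt_card
  rw [Finset.ssubset_iff_of_subset]
  · refine ⟨p, ?_, ?_⟩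
    · simpa using h
    · simp
  · intro i hi
    simp only [mem_filter, mem_univ, true_and] at hi ⊢
    exact hi.trans h

lemma rank_injective {y : Fin r → β} (hy : Function.Injective y) : Function.Injective (rank y) := by
  intro p q hpq
  by_contra hne
  rcases lt_or_gt_of_ne (fun h => hne (hy h)) with h | h
  · exact absurd hpq (rank_lt_of_lt y h).ne
  · exact absurd hpq (rank_lt_of_lt y h).ne'

lemma sum_rank {M : Type*} [AddCommMonoid M] {y : Fin r → β} (hy : Function.Injective y)
    (f : ℕ → M) : ∑ p, f (rank y p) = ∑ j ∈ range r, f j := by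
  classical
  have himg : (univ : Finset (Fin r)).image (rank y) = range r := by
    apply Finset.eq_of_subset_of_card_le
    · intro j hj
      simp only [mem_image, mem_univ, true_and] at hj
      obtain ⟨p, rfl⟩ := hj
      exact mem_range.2 (rank_lt y p)
    · rw [Finset.card_image_of_injective _ (rank_injective hy)]
      simp
  rw [← himg, Finset.sum_image]
  intro p _ q _ h
  exact rank_injective hy h

end Rank

section Shift

variable {r N : ℕ} [NeZero N]

/-- The sorting lemma restricted to tuples hitting the value `c`. -/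
theorem sum_strictAnti_mem (G : (Fin r → Fin N) → ℂ)
    (hsymm : ∀ (x : Fin r → Fin N) (σ : Equiv.Perm (Fin r)), G (x ∘ σ) = G x)
    (hzero : ∀ x : Fin r → Fin N, ¬ Function.Injective x → G x = 0) (c : Fin N) :
    (r.factorial : ℂ) *
        ∑ x ∈ univ.filter (fun x : Fin r → Fin N => StrictAnti x ∧ ∃ p, x p = c), G x
      = ∑ p, ∑ x ∈ univ.filter (fun x : Fin r → Fin N => x p = c), G x := by
  classical
  have key := sum_eq_factorial_smul_sum_strictAnti (m := r) (α := Fin N)
    (fun x => if ∃ p, x p = c then G x else 0) ?_ ?_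
  · rw [nsmul_eq_mul] at key
    rw [← Finset.filter_filter, Finset.sum_filter, ← key]
    simp_rw [Finset.sum_filter]
    rw [Finset.sum_comm]
    refine Finset.sum_congr rfl fun x _ => ?_
    by_cases hx : Function.Injective x
    · by_cases hex : ∃ p, x p = c
      · obtain ⟨p₀, hp₀⟩ := hex
        rw [if_pos ⟨p₀, hp₀⟩, Finset.sum_eq_single p₀]
        · rw [if_pos hp₀]
        · intro p _ hp
          rw [if_neg]
          intro h
          exact hp (hx (h.trans hp₀.symm))
        · intro h; exact absurd (mem_univ _) h
      · rw [if_neg hex]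
        symm
        apply Finset.sum_eq_zero
        intro p _
        rw [if_neg]
        exact fun h => hex ⟨p, h⟩
    · rw [hzero x hx]
      simp
  · intro x σ
    have : (∃ p, (x ∘ σ) p = c) ↔ ∃ p, x p = c := by
      constructor
      · rintro ⟨p, hp⟩; exact ⟨σ p, hp⟩
      · rintro ⟨p, hp⟩; exact ⟨σ.symm p, by simpa using hp⟩
    simp only [this, hsymm]
  · intro x hx
    simp [hzero x hx]

/-- Averaging over the value at position `p`. -/
theorem sum_fix_eq (G : (Fin r → Fin N) → ℂ) (p : Fin r) :
    (N : ℂ) * ∑ x ∈ univ.filter (fun x : Fin r → Fin N => x p = 0), G x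
      = ∑ y : Fin r → Fin N, G (fun i => y i - y p) := by
  classical
  rw [← Finset.sum_fiberwise (s := (univ : Finset (Fin r → Fin N))) (g := fun y => y p)
    (f := fun y => G (fun i => y i - y p))]
  have : ∀ t : Fin N, ∑ y ∈ univ.filter (fun y : Fin r → Fin N => y p = t),
      G (fun i => y i - y p) = ∑ x ∈ univ.filter (fun x : Fin r → Fin N => x p = 0), G x := by
    intro t
    refine Finset.sum_nbij' (fun y i => y i - t) (fun x i => x i + t) ?_ ?_ ?_ ?_ ?_
    · intro y hy
      simp only [mem_filter, mem_univ, true_and] at hy ⊢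
      rw [hy, sub_self]
    · intro x hx
      simp only [mem_filter, mem_univ, true_and] at hx ⊢
      rw [hx, zero_add]
    · intro y _
      funext i; simp
    · intro x _
      funext i; simp
    · intro y hy
      simp only [mem_filter, mem_univ, true_and] at hy
      rw [hy]
  rw [Finset.sum_congr rfl (fun t _ => this t), Finset.sum_const, Finset.card_univ,
    Fintype.card_fin, nsmul_eq_mul]

/-- Shift lemma: sum over strictly antitone tuples containing `0` of a quasi-invariant
symmetric function. -/
theorem sum_strictAnti_zero_mem (G : (Fin r → Fin N) → ℂ)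
    (hsymm : ∀ (x : Fin r → Fin N) (σ : Equiv.Perm (Fin r)), G (x ∘ σ) = G x)
    (hzero : ∀ x : Fin r → Fin N, ¬ Function.Injective x → G x = 0) (w : ℂ)
    (hw : ∀ (y : Fin r → Fin N) (p : Fin r), Function.Injective y →
      G (fun i => y i - y p) = w ^ rank y p * G y) :
    (r.factorial : ℂ) * N *
        ∑ x ∈ univ.filter (fun x : Fin r → Fin N => StrictAnti x ∧ ∃ p, x p = 0), G x
      = (∑ j ∈ range r, w ^ j) * ∑ y, G y := by
  classical
  rw [mul_comm (r.factorial : ℂ), mul_assoc, sum_strictAnti_mem G hsymm hzero 0, Finset.mul_sum]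
  simp_rw [sum_fix_eq]
  rw [Finset.sum_comm, Finset.mul_sum]
  refine Finset.sum_congr rfl fun y _ => ?_
  by_cases hy : Function.Injective y
  · simp_rw [hw y _ hy]
    rw [← Finset.sum_mul, sum_rank hy (fun j => w ^ j)]
  · rw [hzero y hy, mul_zero]
    apply Finset.sum_eq_zero
    intro p _
    apply hzero
    intro hinj
    apply hy
    intro a b hab
    apply hinj
    simp only [hab]

/-- Shift lemma for fully translation-invariant functions and an arbitrary value `c`. -/
theorem sum_strictAnti_mem_of_invariant (G : (Fin r → Fin N) → ℂ)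
    (hsymm : ∀ (x : Fin r → Fin N) (σ : Equiv.Perm (Fin r)), G (x ∘ σ) = G x)
    (hzero : ∀ x : Fin r → Fin N, ¬ Function.Injective x → G x = 0)
    (hinv : ∀ (y : Fin r → Fin N) (t : Fin N), G (fun i => y i - t) = G y) (c : Fin N) :
    (r.factorial : ℂ) * N *
        ∑ x ∈ univ.filter (fun x : Fin r → Fin N => StrictAnti x ∧ ∃ p, x p = c), G x
      = r * ∑ y, G y := by
  classical
  rw [mul_comm (r.factorial : ℂ), mul_assoc, sum_strictAnti_mem G hsymm hzero c, Finset.mul_sum]
  have : ∀ p : Fin r, (N : ℂ) * ∑ x ∈ univ.filter (fun x : Fin r → Fin N => x p = c), G x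
      = ∑ y, G y := by
    intro p
    have h1 : ∑ x ∈ univ.filter (fun x : Fin r → Fin N => x p = c), G x
        = ∑ x ∈ univ.filter (fun x : Fin r → Fin N => x p = 0), G x := by
      refine Finset.sum_nbij' (fun y i => y i - c) (fun x i => x i + c) ?_ ?_ ?_ ?_ ?_
      · intro y hy
        simp only [mem_filter, mem_univ, true_and] at hy ⊢
        rw [hy, sub_self]
      · intro x hx
        simp only [mem_filter, mem_univ, true_and] at hx ⊢
        rw [hx, zero_add]
      · intro y _
        funext i; simp
      · intro x _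
        funext i; simp
      · intro y _
        exact (hinv y c).symm
    rw [h1, sum_fix_eq]
    simp_rw [hinv]
  rw [Finset.sum_congr rfl (fun p _ => this p), Finset.sum_const, Finset.card_univ,
    Fintype.card_fin, nsmul_eq_mul]

/-- For a strictly antitone tuple, containing `0` means the last entry is `0`. -/
lemma exists_eq_zero_iff_last (hr : 0 < r) {x : Fin r → Fin N} (hx : StrictAnti x) :
    (∃ p, x p = 0) ↔ (∀ i : Fin r, (i : ℕ) = r - 1 → ((x i : Fin N) : ℕ) = 0) := by
  constructor
  · rintro ⟨p, hp⟩ i hi
    have hpi : p ≤ i := by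
      rw [Fin.le_def]; have := p.2; omega
    have := hx.antitone hpi
    rw [hp] at this
    have h0 : x i = 0 := le_antisymm this (Fin.zero_le _)
    rw [h0]; rfl
  · intro h
    refine ⟨⟨r - 1, by omega⟩, ?_⟩
    apply Fin.ext
    rw [h ⟨r - 1, by omega⟩ rfl]; rfl

end Shift

end Groth.Agent.Lib.helper13.Verl
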