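import Groth.Agent.Lib.Helper13.Verl1

set_option autoImplicit false

/-! Roots of unity, the alternants `A a x = det (ζ^(a_i x_j))` and their Fourier sums. -/

namespace Groth.Agent.Lib.helper13.Verl

open Finset ComplexConjugate

noncomputable section

variable (N : ℕ)

/-- The standard primitive `N`-th root of unity. -/
def zeta : ℂ := Complex.exp (2 * Real.pi * Complex.I / N)

lemma zeta_ne_zero : zeta N ≠ 0 := Complex.exp_ne_zero _

lemma zeta_isPrimitiveRoot [NeZero N] : IsPrimitiveRoot (zeta N) N :=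
  Complex.isPrimitiveRoot_exp N (NeZero.ne N)

lemma zeta_pow_N [NeZero N] : zeta N ^ N = 1 := (zeta_isPrimitiveRoot N).pow_eq_one

lemma zeta_pow_eq_exp (n : ℕ) :
    zeta N ^ n = Complex.exp (2 * Real.pi * Complex.I * n / N) := by
  rw [zeta, ← Complex.exp_nat_mul]
  congr 1
  ring

lemma norm_zeta : ‖zeta N‖ = 1 := by
  rw [zeta, Complex.norm_exp]
  simp

lemma conj_zeta : conj (zeta N) = (zeta N)⁻¹ := by
  rw [Complex.inv_def, Complex.normSq_eq_norm_sq, norm_zeta]
  simp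

lemma conj_zeta_pow (n : ℕ) : conj (zeta N ^ n) = (zeta N ^ n)⁻¹ := by
  rw [map_pow, conj_zeta, inv_pow]

lemma zeta_pow_mod [NeZero N] (n : ℕ) : zeta N ^ (n % N) = zeta N ^ n := by
  conv_rhs => rw [← Nat.mod_add_div n N]
  rw [pow_add, pow_mul, zeta_pow_N, one_pow, mul_one]

lemma zeta_pow_eq_of_modEq [NeZero N] {m n : ℕ} (h : m ≡ n [MOD N]) : zeta N ^ m = zeta N ^ n := by
  rw [← zeta_pow_mod N m, ← zeta_pow_mod N n, h]

lemma zeta_pow_eq_iff [NeZero N] {m n : ℕ} : zeta N ^ m = zeta N ^ n ↔ m ≡ n [MOD N] := by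
  have hfin : IsOfFinOrder (zeta N) :=
    isOfFinOrder_iff_pow_eq_one.2 ⟨N, Nat.pos_of_ne_zero (NeZero.ne N), zeta_pow_N N⟩
  rw [hfin.pow_eq_pow_iff_modEq, ← (zeta_isPrimitiveRoot N).eq_orderOf]

/-- Orthogonality of characters of `ℤ/N`. -/
lemma sum_zeta_pow [NeZero N] (α β : ℕ) :
    ∑ t : Fin N, zeta N ^ (α * (t : ℕ)) * conj (zeta N ^ (β * (t : ℕ)))
      = if α ≡ β [MOD N] then (N : ℂ) else 0 := by
  set w : ℂ := zeta N ^ α * (zeta N ^ β)⁻¹ with hw
  have h1 : ∀ t : Fin N, zeta N ^ (α * (t : ℕ)) * conj (zeta N ^ (β * (t : ℕ))) = w ^ (t : ℕ) := by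
    intro t
    rw [conj_zeta_pow, hw, mul_pow, inv_pow, ← pow_mul, ← pow_mul]
  rw [Finset.sum_congr rfl (fun t _ => h1 t), Fin.sum_univ_eq_sum_range (fun t => w ^ t) N]
  split_ifs with h
  · have : w = 1 := by
      rw [hw, zeta_pow_eq_of_modEq N h, mul_inv_cancel₀ (pow_ne_zero _ (zeta_ne_zero N))]
    rw [this]; simp
  · have hw1 : w ≠ 1 := by
      intro h1
      apply h
      rw [← zeta_pow_eq_iff]
      rw [hw] at h1
      have := congrArg (· * zeta N ^ β) h1
      simpa [mul_assoc, inv_mul_cancel₀ (pow_ne_zero _ (zeta_ne_zero N))] using this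
    have hwN : w ^ N = 1 := by
      rw [hw, mul_pow, inv_pow, ← pow_mul, ← pow_mul, mul_comm α, mul_comm β, pow_mul, pow_mul,
        zeta_pow_N]
      simp
    rw [geom_sum_eq hw1, hwN, sub_self, zero_div]

variable {r : ℕ}

/-- The alternant `det (ζ^(a_i x_j))`. -/
def A (a x : Fin r → ℕ) : ℂ := (Matrix.of fun i j : Fin r => zeta N ^ (a i * x j)).det

lemma A_apply (a x : Fin r → ℕ) :
    A N a x = ∑ σ : Equiv.Perm (Fin r), (Equiv.Perm.sign σ : ℂ) * ∏ j, zeta N ^ (a (σ j) * x j) := by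
  rw [A, Matrix.det_apply']
  simp [Matrix.of_apply]

lemma A_transpose (a x : Fin r → ℕ) : A N a x = A N x a := by
  rw [A, A, ← Matrix.det_transpose]
  congr 1
  ext i j
  simp [Matrix.transpose_apply, mul_comm]

lemma A_comp_perm (a x : Fin r → ℕ) (σ : Equiv.Perm (Fin r)) :
    A N a (x ∘ σ) = (Equiv.Perm.sign σ : ℂ) * A N a x := by
  rw [A, A, ← Matrix.det_permute']
  congr 1

lemma A_perm_comp (a x : Fin r → ℕ) (σ : Equiv.Perm (Fin r)) :
    A N (a ∘ σ) x = (Equiv.Perm.sign σ : ℂ) * A N a x := by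
  rw [A_transpose, A_comp_perm, A_transpose]

lemma A_eq_zero_of_not_injective (a x : Fin r → ℕ) (hx : ¬ Function.Injective x) : A N a x = 0 := by
  rw [Function.Injective] at hx
  push Not at hx
  obtain ⟨i, j, hij, hne⟩ := hx
  rw [A]
  apply Matrix.det_zero_of_column_eq hne
  intro k
  simp [Matrix.of_apply, hij]

/-- Fourier orthogonality for alternants. -/
theorem sum_A_mul_conj_A [NeZero N] (a b : Fin r → ℕ) :
    ∑ y : Fin r → Fin N, A N a (fun i => (y i : ℕ)) * conj (A N b (fun i => (y i : ℕ)))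
      = (N : ℂ) ^ r * ∑ σ : Equiv.Perm (Fin r), ∑ τ : Equiv.Perm (Fin r),
          (Equiv.Perm.sign σ : ℂ) * (Equiv.Perm.sign τ : ℂ) *
            if (∀ j, a (σ j) ≡ b (τ j) [MOD N]) then 1 else 0 := by
  classical
  simp_rw [A_apply, map_sum, Finset.sum_mul_sum]
  rw [Finset.sum_comm, Finset.mul_sum]
  refine Finset.sum_congr rfl fun σ _ => ?_
  rw [Finset.sum_comm, Finset.mul_sum]
  refine Finset.sum_congr rfl fun τ _ => ?_
  have h1 : ∀ y : Fin r → Fin N,
      ((Equiv.Perm.sign σ : ℂ) * ∏ j, zeta N ^ (a (σ j) * (y j : ℕ))) *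
        conj ((Equiv.Perm.sign τ : ℂ) * ∏ j, zeta N ^ (b (τ j) * (y j : ℕ)))
      = (Equiv.Perm.sign σ : ℂ) * (Equiv.Perm.sign τ : ℂ) *
        ∏ j, (zeta N ^ (a (σ j) * (y j : ℕ)) * conj (zeta N ^ (b (τ j) * (y j : ℕ)))) := by
    intro y
    rw [map_mul, map_prod, Finset.prod_mul_distrib, map_intCast]
    ring
  rw [Finset.sum_congr rfl (fun y _ => h1 y), ← Finset.mul_sum]
  have h2 : ∑ y : Fin r → Fin N,
      ∏ j, (zeta N ^ (a (σ j) * (y j : ℕ)) * conj (zeta N ^ (b (τ j) * (y j : ℕ))))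
      = ∏ j : Fin r, ∑ t : Fin N,
          (zeta N ^ (a (σ j) * (t : ℕ)) * conj (zeta N ^ (b (τ j) * (t : ℕ)))) := by
    rw [Finset.prod_univ_sum, Fintype.piFinset_univ]
  rw [h2]
  simp_rw [sum_zeta_pow]
  rw [Finset.prod_ite_zero]
  simp only [Finset.mem_univ, forall_true_left, Finset.prod_const, Finset.card_univ,
    Fintype.card_fin]
  split_ifs <;> ring

lemma sign_mul_self_cast (σ : Equiv.Perm (Fin r)) :
    (Equiv.Perm.sign σ : ℂ) * (Equiv.Perm.sign σ : ℂ) = 1 := by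
  rw [← Int.cast_mul, ← Units.val_mul, Int.units_mul_self]
  simp

/-- Translating the column data by `t` multiplies the alternant by a root of unity. -/
lemma A_shift [NeZero N] (a : Fin r → ℕ) (y : Fin r → Fin N) (t : Fin N) :
    zeta N ^ ((∑ i, a i) * (t : ℕ)) * A N a (fun i => ((y i - t : Fin N) : ℕ))
      = A N a (fun i => (y i : ℕ)) := by
  have h1 : (zeta N ^ ((∑ i, a i) * (t : ℕ))) = ∏ i, zeta N ^ (a i * (t : ℕ)) := by
    rw [Finset.prod_pow_eq_pow_sum, Finset.sum_mul]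
  rw [h1, A, ← Matrix.det_mul_column, A]
  congr 1
  ext i j
  simp only [Matrix.of_apply]
  rw [← pow_add, ← mul_add]
  apply zeta_pow_eq_of_modEq
  apply Nat.ModEq.mul_left
  rw [Fin.coe_sub]
  have h2 : (t : ℕ) + (N - (t : ℕ) + (y j : ℕ)) % N ≡ (t : ℕ) + (N - (t : ℕ) + (y j : ℕ)) [MOD N] :=
    Nat.ModEq.add_left _ (Nat.mod_modEq _ _)
  refine h2.trans ?_
  have h3 : (t : ℕ) + (N - (t : ℕ) + (y j : ℕ)) = (y j : ℕ) + N := by
    have := t.2; omega
  rw [h3]
  simp [Nat.ModEq]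

/-- Adding a constant to the exponents multiplies the alternant by a root of unity. -/
lemma A_add_const (a x : Fin r → ℕ) (c : ℕ) :
    A N (fun i => a i + c) x = zeta N ^ (c * ∑ j, x j) * A N a x := by
  have h1 : (zeta N ^ (c * ∑ j, x j)) = ∏ j, zeta N ^ (c * x j) := by
    rw [Finset.prod_pow_eq_pow_sum, Finset.mul_sum]
  rw [h1, A, A, ← Matrix.det_mul_row]
  congr 1
  ext i j
  simp only [Matrix.of_apply]
  rw [← pow_add]
  congr 1
  ring

lemma A_conj_symm (a b : Fin r → ℕ) (x : Fin r → ℕ) (σ : Equiv.Perm (Fin r)) :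
    A N a (x ∘ σ) * conj (A N b (x ∘ σ)) = A N a x * conj (A N b x) := by
  rw [A_comp_perm, A_comp_perm, map_mul, map_intCast]
  calc _ = ((Equiv.Perm.sign σ : ℂ) * (Equiv.Perm.sign σ : ℂ)) * (A N a x * conj (A N b x)) := by ring
    _ = _ := by rw [sign_mul_self_cast, one_mul]

lemma not_injective_val {y : Fin r → Fin N} (hy : ¬ Function.Injective y) :
    ¬ Function.Injective (fun i => (y i : ℕ)) := by
  intro h
  apply hy
  intro i j hij
  apply h
  simp only [hij]

/-- Sum over all tuples of `|A a y|^2` for `a` injective modulo `N`. -/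
theorem sum_A_normSq [NeZero N] (a : Fin r → ℕ) (ha : ∀ i j, a i ≡ a j [MOD N] → i = j) :
    ∑ y : Fin r → Fin N, A N a (fun i => (y i : ℕ)) * conj (A N a (fun i => (y i : ℕ)))
      = (N : ℂ) ^ r * r.factorial := by
  classical
  rw [sum_A_mul_conj_A]
  congr 1
  have h1 : ∀ σ τ : Equiv.Perm (Fin r), (∀ j, a (σ j) ≡ a (τ j) [MOD N]) ↔ σ = τ := by
    intro σ τ
    constructor
    · intro h
      ext j
      rw [ha _ _ (h j)]
    · rintro rfl j
      rfl
  simp_rw [h1]
  simp only [mul_ite, mul_one, mul_zero, Finset.sum_ite_eq, Finset.mem_univ, if_true,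
    sign_mul_self_cast]
  simp [Fintype.card_perm]

/-- Core 1: sum of `|A a x|^2` over strictly antitone tuples containing `c`. -/
theorem core1 [NeZero N] (hr : 0 < r) (a : Fin r → ℕ) (ha : ∀ i j, a i ≡ a j [MOD N] → i = j)
    (c : Fin N) :
    ∑ x ∈ univ.filter (fun x : Fin r → Fin N => StrictAnti x ∧ ∃ p, x p = c),
        A N a (fun i => (x i : ℕ)) * conj (A N a (fun i => (x i : ℕ)))
      = r * (N : ℂ) ^ (r - 1) := by
  have key := sum_strictAnti_mem_of_invariant (r := r) (N := N)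
    (fun y => A N a (fun i => (y i : ℕ)) * conj (A N a (fun i => (y i : ℕ)))) ?_ ?_ ?_ c
  · rw [sum_A_normSq N a ha] at key
    have hN : (N : ℂ) ≠ 0 := Nat.cast_ne_zero.2 (NeZero.ne N)
    have hf : (r.factorial : ℂ) ≠ 0 := Nat.cast_ne_zero.2 (Nat.factorial_ne_zero r)
    have hpow : (N : ℂ) ^ r = N * (N : ℂ) ^ (r - 1) := by
      rw [← pow_succ']; congr 1; omega
    rw [hpow] at key
    have : (r.factorial : ℂ) * N * (∑ x ∈ univ.filter
        (fun x : Fin r → Fin N => StrictAnti x ∧ ∃ p, x p = c),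
        A N a (fun i => (x i : ℕ)) * conj (A N a (fun i => (x i : ℕ))))
        = (r.factorial : ℂ) * N * (r * (N : ℂ) ^ (r - 1)) := by
      rw [key]; ring
    exact mul_left_cancel₀ (mul_ne_zero hf hN) this
  · intro x σ
    exact A_conj_symm N a a (fun i => (x i : ℕ)) σ
  · intro x hx
    rw [A_eq_zero_of_not_injective N a _ (not_injective_val N hx), zero_mul]
  · intro y t
    have h := A_shift N a y t
    rw [← h, map_mul, conj_zeta_pow]
    have hz : zeta N ^ ((∑ i, a i) * (t : ℕ)) ≠ 0 := pow_ne_zero _ (zeta_ne_zero N)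
    field_simp

/-- Sum of `|A a x|^2` over all strictly antitone tuples. -/
theorem core1_all [NeZero N] (a : Fin r → ℕ) (ha : ∀ i j, a i ≡ a j [MOD N] → i = j) :
    ∑ x ∈ univ.filter (fun x : Fin r → Fin N => StrictAnti x),
        A N a (fun i => (x i : ℕ)) * conj (A N a (fun i => (x i : ℕ)))
      = (N : ℂ) ^ r := by
  have key := sum_eq_factorial_smul_sum_strictAnti (m := r) (α := Fin N)
    (fun y => A N a (fun i => (y i : ℕ)) * conj (A N a (fun i => (y i : ℕ)))) ?_ ?_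
  · rw [sum_A_normSq N a ha, nsmul_eq_mul, mul_comm] at key
    have hf : (r.factorial : ℂ) ≠ 0 := Nat.cast_ne_zero.2 (Nat.factorial_ne_zero r)
    exact (mul_left_cancel₀ hf key).symm
  · intro x σ
    exact A_conj_symm N a a (fun i => (x i : ℕ)) σ
  · intro x hx
    rw [A_eq_zero_of_not_injective N a _ (not_injective_val N hx), zero_mul]

end

end Groth.Agent.Lib.helper13.Verl
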