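import Groth.Agent.Lib.Helper13.Verl2

set_option autoImplicit false

/-! Core 2: twisted orthogonality over the alcove. -/

namespace Groth.Agent.Lib.helper13.Verl

open Finset ComplexConjugate

noncomputable section

variable (N : ℕ) {r : ℕ}

/-- Total of the translated tuple. -/
lemma sum_val_sub [NeZero N] (y : Fin r → Fin N) (p : Fin r) :
    ∑ i, ((y i - y p : Fin N) : ℕ) + r * (y p : ℕ) = ∑ i, (y i : ℕ) + N * rank y p := by
  classical
  have h1 : ∀ i, ((y i - y p : Fin N) : ℕ) + (y p : ℕ)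
      = (y i : ℕ) + N * (if y i < y p then 1 else 0) := by
    intro i
    split_ifs with h
    · rw [Fin.coe_sub_iff_lt.2 h]
      have : (y i : ℕ) < (y p : ℕ) := h
      have := (y p).2
      omega
    · rw [Fin.sub_val_of_le (not_lt.1 h)]
      have : (y p : ℕ) ≤ (y i : ℕ) := not_lt.1 h
      omega
  have h2 : ∑ i : Fin r, (((y i - y p : Fin N) : ℕ) + (y p : ℕ))
      = ∑ i : Fin r, ((y i : ℕ) + N * (if y i < y p then 1 else 0)) :=
    Finset.sum_congr rfl fun i _ => h1 i
  rw [Finset.sum_add_distrib, Finset.sum_add_distrib, Finset.sum_const, Finset.card_univ,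
    Fintype.card_fin, smul_eq_mul, ← Finset.mul_sum, Finset.sum_boole] at h2
  rw [h2, rank]
  simp

/-- The twist factor. -/
def twist (r : ℕ) (D : ℤ) (n : ℕ) : ℂ :=
  Complex.exp (-(2 * Real.pi * Complex.I * (D : ℂ) * (n : ℂ) / ((r : ℂ) * (N : ℂ))))

/-- The root of unity governing the behaviour of the twist under wrap-around. -/
def wrapRoot (r : ℕ) (D : ℤ) : ℂ := Complex.exp (-(2 * Real.pi * Complex.I * (D : ℂ) / (r : ℂ)))

lemma twist_shift [NeZero N] (hr : 0 < r) (D : ℤ) (y : Fin r → Fin N) (p : Fin r) :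
    twist N r D (∑ i, ((y i - y p : Fin N) : ℕ))
      = twist N r D (∑ i, (y i : ℕ)) * wrapRoot r D ^ rank y p *
        Complex.exp (2 * Real.pi * Complex.I * (D : ℂ) * ((y p : ℕ) : ℂ) / (N : ℂ)) := by
  have h := sum_val_sub N y p
  have hc : ((∑ i, ((y i - y p : Fin N) : ℕ) : ℕ) : ℂ)
      = ((∑ i, (y i : ℕ) : ℕ) : ℂ) + (N : ℂ) * (rank y p : ℂ) - (r : ℂ) * ((y p : ℕ) : ℂ) := by
    have := congrArg (Nat.cast (R := ℂ)) h
    push_cast at this ⊢
    linear_combination this
  have hN : (N : ℂ) ≠ 0 := Nat.cast_ne_zero.2 (NeZero.ne N)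
  have hr' : (r : ℂ) ≠ 0 := Nat.cast_ne_zero.2 hr.ne'
  rw [twist, twist, wrapRoot, hc, ← Complex.exp_nat_mul, ← Complex.exp_add, ← Complex.exp_add]
  congr 1
  field_simp
  ring

/-- The twisted product of alternants. -/
def G2 (a b : Fin r → ℕ) (D : ℤ) (y : Fin r → Fin N) : ℂ :=
  twist N r D (∑ i, (y i : ℕ)) * A N a (fun i => (y i : ℕ)) * conj (A N b (fun i => (y i : ℕ)))

lemma G2_shift [NeZero N] (hr : 0 < r) (a b : Fin r → ℕ) (D : ℤ)
    (hD : D = ((∑ i, a i : ℕ) : ℤ) - ((∑ i, b i : ℕ) : ℤ)) (y : Fin r → Fin N) (p : Fin r) :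
    G2 N a b D (fun i => y i - y p) = wrapRoot r D ^ rank y p * G2 N a b D y := by
  set E : ℂ := zeta N ^ ((∑ i, a i) * ((y p : Fin N) : ℕ)) *
    conj (zeta N ^ ((∑ i, b i) * ((y p : Fin N) : ℕ))) with hE
  have hE0 : E ≠ 0 := by
    rw [hE, conj_zeta_pow]
    exact mul_ne_zero (pow_ne_zero _ (zeta_ne_zero N)) (inv_ne_zero (pow_ne_zero _ (zeta_ne_zero N)))
  have hN : (N : ℂ) ≠ 0 := Nat.cast_ne_zero.2 (NeZero.ne N)
  have hEexp : E = Complex.exp (2 * Real.pi * Complex.I * (D : ℂ) * ((y p : ℕ) : ℂ) / (N : ℂ)) := by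
    rw [hE, conj_zeta_pow, zeta_pow_eq_exp, zeta_pow_eq_exp, ← Complex.exp_neg, ← Complex.exp_add, hD]
    congr 1
    push_cast
    field_simp
    ring
  apply mul_left_cancel₀ hE0
  have h1 := A_shift N a y (y p)
  have h2 := A_shift N b y (y p)
  have h3 := twist_shift N hr D y p
  calc E * G2 N a b D (fun i => y i - y p)
      = twist N r D (∑ i, ((y i - y p : Fin N) : ℕ)) *
          (zeta N ^ ((∑ i, a i) * ((y p : Fin N) : ℕ)) * A N a (fun i => ((y i - y p : Fin N) : ℕ))) *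
          conj (zeta N ^ ((∑ i, b i) * ((y p : Fin N) : ℕ)) *
            A N b (fun i => ((y i - y p : Fin N) : ℕ))) := by
        rw [G2, hE, map_mul]; ring
    _ = twist N r D (∑ i, ((y i - y p : Fin N) : ℕ)) * A N a (fun i => (y i : ℕ)) *
          conj (A N b (fun i => (y i : ℕ))) := by rw [h1, h2]
    _ = E * (wrapRoot r D ^ rank y p * G2 N a b D y) := by
        rw [h3, ← hEexp, G2]; ring

lemma sum_wrapRoot_pow_eq_zero (hr : 0 < r) (D : ℤ) (h : ¬ (r : ℤ) ∣ D) :
    ∑ j ∈ range r, wrapRoot r D ^ j = 0 := by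
  have hr' : (r : ℂ) ≠ 0 := Nat.cast_ne_zero.2 hr.ne'
  have hw1 : wrapRoot r D ≠ 1 := by
    intro h1
    rw [wrapRoot, Complex.exp_eq_one_iff] at h1
    obtain ⟨n, hn⟩ := h1
    apply h
    refine ⟨-n, ?_⟩
    have hpi : (2 * Real.pi * Complex.I : ℂ) ≠ 0 := Complex.two_pi_I_ne_zero
    have h2 : (D : ℂ) = (r : ℂ) * (-n : ℂ) := by
      field_simp at hn
      linear_combination -hn
    exact_mod_cast h2
  have hwr : wrapRoot r D ^ r = 1 := by
    rw [wrapRoot, ← Complex.exp_nat_mul]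
    have : (r : ℂ) * -(2 * Real.pi * Complex.I * (D : ℂ) / (r : ℂ)) = ((-D : ℤ) : ℂ) * (2 * Real.pi * Complex.I) := by
      push_cast
      field_simp
    rw [this, Complex.exp_int_mul_two_pi_mul_I]
  rw [geom_sum_eq hw1, hwr, sub_self, zero_div]

/-- The combinatorial heart: a congruence between permuted sorted tuples with matching totals
forces a constant difference. -/
lemma no_match (a b : Fin r → ℕ) (ha : StrictAnti a) (hb : StrictAnti b)
    (haN : ∀ i, a i < N) (hbN : ∀ i, b i < N) (c : ℤ)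
    (hc : (r : ℤ) * c = ((∑ i, a i : ℕ) : ℤ) - ((∑ i, b i : ℕ) : ℤ)) (σ τ : Equiv.Perm (Fin r))
    (h : ∀ j, (a (σ j) : ℤ) ≡ (b (τ j) : ℤ) + c [ZMOD (N : ℤ)]) : ∀ i, (a i : ℤ) - (b i : ℤ) = c := by
  classical
  -- the integer quotients
  have hs : ∀ j, ∃ s : ℤ, (a (σ j) : ℤ) - (b (τ j) : ℤ) - c = (N : ℤ) * s := by
    intro j
    have := (h j).symm.dvd
    obtain ⟨s, hs⟩ := this
    exact ⟨s, by linarith⟩
  choose s hs using hs
  have hsum : ∑ j, s j = 0 := by
    have h1 : ∑ j, ((a (σ j) : ℤ) - (b (τ j) : ℤ) - c) = ∑ j, (N : ℤ) * s j :=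
      Finset.sum_congr rfl fun j _ => hs j
    rw [Finset.sum_sub_distrib, Finset.sum_sub_distrib, Finset.sum_const, Finset.card_univ,
      Fintype.card_fin, ← Finset.mul_sum, Equiv.sum_comp σ (fun i => (a i : ℤ)),
      Equiv.sum_comp τ (fun i => (b i : ℤ)), nsmul_eq_mul] at h1
    push_cast at hc
    have h2 : (N : ℤ) * ∑ j, s j = 0 := by rw [← h1]; linarith
    rcases mul_eq_zero.1 h2 with h3 | h3
    · -- N = 0 : then all a i < 0 impossible unless r = 0
      have hN0 : N = 0 := by exact_mod_cast h3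
      by_cases hr0 : r = 0
      · subst hr0; simp
      · exact absurd (haN ⟨0, Nat.pos_of_ne_zero hr0⟩) (by omega)
    · exact h3
  have hs0 : ∀ j, s j = 0 := by
    by_cases hN0 : N = 0
    · intro j
      exact absurd (haN j) (by omega)
    have hNpos : (0 : ℤ) < N := by exact_mod_cast Nat.pos_of_ne_zero hN0
    rcases le_or_gt 0 c with hc0 | hc0
    · -- all s j ≤ 0
      have hle : ∀ j ∈ (univ : Finset (Fin r)), 0 ≤ -s j := by
        intro j _
        have h1 := hs j
        have h2 : (a (σ j) : ℤ) < N := by exact_mod_cast haN (σ j)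
        have h3 : (0 : ℤ) ≤ b (τ j) := Int.natCast_nonneg _
        have : (N : ℤ) * s j < N * 1 := by rw [← h1]; linarith
        have := lt_of_mul_lt_mul_left this hNpos.le
        omega
      have h0 : ∑ j, -s j = 0 := by rw [Finset.sum_neg_distrib, hsum, neg_zero]
      intro j
      have := (Finset.sum_eq_zero_iff_of_nonneg hle).1 h0 j (mem_univ j)
      omega
    · have hle : ∀ j ∈ (univ : Finset (Fin r)), 0 ≤ s j := by
        intro j _
        have h1 := hs j
        have h2 : (b (τ j) : ℤ) < N := by exact_mod_cast hbN (τ j)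
        have h3 : (0 : ℤ) ≤ a (σ j) := Int.natCast_nonneg _
        have : (N : ℤ) * (-1) < N * s j := by rw [← h1]; linarith
        have := lt_of_mul_lt_mul_left this hNpos.le
        omega
      intro j
      exact (Finset.sum_eq_zero_iff_of_nonneg hle).1 hsum j (mem_univ j)
  have hab : ∀ j, (a (σ j) : ℤ) = (b (τ j) : ℤ) + c := by
    intro j
    have := hs j
    rw [hs0 j, mul_zero] at this
    linarith
  -- the permutation π = σ * τ⁻¹ is monotone
  have hπ : ∀ i, (a ((σ * τ⁻¹) i) : ℤ) = (b i : ℤ) + c := by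
    intro i
    have := hab (τ⁻¹ i)
    simpa using this
  have hmono : Monotone (σ * τ⁻¹) := by
    apply StrictMono.monotone
    intro i j hij
    have h1 : b j < b i := hb hij
    have h2 : a ((σ * τ⁻¹) j) < a ((σ * τ⁻¹) i) := by
      have e1 := hπ i
      have e2 := hπ j
      have : (a ((σ * τ⁻¹) j) : ℤ) < (a ((σ * τ⁻¹) i) : ℤ) := by
        rw [e1, e2]
        have : (b j : ℤ) < b i := by exact_mod_cast h1
        linarith
      exact_mod_cast this
    exact (StrictAnti.lt_iff_gt ha).1 h2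
  have hone : σ * τ⁻¹ = 1 := (Equiv.Perm.monotone_iff _).1 hmono
  intro i
  have := hπ i
  rw [hone] at this
  simp only [Equiv.Perm.coe_one, id_eq] at this
  linarith

lemma twist_eq_of_dvd [NeZero N] (hr : 0 < r) (c : ℤ) (c' : ℕ) (hc' : (c' : ℤ) = c % (N : ℤ)) (n : ℕ) :
    twist N r ((r : ℤ) * c) n = (zeta N ^ (c' * n))⁻¹ := by
  have hN : (N : ℂ) ≠ 0 := Nat.cast_ne_zero.2 (NeZero.ne N)
  have hr' : (r : ℂ) ≠ 0 := Nat.cast_ne_zero.2 hr.ne'
  have hcc : (c' : ℂ) = (c : ℂ) - (N : ℂ) * ((c / (N : ℤ) : ℤ) : ℂ) := by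
    have h1 : (c' : ℤ) = c - (N : ℤ) * (c / (N : ℤ)) := by rw [hc', Int.emod_def]
    have := congrArg (Int.cast (R := ℂ)) h1
    push_cast at this
    exact this
  rw [twist, zeta_pow_eq_exp, ← Complex.exp_neg, Complex.exp_eq_exp_iff_exists_int]
  refine ⟨-((c / (N : ℤ)) * (n : ℤ)), ?_⟩
  push_cast
  rw [hcc]
  field_simp
  ring

/-- Core 2: the twisted sum over the alcove vanishes unless `a - b` is constant. -/
theorem core2 [NeZero N] (hr : 0 < r) (a b : Fin r → ℕ) (ha : StrictAnti a) (hb : StrictAnti b)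
    (haN : ∀ i, a i < N) (hbN : ∀ i, b i < N)
    (hne : ¬ ∃ c : ℤ, ∀ i, (a i : ℤ) - (b i : ℤ) = c) :
    ∑ x ∈ univ.filter (fun x : Fin r → Fin N => StrictAnti x ∧ ∃ p, x p = 0),
      G2 N a b (((∑ i, a i : ℕ) : ℤ) - ((∑ i, b i : ℕ) : ℤ)) x = 0 := by
  classical
  set D : ℤ := ((∑ i, a i : ℕ) : ℤ) - ((∑ i, b i : ℕ) : ℤ) with hD
  have key := sum_strictAnti_zero_mem (r := r) (N := N) (G2 N a b D) ?_ ?_ (wrapRoot r D) ?_
  · have hne0 : (r.factorial : ℂ) * N ≠ 0 :=
      mul_ne_zero (Nat.cast_ne_zero.2 (Nat.factorial_ne_zero r)) (Nat.cast_ne_zero.2 (NeZero.ne N))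
    have hR : (∑ j ∈ range r, wrapRoot r D ^ j) * ∑ y, G2 N a b D y = 0 := by
      by_cases hdvd : (r : ℤ) ∣ D
      · obtain ⟨c, hc⟩ := hdvd
        have h0 : ∑ y, G2 N a b D y = 0 := by
          set c' : ℕ := (c % (N : ℤ)).toNat with hc'def
          have hc' : (c' : ℤ) = c % (N : ℤ) :=
            Int.toNat_of_nonneg (Int.emod_nonneg _ (by exact_mod_cast NeZero.ne N))
          have hG : ∀ y : Fin r → Fin N, G2 N a b D y
              = A N a (fun i => (y i : ℕ)) * conj (A N (fun i => b i + c') (fun i => (y i : ℕ))) := by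
            intro y
            rw [G2, A_add_const, map_mul, conj_zeta_pow, hc, twist_eq_of_dvd N hr c c' hc']
            ring
          rw [Finset.sum_congr rfl (fun y _ => hG y), sum_A_mul_conj_A]
          have hfalse : ∀ σ τ : Equiv.Perm (Fin r),
              ¬ (∀ j, a (σ j) ≡ b (τ j) + c' [MOD N]) := by
            intro σ τ h
            apply hne
            refine ⟨c, no_match N a b ha hb haN hbN c (by rw [← hc]) σ τ ?_⟩
            intro j
            have h1 : ((a (σ j) : ℕ) : ℤ) ≡ ((b (τ j) + c' : ℕ) : ℤ) [ZMOD (N : ℤ)] :=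
              Int.natCast_modEq_iff.2 (h j)
            push_cast at h1
            refine h1.trans (Int.ModEq.add_left _ ?_)
            rw [hc']
            exact Int.mod_modEq _ _
          simp only [hfalse, if_false, mul_zero, Finset.sum_const_zero]
        rw [h0, mul_zero]
      · rw [sum_wrapRoot_pow_eq_zero hr D hdvd, zero_mul]
    rw [hR] at key
    exact (mul_eq_zero.1 key).resolve_left hne0
  · intro x σ
    have h1 : ∑ i, ((x ∘ σ) i : ℕ) = ∑ i, (x i : ℕ) := Equiv.sum_comp σ (fun i => (x i : ℕ))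
    rw [G2, G2, h1, mul_assoc, mul_assoc]
    congr 1
    exact A_conj_symm N a b (fun i => (x i : ℕ)) σ
  · intro x hx
    rw [G2, A_eq_zero_of_not_injective N a _ (not_injective_val N hx), mul_zero, zero_mul]
  · intro y p _
    exact G2_shift N hr a b D hD y p

end

end Groth.Agent.Lib.helper13.Verl
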