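import Groth.Agent.Lib.Helper13.Verl3

set_option autoImplicit false

/-! Bookkeeping: Vandermonde, the sine product, the dual relation. -/

namespace Groth.Agent.Lib.helper13.Verl

open Finset ComplexConjugate

noncomputable section

variable (N : ℕ) {r : ℕ}

/-- The staircase `δ_i = r - 1 - i`. -/
def delta (r : ℕ) (i : Fin r) : ℕ := r - 1 - (i : ℕ)

lemma exp_eq_zeta_pow (r k n : ℕ) :
    Complex.exp (2 * Real.pi * Complex.I * (n : ℂ) / ((r : ℂ) + k)) = zeta (r + k) ^ n := by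
  rw [zeta_pow_eq_exp]; push_cast; rfl

lemma det_eq_A (e v : Fin r → ℕ) (z : Fin r → ℂ) (hz : ∀ j, z j = zeta N ^ (v j)) :
    (Matrix.of fun i j : Fin r => z j ^ (e i)).det = A N e v := by
  rw [A]; congr 1; ext i j
  simp only [Matrix.of_apply, hz, ← pow_mul, mul_comm]

/-- The sine product. -/
def P (v : Fin r → ℕ) : ℝ :=
  ∏ p ∈ (univ : Finset (Fin r × Fin r)).filter (fun p => p.1 < p.2),
    ((2 : ℝ) * Real.sin (Real.pi * ((v p.1 : ℝ) - (v p.2 : ℝ)) / (N : ℝ))) ^ 2

lemma zeta_pow_eq_cos_sin (m : ℕ) :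
    zeta N ^ m = ((Real.cos (2 * Real.pi * m / N) : ℝ) : ℂ) +
      ((Real.sin (2 * Real.pi * m / N) : ℝ) : ℂ) * Complex.I := by
  rw [zeta_pow_eq_exp]
  have : (2 * Real.pi * Complex.I * (m : ℂ) / (N : ℂ)) = ((2 * Real.pi * m / N : ℝ) : ℂ) * Complex.I := by
    push_cast; ring
  rw [this, Complex.exp_mul_I, ← Complex.ofReal_cos, ← Complex.ofReal_sin]

lemma normSq_zeta_pow_sub [NeZero N] (m n : ℕ) :
    Complex.normSq (zeta N ^ m - zeta N ^ n)
      = (2 * Real.sin (Real.pi * ((n : ℝ) - (m : ℝ)) / N)) ^ 2 := by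
  set α : ℝ := 2 * Real.pi * m / N with hα
  set β : ℝ := 2 * Real.pi * n / N with hβ
  set γ : ℝ := Real.pi * ((n : ℝ) - (m : ℝ)) / N with hγ
  have hN : (N : ℝ) ≠ 0 := Nat.cast_ne_zero.2 (NeZero.ne N)
  have hβα : β - α = 2 * γ := by rw [hα, hβ, hγ]; field_simp
  rw [zeta_pow_eq_cos_sin, zeta_pow_eq_cos_sin, ← hα, ← hβ]
  have : ((Real.cos α : ℝ) : ℂ) + ((Real.sin α : ℝ) : ℂ) * Complex.I -
      (((Real.cos β : ℝ) : ℂ) + ((Real.sin β : ℝ) : ℂ) * Complex.I)
      = ((Real.cos α - Real.cos β : ℝ) : ℂ) + ((Real.sin α - Real.sin β : ℝ) : ℂ) * Complex.I := by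
    push_cast; ring
  rw [this, Complex.normSq_add_mul_I]
  have h1 := Real.cos_sq_add_sin_sq α
  have h2 := Real.cos_sq_add_sin_sq β
  have h3 : Real.cos (2 * γ) = Real.cos β * Real.cos α + Real.sin β * Real.sin α := by
    rw [← hβα]; exact Real.cos_sub β α
  have h4 : Real.cos (2 * γ) = 1 - 2 * Real.sin γ ^ 2 := by
    rw [Real.cos_two_mul, Real.cos_sq']; ring
  have h5 : Real.cos β * Real.cos α + Real.sin β * Real.sin α = 1 - 2 * Real.sin γ ^ 2 := by
    rw [← h3, h4]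
  linear_combination h1 + h2 - 2 * h5

/-- The sign of the order-reversing permutation. -/
def eps (r : ℕ) : ℂ := ((Equiv.Perm.sign (Fin.revPerm : Equiv.Perm (Fin r)) : ℤ) : ℂ)

lemma eps_mul_self (r : ℕ) : eps r * eps r = 1 := sign_mul_self_cast _

lemma eps_ne_zero (r : ℕ) : eps r ≠ 0 := by
  intro h
  have := eps_mul_self r
  rw [h] at this
  simp at this

lemma normSq_eps (r : ℕ) : Complex.normSq (eps r) = 1 := by
  rw [eps]
  rcases Int.units_eq_one_or (Equiv.Perm.sign (Fin.revPerm : Equiv.Perm (Fin r))) with h | h <;>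
    rw [h] <;> simp

lemma conj_eps (r : ℕ) : conj (eps r) = eps r := by
  rw [eps, map_intCast]

lemma A_delta_eq (v : Fin r → ℕ) :
    A N (delta r) v = eps r * ∏ i : Fin r, ∏ j ∈ Ioi i, (zeta N ^ v j - zeta N ^ v i) := by
  rw [← Matrix.det_vandermonde, ← Matrix.det_transpose, eps, ← Matrix.det_permute, A]
  congr 1
  ext i j
  simp only [Matrix.of_apply, Matrix.submatrix_apply, Matrix.transpose_apply,
    Matrix.vandermonde_apply, id_eq, Fin.revPerm_apply, Fin.val_rev, delta, ← pow_mul]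
  congr 1
  have := i.2
  rw [mul_comm]
  congr 1
  omega

lemma prod_pairs {M : Type*} [CommMonoid M] (f : Fin r → Fin r → M) :
    ∏ p ∈ (univ : Finset (Fin r × Fin r)).filter (fun p => p.1 < p.2), f p.1 p.2
      = ∏ i : Fin r, ∏ j ∈ Ioi i, f i j := by
  classical
  rw [Finset.prod_filter, ← Finset.univ_product_univ,
    Finset.prod_product' (f := fun i j => if i < j then f i j else 1)]
  refine Finset.prod_congr rfl fun i _ => ?_
  rw [← Finset.prod_filter, Finset.filter_lt_eq_Ioi]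

/-- `P v = |A δ v|^2`. -/
lemma P_eq [NeZero N] (v : Fin r → ℕ) :
    ((P N v : ℝ) : ℂ) = A N (delta r) v * conj (A N (delta r) v) := by
  rw [Complex.mul_conj, A_delta_eq, map_mul, normSq_eps, one_mul, map_prod]
  simp_rw [map_prod, normSq_zeta_pow_sub]
  rw [P, prod_pairs (fun i j => ((2 : ℝ) * Real.sin (Real.pi * ((v i : ℝ) - (v j : ℝ)) / (N : ℝ))) ^ 2)]

/-- Dual relation: reversing and complementing the exponents conjugates the alternant. -/
lemma A_dual [NeZero N] (e v : Fin r → ℕ) (he : ∀ i, e i ≤ N - 1) :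
    A N (fun i => N - 1 - e (Fin.rev i)) v
      = eps r * (zeta N ^ (∑ j, v j))⁻¹ * conj (A N e v) := by
  have h1 : (fun i => N - 1 - e (Fin.rev i)) = (fun i => N - 1 - e i) ∘ (Fin.revPerm : Equiv.Perm (Fin r)) := by
    ext i; simp
  rw [h1, A_perm_comp, ← eps, mul_assoc]
  congr 1
  have h2 : (zeta N ^ (∑ j, v j))⁻¹ = ∏ j, (zeta N ^ (v j))⁻¹ := by
    rw [Finset.prod_inv_distrib, Finset.prod_pow_eq_pow_sum]
  rw [h2, A, A, RingHom.map_det, ← Matrix.det_mul_row]
  congr 1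
  ext i j
  simp only [Matrix.of_apply, RingHom.mapMatrix_apply, Matrix.map_apply]
  rw [conj_zeta_pow]
  have hz : zeta N ^ (v j) ≠ 0 := pow_ne_zero _ (zeta_ne_zero N)
  have hz' : zeta N ^ (e i * v j) ≠ 0 := pow_ne_zero _ (zeta_ne_zero N)
  rw [eq_comm, ← mul_inv, inv_eq_iff_eq_inv, ← one_div, eq_div_iff (pow_ne_zero _ (zeta_ne_zero N)),
    ← pow_add, ← pow_add]
  have hN : 1 ≤ N := Nat.pos_of_ne_zero (NeZero.ne N)
  have : v j + e i * v j + (N - 1 - e i) * v j = N * v j := by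
    have := he i
    have e1 : N = (N - 1 - e i) + e i + 1 := by omega
    conv_rhs => rw [e1]
    ring
  rw [this, pow_mul, zeta_pow_N, one_pow]

lemma delta_injective_mod (hN : r ≤ N) :
    ∀ i j : Fin r, delta r i ≡ delta r j [MOD N] → i = j := by
  intro i j h
  have hi := i.2
  have hj := j.2
  have h1 : delta r i < N := by unfold delta; omega
  have h2 : delta r j < N := by unfold delta; omega
  have := Nat.ModEq.eq_of_lt_of_lt h h1 h2
  unfold delta at this
  apply Fin.ext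
  omega

end

end Groth.Agent.Lib.helper13.Verl
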