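import Groth.Agent.Lib.Helper13.Verl4

set_option autoImplicit false

/-! The bijection between partitions in a box and strictly antitone tuples. -/

namespace Groth.Agent.Lib.helper13.Verl

open Finset ComplexConjugate

noncomputable section

variable {r : ℕ}

lemma strictAnti_add_le (x : Fin r → ℕ) (hx : StrictAnti x) :
    ∀ (d : ℕ) (i : Fin r) (h : (i : ℕ) + d < r), x ⟨(i : ℕ) + d, h⟩ + d ≤ x i := by
  intro d
  induction d with
  | zero => intro i h; simp
  | succ d ih =>
    intro i h
    have h' : (i : ℕ) + d < r := by omega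
    have h1 := ih i h'
    have h2 : x ⟨(i : ℕ) + (d + 1), h⟩ < x ⟨(i : ℕ) + d, h'⟩ := by
      apply hx
      rw [Fin.lt_def]
      simp
    omega

lemma strictAnti_le (x : Fin r → ℕ) (hx : StrictAnti x) {i j : Fin r} (hij : i ≤ j) :
    x j + ((j : ℕ) - (i : ℕ)) ≤ x i := by
  have hij' : (i : ℕ) ≤ (j : ℕ) := hij
  have h := strictAnti_add_le x hx ((j : ℕ) - (i : ℕ)) i (by have := j.2; omega)
  have e : (⟨(i : ℕ) + ((j : ℕ) - (i : ℕ)), by have := j.2; omega⟩ : Fin r) = j := by
    apply Fin.ext; simp; omega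
  rw [e] at h
  exact h

/-- Sum over partitions in a box equals sum over strictly antitone tuples. -/
theorem sum_antitone_eq_sum_strictAnti {M : Type*} [AddCommMonoid M] (k K : ℕ) (hK1 : 1 ≤ K)
    (hK : K ≤ k + 1) (F : (Fin r → ℕ) → M) :
    ∑ μ ∈ (univ : Finset (Fin r → Fin K)).filter (fun μ : Fin r → Fin K => Antitone μ),
        F (fun i => (μ i : ℕ) + (r - 1 - (i : ℕ)))
      = ∑ x ∈ (univ : Finset (Fin r → Fin (r + k))).filter
          (fun x : Fin r → Fin (r + k) => StrictAnti x ∧ ∀ i, (x i : ℕ) < K + r - 1),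
        F (fun i => (x i : ℕ)) := by
  classical
  refine Finset.sum_nbij'
    (fun μ i => (⟨(μ i : ℕ) + (r - 1 - (i : ℕ)), by have := (μ i).2; have := i.2; omega⟩ : Fin (r + k)))
    (fun x i => (⟨min ((x i : ℕ) - (r - 1 - (i : ℕ))) (K - 1), by omega⟩ : Fin K)) ?_ ?_ ?_ ?_ ?_
  · intro μ hμ
    simp only [mem_filter, mem_univ, true_and] at hμ ⊢
    constructor
    · intro i j hij
      rw [Fin.lt_def]
      have h1 : (μ j : ℕ) ≤ (μ i : ℕ) := hμ hij.le
      have h2 : (i : ℕ) < (j : ℕ) := hij
      have := j.2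
      simp only
      omega
    · intro i
      have := (μ i).2
      have := i.2
      omega
  · intro x hx
    simp only [mem_filter, mem_univ, true_and] at hx ⊢
    obtain ⟨hx1, hx2⟩ := hx
    have hx1' : StrictAnti (fun i => (x i : ℕ)) := Fin.val_strictMono.comp_strictAnti hx1
    intro i j hij
    rw [Fin.le_def]
    have h1 := strictAnti_le _ hx1' hij
    have h2 : (i : ℕ) ≤ (j : ℕ) := hij
    have := j.2
    simp only at h1 ⊢
    omega
  · intro μ hμ
    funext i
    apply Fin.ext
    have := (μ i).2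
    simp only
    omega
  · intro x hx
    simp only [mem_filter, mem_univ, true_and] at hx
    obtain ⟨hx1, hx2⟩ := hx
    have hx1' : StrictAnti (fun i => (x i : ℕ)) := Fin.val_strictMono.comp_strictAnti hx1
    funext i
    apply Fin.ext
    have hr : 0 < r := Fin.pos i
    have h1 := strictAnti_le _ hx1' (show (⟨0, hr⟩ : Fin r) ≤ i from by rw [Fin.le_def]; simp)
    have h2 := strictAnti_le _ hx1' (show i ≤ ⟨r - 1, by omega⟩ from by rw [Fin.le_def]; have := i.2; simp; omega)
    have h3 := hx2 ⟨0, hr⟩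
    have := i.2
    simp only at h1 h2 h3 ⊢
    omega
  · intro μ hμ
    rfl

lemma A_delta_sq (k : ℕ) [NeZero (r + k)] (v : Fin r → ℕ) :
    zeta (r + k) ^ (k * ∑ j, v j) * (A (r + k) (delta r) v * A (r + k) (delta r) v)
      = eps r * (zeta (r + k) ^ (∑ j, v j))⁻¹ * ((P (r + k) v : ℝ) : ℂ) := by
  have h1 := A_dual (r + k) (delta r) v (fun i => by unfold delta; omega)
  have h2 : (fun i => r + k - 1 - delta r (Fin.rev i)) = fun i => delta r i + k := by
    funext i
    have := i.2
    simp only [delta, Fin.val_rev]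
    omega
  rw [h2, A_add_const] at h1
  rw [P_eq]
  linear_combination (A (r + k) (delta r) v) * h1

lemma injective_mod_of_strictAnti (N : ℕ) (v : Fin r → ℕ) (hv : StrictAnti v) (hvlt : ∀ i, v i < N) :
    ∀ i j : Fin r, v i ≡ v j [MOD N] → i = j := by
  intro i j h
  exact hv.injective (Nat.ModEq.eq_of_lt_of_lt h (hvlt i) (hvlt j))

/-- Sum of `|A x v|^2` over strictly antitone `x` avoiding the top value. -/
theorem core1_avoid (k : ℕ) (hk : 1 ≤ k) (hr : 0 < r) [NeZero (r + k)] (v : Fin r → ℕ)
    (hv : ∀ i j : Fin r, v i ≡ v j [MOD (r + k)] → i = j) :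
    ∑ x ∈ (univ : Finset (Fin r → Fin (r + k))).filter
        (fun x : Fin r → Fin (r + k) => StrictAnti x ∧ ∀ i, (x i : ℕ) < k + r - 1),
      A (r + k) (fun i => (x i : ℕ)) v * conj (A (r + k) (fun i => (x i : ℕ)) v)
      = (k : ℂ) * ((r : ℂ) + k) ^ (r - 1) := by
  classical
  set c : Fin (r + k) := ⟨r + k - 1, by omega⟩ with hc
  have h1 := core1_all (r + k) v hv
  have h2 := core1 (r + k) hr v hv c
  have hsplit := Finset.sum_filter_add_sum_filter_not
    ((univ : Finset (Fin r → Fin (r + k))).filter (fun x => StrictAnti x))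
    (fun x : Fin r → Fin (r + k) => ∃ p, x p = c)
    (fun x => A (r + k) v (fun i => (x i : ℕ)) * conj (A (r + k) v (fun i => (x i : ℕ))))
  rw [Finset.filter_filter, Finset.filter_filter, h1, h2] at hsplit
  have hset : (univ : Finset (Fin r → Fin (r + k))).filter
        (fun x : Fin r → Fin (r + k) => StrictAnti x ∧ ∀ i, (x i : ℕ) < k + r - 1)
      = (univ : Finset (Fin r → Fin (r + k))).filter
        (fun x : Fin r → Fin (r + k) => StrictAnti x ∧ ¬ ∃ p, x p = c) := by
    apply Finset.filter_congr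
    intro x _
    have : (∀ i, (x i : ℕ) < k + r - 1) ↔ ¬ ∃ p, x p = c := by
      constructor
      · rintro h ⟨p, hp⟩
        have := h p
        rw [hp, hc] at this
        simp only at this
        omega
      · intro h i
        by_contra hcon
        apply h
        refine ⟨i, Fin.ext ?_⟩
        have := (x i).2
        rw [hc]
        simp only
        omega
    rw [this]
  rw [hset]
  simp_rw [A_transpose (r + k) (fun i => ((_ : Fin (r + k)) : ℕ)) v]
  have hpow : ((r + k : ℕ) : ℂ) ^ r = ((r + k : ℕ) : ℂ) * ((r + k : ℕ) : ℂ) ^ (r - 1) := by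
    rw [← pow_succ']; congr 1; omega
  rw [hpow] at hsplit
  push_cast at hsplit ⊢
  linear_combination hsplit

end

end Groth.Agent.Lib.helper13.Verl
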