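import Groth.Agent.Lib.Helper13.Verl5

set_option autoImplicit false

/-! Schur-value bookkeeping for the twisted orthogonality statements. -/

namespace Groth.Agent.Lib.helper13.Verl

open Finset ComplexConjugate

noncomputable section

variable {r : ℕ}

lemma A_delta_ne_zero (N : ℕ) [NeZero N] (v : Fin r → ℕ)
    (hv : ∀ i j : Fin r, v i ≡ v j [MOD N] → i = j) : A N (delta r) v ≠ 0 := by
  rw [A_delta_eq]
  apply mul_ne_zero (eps_ne_zero r)
  rw [Finset.prod_ne_zero_iff]
  intro i _
  rw [Finset.prod_ne_zero_iff]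
  intro j hj
  rw [sub_ne_zero]
  intro h
  have := hv j i ((zeta_pow_eq_iff N).1 h)
  rw [this] at hj
  simp at hj

/-- Product of two Schur values (the second one written through the dual exponent) times `P`. -/
lemma schur_pair (k : ℕ) [NeZero (r + k)] (v : Fin r → ℕ)
    (hv : ∀ i j : Fin r, v i ≡ v j [MOD (r + k)] → i = j) (e f : Fin r → ℕ)
    (hf : ∀ i, f i ≤ r + k - 1) :
    (A (r + k) e v / A (r + k) (delta r) v) *
        (A (r + k) (fun i => r + k - 1 - f (Fin.rev i)) v / A (r + k) (delta r) v) *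
        ((P (r + k) v : ℝ) : ℂ)
      = zeta (r + k) ^ (k * ∑ j, v j) * (A (r + k) e v * conj (A (r + k) f v)) := by
  have hAd := A_delta_ne_zero (r + k) v hv
  have hrel := A_delta_sq k v
  have hP := P_eq (r + k) v
  have hdual := A_dual (r + k) f v hf
  set Ad : ℂ := A (r + k) (delta r) v with hAddef
  set Z : ℂ := zeta (r + k) ^ (∑ j, v j) with hZ
  have hZ0 : Z ≠ 0 := pow_ne_zero _ (zeta_ne_zero _)
  have heps := eps_ne_zero r
  have heps2 := eps_mul_self r
  rw [hP] at hrel ⊢
  rw [hdual]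
  have hcA : conj Ad ≠ 0 := by simpa using hAd
  -- from hrel: ζ^(k|v|) * Ad = eps * Z⁻¹ * conj Ad
  have h1 : zeta (r + k) ^ (k * ∑ j, v j) * Ad = eps r * Z⁻¹ * conj Ad := by
    apply mul_right_cancel₀ hAd
    linear_combination hrel
  have hc : conj Ad = zeta (r + k) ^ (k * ∑ j, v j) * Ad * Z * eps r := by
    calc conj Ad = eps r * Z * (eps r * Z⁻¹ * conj Ad) := by
          have : eps r * Z * (eps r * Z⁻¹ * conj Ad) = (eps r * eps r) * (Z * Z⁻¹) * conj Ad := by
            ring
          rw [this, heps2, mul_inv_cancel₀ hZ0]; ring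
      _ = eps r * Z * (zeta (r + k) ^ (k * ∑ j, v j) * Ad) := by rw [h1]
      _ = _ := by ring
  rw [hc]
  field_simp
  linear_combination (zeta (r + k) ^ (k * ∑ j, v j) * A (r + k) e v * conj (A (r + k) f v)) * heps2

end

end Groth.Agent.Lib.helper13.Verl
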