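import Mathlib
import Groth.Prelude.Def_MoreMor
import Groth.Agent.Lib.Helper13.WT6

/-!
# Composition of weightings: refinement invariance and the core lemma
-/

set_option autoImplicit false

namespace Groth.Agent.Lib.helper13.WT

open AlgebraicGeometry CategoryTheory Limits

universe u

/-- Fibre integrals over opens of `X ×_Z W` are compatible with refinement of `W`. -/
theorem fibreIntegral_refine {X Z W W' : Scheme.{u}} (F : X ⟶ Z) (ω : X → ℤ) (gW : W ⟶ Z)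
    (c : W' ⟶ W) (gW' : W' ⟶ Z) (hgW' : c ≫ gW = gW') (U : (pullback F gW).Opens)
    (hU : IsFinite (U.ι ≫ pullback.snd F gW)) (w' : W') :
    MoreMor.fibreIntegral (((EL.refineMap F gW c gW' hgW') ⁻¹ᵁ U).ι ≫ pullback.snd F gW')
      (fun t ↦ ω (pullback.fst F gW' (((EL.refineMap F gW c gW' hgW') ⁻¹ᵁ U).ι t))) w' =
    MoreMor.fibreIntegral (U.ι ≫ pullback.snd F gW)
      (fun t ↦ ω (pullback.fst F gW (U.ι t))) (c w') := by
  obtain ⟨Ω, _, _, xb, hxb⟩ := exists_geometric_point w'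
  have sq := EL.isPullback_refineMap F gW c gW' hgW'
  haveI := EL.isFinite_refine F gW c gW' hgW' U hU
  have e1 := fibreIntegral_eq_geomIntegral (pullback.snd F gW') Ω
    ((EL.refineMap F gW c gW' hgW') ⁻¹ᵁ U) (fun p ↦ ω (pullback.fst F gW' p)) xb w' hxb
  have e2 := fibreIntegral_eq_geomIntegral (pullback.snd F gW) Ω U
    (fun p ↦ ω (pullback.fst F gW p)) (xb ≫ c) (c w') (by rw [Scheme.Hom.comp_apply, hxb])
  have e3 := geomIntegral_of_isPullback Ω sq U (fun p ↦ ω (pullback.fst F gW p)) xb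
  have hfun : (fun p : ↑(pullback F gW') ↦ ω (pullback.fst F gW
      (EL.refineMap F gW c gW' hgW' p))) = fun p ↦ ω (pullback.fst F gW' p) := by
    funext p
    rw [EL.refineMap_fst_apply]
  rw [hfun] at e3
  exact e1.trans (e3.trans e2.symm)

/-- The core of the composition lemma: an open `B` of `X ×_Z W` finite over `W` mapping into an
open `C` of `Y ×_Z W` finite over `W` with at most one point over `w₀`. -/
theorem exists_nbhd_const_of_mapsTo {X Y Z : Scheme.{u}} (f : X ⟶ Y) (g : Y ⟶ Z)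
    (wf : X → ℤ) (wg : Y → ℤ) (hf : MoreMor.IsWeighting f wf) (hg : MoreMor.IsWeighting g wg)
    {W : Scheme.{u}} (gW : W ⟶ Z) [Etale gW]
    (B : (pullback (f ≫ g) gW).Opens) (hB : IsFinite (B.ι ≫ pullback.snd (f ≫ g) gW))
    (C : (pullback g gW).Opens) (hC : IsFinite (C.ι ≫ pullback.snd g gW))
    (hBC : ∀ p ∈ B, mapComp f g gW p ∈ C) (w₀ : W)
    (hC₀ : ∀ q ∈ C, ∀ q' ∈ C, pullback.snd g gW q = w₀ → pullback.snd g gW q' = w₀ → q = q') :
    ∃ O : Set W, IsOpen O ∧ w₀ ∈ O ∧ ∀ w ∈ O,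
      MoreMor.fibreIntegral (B.ι ≫ pullback.snd (f ≫ g) gW)
        (fun t ↦ wf (pullback.fst (f ≫ g) gW (B.ι t)) *
          wg (f (pullback.fst (f ≫ g) gW (B.ι t)))) w =
      MoreMor.fibreIntegral (B.ι ≫ pullback.snd (f ≫ g) gW)
        (fun t ↦ wf (pullback.fst (f ≫ g) gW (B.ι t)) *
          wg (f (pullback.fst (f ≫ g) gW (B.ι t)))) w₀ := by
  classical
  obtain ⟨φ, hφdef⟩ : ∃ φ : pullback (f ≫ g) gW ⟶ pullback g gW, φ = mapComp f g gW := ⟨_, rfl⟩
  have hφπ : φ ≫ pullback.snd g gW = pullback.snd (f ≫ g) gW := hφdef ▸ mapComp_snd f g gW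
  have hφfst : ∀ p, pullback.fst g gW (φ p) = f (pullback.fst (f ≫ g) gW p) := fun p ↦ by
    rw [hφdef]; exact mapComp_fst_apply f g gW p
  have L1 : IsPullback (pullback.fst (f ≫ g) gW) φ f (pullback.fst g gW) :=
    hφdef ▸ isPullback_mapComp f g gW
  rw [← hφdef] at hBC
  -- the étale map `C → Y`
  obtain ⟨eC, heC⟩ : ∃ eC : C.toScheme ⟶ Y, eC = C.ι ≫ pullback.fst g gW := ⟨_, rfl⟩
  haveI : Etale eC := heC ▸ inferInstance
  obtain ⟨θ, hθfst, hθφ⟩ : ∃ θ : pullback f eC ⟶ pullback (f ≫ g) gW,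
      θ ≫ pullback.fst (f ≫ g) gW = pullback.fst f eC ∧ θ ≫ φ = pullback.snd f eC ≫ C.ι :=
    ⟨L1.lift (pullback.fst f eC) (pullback.snd f eC ≫ C.ι)
      (by rw [pullback.condition, heC, Category.assoc]), L1.lift_fst _ _ _, L1.lift_snd _ _ _⟩
  have sqθ : IsPullback θ (pullback.snd f eC) φ C.ι := by
    refine IsPullback.of_right (h₁₂ := pullback.fst (f ≫ g) gW) (h₂₂ := pullback.fst g gW)
      (v₁₃ := f) ?_ hθφ L1
    rw [hθfst, ← heC]
    exact IsPullback.of_hasPullback f eC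
  haveI : IsOpenImmersion θ := MorphismProperty.of_isPullback (P := @IsOpenImmersion) sqθ.flip
    inferInstance
  -- finiteness of `θ⁻¹ B → C`
  have hrange : Set.range ((θ ⁻¹ᵁ B).ι ≫ θ) = Set.range B.ι := by
    rw [Scheme.Opens.range_ι]
    ext p
    constructor
    · rintro ⟨t, rfl⟩
      exact t.2
    · intro hp
      obtain ⟨q, hq, -⟩ := exists_preimage_of_isPullback sqθ p ⟨φ p, hBC p hp⟩ rfl
      exact ⟨⟨q, by show θ q ∈ B; rw [hq]; exact hp⟩, hq⟩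
  have hfinB2 : IsFinite ((θ ⁻¹ᵁ B).ι ≫ pullback.snd f eC) := by
    have hcomp : ((θ ⁻¹ᵁ B).ι ≫ pullback.snd f eC) ≫ (C.ι ≫ pullback.snd g gW) =
        (IsOpenImmersion.isoOfRangeEq ((θ ⁻¹ᵁ B).ι ≫ θ) B.ι hrange).hom ≫
          (B.ι ≫ pullback.snd (f ≫ g) gW) := by
      rw [← Category.assoc _ B.ι, IsOpenImmersion.isoOfRangeEq_hom_fac, ← hφπ]
      simp only [Category.assoc]
      rw [reassoc_of% hθφ]
    haveI : IsFinite (((θ ⁻¹ᵁ B).ι ≫ pullback.snd f eC) ≫ (C.ι ≫ pullback.snd g gW)) := by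
      rw [hcomp]; infer_instance
    exact IsFinite.of_comp _ (C.ι ≫ pullback.snd g gW)
  -- the two locally constant functions
  obtain ⟨h, hhdef⟩ : ∃ h : C.toScheme → ℤ, h = MoreMor.fibreIntegral
    ((θ ⁻¹ᵁ B).ι ≫ pullback.snd f eC) (fun t ↦ wf (pullback.fst f eC ((θ ⁻¹ᵁ B).ι t))) := ⟨_, rfl⟩
  have hh : IsLocallyConstant h := hhdef ▸ hf C.toScheme eC (θ ⁻¹ᵁ B) hfinB2
  obtain ⟨k, hkdef⟩ : ∃ k : W → ℤ, k = MoreMor.fibreIntegral (C.ι ≫ pullback.snd g gW)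
    (fun t ↦ wg (pullback.fst g gW (C.ι t))) := ⟨_, rfl⟩
  have hk : IsLocallyConstant k := hkdef ▸ hg W gW C hC
  -- the key formula
  have hkey : ∀ (w : W) (Ω : Type u) [Field Ω] [IsAlgClosed Ω] (xb : Spec (.of Ω) ⟶ W),
      xb (IsLocalRing.closedPoint Ω) = w →
      MoreMor.fibreIntegral (B.ι ≫ pullback.snd (f ≫ g) gW)
        (fun t ↦ wf (pullback.fst (f ≫ g) gW (B.ι t)) *
          wg (f (pullback.fst (f ≫ g) gW (B.ι t)))) w =
      ∑ᶠ m : {m : Spec (.of Ω) ⟶ pullback g gW // m ≫ pullback.snd g gW = xb ∧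
        m (IsLocalRing.closedPoint Ω) ∈ C},
        wg (pullback.fst g gW (m.1 (IsLocalRing.closedPoint Ω))) *
          h ⟨m.1 (IsLocalRing.closedPoint Ω), m.2.2⟩ := by
    intro w Ω _ _ xb hxb
    have e1 := fibreIntegral_eq_geomIntegral (pullback.snd (f ≫ g) gW) Ω B
      (fun p ↦ wf (pullback.fst (f ≫ g) gW p) * wg (f (pullback.fst (f ≫ g) gW p))) xb w hxb
    have hfun : (fun p : ↑(pullback (f ≫ g) gW) ↦ wf (pullback.fst (f ≫ g) gW p) *
        wg (f (pullback.fst (f ≫ g) gW p))) =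
        fun p ↦ (fun p ↦ wf (pullback.fst (f ≫ g) gW p)) p *
          (fun q ↦ wg (pullback.fst g gW q)) (φ p) := by
      funext p
      show _ = wf (pullback.fst (f ≫ g) gW p) * wg (pullback.fst g gW (φ p))
      rw [hφfst]
    have hfinBl := finite_lifts_open (pullback.snd (f ≫ g) gW) Ω B xb
    have hfinCl := finite_lifts_open (pullback.snd g gW) Ω C xb
    have e2 := geomIntegral_comp φ (pullback.snd g gW) Ω B C hBC
      (fun p ↦ wf (pullback.fst (f ≫ g) gW p)) (fun q ↦ wg (pullback.fst g gW q)) xb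
      (by rw [hφπ]; exact hfinBl) hfinCl
    rw [hφπ, ← hfun] at e2
    refine e1.trans (e2.trans ?_)
    refine finsum_congr fun m ↦ ?_
    congr 1
    -- the inner integral
    obtain ⟨m', hm'⟩ : ∃ m' : {ℓ : Spec (.of Ω) ⟶ C.toScheme //
        ℓ ≫ (C.ι ≫ pullback.snd g gW) = xb}, liftsOpenEquiv (pullback.snd g gW) Ω C xb m' = m :=
      (liftsOpenEquiv (pullback.snd g gW) Ω C xb).surjective m
    have hm'ι : m'.1 ≫ C.ι = m.1 := congrArg Subtype.val hm'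
    have hm'pt : m'.1 (IsLocalRing.closedPoint Ω) =
        ⟨m.1 (IsLocalRing.closedPoint Ω), m.2.2⟩ := by
      apply Subtype.ext
      show C.ι (m'.1 (IsLocalRing.closedPoint Ω)) = _
      rw [← Scheme.Hom.comp_apply, hm'ι]
    have e3 := geomIntegral_of_isPullback Ω sqθ B (fun p ↦ wf (pullback.fst (f ≫ g) gW p)) m'.1
    rw [hm'ι] at e3
    have hfun2 : (fun q : ↑(pullback f eC) ↦ wf (pullback.fst (f ≫ g) gW (θ q))) =
        fun q ↦ wf (pullback.fst f eC q) := by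
      funext q
      rw [← Scheme.Hom.comp_apply, hθfst]
    rw [hfun2] at e3
    have e4 := fibreIntegral_eq_geomIntegral (pullback.snd f eC) Ω (θ ⁻¹ᵁ B)
      (fun q ↦ wf (pullback.fst f eC q)) m'.1 _ hm'pt
    rw [← e3, ← e4, hhdef]
    rfl
  -- shrinking
  let h₀ : ℤ := if hex : ∃ q : C.toScheme, (C.ι ≫ pullback.snd g gW) q = w₀ then h hex.choose else 0
  have hScl : IsClosed ((C.ι ≫ pullback.snd g gW) '' (h ⁻¹' {h₀})ᶜ) :=
    (C.ι ≫ pullback.snd g gW).isClosedMap _ (hh.isOpen_fiber h₀).isClosed_compl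
  have hw₀N : w₀ ∉ (C.ι ≫ pullback.snd g gW) '' (h ⁻¹' {h₀})ᶜ := by
    rintro ⟨q, hq, hqw⟩
    apply hq
    have hex : ∃ q : C.toScheme, (C.ι ≫ pullback.snd g gW) q = w₀ := ⟨q, hqw⟩
    have hq' : q = hex.choose := by
      apply Subtype.ext
      exact hC₀ _ q.2 _ hex.choose.2 hqw hex.choose_spec
    show h q = h₀
    simp only [h₀, dif_pos hex]
    rw [← hq']
  have hval : ∀ w, w ∉ (C.ι ≫ pullback.snd g gW) '' (h ⁻¹' {h₀})ᶜ →
      MoreMor.fibreIntegral (B.ι ≫ pullback.snd (f ≫ g) gW)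
        (fun t ↦ wf (pullback.fst (f ≫ g) gW (B.ι t)) *
          wg (f (pullback.fst (f ≫ g) gW (B.ι t)))) w = h₀ * k w := by
    intro w hw
    obtain ⟨Ω, _, _, xb, hxb⟩ := exists_geometric_point w
    rw [hkey w Ω xb hxb]
    have e5 := fibreIntegral_eq_geomIntegral (pullback.snd g gW) Ω C
      (fun q ↦ wg (pullback.fst g gW q)) xb w hxb
    rw [hkdef]
    show _ = h₀ * MoreMor.fibreIntegral (C.ι ≫ pullback.snd g gW)
      (fun t ↦ wg (pullback.fst g gW (C.ι t))) w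
    unfold MoreMor.fibreIntegral
    rw [e5]
    unfold geomIntegral
    rw [mul_finsum]
    · refine finsum_congr fun m ↦ ?_
      have : h ⟨m.1 (IsLocalRing.closedPoint Ω), m.2.2⟩ = h₀ := by
        by_contra hne
        apply hw
        refine ⟨⟨m.1 (IsLocalRing.closedPoint Ω), m.2.2⟩, hne, ?_⟩
        show pullback.snd g gW (m.1 (IsLocalRing.closedPoint Ω)) = w
        rw [← Scheme.Hom.comp_apply, m.2.1, hxb]
      rw [this, mul_comm]
  refine ⟨((C.ι ≫ pullback.snd g gW) '' (h ⁻¹' {h₀})ᶜ)ᶜ ∩ (k ⁻¹' {k w₀}),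
    hScl.isOpen_compl.inter (hk.isOpen_fiber _), ⟨hw₀N, rfl⟩, ?_⟩
  rintro w ⟨hw1, hw2⟩
  rw [hval w hw1, hval w₀ hw₀N]
  have : k w = k w₀ := hw2
  rw [this]

end Groth.Agent.Lib.helper13.WT
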